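import Cfsg.Agent.Lib.Schur.TwistCompl
import Cfsg.Agent.Lib.Twisted.Core.GraphPerfect

/-!
The layers of the unipotent subgroup of a graph-times-field twisted group, given by a list of root orbits.
-/

set_option autoImplicit false

namespace Cfsg.Agent.Lib.Schur.TwistLift

open Cfsg.Lie Cfsg.Agent.Lib.Chev Cfsg.Agent.Lib.Twisted Cfsg.Agent.Lib.Twisted.Core
open scoped Matrix commutatorElement

variable {D : ChevalleyDatum} {C : Cert} {F : Type*} [Field F]

/-- The roots of the `k`th orbit of a list. -/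
def oSet (os : List (List ℕ)) (k : ℕ) : Set ℕ := {r | r ∈ os.getD k []}

/-- The roots of the orbits before the `k`th. -/
def iSet (os : List (List ℕ)) (k : ℕ) : Set ℕ := {r | ∃ i < k, r ∈ oSet os i}

theorem iSet_succ (os : List (List ℕ)) (k : ℕ) : iSet os (k + 1) = iSet os k ∪ oSet os k := by
  ext r
  simp only [iSet, Set.mem_setOf_eq, Set.mem_union]
  constructor
  · rintro ⟨i, hi, h⟩
    rcases Nat.lt_or_ge i k with h' | h'
    · exact Or.inl ⟨i, h', h⟩
    · obtain rfl : i = k := by omega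
      exact Or.inr h
  · rintro (⟨i, hi, h⟩ | h)
    exacts [⟨i, hi.trans k.lt_succ_self, h⟩, ⟨k, k.lt_succ_self, h⟩]

/-- The conditions on a list of orbits of positive roots, deepest first. -/
structure RootLayers (D : ChevalleyDatum) (C : Cert) (ρ : ℕ → ℕ) (os : List (List ℕ)) : Prop where
  pos : ∀ k < os.length, oSet os k ⊆ posSet D
  rho : ∀ k < os.length, ∀ r ∈ oSet os k, ρ r ∈ oSet os k
  cover : ∀ r ∈ posSet D, r ∈ iSet os os.length
  disjoint : ∀ k < os.length, ∀ r ∈ oSet os k, r ∉ iSet os k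
  comm : ∀ k < os.length, ∀ s ∈ oSet os k, ∀ r ∈ posSet D, r ≠ s → ∀ c ∈ cTerms C r s, c.1 ∈ iSet os k
  orth : ∀ k < os.length, ∀ s ∈ oSet os k, ∀ r ∈ oSet os k, r ≠ s → cTerms C r s = []

namespace RootLayers

variable {ρ : ℕ → ℕ} {os : List (List ℕ)} (L : RootLayers D C ρ os)
include L

theorem iSet_pos {k : ℕ} (hk : k ≤ os.length) : iSet os k ⊆ posSet D := by
  rintro r ⟨i, hi, hr⟩
  exact L.pos i (hi.trans_le hk) hr

theorem closed_iSet {k : ℕ} (hk : k ≤ os.length) : ClosedSet D C (iSet os k) := by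
  rintro r hr s ⟨i, hi, hs⟩ h1 - c hc
  obtain ⟨j, hj, h⟩ := L.comm i (hi.trans_le hk) s hs r (L.iSet_pos hk hr) (Ne.symm h1) c hc
  exact ⟨j, hj.trans hi, h⟩

theorem closed_oSet {k : ℕ} (hk : k < os.length) : ClosedSet D C (oSet os k) := by
  intro r hr s hs h1 _ c hc
  rw [L.orth k hk s hs r hr (Ne.symm h1)] at hc
  simp at hc

variable (hh : Rooted D C)
include hh

theorem pos_le_normalizer {k : ℕ} (hk : k ≤ os.length) :
    D.posUnipotent F ≤ Subgroup.normalizer (rootGen D F (iSet os k) : Set (GL D.Idx F)) := by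
  have h := hh.toChecked
  rw [h.posUnipotent_eq, rootGen, Subgroup.closure_le]
  rintro g ⟨r, t, hr, e⟩
  refine h.rootSubgroup_le_normalizer (fun a ha => (L.iSet_pos hk ha).2) hr.2 ?_ (Subgroup.subset_closure ⟨t, e⟩)
  intro s hs hne
  obtain ⟨i, hi, hsi⟩ := hs
  refine ⟨Checked.ne_ng_of_pos hr (L.pos i (hi.trans_le hk) hsi) h.two_mul_half, fun c hc => ?_⟩
  obtain ⟨j, hj, hc'⟩ := L.comm i (hi.trans_le hk) s hsi r hr (Ne.symm hne) c hc
  exact ⟨j, hj.trans hi, hc'⟩

theorem oGrp_le_pos {k : ℕ} (hk : k < os.length) : rootGen D F (oSet os k) ≤ D.posUnipotent F := by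
  rw [hh.toChecked.posUnipotent_eq]; exact rootGen_mono (L.pos k hk)

theorem iGrp_le_pos {k : ℕ} (hk : k ≤ os.length) : rootGen D F (iSet os k) ≤ D.posUnipotent F := by
  rw [hh.toChecked.posUnipotent_eq]; exact rootGen_mono (L.iSet_pos hk)

/-- The commutators of a layer with the unipotent group lie deeper. -/
theorem comm_mem {k : ℕ} (hk : k < os.length) {g v : GL D.Idx F} (hg : g ∈ D.posUnipotent F)
    (hv : v ∈ rootGen D F (oSet os k)) : ⁅g, v⁆ ∈ rootGen D F (iSet os k) := by
  have h := hh.toChecked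
  have hN := L.pos_le_normalizer hh (F := F) hk.le
  have hn : ∀ x ∈ D.posUnipotent F, ∀ m ∈ rootGen D F (iSet os k), x * m * x⁻¹ ∈ rootGen D F (iSet os k) :=
    fun x hx m hm => (Subgroup.mem_normalizer_iff.1 (hN hx) m).1 hm
  have hvP := L.oGrp_le_pos hh (F := F) hk
  -- both arguments generators
  have base : ∀ r ∈ posSet D, ∀ (t : F), ∀ s ∈ oSet os k, ∀ (u : F) (a b : GL D.Idx F),
      (a : Matrix D.Idx D.Idx F) = D.x F r t → (b : Matrix D.Idx D.Idx F) = D.x F s u →
      ⁅a, b⁆ ∈ rootGen D F (iSet os k) := by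
    intro r hr t s hs u a b ea eb
    by_cases hrs : r = s
    · subst hrs
      rw [commutatorElement_eq_one_iff_mul_comm.2 (Units.ext (by
        rw [Units.val_mul, Units.val_mul, ea, eb, h.x_add hr.2, h.x_add hr.2, add_comm]))]
      exact one_mem _
    have hs' := L.pos k hk hs
    obtain ⟨w, hw, ew⟩ := h.exists_wordGL (fun a ha => (L.iSet_pos hk.le ha).2) (D.commWord F r s t u) (by
      rw [h.commWord_eq hr.2 hs'.2]
      intro x hx
      obtain ⟨c, hc, rfl⟩ := List.mem_map.1 hx
      exact L.comm k hk s hs r hr hrs c hc)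
    have e : b * a = a * b * w := Units.ext (by
      simp only [Units.val_mul, ea, eb, ew]
      exact h.commutator_formula hr.2 hs'.2 (Ne.symm hrs) (Checked.ne_ng_of_pos hr hs' h.two_mul_half) t u)
    have e' : ⁅a, b⁆ = (a * b) * w⁻¹ * (a * b)⁻¹ := by
      rw [commutatorElement_def, show a * b * a⁻¹ * b⁻¹ = a * b * (b * a)⁻¹ by group, e]; group
    rw [e']
    refine hn _ (mul_mem ?_ (hvP (mem_rootGen hs eb))) _ (inv_mem hw)
    rw [h.posUnipotent_eq]; exact mem_rootGen hr ea
  -- the first argument a generator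
  have step : ∀ r ∈ posSet D, ∀ (t : F) (a : GL D.Idx F), (a : Matrix D.Idx D.Idx F) = D.x F r t →
      ∀ v ∈ rootGen D F (oSet os k), ⁅a, v⁆ ∈ rootGen D F (iSet os k) := by
    intro r hr t a ea v hv
    induction hv using Subgroup.closure_induction with
    | mem b hb => obtain ⟨s, u, hs, eb⟩ := hb; exact base r hr t s hs u a b ea eb
    | one => simp
    | mul x y hx _ ihx ihy =>
      rw [show ⁅a, x * y⁆ = ⁅a, x⁆ * (x * ⁅a, y⁆ * x⁻¹) by simp only [commutatorElement_def]; group]
      exact mul_mem ihx (hn x (hvP hx) _ ihy)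
    | inv x hx ihx =>
      rw [show ⁅a, x⁻¹⁆ = x⁻¹ * ⁅a, x⁆⁻¹ * x⁻¹⁻¹ by simp only [commutatorElement_def]; group]
      exact hn _ (inv_mem (hvP hx)) _ (inv_mem ihx)
  rw [h.posUnipotent_eq] at hg
  induction hg using Subgroup.closure_induction with
  | mem a ha => obtain ⟨r, t, hr, ea⟩ := ha; exact step r hr t a ea v hv
  | one => simp
  | mul x y hx _ ihx ihy =>
    rw [show ⁅x * y, v⁆ = x * ⁅y, v⁆ * x⁻¹ * ⁅x, v⁆ by simp only [commutatorElement_def]; group]
    exact mul_mem (hn x (h.posUnipotent_eq (F := F) ▸ hx) _ ihy) ihx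
  | inv x hx ihx =>
    rw [show ⁅x⁻¹, v⁆ = x⁻¹ * ⁅x, v⁆⁻¹ * x⁻¹⁻¹ by simp only [commutatorElement_def]; group]
    exact hn _ (inv_mem (h.posUnipotent_eq (F := F) ▸ hx)) _ (inv_mem ihx)

omit L in
/-- Root groups of disjoint closed sets meet trivially. -/
theorem rootGen_disjoint {S S' : Set ℕ} (hS : S ⊆ posSet D) (hS' : S' ⊆ posSet D) (hc : ClosedSet D C S)
    (hc' : ClosedSet D C S') (hd : ∀ r ∈ S, r ∉ S') {g : GL D.Idx F} (h1 : g ∈ rootGen D F S)
    (h2 : g ∈ rootGen D F S') : g = 1 := by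
  classical
  have h := hh.toChecked
  have key : ∀ (A : Set ℕ), A ⊆ posSet D → ClosedSet D C A → g ∈ rootGen D F A →
      ∃ t : ℕ → F, (∀ r, r ∉ A → t r = 0) ∧
        (g : Matrix D.Idx D.Idx F) = D.wordMat F (D.posRoots.map fun r => (r, t r)) := by
    intro A hA hcA hg
    set M := D.posRoots.filter fun r => decide (r ∈ A) with hM
    have hset : {r | r ∈ M} = A := by
      ext r
      simp only [hM, Set.mem_setOf_eq, List.mem_filter, decide_eq_true_eq, h.mem_posRoots]
      exact ⟨fun e => e.2, fun e => ⟨hA e, e⟩⟩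
    obtain ⟨t, ht, e⟩ := h.exists_prod (F := F) M (h.posRoots_pairwise.filter _)
      (fun r hr => h.mem_posRoots.1 (List.mem_of_mem_filter hr)) (hset.symm ▸ hcA) g (hset.symm ▸ hg)
    have ht' : ∀ r, r ∉ A → t r = 0 := fun r hr => ht r fun e => hr (hset ▸ e)
    refine ⟨t, ht', e.trans ?_⟩
    have pad : ∀ Lr : List ℕ, (∀ r ∈ Lr, r < D.nroots) →
        D.wordMat F ((Lr.filter fun r => decide (r ∈ A)).map fun r => (r, t r)) =
          D.wordMat F (Lr.map fun r => (r, t r)) := by
      intro Lr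
      induction Lr with
      | nil => intro; rfl
      | cons a Lr ih =>
        intro hlt
        have ih' := ih fun r hr => hlt r (List.mem_cons_of_mem _ hr)
        simp only [ChevalleyDatum.wordMat, List.map_map] at ih'
        by_cases ha : a ∈ A
        · simp [List.filter_cons, ha, ChevalleyDatum.wordMat, ← ih']
        · simp [List.filter_cons, ha, ChevalleyDatum.wordMat, ← ih', ht' a ha,
            h.x_zero (hlt a List.mem_cons_self)]
    exact pad _ fun r hr => (h.mem_posRoots.1 hr).2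
  obtain ⟨t, ht, e⟩ := key S hS hc h1
  obtain ⟨t', ht', e'⟩ := key S' hS' hc' h2
  have hz := hh.prod_injective (F := F) D.posRoots h.posRoots_pairwise (fun r hr => h.mem_posRoots.1 hr) t t'
    (e.symm.trans e')
  refine Units.ext (e.trans ?_)
  have : ∀ r ∈ D.posRoots, t r = 0 := by
    intro r hr
    by_cases hrS : r ∈ S
    · rw [hz r hr]; exact ht' r (hd r hrS)
    · exact ht r hrS
  rw [ChevalleyDatum.wordMat, Units.val_one, List.map_map]
  refine List.prod_eq_one fun x hx => ?_
  obtain ⟨r, hr, rfl⟩ := List.mem_map.1 hx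
  show D.x F r (t r) = 1
  rw [this r hr, h.x_zero (h.mem_posRoots.1 hr).2]

/-- A diagonal element moving all roots of a layer fixes no element of it. -/
theorem fpf_of_torus {k : ℕ} (hk : k < os.length) {c : ℕ → Fˣ} (hc : ∀ r ∈ oSet os k, (torusFun D c r : F) ≠ 1)
    {v : GL D.Idx F} (hv : v ∈ rootGen D F (oSet os k))
    (he : torusHom D F c * v * (torusHom D F c)⁻¹ = v) : v = 1 := by
  classical
  have h := hh.toChecked
  set M := D.posRoots.filter fun r => decide (r ∈ oSet os k) with hM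
  have hset : {r | r ∈ M} = oSet os k := by
    ext r
    simp only [hM, Set.mem_setOf_eq, List.mem_filter, decide_eq_true_eq, h.mem_posRoots]
    exact ⟨fun e => e.2, fun e => ⟨L.pos k hk e, e⟩⟩
  have hMp : ∀ r ∈ M, r ∈ posSet D := fun r hr => h.mem_posRoots.1 (List.mem_of_mem_filter hr)
  obtain ⟨t, -, e⟩ := h.exists_prod (F := F) M (h.posRoots_pairwise.filter _) hMp
    (hset.symm ▸ L.closed_oSet hk) v (hset.symm ▸ hv)
  have conj : ∀ Lr : List ℕ, (∀ r ∈ Lr, r < D.nroots) →
      (torusHom D F c : Matrix D.Idx D.Idx F) * D.wordMat F (Lr.map fun r => (r, t r)) =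
        D.wordMat F (Lr.map fun r => (r, (torusFun D c r : F) * t r)) * (torusHom D F c : Matrix D.Idx D.Idx F) := by
    intro Lr
    induction Lr with
    | nil => intro; simp [ChevalleyDatum.wordMat]
    | cons a Lr ih =>
      intro hlt
      have h1 : (torusHom D F c : Matrix D.Idx D.Idx F) * D.x F a (t a) =
          D.x F a ((torusFun D c a : F) * t a) * (torusHom D F c : Matrix D.Idx D.Idx F) :=
        h.torus_mul_x c (hlt a List.mem_cons_self) (t a)
      have ih' := ih fun r hr => hlt r (List.mem_cons_of_mem _ hr)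
      simp only [ChevalleyDatum.wordMat, List.map_cons, List.prod_cons, List.map_map] at ih' ⊢
      rw [← mul_assoc, h1, mul_assoc, ih', mul_assoc]
  have h2 : D.wordMat F (M.map fun r => (r, (torusFun D c r : F) * t r)) = D.wordMat F (M.map fun r => (r, t r)) := by
    have hconj := conj M fun r hr => (hMp r hr).2
    rw [← e] at hconj ⊢
    have he' : (torusHom D F c : Matrix D.Idx D.Idx F) * v = v * (torusHom D F c : Matrix D.Idx D.Idx F) := by
      rw [← Units.val_mul, ← Units.val_mul, mul_inv_eq_iff_eq_mul.1 he]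
    rw [he'] at hconj
    exact (Units.isUnit (torusHom D F c)).mul_left_injective hconj.symm
  have hz := hh.prod_injective (F := F) M (h.posRoots_pairwise.filter _) hMp _ t h2
  refine Units.ext (e.trans ?_)
  rw [ChevalleyDatum.wordMat, Units.val_one, List.map_map]
  refine List.prod_eq_one fun x hx => ?_
  obtain ⟨r, hr, rfl⟩ := List.mem_map.1 hx
  show D.x F r (t r) = 1
  have hr0 : t r = 0 := by
    have h3 : ((torusFun D c r : F) - 1) * t r = 0 := by rw [sub_mul, one_mul, hz r hr, sub_self]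
    exact (mul_eq_zero.1 h3).resolve_left (sub_ne_zero.2 (hc r (hset.subset hr)))
  rw [hr0, h.x_zero (hMp r hr).2]

end RootLayers

theorem commute_torus (h : Checked D C) {S : Set ℕ} (hS : ∀ r ∈ S, r < D.nroots) {c : ℕ → Fˣ}
    (hc : ∀ r ∈ S, (torusFun D c r : F) = 1) {v : GL D.Idx F} (hv : v ∈ rootGen D F S) :
    torusHom D F c * v * (torusHom D F c)⁻¹ = v := by
  induction hv using Subgroup.closure_induction with
  | mem x hx =>
    obtain ⟨r, t, hr, e⟩ := hx
    have : x = xGL h F (hS r hr) t := Units.ext e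
    rw [this, h.conj_x, hc r hr, one_mul]
  | one => simp
  | mul a b _ _ ha hb =>
    calc _ = (torusHom D F c * a * (torusHom D F c)⁻¹) * (torusHom D F c * b * (torusHom D F c)⁻¹) := by group
      _ = _ := by rw [ha, hb]
  | inv a _ ha =>
    calc _ = (torusHom D F c * a * (torusHom D F c)⁻¹)⁻¹ := by group
      _ = _ := by rw [ha]

section Orbits

variable {hh : Rooted D C} {P : GraphData} {hP : GraphData.Facts D P} {hc : chkGraph D C P = true}
  {φ : F ≃+* F} {k : ℕ} (O : Orbits hh hP hc φ k)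

/-- The twisted root group of a set of roots. -/
def vGrp (S : Set ℕ) : Subgroup ↥O.G := (rootGen D F S).subgroupOf O.G

/-- The diagonal elements of the twisted group. -/
def tSet : Set ↥O.G := {t | (t : GL D.Idx F) ∈ D.diagonalSubgroup F}

theorem mem_vGrp {S : Set ℕ} {g : ↥O.G} : g ∈ vGrp O S ↔ (g : GL D.Idx F) ∈ rootGen D F S := Iff.rfl

/-- **The layers of the twisted unipotent group.** -/
theorem layers [Fintype F] {os : List (List ℕ)} (L : RootLayers D C P.root os)
    (hfpf : ∀ j < os.length, ∃ c : ℕ → Fˣ, (∀ i < D.rank, (c (P.node i) : F) = φ (c i : F)) ∧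
      ∀ r ∈ oSet os j, (torusFun D c r : F) ≠ 1)
    (hkill : ∀ j < os.length, ∀ i < j, ∃ c : ℕ → Fˣ, (∀ a < D.rank, (c (P.node a) : F) = φ (c a : F)) ∧
      (((∀ r ∈ oSet os j, (torusFun D c r : F) = 1) ∧ ∀ r ∈ oSet os i, (torusFun D c r : F) ≠ 1) ∨
        ((∀ r ∈ oSet os i, (torusFun D c r : F) = 1) ∧ ∀ r ∈ oSet os j, (torusFun D c r : F) ≠ 1))) :
    Layers ((D.posUnipotent F).subgroupOf O.G) os.length (fun j => vGrp O (oSet os j)) (tSet O) := by
  have h := hh.toChecked
  set T := graphTwist hh hP hc φ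
  have hG : O.G = T.fixedGroup := O.system.eq_fixedGroup
  have hrho : ∀ (r : Fin D.nroots), (T.rho r).val = P.root r.val := fun r => rfl
  have hsig : ∀ j < os.length, ∀ v ∈ rootGen D F (oSet os j), T.sig v ∈ rootGen D F (oSet os j) := fun j hj v hv =>
    T.sig_rootGen (fun r hr => (L.pos j hj hr).2) (fun r hr => by rw [hrho]; exact L.rho j hj _ hr) hv
  have hsigI : ∀ j ≤ os.length, ∀ v ∈ rootGen D F (iSet os j), T.sig v ∈ rootGen D F (iSet os j) := fun j hj v hv =>
    T.sig_rootGen (fun r hr => (L.iSet_pos hj hr).2) (fun r hr => by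
      obtain ⟨i, hi, hri⟩ := hr
      exact ⟨i, hi, by rw [hrho]; exact L.rho i (hi.trans_le hj) _ hri⟩) hv
  -- fixed elements of the ideals
  have hgen : ∀ n ≤ os.length, ∀ g : ↥O.G, (g : GL D.Idx F) ∈ rootGen D F (iSet os n) →
      g ∈ below (fun j => vGrp O (oSet os j)) n := by
    intro n hn
    induction n with
    | zero =>
      intro g hg
      have : (g : GL D.Idx F) = 1 := by
        have he : iSet os 0 = ∅ := Set.eq_empty_of_forall_notMem fun r ⟨i, hi, _⟩ => Nat.not_lt_zero i hi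
        simpa [he, rootGen] using hg
      rw [show g = 1 from Subtype.ext this]
      exact one_mem _
    | succ n ih =>
      intro g hg
      have hn' : n < os.length := hn
      have hle : rootGen D F (iSet os (n + 1)) ≤ rootGen D F (oSet os n) ⊔ rootGen D F (iSet os n) := by
        refine (Subgroup.closure_le _).2 ?_
        rintro x ⟨r, t, hr, e⟩
        rw [iSet_succ] at hr
        rcases hr with hr | hr
        exacts [Subgroup.mem_sup_right (mem_rootGen hr e), Subgroup.mem_sup_left (mem_rootGen hr e)]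
      have hg' : (g : GL D.Idx F) ∈ (↑(rootGen D F (oSet os n) ⊔ rootGen D F (iSet os n)) : Set (GL D.Idx F)) :=
        hle hg
      rw [Subgroup.coe_mul_of_left_le_normalizer_right _ _
        ((L.oGrp_le_pos hh hn').trans (L.pos_le_normalizer hh hn'.le))] at hg'
      obtain ⟨a, ha, b, hb, e⟩ := hg'
      have e' : a * b = (g : GL D.Idx F) := e
      have haG : a ∈ D.group F := rootGen_le_group (fun r hr => (L.pos n hn' hr).2) ha
      have hbG : b ∈ D.group F := rootGen_le_group (fun r hr => (L.iSet_pos hn'.le hr).2) hb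
      have hgf : T.sig (g : GL D.Idx F) = g := T.sig_fixed (O.G_le g.2)
      rw [← e', T.sig_mul haG hbG] at hgf
      have h1 : a⁻¹ * T.sig a = b * (T.sig b)⁻¹ := by
        calc a⁻¹ * T.sig a = a⁻¹ * (T.sig a * T.sig b) * (T.sig b)⁻¹ := by group
          _ = _ := by rw [hgf]; group
      have h2 : a⁻¹ * T.sig a = 1 := RootLayers.rootGen_disjoint hh (L.pos n hn') (L.iSet_pos hn'.le)
        (L.closed_oSet hn') (L.closed_iSet hn'.le) (L.disjoint n hn') (mul_mem (inv_mem ha) (hsig n hn' a ha))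
        (h1 ▸ mul_mem hb (inv_mem (hsigI n hn'.le b hb)))
      have haO : a ∈ O.G := by rw [hG]; exact T.mem_fixedGroup.2 ⟨haG, (inv_mul_eq_one.1 h2).symm⟩
      have hbO : b ∈ O.G := by
        rw [show b = a⁻¹ * g by rw [← e']; group]
        exact O.G.mul_mem (O.G.inv_mem haO) g.2
      rw [show g = (⟨a, haO⟩ : ↥O.G) * ⟨b, hbO⟩ from Subtype.ext e'.symm, below_succ]
      exact mul_mem (Subgroup.mem_sup_right ha) (Subgroup.mem_sup_left (ih hn'.le _ hb))
  have hbelow : ∀ n ≤ os.length, ∀ g ∈ below (fun j => vGrp O (oSet os j)) n,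
      (g : GL D.Idx F) ∈ rootGen D F (iSet os n) := by
    intro n hn g hg
    have hle : below (fun j => vGrp O (oSet os j)) n ≤ (rootGen D F (iSet os n)).subgroupOf O.G := by
      refine iSup₂_le fun i hi x hx => ?_
      exact rootGen_mono (S := oSet os i) (fun r hr => (⟨i, hi, hr⟩ : r ∈ iSet os n)) hx
    exact hle hg
  have htor : ∀ c : ℕ → Fˣ, (∀ i < D.rank, (c (P.node i) : F) = φ (c i : F)) →
      ∃ t ∈ tSet O, (t : GL D.Idx F) = torusHom D F c := fun c hcc =>
    ⟨⟨_, O.torus_mem hcc⟩, by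
      show torusHom D F c ∈ D.diagonalSubgroup F
      rw [hh.diagonalSubgroup_eq]; exact ⟨c, rfl⟩, rfl⟩
  refine ⟨fun g hg => hgen _ le_rfl g ?_, fun j hj => ?_, fun i hi j hj g hg v hv => ?_, fun t ht j hj v hv => ?_,
    fun a ha b hb => ?_, fun j hj => ?_, fun j hj i hi => ?_⟩
  · refine rootGen_mono L.cover ?_
    rw [← h.posUnipotent_eq]; exact hg
  · rw [eq_bot_iff]
    rintro g ⟨hg, hg'⟩
    exact Subgroup.mem_bot.2 (Subtype.ext (RootLayers.rootGen_disjoint hh (L.pos j hj) (L.iSet_pos hj.le)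
      (L.closed_oSet hj) (L.closed_iSet hj.le) (L.disjoint j hj) hg (hbelow j hj.le g hg')))
  · exact hgen j hj.le _ (L.comm_mem hh hj (L.oGrp_le_pos hh hi hg) hv)
  · exact (Subgroup.mem_normalizer_iff.1 (hh.diagonal_le_normalizer (fun r hr => (L.pos j hj hr).2) ht) _).1 hv
  · exact Subtype.ext (hh.diagonal_commute ha hb)
  · obtain ⟨c, hcc, hne⟩ := hfpf j hj
    obtain ⟨t, ht, et⟩ := htor c hcc
    refine ⟨t, ht, fun v hv e => Subtype.ext (L.fpf_of_torus hh hj hne hv ?_)⟩
    rw [← et]; exact congrArg Subtype.val e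
  · obtain ⟨c, hcc, hcase⟩ := hkill j hj i hi
    obtain ⟨t, ht, et⟩ := htor c hcc
    refine ⟨t, ht, ?_⟩
    have hi' : i < os.length := hi.trans hj
    have hfix : ∀ a < os.length, (∀ r ∈ oSet os a, (torusFun D c r : F) = 1) →
        ∀ v ∈ vGrp O (oSet os a), t * v * t⁻¹ = v := fun a ha h1 v hv => Subtype.ext (by
      rw [Subgroup.coe_mul, Subgroup.coe_mul, Subgroup.coe_inv, et]
      exact commute_torus h (fun r hr => (L.pos a ha hr).2) h1 hv)
    have hmove : ∀ a < os.length, (∀ r ∈ oSet os a, (torusFun D c r : F) ≠ 1) →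
        ∀ v ∈ vGrp O (oSet os a), t * v * t⁻¹ = v → v = 1 := fun a ha h1 v hv e => Subtype.ext (by
      refine L.fpf_of_torus hh ha h1 hv ?_
      rw [← et]; exact congrArg Subtype.val e)
    rcases hcase with ⟨h1, h2⟩ | ⟨h1, h2⟩
    · exact Or.inl ⟨hfix j hj h1, hmove i hi' h2⟩
    · exact Or.inr ⟨hfix i hi' h1, hmove j hj h2⟩

end Orbits

end Cfsg.Agent.Lib.Schur.TwistLift
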