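import Mathlib

/-!
A stable central extension of a subgroup of odd index, with kernel of exponent two, extends to the
whole group: multiplying the values over the cosets gives an extension of the group, and stability
makes its restriction to the subgroup equal to the given one.
-/

set_option autoImplicit false
set_option linter.unusedSectionVars false

namespace Cfsg.Agent.Lib.Schur

open scoped Pointwise

universe u

namespace StableClassAux

variable {G : Type u} [Group G] (U : Subgroup G)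

/-- The preimage of `U` in the free group on `G`. -/
abbrev pre : Subgroup (FreeGroup G) := U.comap (FreeGroup.lift id)

theorem exists_pre_lift {P : Type*} [Group P] (p : P →* U) (hp : Function.Surjective p) :
    ∃ ψ : pre U →* P, ∀ s : pre U, ((p (ψ s) : U) : G) = FreeGroup.lift id (s : FreeGroup G) := by
  let π : pre U →* U :=
    ((FreeGroup.lift id).comp (pre U).subtype).codRestrict U fun s => s.2
  choose c hc using hp
  refine ⟨IsFreeGroup.lift fun i => c (π (IsFreeGroup.of i)), fun s => ?_⟩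
  have : p.comp (IsFreeGroup.lift fun i => c (π (IsFreeGroup.of i))) = π := by
    refine IsFreeGroup.ext_hom fun i => ?_
    simp [hc]
  exact congrArg Subtype.val (DFunLike.congr_fun this s)

/-- A choice of representatives adapted to the orbits of `U` on the cosets. -/
theorem exists_reps :
    ∃ (o : G ⧸ U → G ⧸ U) (g : G ⧸ U → FreeGroup G) (v : G ⧸ U → FreeGroup G),
      (∀ q, v q ∈ pre U) ∧
      (∀ q, (QuotientGroup.mk (FreeGroup.lift id (v q * g (o q))) : G ⧸ U) = q) ∧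
      (∀ (s : FreeGroup G), s ∈ pre U → ∀ q, o (FreeGroup.lift id s • q) = o q) := by
  classical
  let o : G ⧸ U → G ⧸ U := fun q => (Quotient.mk (MulAction.orbitRel U (G ⧸ U)) q).out
  have ho : ∀ q, ∃ h : FreeGroup G, h ∈ pre U ∧ FreeGroup.lift id h • o q = q := by
    intro q
    have := Quotient.mk_out (s := MulAction.orbitRel U (G ⧸ U)) q
    rw [MulAction.orbitRel_apply, MulAction.mem_orbit_iff] at this
    obtain ⟨h, hh⟩ := this
    refine ⟨FreeGroup.of ((h : G)⁻¹), ?_, ?_⟩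
    · show FreeGroup.lift id (FreeGroup.of ((h : G)⁻¹)) ∈ U
      rw [FreeGroup.lift_apply_of]
      exact inv_mem h.2
    · rw [FreeGroup.lift_apply_of]
      show (h : G)⁻¹ • o q = q
      simp only [o]
      rw [← hh]
      exact inv_smul_smul (h : G) q
  choose v hv hvo using ho
  refine ⟨o, fun q => FreeGroup.of q.out, v, hv, fun q => ?_, fun s hs q => ?_⟩
  · rw [map_mul, FreeGroup.lift_apply_of, id, ← smul_eq_mul, ← MulAction.Quotient.smul_coe,
      QuotientGroup.out_eq']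
    exact hvo q
  · simp only [o]
    exact congrArg Quotient.out (Quotient.sound ⟨⟨_, hs⟩, rfl⟩)

end StableClassAux

open StableClassAux in
/-- A stable class of a subgroup of odd index is the restriction of a class of the group. -/
theorem exists_extension_of_stable {G : Type u} [Group G] [Finite G] (U : Subgroup G)
    (hodd : Odd U.index) {P : Type} [Group P] [Finite P] {A : Type} [CommGroup A] [Finite A]
    (hA : ∀ a : A, a ^ 2 = 1) (p : P →* U) (hp : Function.Surjective p) (ι : A →* P)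
    (hι : Function.Injective ι) (hker : ι.range = p.ker) (hc : p.ker ≤ Subgroup.center P)
    (hstab : ∀ g : G, ∃ φ : ↥(Subgroup.comap (U.subtype.comp p) (MulAut.conj g • U)) →* P,
      (∀ x : ↥(Subgroup.comap (U.subtype.comp p) (MulAut.conj g • U)),
        ((p (φ x) : U) : G) = g⁻¹ * (p x : G) * g) ∧
      ∀ a (ha : ι a ∈ Subgroup.comap (U.subtype.comp p) (MulAut.conj g • U)), φ ⟨ι a, ha⟩ = ι a) :
    ∃ (E : Type u) (_ : Group E) (_ : Finite E) (π : E →* G) (j : A →* E),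
      Function.Surjective π ∧ Function.Injective j ∧ j.range = π.ker ∧
      π.ker ≤ Subgroup.center E ∧ ∀ a : A, ι a ∈ commutator P → j a ∈ commutator E := by
  classical
  have : Fintype (G ⧸ U) := Fintype.ofFinite _
  obtain ⟨ψ, hψ⟩ := exists_pre_lift U p hp
  set π0 : FreeGroup G →* G := FreeGroup.lift id with hπ0
  have hπ0s : Function.Surjective π0 := fun g => ⟨FreeGroup.of g, FreeGroup.lift_apply_of⟩
  have hmem : ∀ {s : FreeGroup G}, s ∈ pre U ↔ π0 s ∈ U := fun {s} => Iff.rfl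
  -- the coordinate on the kernel
  have hιA : ∀ a, p (ι a) = 1 := fun a => MonoidHom.mem_ker.1 (hker ▸ ⟨a, rfl⟩)
  let ιe : A ≃* p.ker := (MonoidHom.ofInjective hι).trans (MulEquiv.subgroupCongr hker)
  let γ : p.ker →* A := ιe.symm.toMonoidHom
  have hιγ : ∀ k : p.ker, ι (γ k) = (k : P) := fun k => by
    have h := ιe.apply_symm_apply k
    exact congrArg Subtype.val h
  have hγι : ∀ (a : A) (h : ι a ∈ p.ker), γ ⟨ι a, h⟩ = a := fun a h => by
    refine hι ?_
    rw [hιγ]
  have hcen : ∀ {k : P}, p k = 1 → ∀ x : P, x * k = k * x :=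
    fun {k} hk x => Subgroup.mem_center_iff.1 (hc (MonoidHom.mem_ker.2 hk)) x
  have hψ1 : ∀ s : pre U, π0 (s : FreeGroup G) = 1 → p (ψ s) = 1 := fun s hs =>
    Subtype.ext ((hψ s).trans hs)
  obtain ⟨o, g, v, hv, hrep, ho⟩ := exists_reps U
  let t : G ⧸ U → FreeGroup G := fun q => v q * g (o q)
  have hstep : ∀ (f : FreeGroup G) (q : G ⧸ U), (t (π0 f • q))⁻¹ * f * t q ∈ pre U := by
    intro f q
    rw [hmem, map_mul, map_mul, map_inv, mul_assoc, ← QuotientGroup.eq]
    exact (hrep _).trans (congrArg (π0 f • ·) (hrep q)).symm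
  have hconjmem : ∀ (r : π0.ker) (q : G ⧸ U), (t q)⁻¹ * r * t q ∈ pre U := by
    intro r q
    rw [hmem]
    simp [MonoidHom.mem_ker.1 r.2]
  have hfac1 : ∀ (r : π0.ker) (q : G ⧸ U), ψ ⟨_, hconjmem r q⟩ ∈ p.ker := fun r q =>
    MonoidHom.mem_ker.2 (hψ1 _ (by simp [MonoidHom.mem_ker.1 r.2]))
  let fac : π0.ker → G ⧸ U → A := fun r q => γ ⟨ψ ⟨_, hconjmem r q⟩, hfac1 r q⟩
  have hfac : ∀ r q, ι (fac r q) = ψ ⟨_, hconjmem r q⟩ := fun r q => hιγ _
  have hfac_mul : ∀ r s q, fac (r * s) q = fac r q * fac s q := fun r s q => by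
    refine hι ?_
    rw [map_mul, hfac, hfac, hfac, ← map_mul]
    exact congrArg ψ (Subtype.ext (by simp [mul_assoc]))
  let τ : π0.ker →* A :=
    { toFun := fun r => ∏ q, fac r q
      map_one' := Finset.prod_eq_one fun q _ => hι (by
        rw [hfac, map_one, ← map_one ψ]
        exact congrArg ψ (Subtype.ext (by simp)))
      map_mul' := fun r s => by
        rw [← Finset.prod_mul_distrib]
        exact Finset.prod_congr rfl fun q _ => hfac_mul r s q }
  have hconj : ∀ (f : FreeGroup G) (r : π0.ker) (hr : f * r * f⁻¹ ∈ π0.ker),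
      τ ⟨f * r * f⁻¹, hr⟩ = τ r := by
    intro f r hr
    show ∏ q, fac ⟨f * r * f⁻¹, hr⟩ q = ∏ q, fac r q
    refine Fintype.prod_equiv (MulAction.toPerm (π0 f)⁻¹) _ _ fun q => hι ?_
    show ι _ = ι (fac r ((π0 f)⁻¹ • q))
    set q' := (π0 f)⁻¹ • q with hq'
    have hm := hstep f q'
    rw [show π0 f • q' = q from smul_inv_smul (π0 f) q] at hm
    rw [hfac, hfac]
    have e : (⟨(t q)⁻¹ * (f * r * f⁻¹) * t q, hconjmem ⟨_, hr⟩ q⟩ : pre U) =
        ⟨_, hm⟩ * ⟨(t q')⁻¹ * r * t q', hconjmem r q'⟩ * (⟨_, hm⟩ : pre U)⁻¹ :=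
      Subtype.ext (by simp [mul_assoc])
    rw [e, map_mul, map_mul, map_inv,
      hcen (MonoidHom.mem_ker.1 (hfac1 r q')) (ψ ⟨_, hm⟩), mul_inv_cancel_right]
  -- the correcting homomorphism on the preimage of `U`
  choose φ hφ hφι using hstab
  let S : G ⧸ U → Subgroup (FreeGroup G) := fun c =>
    pre U ⊓ Subgroup.comap (MulAut.conj (g c)⁻¹).toMonoidHom (pre U)
  have hS2 : ∀ (c : G ⧸ U) (s : S c), (g c)⁻¹ * (s : FreeGroup G) * g c ∈ pre U := fun c s => by
    simpa using s.2.2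
  have hdom : ∀ (c : G ⧸ U) (s : S c), ψ ⟨s, s.2.1⟩ ∈
      Subgroup.comap (U.subtype.comp p) (MulAut.conj (π0 (g c)) • U) := fun c s => by
    rw [Subgroup.mem_comap, Subgroup.mem_pointwise_smul_iff_inv_smul_mem, ← map_inv,
      MulAut.smul_def, MulAut.conj_apply, inv_inv]
    show (π0 (g c))⁻¹ * (p (ψ ⟨s, s.2.1⟩) : G) * π0 (g c) ∈ U
    rw [hψ]
    simpa [hπ0] using hmem.1 (hS2 c s)
  let L : (c : G ⧸ U) → S c → P := fun c s => φ (π0 (g c)) ⟨_, hdom c s⟩
  let R : (c : G ⧸ U) → S c → P := fun c s => ψ ⟨_, hS2 c s⟩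
  have hLmul : ∀ c (s s' : S c), L c (s * s') = L c s * L c s' := fun c s s' => by
    simp only [L, ← map_mul]
    refine congrArg _ (Subtype.ext ?_)
    show ψ _ = ψ _ * ψ _
    rw [← map_mul]
    rfl
  have hRmul : ∀ c (s s' : S c), R c (s * s') = R c s * R c s' := fun c s s' => by
    simp only [R, ← map_mul]
    exact congrArg ψ (Subtype.ext (by simp [mul_assoc]))
  have hLR : ∀ c (s : S c), (L c s)⁻¹ * R c s ∈ p.ker := fun c s => by
    rw [MonoidHom.mem_ker, map_mul, map_inv, inv_mul_eq_one]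
    refine Subtype.ext ?_
    rw [hφ]
    show (π0 (g c))⁻¹ * ((p (ψ ⟨s, s.2.1⟩) : U) : G) * π0 (g c) = (p (ψ ⟨_, hS2 c s⟩) : G)
    rw [hψ, hψ]
    simp [hπ0]
  let δ : (c : G ⧸ U) → S c →* A := fun c =>
    MonoidHom.mk' (fun s => γ ⟨(L c s)⁻¹ * R c s, hLR c s⟩) fun s s' => hι (by
      rw [map_mul, hιγ, hιγ, hιγ]
      show (L c (s * s'))⁻¹ * R c (s * s') = (L c s)⁻¹ * R c s * ((L c s')⁻¹ * R c s')
      rw [hLmul, hRmul]
      have h1 := hcen (MonoidHom.mem_ker.1 (hLR c s))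
      calc (L c s * L c s')⁻¹ * (R c s * R c s')
          = (L c s')⁻¹ * ((L c s)⁻¹ * R c s) * R c s' := by group
        _ = ((L c s)⁻¹ * R c s) * (L c s')⁻¹ * R c s' := by rw [h1]
        _ = ((L c s)⁻¹ * R c s) * ((L c s')⁻¹ * R c s') := by group)
  have hδ : ∀ c (s : S c), ι (δ c s) = (L c s)⁻¹ * R c s := fun c s => hιγ _
  have hS : ∀ (s : pre U) (q : G ⧸ U),
      (v (π0 (s : FreeGroup G) • q))⁻¹ * s * v q ∈ S (o q) := fun s q => by
    refine ⟨(pre U).mul_mem ((pre U).mul_mem ((pre U).inv_mem (hv _)) s.2) (hv q), ?_⟩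
    have h := hstep (s : FreeGroup G) q
    simp only [t] at h
    rw [show o (π0 (s : FreeGroup G) • q) = o q from ho _ s.2 q] at h
    show (MulAut.conj (g (o q))⁻¹) _ ∈ pre U
    simpa [mul_assoc] using h
  let w : pre U → G ⧸ U → A := fun s q => δ (o q) ⟨_, hS s q⟩
  have hw : ∀ (c : G ⧸ U) (x : FreeGroup G) (hx : x ∈ S c) (c' : G ⧸ U) (h : c = c'),
      δ c ⟨x, hx⟩ = δ c' ⟨x, h ▸ hx⟩ := by
    rintro c x hx c' rfl
    rfl
  let d : pre U →* A := MonoidHom.mk' (fun s => ∏ q, w s q) fun s s' => by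
    have e : ∀ q, w (s * s') q = w s (π0 (s' : FreeGroup G) • q) * w s' q := fun q => by
      simp only [w]
      rw [hw _ _ (hS s (π0 (s' : FreeGroup G) • q)) (o q) (ho _ s'.2 q), ← map_mul]
      refine congrArg _ (Subtype.ext ?_)
      simp [mul_smul, mul_assoc]
    simp only [e, Finset.prod_mul_distrib]
    congr 1
    exact Equiv.prod_comp (MulAction.toPerm (π0 (s' : FreeGroup G))) (fun q => w s q)
  -- the product over the cosets differs from the given class by the correcting homomorphism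
  have hγpow : ∀ a : A, a ^ Fintype.card (G ⧸ U) = a := fun a => by
    obtain ⟨k, hk⟩ := hodd
    rw [← Nat.card_eq_fintype_card, ← Subgroup.index_eq_card, hk, pow_succ, pow_mul, hA, one_pow,
      one_mul]
  have key : ∀ (r : π0.ker) (h : (r : FreeGroup G) ∈ pre U) (h' : ψ ⟨r, h⟩ ∈ p.ker),
      τ r = γ ⟨ψ ⟨r, h⟩, h'⟩ * d ⟨r, h⟩ := by
    intro r h h'
    show ∏ q, fac r q = _ * ∏ q, w ⟨r, h⟩ q
    have e : ∀ q, fac r q = γ ⟨ψ ⟨r, h⟩, h'⟩ * w ⟨r, h⟩ q := fun q => by
      refine hι ?_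
      rw [hfac, map_mul, hιγ, hδ]
      have hq : π0 (r : FreeGroup G) • q = q := by rw [MonoidHom.mem_ker.1 r.2, one_smul]
      set s : S (o q) := ⟨_, hS ⟨r, h⟩ q⟩ with hs
      have hsv : (s : FreeGroup G) = (v q)⁻¹ * r * v q := by
        show (v (π0 (r : FreeGroup G) • q))⁻¹ * _ * _ = _
        rw [hq]
      have hψs : ψ ⟨s, s.2.1⟩ = ψ ⟨r, h⟩ := by
        have e1 : (⟨s, s.2.1⟩ : pre U) = (⟨v q, hv q⟩ : pre U)⁻¹ * ⟨r, h⟩ * ⟨v q, hv q⟩ :=
          Subtype.ext (by simp [hsv])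
        rw [e1, map_mul, map_mul, map_inv, hcen (MonoidHom.mem_ker.1 h') ((ψ ⟨v q, hv q⟩)⁻¹),
          inv_mul_cancel_right]
      have hL : L (o q) s = ψ ⟨r, h⟩ := by
        have hmk := hιγ ⟨_, h'⟩
        show φ _ ⟨_, hdom (o q) s⟩ = _
        have hx : (⟨_, hdom (o q) s⟩ : ↥(Subgroup.comap (U.subtype.comp p)
            (MulAut.conj (π0 (g (o q))) • U))) = ⟨ι (γ ⟨_, h'⟩), by
              rw [show ι (γ ⟨_, h'⟩) = ψ ⟨s, s.2.1⟩ from hmk.trans hψs.symm]
              exact hdom (o q) s⟩ :=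
          Subtype.ext (hψs.trans hmk.symm)
        rw [hx, hφι, hmk]
      rw [hL, mul_inv_cancel_left]
      refine congrArg ψ (Subtype.ext ?_)
      simp [t, hsv, mul_assoc]
    rw [Finset.prod_congr rfl fun q _ => e q, Finset.prod_mul_distrib, Finset.prod_const,
      Finset.card_univ, hγpow]
  -- the extension
  let θ : π0.ker →* FreeGroup G × A := π0.ker.subtype.prod τ⁻¹
  let N : Subgroup (FreeGroup G × A) := θ.range
  have hN : N.Normal := ⟨by
    rintro _ ⟨r, rfl⟩ ⟨f, a⟩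
    refine ⟨⟨f * r * f⁻¹, (inferInstance : π0.ker.Normal).conj_mem _ r.2 f⟩, Prod.ext rfl ?_⟩
    show (τ ⟨f * r * f⁻¹, _⟩)⁻¹ = a * (τ r)⁻¹ * a⁻¹
    rw [hconj, mul_comm a, mul_inv_cancel_right]⟩
  have hNker : N ≤ (π0.comp (MonoidHom.fst (FreeGroup G) A)).ker := by
    rintro _ ⟨r, rfl⟩
    exact r.2
  let π : (FreeGroup G × A) ⧸ N →* G := QuotientGroup.lift N (π0.comp (MonoidHom.fst _ _)) hNker
  let j : A →* (FreeGroup G × A) ⧸ N :=
    (QuotientGroup.mk' N).comp (MonoidHom.inr (FreeGroup G) A)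
  have hrange : j.range = π.ker := by
    refine le_antisymm ?_ ?_
    · rintro _ ⟨a, rfl⟩
      exact MonoidHom.mem_ker.2 (show π0 1 = 1 from map_one π0)
    · intro z hz
      induction z using QuotientGroup.induction_on with
      | _ fa =>
        obtain ⟨f, a⟩ := fa
        let r : π0.ker := ⟨f, hz⟩
        refine ⟨a * τ r, ?_⟩
        show (QuotientGroup.mk ((1 : FreeGroup G), a * τ r) : _ ⧸ N) = _
        refine QuotientGroup.eq.2 ⟨r, Prod.ext ?_ ?_⟩
        · show f = 1⁻¹ * f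
          simp
        · show (τ r)⁻¹ = (a * τ r)⁻¹ * a
          rw [mul_inv, mul_comm a⁻¹, inv_mul_cancel_right]
  have hj : Function.Injective j := by
    intro a b hab
    obtain ⟨r, hr⟩ := QuotientGroup.eq.1 hab
    have h1 : (r : FreeGroup G) = 1 := by
      have := congrArg Prod.fst hr
      simpa [θ] using this
    have h2 := congrArg Prod.snd hr
    rw [show r = 1 from Subtype.ext h1] at h2
    simpa [θ, eq_inv_mul_iff_mul_eq] using h2
  have hπ : Function.Surjective π := fun x =>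
    ⟨QuotientGroup.mk (FreeGroup.of x, (1 : A)), by simp [π, hπ0]⟩
  have hcentral : π.ker ≤ Subgroup.center _ := by
    rw [← hrange]
    rintro _ ⟨a, rfl⟩
    refine Subgroup.mem_center_iff.2 fun z => ?_
    induction z using QuotientGroup.induction_on with
    | _ fa =>
      show QuotientGroup.mk' N fa * QuotientGroup.mk' N (1, a) = _
      rw [← map_mul]
      show _ = QuotientGroup.mk' N (1, a) * QuotientGroup.mk' N fa
      rw [← map_mul]
      exact congrArg _ (Prod.ext (by simp) (mul_comm _ _))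
  have : Finite π.ker := hrange ▸ Finite.of_surjective _ j.rangeRestrict_surjective
  have : Finite (((FreeGroup G × A) ⧸ N) ⧸ π.ker) :=
    Finite.of_equiv _ (QuotientGroup.quotientKerEquivOfSurjective π hπ).toEquiv.symm
  have hfin : Finite ((FreeGroup G × A) ⧸ N) :=
    Finite.of_equiv _ (Subgroup.groupEquivQuotientProdSubgroup (s := π.ker)).symm
  refine ⟨_, inferInstance, hfin, π, j, hπ, hj, hrange, hcentral, fun a ha => ?_⟩
  -- the restriction to `U`
  let Φ : pre U × A →* P := MonoidHom.mk' (fun x => ψ x.1 * ι x.2) fun x y => by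
    show ψ (x.1 * y.1) * ι (x.2 * y.2) = _
    rw [map_mul, map_mul, mul_assoc, ← mul_assoc (ψ y.1), hcen (hιA x.2) (ψ y.1)]
    group
  have hΦ : Function.Surjective Φ := fun x => by
    obtain ⟨f, hf⟩ := hπ0s (p x)
    have hfU : f ∈ pre U := hmem.2 (hf ▸ (p x).2)
    have hk : (ψ ⟨f, hfU⟩)⁻¹ * x ∈ p.ker := by
      rw [MonoidHom.mem_ker, map_mul, map_inv, inv_mul_eq_one]
      exact Subtype.ext ((hψ _).trans hf)
    exact ⟨(⟨f, hfU⟩, γ ⟨_, hk⟩), by show _ * ι _ = x; rw [hιγ, mul_inv_cancel_left]⟩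
  let Λ : pre U × A →* (FreeGroup G × A) ⧸ N := (QuotientGroup.mk' N).comp
    (((pre U).subtype.comp (MonoidHom.fst _ _)).prod
      ((MonoidHom.snd _ _) * (d.comp (MonoidHom.fst _ _))⁻¹))
  have hΛ : Φ.ker ≤ Λ.ker := by
    rintro ⟨s, b⟩ hsb
    have h0 : ψ s * ι b = 1 := hsb
    have hψs : ψ s = ι b⁻¹ := by rw [map_inv]; exact eq_inv_of_mul_eq_one_left h0
    have hsker : π0 (s : FreeGroup G) = 1 := by
      show FreeGroup.lift id (s : FreeGroup G) = 1
      rw [← hψ s, hψs, hιA]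
      rfl
    have hk := key ⟨(s : FreeGroup G), hsker⟩ s.2 (MonoidHom.mem_ker.2 (hψ1 s hsker))
    rw [MonoidHom.mem_ker]
    refine (QuotientGroup.eq_one_iff _).2 ⟨⟨(s : FreeGroup G), hsker⟩, Prod.ext rfl ?_⟩
    show (τ _)⁻¹ = b * (d s)⁻¹
    rw [hk, show γ ⟨_, MonoidHom.mem_ker.2 (hψ1 s hsker)⟩ = b⁻¹ from hι (by rw [hιγ]; exact hψs),
      mul_inv, inv_inv]
  let Ψ : P →* (FreeGroup G × A) ⧸ N := MonoidHom.liftOfSurjective Φ hΦ ⟨Λ, hΛ⟩
  have hΨ : Ψ (ι a) = j a := by
    have e1 : Φ (1, a) = ι a := by show ψ 1 * ι a = _; simp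
    rw [← e1]
    refine (MonoidHom.liftOfRightInverse_comp_apply _ _ _ _ _).trans ?_
    show QuotientGroup.mk' N _ = QuotientGroup.mk' N _
    exact congrArg _ (Prod.ext rfl (by simp))
  rw [← hΨ]
  exact Subgroup.commutator_mono le_top le_top
    ((Subgroup.map_commutator ⊤ ⊤ Ψ) ▸ Subgroup.mem_map_of_mem Ψ ha)

end Cfsg.Agent.Lib.Schur
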