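import Cfsg.Agent.Lib.Schur.TwistPair
import Cfsg.Agent.Lib.Schur.Sylow
import Cfsg.Agent.Lib.Twisted.Aut.Basic
import Cfsg.Agent.Lib.Twisted.Core.E6Group

/-!
The unipotent subgroup of `²E₆(q)`, `q ≥ 3`: its preimage in a stem extension has derived subgroup meeting the
kernel trivially, by a certificate on the torus.
-/

set_option autoImplicit false
set_option maxRecDepth 8000
set_option maxHeartbeats 1000000

namespace Cfsg.Agent.Lib.Schur.TwistE6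

open Cfsg.Lie Cfsg.Agent.Lib.Chev Cfsg.Agent.Lib.Twisted Cfsg.Agent.Lib.Twisted.Core
open Cfsg.Agent.Lib.Schur.TwistLift
open scoped Matrix commutatorElement

/-- The orbits of positive roots, deepest first. -/
def e6Layers : List (List ℕ) :=
  [[71], [70], [69], [66, 68], [55, 67], [65], [54, 64], [63], [52, 62], [53], [60], [45, 59], [49, 61], [51], [41, 58], [44], [48, 50], [38, 57], [40, 43], [47], [36, 56], [37, 42], [39], [46]]

/-- Diagonal elements without fixed points on the layers. -/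
def e6Fpf : List (List ℤ) :=
  [[-1, 0, 0, 0, 0, 0], [-1, 0, 0, 0, 0, 0], [0, -1, 0, 0, 0, 0], [0, 0, -1, 0, 0, 0], [0, 0, -1, 0, 0, 0], [0, -1, 0, 0, 0, 0], [0, -1, 0, 0, 0, 0], [-1, 0, 0, 0, 0, 0], [-1, 0, 0, 0, 0, 0], [0, -1, 0, 0, 0, 0], [-1, 0, 0, 0, 0, 0], [-1, 0, 0, 0, 0, 0], [-1, 0, 0, 0, 0, 0], [-1, 0, 0, 0, 0, 0], [-1, 0, 0, 0, 0, 0], [-1, 0, 0, 0, 0, 0], [-1, 0, 0, 0, 0, 0], [0, -1, 0, 0, 0, 0], [-1, 0, 0, 0, 0, 0], [-1, 0, 0, 0, 0, 0], [0, 0, -1, 0, 0, 0], [0, -1, 0, 0, 0, 0], [-1, 0, 0, 0, 0, 0], [0, -1, 0, 0, 0, 0]]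

/-- Diagonal elements separating the layers; the flag says whether the deeper layer is the moved one. -/
def e6Kill : List (List (List ℤ × Bool)) :=
  [ [],
    [([0, -1, 0, 0, 0, 0], false)],
    [([-1, 0, 0, 0, 0, 0], true), ([-1, 0, 0, 0, 0, 0], true)],
    [([-1, 0, 0, 0, 0, 0], true), ([-1, 0, 0, 0, 0, 0], true), ([0, -1, 0, 0, 0, 0], true)],
    [([-1, 0, 0, 0, 0, 0], true), ([-1, 0, 0, 0, 0, 0], true), ([0, -1, 0, 0, 0, 0], true), ([0, 0, -1, 0, 0, -1], true)],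
    [([-1, 0, 0, 0, 0, 0], true), ([-1, 0, 0, 0, 0, 0], true), ([0, 0, -1, 0, 0, 0], false), ([0, -1, 0, 0, 0, 0], false), ([0, -1, 0, 0, 0, 0], false)],
    [([-1, 0, 0, 0, 0, 0], true), ([-1, 0, 0, 0, 0, 0], true), ([0, 0, -1, 0, 0, 0], false), ([0, -1, 0, 0, 0, 0], false), ([0, -1, 0, 0, 0, 0], false), ([0, -1, 0, 0, -1, 0], false)],
    [([0, -1, 0, 0, 0, 0], false), ([0, 0, -1, 0, 0, 0], false), ([-1, 0, 0, 0, 0, 0], false), ([-1, 0, 0, 0, 0, 0], false), ([-1, 0, 0, 0, 0, 0], false), ([-1, 0, 0, 0, 0, 0], false), ([-1, 0, 0, 0, 0, 0], false)],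
    [([0, -1, 0, 0, 0, 0], false), ([0, 0, -1, 0, 0, 0], false), ([-1, 0, 0, 0, 0, 0], false), ([-1, 0, 0, 0, 0, 0], false), ([-1, 0, 0, 0, 0, 0], false), ([-1, 0, 0, 0, 0, 0], false), ([-1, 0, 0, 0, 0, 0], false), ([0, 0, 0, 0, -1, 0], false)],
    [([-1, 0, 0, 0, 0, 0], true), ([-1, 0, 0, 0, 0, 0], true), ([0, 0, -1, 0, 0, 0], false), ([0, -1, 0, 0, 0, 0], false), ([0, -1, 0, 0, 0, 0], false), ([0, 0, 0, 0, -1, 0], true), ([0, 0, 0, 0, -1, 0], true), ([-1, 0, 0, 0, 0, 0], true), ([-1, 0, 0, 0, 0, 0], true)],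
    [([0, 0, -1, 0, 0, 0], false), ([0, -1, 0, 0, 0, 0], true), ([-1, 0, 0, 0, 0, 0], false), ([-1, 0, 0, 0, 0, 0], false), ([-1, 0, 0, 0, 0, 0], false), ([-1, 0, 0, 0, 0, 0], false), ([-1, 0, 0, 0, 0, 0], false), ([0, -1, 0, 0, 0, 0], true), ([0, -1, 0, 0, 0, 0], true), ([-1, 0, 0, 0, 0, 0], false)],
    [([0, 0, -1, 0, 0, 0], false), ([0, -1, 0, 0, 0, 0], true), ([-1, 0, 0, 0, 0, 0], false), ([-1, 0, 0, 0, 0, 0], false), ([-1, 0, 0, 0, 0, 0], false), ([-1, 0, 0, 0, 0, 0], false), ([-1, 0, 0, 0, 0, 0], false), ([0, -1, 0, 0, 0, 0], true), ([0, -1, 0, 0, 0, 0], true), ([-1, 0, 0, 0, 0, 0], false), ([0, 0, 0, 0, -1, 0], false)],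
    [([0, 0, -1, 0, 0, 0], false), ([0, -1, 0, 0, 0, 0], true), ([-1, 0, 0, 0, 0, 0], false), ([-1, 0, 0, 0, 0, 0], false), ([-1, 0, 0, 0, 0, 0], false), ([-1, 0, 0, 0, 0, 0], false), ([-1, 0, 0, 0, 0, 0], false), ([0, -1, 0, 0, 0, 0], true), ([0, -1, 0, 0, 0, 0], true), ([-1, 0, 0, 0, 0, 0], false), ([0, 0, 0, 0, -1, 0], false), ([0, 0, -1, -1, 0, 0], false)],
    [([0, -1, 0, 0, 0, 0], false), ([0, 0, -1, 0, 0, 0], false), ([-1, 0, 0, 0, 0, 0], false), ([-1, 0, 0, 0, 0, 0], false), ([-1, 0, 0, 0, 0, 0], false), ([-1, 0, 0, 0, 0, 0], false), ([-1, 0, 0, 0, 0, 0], false), ([0, 0, 0, 0, -1, 0], false), ([-1, 0, -1, 0, 0, 0], true), ([-1, 0, 0, 0, 0, 0], false), ([0, -1, 0, 0, 0, 0], false), ([0, -1, 0, 0, 0, 0], false), ([0, -1, 0, 0, 0, 0], false)],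
    [([0, -1, 0, 0, 0, 0], false), ([0, 0, -1, 0, 0, 0], false), ([-1, 0, 0, 0, 0, 0], false), ([-1, 0, 0, 0, 0, 0], false), ([-1, 0, 0, 0, 0, 0], false), ([-1, 0, 0, 0, 0, 0], false), ([-1, 0, 0, 0, 0, 0], false), ([0, 0, 0, 0, -1, 0], false), ([0, 0, -1, -1, 0, 0], false), ([-1, 0, 0, 0, 0, 0], false), ([0, -1, 0, 0, 0, 0], false), ([0, -1, 0, 0, 0, 0], false), ([0, -1, 0, 0, 0, 0], false), ([-1, 0, -1, 0, 0, 0], false)],
    [([0, 0, -1, 0, 0, 0], false), ([0, -1, 0, 0, 0, 0], true), ([-1, 0, 0, 0, 0, 0], false), ([-1, 0, 0, 0, 0, 0], false), ([-1, 0, 0, 0, 0, 0], false), ([-1, 0, 0, 0, 0, 0], false), ([-1, 0, 0, 0, 0, 0], false), ([0, -1, 0, 0, 0, 0], true), ([0, -1, 0, 0, 0, 0], true), ([-1, 0, 0, 0, 0, 0], false), ([0, 0, 0, 0, -1, 0], false), ([-1, 0, 0, 0, -1, 0], true), ([-1, 0, 0, 0, -1, 0], true), ([0, -1, 0, 0, 0, 0], true), ([0, -1, 0, 0, 0, 0], true)],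
    [([0, 0, -1, 0, 0, 0], false), ([0, -1, 0, 0, 0, 0], true), ([-1, 0, 0, 0, 0, 0], false), ([-1, 0, 0, 0, 0, 0], false), ([-1, 0, 0, 0, 0, 0], false), ([-1, 0, 0, 0, 0, 0], false), ([-1, 0, 0, 0, 0, 0], false), ([0, -1, 0, 0, 0, 0], true), ([0, -1, 0, 0, 0, 0], true), ([-1, 0, 0, 0, 0, 0], false), ([0, 0, 0, 0, -1, 0], false), ([0, 0, -1, -1, 0, 0], false), ([0, 0, -1, 0, 0, -1], false), ([0, -1, 0, 0, 0, 0], true), ([0, -1, 0, 0, 0, 0], true), ([-1, 0, 0, 0, -1, 0], false)],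
    [([-1, 0, 0, 0, 0, 0], true), ([-1, 0, 0, 0, 0, 0], true), ([0, 0, -1, 0, 0, 0], false), ([0, -1, 0, 0, 0, 0], false), ([0, -1, 0, 0, 0, 0], false), ([0, -1, 0, 0, -1, 0], false), ([0, 0, -1, -1, 0, 0], false), ([-1, 0, 0, 0, 0, 0], true), ([-1, 0, 0, 0, 0, 0], true), ([0, 0, 0, 0, -1, 0], false), ([-1, 0, 0, 0, 0, 0], true), ([-1, 0, 0, 0, 0, 0], true), ([-1, 0, 0, 0, 0, 0], true), ([-1, 0, 0, 0, 0, 0], true), ([-1, 0, 0, 0, 0, 0], true), ([-1, 0, 0, 0, 0, 0], true), ([-1, 0, 0, 0, 0, 0], true)],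
    [([0, -1, 0, 0, 0, 0], false), ([0, 0, -1, 0, 0, 0], false), ([-1, 0, 0, 0, 0, 0], false), ([-1, 0, 0, 0, 0, 0], false), ([-1, 0, 0, 0, 0, 0], false), ([-1, 0, 0, 0, 0, 0], false), ([-1, 0, 0, 0, 0, 0], false), ([0, 0, 0, 0, -1, 0], false), ([0, 0, -1, -1, 0, 0], false), ([-1, 0, 0, 0, 0, 0], false), ([0, -1, 0, 0, 0, 0], false), ([0, -1, 0, 0, 0, 0], false), ([0, -1, 0, 0, 0, 0], false), ([-1, 0, -1, 0, 0, 0], false), ([0, 0, -1, 0, 0, -1], false), ([0, -1, 0, 0, 0, 0], false), ([0, -1, 0, 0, 0, 0], false), ([-1, 0, 0, 0, 0, 0], false)],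
    [([0, -1, 0, 0, 0, 0], false), ([0, 0, 0, 0, -1, 0], false), ([-1, 0, 0, 0, 0, 0], false), ([-1, 0, 0, 0, 0, 0], false), ([-1, 0, 0, 0, 0, 0], false), ([-1, 0, 0, 0, 0, 0], false), ([-1, 0, 0, 0, 0, 0], false), ([0, 0, -1, 0, 0, 0], true), ([0, 0, -1, 0, 0, 0], true), ([-1, 0, 0, 0, 0, 0], false), ([0, -1, 0, 0, 0, 0], false), ([0, -1, 0, 0, 0, 0], false), ([0, -1, 0, 0, 0, 0], false), ([0, 0, -1, 0, 0, 0], true), ([0, 0, -1, 0, 0, 0], true), ([0, -1, 0, 0, 0, 0], false), ([0, -1, 0, 0, 0, 0], false), ([-1, 0, 0, 0, 0, 0], false), ([0, 0, -1, 0, 0, 0], true)],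
    [([-1, 0, 0, 0, 0, 0], true), ([-1, 0, 0, 0, 0, 0], true), ([0, -1, 0, 0, 0, 0], true), ([0, 0, 0, 0, -1, -1], false), ([0, 0, -1, 0, 0, -1], false), ([0, -1, 0, 0, 0, 0], true), ([0, -1, 0, 0, 0, 0], true), ([-1, 0, 0, 0, 0, 0], true), ([-1, 0, 0, 0, 0, 0], true), ([0, -1, 0, 0, 0, 0], true), ([-1, 0, 0, 0, 0, 0], true), ([-1, 0, 0, 0, 0, 0], true), ([-1, 0, 0, 0, 0, 0], true), ([-1, 0, 0, 0, 0, 0], true), ([-1, 0, 0, 0, 0, 0], true), ([-1, 0, 0, 0, 0, 0], true), ([-1, 0, 0, 0, 0, 0], true), ([0, -1, 0, 0, 0, 0], true), ([-1, 0, 0, 0, 0, 0], true), ([-1, 0, 0, 0, 0, 0], true)],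
    [([-1, 0, 0, 0, 0, 0], true), ([-1, 0, 0, 0, 0, 0], true), ([0, 0, -1, 0, 0, 0], false), ([0, -1, 0, 0, 0, 0], false), ([0, -1, 0, 0, 0, 0], false), ([0, -1, 0, 0, -1, 0], false), ([0, 0, -1, -1, 0, 0], false), ([-1, 0, 0, 0, 0, 0], true), ([-1, 0, 0, 0, 0, 0], true), ([0, 0, 0, 0, -1, 0], false), ([-1, 0, 0, 0, 0, 0], true), ([-1, 0, 0, 0, 0, 0], true), ([-1, 0, 0, 0, 0, 0], true), ([-1, 0, 0, 0, 0, 0], true), ([-1, 0, 0, 0, 0, 0], true), ([-1, 0, 0, 0, 0, 0], true), ([-1, 0, 0, 0, 0, 0], true), ([0, 0, -1, 0, 1, 0], false), ([-1, 0, 0, 0, 0, 0], true), ([-1, 0, 0, 0, 0, 0], true), ([0, -1, 0, 0, 0, 0], false)],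
    [([0, 0, 0, 0, -1, 0], false), ([0, 0, 0, 0, -1, 0], false), ([-1, 0, 0, 0, 0, 0], false), ([-1, 0, 0, 0, 0, 0], false), ([-1, 0, 0, 0, 0, 0], false), ([-1, 0, 0, 0, 0, 0], false), ([-1, 0, 0, 0, 0, 0], false), ([0, 0, -1, 0, 0, 0], true), ([0, 0, -1, 0, 0, 0], true), ([-1, 0, 0, 0, 0, 0], false), ([0, 0, -1, 0, 0, 0], true), ([0, 0, -1, 0, 0, 0], true), ([0, 0, -1, 0, 0, 0], true), ([0, 0, -1, 0, 0, 0], true), ([0, 0, -1, 0, 0, 0], true), ([0, 0, -1, 0, 0, 0], true), ([0, 0, -1, 0, 0, 0], true), ([-1, 0, 0, 0, 0, 0], false), ([0, 0, -1, 0, 0, 0], true), ([0, -1, 0, 0, -1, 0], false), ([-1, 0, 0, 0, 0, 0], false), ([-1, 0, 0, 0, 0, 0], false)],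
    [([0, -1, 0, 0, 0, 0], false), ([-1, -1, 0, 0, 0, 0], false), ([0, 0, 0, 0, -1, 0], true), ([0, -1, 0, 0, 0, 0], false), ([0, -1, 0, 0, 0, 0], false), ([0, 0, -1, 0, 0, 0], true), ([0, 0, -1, 0, 0, 0], true), ([0, 0, -1, 0, 0, 0], true), ([0, 0, -1, 0, 0, 0], true), ([0, 0, -1, 0, 0, 0], true), ([0, -1, 0, 0, 0, 0], false), ([0, -1, 0, 0, 0, 0], false), ([0, -1, 0, 0, 0, 0], false), ([0, 0, -1, 0, 0, 0], true), ([0, 0, -1, 0, 0, 0], true), ([0, -1, 0, 0, 0, 0], false), ([0, -1, 0, 0, 0, 0], false), ([0, 0, -1, 0, 0, 0], true), ([0, 0, -1, 0, 0, 0], true), ([0, 0, 0, 0, -1, 0], true), ([0, -1, 0, 0, 0, 0], false), ([0, 0, -1, 0, 0, 0], true), ([0, 0, 0, 0, -1, 0], true)] ]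

/-- The orbits whose commutators give the layers, with diagonal elements separating them from the layer. -/
def e6Gens : List (ℕ × ℕ × ℕ × (List ℤ × Bool) × (List ℤ × Bool)) :=
  [ (46, 70, 71, ([0, -1, 0, 0, 0, 0], false), ([0, -1, 0, 0, 0, 0], false)),
    (25, 71, 70, ([-1, -1, 0, 0, 0, 0], false), ([0, -1, 0, 0, 0, 0], true)),
    (24, 71, 69, ([-1, 0, 0, 0, 0, 0], false), ([-1, 0, 0, 0, 0, 0], false)),
    (38, 64, 66, ([0, -1, 0, 0, 0, 0], false), ([0, -1, 0, 0, 0, 0], false)),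
    (15, 66, 55, ([0, 0, -1, 0, 0, -1], false), ([0, 0, -1, 0, 0, -1], false)),
    (20, 71, 65, ([-1, 0, 0, 0, 0, 0], false), ([-1, 0, 0, 0, 0, 0], false)),
    (14, 68, 54, ([0, 0, -1, -1, 0, 0], false), ([0, -1, 0, 0, 0, 0], true)),
    (18, 71, 63, ([-1, 0, 0, 0, 0, 0], true), ([0, -1, 0, 0, 0, 0], true)),
    (13, 68, 52, ([0, 0, -1, -1, 0, 0], false), ([-1, 0, 0, 0, 0, 0], true)),
    (8, 71, 53, ([-1, 0, 0, 0, 0, 0], false), ([-1, 0, 0, 0, 0, 0], false)),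
    (18, 70, 60, ([-1, 0, 0, 0, 0, 0], true), ([0, -1, 0, 0, 0, 0], false)),
    (10, 68, 45, ([0, 0, -1, -1, 0, 0], false), ([-1, 0, 0, 0, 0, 0], true)),
    (12, 66, 49, ([0, 0, -1, -1, 0, 0], true), ([-1, 0, 0, 0, 0, 0], true)),
    (6, 71, 51, ([-1, 0, 0, 0, 0, 0], true), ([0, -1, 0, 0, 0, 0], true)),
    (9, 66, 41, ([0, 0, -1, -1, 0, 0], true), ([-1, 0, 0, 0, 0, 0], true)),
    (6, 70, 44, ([-1, 0, 0, 0, 0, 0], true), ([0, -1, 0, 0, 0, 0], false)),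
    (13, 64, 48, ([0, -1, 0, 0, 0, 0], false), ([-1, 0, 0, 0, 0, 0], true)),
    (7, 66, 38, ([0, 0, -1, -1, 0, 0], true), ([0, -1, 0, 0, 0, 0], true)),
    (10, 64, 40, ([0, -1, 0, 0, 0, 0], true), ([-1, 0, 0, 0, 0, 0], true)),
    (2, 71, 47, ([-1, 0, 0, 0, 0, 0], true), ([0, -1, 0, 0, 0, 0], true)),
    (4, 68, 36, ([0, 0, -1, 0, 0, -1], true), ([0, 0, 0, 0, -1, -1], true)),
    (10, 62, 37, ([-1, 0, 0, 0, 0, 0], false), ([-1, 0, 0, 0, 0, 0], false)),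
    (2, 70, 39, ([-1, 0, 0, 0, 0, 0], true), ([0, 0, 0, 0, -1, 0], true)),
    (1, 71, 46, ([-1, -1, 0, 0, 0, 0], true), ([0, -1, 0, 0, 0, 0], true)) ]

/-- The exponents of `x` of a parameter vector. -/
def alphaV (v : List ℤ) (i : ℕ) : ℤ :=
  [v.getD 2 0, v.getD 0 0, v.getD 4 0, v.getD 1 0, v.getD 5 0, v.getD 3 0].getD i 0

/-- The exponents of `x ^ q` of a parameter vector. -/
def betaV (v : List ℤ) (i : ℕ) : ℤ :=
  [v.getD 3 0, v.getD 0 0, v.getD 5 0, v.getD 1 0, v.getD 4 0, v.getD 2 0].getD i 0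

/-- The coefficient of `1` in the weight at a root. -/
def wA (v : List ℤ) (r : ℕ) : ℤ := ((List.range 6).map fun i => alphaV v i * chevE6.cartan i r).sum

/-- The coefficient of `q` in the weight at a root. -/
def wB (v : List ℤ) (r : ℕ) : ℤ := ((List.range 6).map fun i => betaV v i * chevE6.cartan i r).sum

/-- The weight vanishes. -/
def fixR (v : List ℤ) (r : ℕ) : Bool := wA v r == 0 && wB v r == 0

/-- The weight is nonzero for all `q ≥ 3`. -/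
def movR (v : List ℤ) (r : ℕ) : Bool :=
  !(fixR v r) && decide (((wA v r).natAbs ≤ 2 ∧ (wB v r).natAbs ≤ 2) ∨ (wB v r = 0 ∧ (wA v r).natAbs ≤ 3) ∨
    (wA v r = 0 ∧ (wB v r).natAbs ≤ 3)) && decide ((wA v r + 3 * wB v r).natAbs ≠ 8)

/-- One of two sets fixed and the other moved. -/
def sepB (w : List ℤ × Bool) (A B : List ℕ) : Bool :=
  if w.2 then A.all (fixR w.1) && B.all (movR w.1) else B.all (fixR w.1) && A.all (movR w.1)

/-- The roots of the layers before the `j`th. -/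
def befL (j : ℕ) : List ℕ := (e6Layers.take j).flatten

/-- The check on the layers. -/
def chkE6Layers : Bool :=
  allN chevE6.nroots (fun r => Nat.blt r (chevE6.nroots / 2) || (befL e6Layers.length).contains r) &&
  allN e6Layers.length (fun j => (e6Layers.getD j []).all fun s =>
    Nat.ble (chevE6.nroots / 2) s && Nat.blt s chevE6.nroots && (e6Layers.getD j []).contains (e6Graph.root s) &&
    !(befL j).contains s &&
    allN chevE6.nroots (fun r => Nat.blt r (chevE6.nroots / 2) || Nat.beq r s ||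
      (cTerms E6.cert r s).all fun c => (befL j).contains c.1) &&
    (e6Layers.getD j []).all fun r => Nat.beq r s || (cTerms E6.cert r s).isEmpty)

/-- The check on the diagonal elements. -/
def chkE6Sep : Bool :=
  allN e6Layers.length fun j =>
    (e6Layers.getD j []).all (movR (e6Fpf.getD j [])) &&
    allN j fun i => sepB ((e6Kill.getD j []).getD i ([], true)) (e6Layers.getD j []) (e6Layers.getD i [])

/-- The check on the generators of the layers. -/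
def chkE6Gen : Bool :=
  allN e6Layers.length fun j =>
    let g := e6Gens.getD j (0, 0, 0, ([], true), ([], true))
    chkGen chevE6 E6.cert e6Graph e6Layers j g.1 g.2.1 g.2.2.1 &&
    sepB g.2.2.2.1 [g.1, e6Graph.root g.1] (e6Layers.getD j []) &&
    sepB g.2.2.2.2 [g.2.1, e6Graph.root g.2.1] (e6Layers.getD j [])

/-- The parameters of a vector are compatible with the symmetry. -/
theorem alphaV_node (v : List ℤ) : ∀ i < 6,
    alphaV v (e6Graph.node i) = betaV v i ∧ betaV v (e6Graph.node i) = alphaV v i := by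
  intro i hi
  interval_cases i <;> exact ⟨rfl, rfl⟩

theorem chkE6Layers_true : chkE6Layers = true := by decide +kernel

theorem chkE6Sep_true : chkE6Sep = true := by decide +kernel

theorem chkE6Gen_true : chkE6Gen = true := by decide +kernel

theorem mem_befL {j r : ℕ} : r ∈ befL j ↔ r ∈ iSet e6Layers j := by
  simp only [befL, List.mem_flatten]
  constructor
  · rintro ⟨o, ho, hr⟩
    obtain ⟨i, hi, e⟩ := List.mem_iff_getElem.1 ho
    rw [List.length_take, lt_min_iff] at hi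
    refine ⟨i, hi.1, ?_⟩
    show r ∈ e6Layers.getD i []
    rw [List.getD_eq_getElem _ _ hi.2]
    rw [List.getElem_take] at e
    rw [e]; exact hr
  · rintro ⟨i, hi, hr⟩
    have hr' : r ∈ e6Layers.getD i [] := hr
    by_cases hi' : i < e6Layers.length
    · rw [List.getD_eq_getElem _ _ hi'] at hr'
      exact ⟨_, List.mem_iff_getElem.2 ⟨i, by rw [List.length_take]; exact lt_min hi hi', List.getElem_take ..⟩, hr'⟩
    · rw [List.getD_eq_default _ _ (not_lt.1 hi')] at hr'; simp at hr'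

theorem rootLayers : RootLayers chevE6 E6.cert e6Graph.root e6Layers := by
  have h := chkE6Layers_true
  simp only [chkE6Layers, Bool.and_eq_true, allN_iff, List.all_eq_true, Bool.or_eq_true, Nat.blt_eq, Nat.ble_eq,
    List.contains_iff_mem, natBeq_iff, Bool.not_eq_true', List.isEmpty_iff] at h
  obtain ⟨hcov, hall⟩ := h
  refine ⟨fun j hj r hr => ⟨(hall j hj r hr).1.1.1.1.1, (hall j hj r hr).1.1.1.1.2⟩,
    fun j hj r hr => (hall j hj r hr).1.1.1.2, fun r hr => mem_befL.1 ?_, fun j hj r hr hi => ?_,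
    fun j hj s hs r hr hne c hc => mem_befL.1 ?_, fun j hj s hs r hr hne => ?_⟩
  · exact (hcov r hr.2).resolve_left (not_lt.2 hr.1)
  · have h1 := (hall j hj r hr).1.1.2
    rw [List.contains_iff_mem.2 (mem_befL.2 hi)] at h1
    exact Bool.noConfusion h1
  · exact (((hall j hj s hs).1.2 r hr.2).resolve_left (fun e => e.elim (not_lt.2 hr.1) hne)) c hc
  · exact ((hall j hj s hs).2 r hr).resolve_left hne

variable {K : Type*} [Field K] [Fintype K] {q : ℕ}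

/-- The diagonal parameters of a vector. -/
def torVec (g : Kˣ) (q : ℕ) (v : List ℤ) (i : ℕ) : Kˣ := g ^ (alphaV v i + (q : ℤ) * betaV v i)

omit [Fintype K] in
theorem torusFun_torVec (g : Kˣ) (v : List ℤ) (r : ℕ) :
    torusFun chevE6 (torVec g q v) r = g ^ (wA v r + (q : ℤ) * wB v r) := by
  simp only [torusFun, torVec, wA, wB, e6rank, Finset.prod_range_succ, Finset.prod_range_zero, one_mul,
    List.range_succ, List.range_zero, List.nil_append, List.map_cons, List.map_nil, List.map_append,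
    List.sum_cons, List.sum_nil, List.sum_append, ← zpow_mul, ← zpow_add]
  congr 1
  ring

variable (hK : Fintype.card K = q ^ 2) (hq3 : 3 ≤ q) {φ : K ≃+* K} (hφ : ∀ t, φ t = t ^ q)
  {g : Kˣ} (hg : orderOf g = q ^ 2 - 1)

include hK hφ in
theorem torVec_eqv (v : List ℤ) : ∀ i < chevE6.rank,
    ((torVec g q v (e6Graph.node i) : Kˣ) : K) = φ ((torVec g q v i : Kˣ) : K) := by
  intro i hi
  obtain ⟨e1, e2⟩ := alphaV_node v i hi
  rw [hφ, ← Units.val_pow_eq_pow_val, Units.val_inj, torVec, torVec, e1, e2, ← zpow_natCast (g ^ _), ← zpow_mul]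
  have hgq : g ^ ((q : ℤ) * q) = g := by
    rw [show ((q : ℤ) * q) = ((q ^ 2 : ℕ) : ℤ) by push_cast; ring, zpow_natCast, ← hK]
    exact Units.ext (by rw [Units.val_pow_eq_pow_val]; exact FiniteField.pow_card _)
  rw [show (alphaV v i + (q : ℤ) * betaV v i) * (q : ℤ) = (q : ℤ) * alphaV v i + (q : ℤ) * q * betaV v i by ring,
    zpow_add, zpow_add, zpow_mul g ((q : ℤ) * q), hgq, mul_comm]

include hq3 hg in
theorem torusFun_ne_one (v : List ℤ) {r : ℕ} (h : movR v r = true) :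
    (torusFun chevE6 (torVec g q v) r : K) ≠ 1 := by
  simp only [movR, fixR, Bool.and_eq_true, Bool.not_eq_true', Bool.and_eq_false_iff, beq_eq_false_iff_ne,
    decide_eq_true_eq] at h
  obtain ⟨⟨h0, hAB⟩, h8⟩ := h
  rw [ne_eq, Units.val_eq_one, torusFun_torVec]
  intro e
  have hd := orderOf_dvd_iff_zpow_eq_one.2 e
  rw [hg] at hd
  set A := wA v r
  set B := wB v r
  have hM : ((q ^ 2 - 1 : ℕ) : ℤ) = (q : ℤ) * q - 1 := by
    have := Nat.one_le_pow 2 q (by omega)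
    push_cast [Nat.cast_sub this]; ring
  rw [hM] at hd
  have hq' : (3 : ℤ) ≤ q := by exact_mod_cast hq3
  have hA' : -3 ≤ A ∧ A ≤ 3 := by omega
  have hB' : -3 ≤ B ∧ B ≤ 3 := by omega
  have hAB' : (-2 ≤ A ∧ A ≤ 2 ∧ -2 ≤ B ∧ B ≤ 2) ∨ B = 0 ∨ A = 0 := by omega
  have hne : A + (q : ℤ) * B ≠ 0 := by
    intro h0'
    have : B = 0 := by
      rcases lt_trichotomy B 0 with h | h | h
      · rcases hAB' with h' | h' | h' <;> nlinarith
      · exact h
      · rcases hAB' with h' | h' | h' <;> nlinarith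
    rw [this] at h0'
    rcases h0 with h0 | h0 <;> omega
  obtain ⟨m, hm⟩ := hd
  rcases eq_or_ne (q : ℤ) 3 with h3 | h3
  · rw [h3] at hm hne
    omega
  · have hq4 : (4 : ℤ) ≤ q := by omega
    have : m = 0 := by
      rcases lt_trichotomy m 0 with h | h | h
      · rcases hAB' with h' | h' | h' <;> nlinarith
      · exact h
      · rcases hAB' with h' | h' | h' <;> nlinarith
    subst this
    exact hne (by linarith [hm])

omit [Fintype K] in
theorem torusFun_eq_one (v : List ℤ) {r : ℕ} (h : fixR v r = true) :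
    (torusFun chevE6 (torVec g q v) r : K) = 1 := by
  simp only [fixR, Bool.and_eq_true, beq_iff_eq] at h
  rw [torusFun_torVec, h.1, h.2, mul_zero, add_zero, zpow_zero, Units.val_one]

include hq3 hg in
theorem sepB_case {w : List ℤ × Bool} {A B : List ℕ} (h : sepB w A B = true) :
    ((∀ r ∈ A, (torusFun chevE6 (torVec g q w.1) r : K) = 1) ∧
      ∀ r ∈ B, (torusFun chevE6 (torVec g q w.1) r : K) ≠ 1) ∨
    ((∀ r ∈ B, (torusFun chevE6 (torVec g q w.1) r : K) = 1) ∧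
      ∀ r ∈ A, (torusFun chevE6 (torVec g q w.1) r : K) ≠ 1) := by
  rw [sepB] at h
  split_ifs at h <;> simp only [Bool.and_eq_true, List.all_eq_true] at h
  · exact Or.inl ⟨fun r hr => torusFun_eq_one _ (h.1 r hr), fun r hr => torusFun_ne_one hq3 hg _ (h.2 r hr)⟩
  · exact Or.inr ⟨fun r hr => torusFun_eq_one _ (h.1 r hr), fun r hr => torusFun_ne_one hq3 hg _ (h.2 r hr)⟩

include hq3 hK in
/-- **The characteristic does not divide the kernel.** -/
theorem not_dvd_card_ker (hq : IsPrimePow q) (p : ℕ) [Fact p.Prime] [CharP K p] {Γ : Type*} [Group Γ] [Finite Γ]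
    {σ : Γ →* ↥(twistedE6 K q)} (hσ : Cfsg.IsStemExtension σ) : ¬ p ∣ Nat.card σ.ker := by
  obtain ⟨φ, hφ, h2⟩ := e6_powAut hq hK
  obtain ⟨g, hg⟩ : ∃ g : Kˣ, orderOf g = q ^ 2 - 1 := by
    obtain ⟨g, hg⟩ := IsCyclic.exists_ofOrder_eq_natCard (α := Kˣ)
    exact ⟨g, by rw [hg, Nat.card_units, Nat.card_eq_fintype_card, hK]⟩
  set O := e6Orbits hq hK φ hφ h2
  have hsep := chkE6Sep_true
  simp only [chkE6Sep, allN_iff, Bool.and_eq_true, List.all_eq_true] at hsep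
  have hgen := chkE6Gen_true
  simp only [chkE6Gen, allN_iff, Bool.and_eq_true] at hgen
  have heqv := torVec_eqv (g := g) hK hφ
  have L := TwistLift.layers O rootLayers
    (fun j hj => ⟨_, heqv (e6Fpf.getD j []), fun r hr => torusFun_ne_one hq3 hg _ ((hsep j hj).1 r hr)⟩)
    (fun j hj i hi => ⟨_, heqv ((e6Kill.getD j []).getD i ([], true)).1, sepB_case hq3 hg ((hsep j hj).2 i hi)⟩)
  have hab : ∀ j < e6Layers.length, ∀ x y, σ x ∈ vGrp O (oSet e6Layers j) → σ y ∈ vGrp O (oSet e6Layers j) →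
      Commute x y := by
    intro j hj
    obtain ⟨⟨h1, h2'⟩, h3⟩ := hgen j hj
    set gj := e6Gens.getD j (0, 0, 0, ([], true), ([], true))
    have conv : ∀ {w : List ℤ × Bool} {a : ℕ}, sepB w [a, e6Graph.root a] (e6Layers.getD j []) = true →
        ∃ c : ℕ → Kˣ, (∀ i < chevE6.rank, (c (e6Graph.node i) : K) = φ (c i : K)) ∧
          (((torusFun chevE6 c a : K) = 1 ∧ (torusFun chevE6 c (e6Graph.root a) : K) = 1 ∧
            ∀ r ∈ oSet e6Layers j, (torusFun chevE6 c r : K) ≠ 1) ∨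
          ((∀ r ∈ oSet e6Layers j, (torusFun chevE6 c r : K) = 1) ∧ (torusFun chevE6 c a : K) ≠ 1)) := by
      intro w a hw
      refine ⟨_, heqv w.1, ?_⟩
      rcases sepB_case (K := K) hq3 hg hw with ⟨e1, e2⟩ | ⟨e1, e2⟩
      · exact Or.inl ⟨e1 a (by simp), e1 _ (by simp), e2⟩
      · exact Or.inr ⟨e1, e2 a (by simp)⟩
    exact layer_commute O h2 rootLayers (σ := σ) hσ.1 hσ.2.1 hj h1 (conv h2') (conv h3)
  have key := L.commutator_inf_ker (σ := σ) hσ.1 hσ.2.1 hab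
  obtain ⟨P, hP⟩ := Twisted.Aut.exists_sylow O.system p
  obtain ⟨Q₀⟩ : Nonempty (Sylow p Γ) := inferInstance
  obtain ⟨x, hx⟩ := MulAction.exists_smul_eq ↥(twistedE6 K q) (Q₀.mapSurjective hσ.1) P
  obtain ⟨x', rfl⟩ := hσ.1 x
  let Q := x' • Q₀
  have hQ : ∀ y ∈ (Q : Subgroup Γ), y ∈ ((chevE6.posUnipotent K).subgroupOf O.G).comap σ := by
    intro y hy
    rw [Sylow.coe_subgroup_smul, Subgroup.mem_pointwise_smul_iff_inv_smul_mem] at hy
    show σ y ∈ Twisted.Aut.Ut O.system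
    rw [← hP, ← hx]
    refine ⟨_, ⟨_, hy, rfl⟩, ?_⟩
    show σ x' * σ ((MulAut.conj x')⁻¹ • y) * (σ x')⁻¹ = σ y
    rw [← map_inv σ x', ← map_mul σ, ← map_mul σ]
    congr 1
    simp [MulAut.smul_def]; group
  refine Cfsg.Agent.Lib.Schur.not_dvd_card_ker hσ Q fun a ha hak => Subtype.ext ?_
  have h1 : (a : Γ) ∈ ⁅((chevE6.posUnipotent K).subgroupOf O.G).comap σ,
      ((chevE6.posUnipotent K).subgroupOf O.G).comap σ⁆ := by
    have h2 : (a : Γ) ∈ (commutator (Q : Subgroup Γ)).map (Q : Subgroup Γ).subtype :=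
      Subgroup.mem_map_of_mem _ ha
    rw [Subgroup.map_subtype_commutator] at h2
    exact Subgroup.commutator_mono hQ hQ h2
  exact Subgroup.mem_bot.1 (key.le ⟨h1, hak⟩)

end Cfsg.Agent.Lib.Schur.TwistE6
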