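import Cfsg.Agent.Lib.Schur.ChevCentralExt
import Cfsg.Agent.Lib.Schur.Cover

/-!
The group presented by (R1), (R2) over a finite field has trivial Schur multiplier where lifts exist.
-/

set_option autoImplicit false

namespace Cfsg.Agent.Lib.Schur.ChevLift

open Cfsg.Lie Cfsg.Agent.Lib.Chev
open scoped commutatorElement

universe u

variable {D : ChevalleyDatum} {F : Type u} [Field F]

theorem finite_cover [Finite F] (hD : D ∈ sevenTypes) : Finite (D.SteinbergCover F) := by
  obtain ⟨C, θ, U⟩ := exists_univMap_cover (F := F) hD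
  obtain ⟨hfin, -⟩ := U.lift.card_ker_le_of_mul U.gen (U.lift.hX_mul_all_symbol U.gen (symbolOK_of_mem hD))
  haveI : Finite ((D.group F).subtype.comp θ).ker := hfin
  haveI : Finite θ.ker := Finite.of_injective
    (fun x : θ.ker => (⟨x.1, by simp [MonoidHom.mem_ker, MonoidHom.mem_ker.1 x.2]⟩ :
      ((D.group F).subtype.comp θ).ker))
    fun a b e => Subtype.ext (congrArg Subtype.val e :)
  haveI := Finite.of_equiv _ (QuotientGroup.quotientKerEquivOfSurjective θ U.surj).symm.toEquiv
  exact Finite.of_equiv _ (Subgroup.groupEquivQuotientProdSubgroup (s := θ.ker)).symm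

/-- A field with three elements. -/
theorem three_field [Fintype F] (h : Fintype.card F = 3) :
    (3 : F) = 0 ∧ ∀ v : F, v = 0 ∨ v = 1 ∨ v = -1 := by
  classical
  have h3 : (3 : F) = 0 := by
    have := FiniteField.cast_card_eq_zero F
    rw [h] at this
    exact_mod_cast this
  have h2 : (2 : F) ≠ 0 := fun e => one_ne_zero (α := F) (by linear_combination h3 - e)
  refine ⟨h3, fun v => ?_⟩
  have hs : ({0, 1, -1} : Finset F) = Finset.univ := Finset.eq_univ_of_card _ (by
    rw [Finset.card_insert_of_notMem (by simp), Finset.card_pair (fun e => h2 (by linear_combination e)), h])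
  have hv := Finset.mem_univ v
  rw [← hs] at hv
  simpa using hv

theorem hasCyclicSchurMultiplier_one_of_iso [Finite F] (hD : D ∈ sevenTypes)
    (hperf : commutator (D.SteinbergCover F) = ⊤) {C : Cert}
    (hlift : ∀ {Y : Type u} [Group Y] (π : Y →* GL D.Idx F), π.ker ≤ Subgroup.center Y →
      (∀ r < D.nroots, ∀ t : F, ∃ g : Y, (π g : Matrix D.Idx D.Idx F) = D.x F r t) →
      ∃ X, RootLift D C π X)
    {G : Type u} [Group G] (e : D.SteinbergCover F ≃* G) : Cfsg.HasCyclicSchurMultiplier G 1 := by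
  haveI := finite_cover (F := F) hD
  haveI : Finite G := Finite.of_equiv _ e.toEquiv
  refine hasCyclicSchurMultiplier_one_of fun Y _ τ hτ hc => ?_
  obtain ⟨f, hf, -⟩ := existsUnique_lift_of_lift hD hperf hlift τ hτ hc e.toMonoidHom
  have hfe : ∀ g, τ (f g) = e g := fun g => DFunLike.congr_fun hf g
  have hcomm : commutator Y ≤ f.range := by
    rw [commutator_def, Subgroup.commutator_le]
    intro a _ b _
    have key : ∀ y, ∃ g, τ y = τ (f g) := fun y => ⟨e.symm (τ y), by rw [hfe, e.apply_symm_apply]⟩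
    obtain ⟨a', ha⟩ := key a
    obtain ⟨b', hb⟩ := key b
    rw [ChevBr.comm_eq hc ha hb]
    exact ⟨⁅a', b'⁆, map_commutatorElement f a' b'⟩
  rw [eq_bot_iff]
  rintro y ⟨hy, hy'⟩
  obtain ⟨g, rfl⟩ := hcomm hy'
  replace hy : τ (f g) = 1 := hy
  rw [hfe, EmbeddingLike.map_eq_one_iff] at hy
  rw [hy, map_one]
  exact Subgroup.one_mem _

end Cfsg.Agent.Lib.Schur.ChevLift
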