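import Cfsg.Agent.Lib.Schur.ChevMult

/-! The checks for `G₂` and `F₄`. -/

set_option autoImplicit false

namespace Cfsg.Agent.Lib.Schur.ChevLift

open Cfsg.Lie Cfsg.Agent.Lib.Chev

theorem etaSimple_G2 : etaSimpleOK chevG2 G2.cert = true := by decide +kernel
theorem full_G2 : (allN chevG2.nroots fun r => fullB chevG2 r) = true := by decide +kernel
theorem pairs_G2 : (allN chevG2.nroots fun r => allN chevG2.nroots fun s => pairB chevG2 G2.cert r s) = true := by
  decide +kernel
theorem adjTwo_G2 : adjTwoOK chevG2 = true := by decide +kernel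

theorem torusOK_G2 : TorusOK chevG2 G2.cert :=
  ⟨⟨checked_G2, descent_G2⟩, etaSimple_of_ok etaSimple_G2, full_G2, pairs_G2⟩

theorem solve_G2 : solveOK chevG2 1 0 [0, 0] [2, 1] [[2, 1], [3, 2]] = true := by decide +kernel

theorem etaSimple_F4 : etaSimpleOK chevF4 F4.cert = true := by decide +kernel
theorem full_F4 : (allN chevF4.nroots fun r => fullB chevF4 r) = true := by decide +kernel
theorem pairs_F4 : (allN chevF4.nroots fun r => allN chevF4.nroots fun s => pairB chevF4 F4.cert r s) = true := by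
  decide +kernel
theorem adjTwo_F4 : adjTwoOK chevF4 = true := by decide +kernel

theorem torusOK_F4 : TorusOK chevF4 F4.cert :=
  ⟨⟨checked_F4, descent_F4⟩, etaSimple_of_ok etaSimple_F4, full_F4, pairs_F4⟩

theorem solve_F4 : solveOK chevF4 1 0 [0, 0, 0, 0] [2, 3, 2, 1]
    [[2, 3, 2, 1], [3, 6, 4, 2], [4, 8, 6, 3], [2, 4, 3, 2]] = true := by decide +kernel

end Cfsg.Agent.Lib.Schur.ChevLift
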