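import Mathlib
import Cfsg.Agent.Lib.Schur.ChevBr

/-!
Central extensions of a group with three layers, each parametrised by a field and scaled by automorphisms: the
kernel meets the derived group trivially when no pairing between two layers is invariant.
-/

set_option autoImplicit false

namespace Cfsg.Agent.Lib.Schur.LayerKill

open Subgroup
open scoped commutatorElement

variable {K : Type*} [Field K]

/-- A multiplicative map which is no power of the Frobenius map is not additive. -/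
theorem exists_nonadd [Fintype K] (p n : ℕ) [Fact p.Prime] [CharP K p] (hn : Fintype.card K = p ^ n) (hn0 : 0 < n)
    (ψ : K → K) (h0 : ψ 0 = 0) (h1 : ψ 1 = 1) (hm : ∀ a b, ψ (a * b) = ψ a * ψ b) (hodd : ψ (-1) = -1)
    (hψ : ∀ i < n, ∃ a, ψ a ≠ a ^ p ^ i) :
    ∃ a, a ≠ 0 ∧ a + 1 ≠ 0 ∧ ψ (a + 1) ≠ ψ a + 1 := by
  by_contra hcon
  push Not at hcon
  have hs : ∀ a, ψ (a + 1) = ψ a + 1 := by
    intro a
    by_cases ha : a = 0
    · subst ha; rw [zero_add, h1, h0, zero_add]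
    by_cases ha1 : a + 1 = 0
    · rw [ha1, h0, eq_neg_of_add_eq_zero_left ha1, hodd, neg_add_cancel]
    exact hcon a ha ha1
  have hadd : ∀ a b, ψ (a + b) = ψ a + ψ b := by
    intro a b
    by_cases hb : b = 0
    · subst hb; rw [add_zero, h0, add_zero]
    calc ψ (a + b) = ψ (a / b + 1) * ψ b := by
          rw [← hm, add_mul, div_mul_cancel₀ a hb, one_mul]
      _ = ψ a + ψ b := by rw [hs, add_mul, one_mul, ← hm, div_mul_cancel₀ a hb]
  let f : K →+* K := ⟨⟨⟨ψ, h1⟩, hm⟩, h0, hadd⟩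
  let _ := ZMod.algebra K p
  have hf : ∀ x, f (algebraMap (ZMod p) K x) = algebraMap (ZMod p) K x := fun x =>
    congrArg (fun g : ZMod p →+* K => g x) (Subsingleton.elim (f.comp (algebraMap (ZMod p) K)) (algebraMap (ZMod p) K))
  let σ₀ : K →ₐ[ZMod p] K := { f with commutes' := hf }
  let σ : Gal(K/ZMod p) := AlgEquiv.ofBijective σ₀ ⟨f.injective, Finite.injective_iff_surjective.1 f.injective⟩
  obtain ⟨i, hi⟩ := (FiniteField.bijective_frobeniusAlgEquivOfAlgebraic_pow (ZMod p) K).2 σ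
  have hr : Module.finrank (ZMod p) K = n := by
    have := Module.card_eq_pow_finrank (K := ZMod p) (V := K)
    rw [hn, ZMod.card] at this
    exact (Nat.pow_right_injective (Fact.out : p.Prime).two_le this).symm
  obtain ⟨a, ha⟩ := hψ i (hr ▸ i.isLt)
  refine ha ?_
  have h2 := congrArg (fun τ : Gal(K/ZMod p) => τ a) hi
  simp only [AlgEquiv.coe_pow, FiniteField.coe_frobeniusAlgEquivOfAlgebraic_iterate, ZMod.card] at h2
  exact h2.symm

/-- A biadditive map which is invariant under a sufficiently twisted scaling is trivial. -/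
theorem pairing_one {M : Type*} [Group M] (e : K → K → M) (hl : ∀ a b c, e (a + b) c = e a c * e b c)
    (hr : ∀ a c d, e a (c + d) = e a c * e a d) (ψ : K → K)
    (hinv : ∀ a, a ≠ 0 → ∀ c, e a c = e 1 (ψ a * c))
    (hk : ∃ a, a ≠ 0 ∧ a + 1 ≠ 0 ∧ ψ (a + 1) ≠ ψ a + 1) (a c : K) : e a c = 1 := by
  obtain ⟨a₀, ha, ha1, hk⟩ := hk
  have h0 : e 1 0 = 1 := mul_eq_left.1 ((hr 1 0 0).symm.trans (by rw [add_zero]))
  have hφ : ∀ x, e 1 x = 1 := by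
    intro x
    have hk0 : ψ (a₀ + 1) - (ψ a₀ + 1) ≠ 0 := sub_ne_zero.2 hk
    have hy : ∀ y, e 1 ((ψ (a₀ + 1) - (ψ a₀ + 1)) * y) = 1 := by
      intro y
      have h1 : e 1 (ψ (a₀ + 1) * y) = e 1 ((ψ a₀ + 1) * y) := by
        rw [← hinv _ ha1 y, hl, hinv _ ha y, add_mul, one_mul, hr]
      have h2 := hr 1 ((ψ (a₀ + 1) - (ψ a₀ + 1)) * y) ((ψ a₀ + 1) * y)
      rw [← add_mul, sub_add_cancel, h1] at h2
      exact mul_eq_right.1 h2.symm
    have := hy (x / (ψ (a₀ + 1) - (ψ a₀ + 1)))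
    rwa [mul_div_cancel₀ x hk0] at this
  by_cases ha' : a = 0
  · subst ha'
    exact mul_eq_left.1 ((hl 0 0 c).symm.trans (by rw [add_zero]))
  · rw [hinv a ha' c, hφ]

/-- No pairing of two layers scaled by `χ'` and `χ` is invariant. -/
def PairOK (χ' χ : Kˣ → K) : Prop :=
  ∃ ψ : K → K, (∃ a, a ≠ 0 ∧ a + 1 ≠ 0 ∧ ψ (a + 1) ≠ ψ a + 1) ∧
    ∀ a, a ≠ 0 → ∃ μ : Kˣ, ∃ ε : K, (ε = 1 ∨ ε = -1) ∧ χ' μ = ε * a ∧ χ μ * ψ a = ε

variable {Γ : Type*} [Group Γ]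

theorem comm_mul_left_of {x y z : Γ} (h : Commute ⁅y, z⁆ x) : ⁅x * y, z⁆ = ⁅y, z⁆ * ⁅x, z⁆ := by
  rw [show ⁅x * y, z⁆ = x * ⁅y, z⁆ * x⁻¹ * ⁅x, z⁆ by simp only [commutatorElement_def]; group,
    h.symm.eq, mul_inv_cancel_right]

theorem comm_mul_right_of {x y z : Γ} (h : Commute ⁅x, z⁆ y) : ⁅x, y * z⁆ = ⁅x, y⁆ * ⁅x, z⁆ := by
  rw [show ⁅x, y * z⁆ = ⁅x, y⁆ * (y * ⁅x, z⁆ * y⁻¹) by simp only [commutatorElement_def]; group,
    h.symm.eq, mul_inv_cancel_right]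

/-- Two families whose commutators are central commute, if no pairing is invariant. -/
theorem pair_commute {Z S : Subgroup Γ} (hZ : Z ≤ center Γ) {L L' : K → Γ} {χ χ' : Kˣ → K} (φ : Kˣ → MulAut Γ)
    (hfix : ∀ μ, ∀ z ∈ Z, φ μ z = z) (hS : ∀ s ∈ S, ∀ a, Commute s (L a))
    (hL : ∀ a b, (L a * L b)⁻¹ * L (a + b) ∈ Z) (hL' : ∀ a b, (L' a * L' b)⁻¹ * L' (a + b) ∈ S)
    (hcom : ∀ a b, ⁅L' a, L b⁆ ∈ Z) (heq : ∀ μ a, (L (χ μ * a))⁻¹ * φ μ (L a) ∈ Z)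
    (heq' : ∀ μ a, (L' (χ' μ * a))⁻¹ * φ μ (L' a) ∈ S) (hP : PairOK χ' χ ∨ PairOK χ χ') (a b : K) :
    Commute (L' a) (L b) := by
  have hcen : ∀ z ∈ Z, ∀ g, Commute z g := fun z hz g => (mem_center_iff.1 (hZ hz) g).symm
  have hS1 : ∀ s ∈ S, ∀ a, ⁅s, L a⁆ = 1 := fun s hs a => commutatorElement_eq_one_iff_mul_comm.2 (hS s hs a).eq
  set e : K → K → Γ := fun a b => ⁅L' a, L b⁆ with he
  have hl : ∀ a b c, e (a + b) c = e a c * e b c := by
    intro a b c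
    have e1 : L' (a + b) = L' a * L' b * ((L' a * L' b)⁻¹ * L' (a + b)) := (mul_inv_cancel_left _ _).symm
    simp only [he]
    rw [e1, comm_mul_left_of (by rw [hS1 _ (hL' a b) c]; exact Commute.one_left _), hS1 _ (hL' a b) c, one_mul,
      comm_mul_left_of (hcen _ (hcom b c) _)]
    exact (hcen _ (hcom b c) _).eq
  have hr : ∀ a c d, e a (c + d) = e a c * e a d := by
    intro a c d
    have e1 : L (c + d) = L c * L d * ((L c * L d)⁻¹ * L (c + d)) := (mul_inv_cancel_left _ _).symm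
    have e2 : ⁅L' a, (L c * L d)⁻¹ * L (c + d)⁆ = 1 :=
      commutatorElement_eq_one_iff_mul_comm.2 (hcen _ (hL c d) _).symm.eq
    simp only [he]
    rw [e1, comm_mul_right_of (by rw [e2]; exact Commute.one_left _), e2, mul_one,
      comm_mul_right_of (hcen _ (hcom a d) _)]
  have hneg : ∀ a c, e (-a) c = (e a c)⁻¹ ∧ e a (-c) = (e a c)⁻¹ := by
    intro a c
    have h0 : e 0 c = 1 := mul_eq_left.1 ((hl 0 0 c).symm.trans (by rw [add_zero]))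
    have h0' : e a 0 = 1 := mul_eq_left.1 ((hr a 0 0).symm.trans (by rw [add_zero]))
    exact ⟨eq_inv_of_mul_eq_one_left (by rw [← hl, neg_add_cancel, h0]),
      eq_inv_of_mul_eq_one_left (by rw [← hr, neg_add_cancel, h0'])⟩
  have hinv : ∀ μ a c, e (χ' μ * a) (χ μ * c) = e a c := by
    intro μ a c
    calc e (χ' μ * a) (χ μ * c)
        = ⁅φ μ (L' a), φ μ (L c)⁆ := by
          have e1 : φ μ (L' a) = L' (χ' μ * a) * ((L' (χ' μ * a))⁻¹ * φ μ (L' a)) := (mul_inv_cancel_left _ _).symm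
          have e2 : φ μ (L c) = L (χ μ * c) * ((L (χ μ * c))⁻¹ * φ μ (L c)) := (mul_inv_cancel_left _ _).symm
          have hz : ∀ x, ⁅x, (L (χ μ * c))⁻¹ * φ μ (L c)⁆ = 1 := fun x =>
            commutatorElement_eq_one_iff_mul_comm.2 (hcen _ (heq μ c) _).symm.eq
          simp only [he]
          rw [e1, e2, comm_mul_right_of (by rw [hz]; exact Commute.one_left _), hz, mul_one,
            comm_mul_left_of (by rw [hS1 _ (heq' μ a)]; exact Commute.one_left _), hS1 _ (heq' μ a), one_mul]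
      _ = φ μ (e a c) := by simp only [he, map_commutatorElement]
      _ = e a c := hfix μ _ (hcom a c)
  have hsgn : ∀ ε : K, ε = 1 ∨ ε = -1 → ∀ a c, e (ε * a) (ε * c) = e a c := by
    rintro ε (rfl | rfl) a c
    · rw [one_mul, one_mul]
    · rw [neg_one_mul, neg_one_mul, (hneg a _).1, (hneg a c).2, inv_inv]
  refine commutatorElement_eq_one_iff_commute.1 ?_
  rcases hP with ⟨ψ, hk, hψ⟩ | ⟨ψ, hk, hψ⟩
  · refine pairing_one e hl hr ψ (fun x hx y => ?_) hk a b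
    obtain ⟨μ, ε, hε, e1, e2⟩ := hψ x hx
    rw [← hinv μ 1 (ψ x * y), mul_one, e1, ← mul_assoc, e2, hsgn ε hε]
  · refine pairing_one (fun x y => e y x) (fun x y z => ?_) (fun x y z => ?_) ψ (fun x hx y => ?_) hk b a
    · exact hr z x y
    · exact hl y z x
    · obtain ⟨μ, ε, hε, e1, e2⟩ := hψ x hx
      show e y x = e (ψ x * y) 1
      rw [← hinv μ (ψ x * y) 1, mul_one, e1, ← mul_assoc, e2, hsgn ε hε]

/-- A central layer has a complement to `Z`. -/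
theorem exists_layer {Z : Subgroup Γ} (hZ : Z ≤ center Γ) {L : K → Γ} {χ : Kˣ → K} (φ : Kˣ → MulAut Γ)
    (hfix : ∀ μ, ∀ z ∈ Z, φ μ z = z) (hcomm : ∀ μ ν g, φ μ (φ ν g) = φ ν (φ μ g))
    (hcentral : ∀ a g, Commute g (L a)) (hL : ∀ a b, (L a * L b)⁻¹ * L (a + b) ∈ Z)
    (heq : ∀ μ a, (L (χ μ * a))⁻¹ * φ μ (L a) ∈ Z) (hχ : ∀ μ, χ μ ≠ 0) (hne : ∃ μ, χ μ ≠ 1)
    (hzero : ∀ a, L a ∈ Z → a = 0) :
    ∃ M : Subgroup Γ, M ≤ center Γ ∧ M ⊓ Z = ⊥ ∧ (∀ a, L a ∈ Z ⊔ M) ∧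
      (∀ μ, M.map (φ μ).toMonoidHom = M) ∧ M ≤ Subgroup.closure ((Z : Set Γ) ∪ Set.range L) := by
  obtain ⟨μ₀, hμ₀⟩ := hne
  set d := χ μ₀ - 1
  have hd : d ≠ 0 := sub_ne_zero.2 hμ₀
  have hcz : ∀ z ∈ Z, ∀ g, Commute z g := fun z hz g => (mem_center_iff.1 (hZ hz) g).symm
  -- the section
  set s : K → Γ := fun a => φ μ₀ (L (a / d)) * (L (a / d))⁻¹ with hs
  have hsZ : ∀ a, ∃ z ∈ Z, s a = L a * z := by
    intro a
    set a' := a / d
    have ea : χ μ₀ * a' = a + a' := by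
      simp only [a', d]
      field_simp
      ring
    set z₁ := (L (χ μ₀ * a'))⁻¹ * φ μ₀ (L a')
    set z₂ := (L a * L a')⁻¹ * L (a + a')
    refine ⟨z₂ * z₁, mul_mem (hL a a') (heq μ₀ a'), ?_⟩
    calc s a = L (χ μ₀ * a') * z₁ * (L a')⁻¹ := by simp only [hs, z₁, mul_inv_cancel_left]; rfl
      _ = L a * L a' * z₂ * z₁ * (L a')⁻¹ := by rw [ea]; simp only [z₂, mul_inv_cancel_left]
      _ = L a * (z₂ * z₁) := by
        rw [mul_assoc (L a * L a'), mul_assoc (L a) (L a'), ← (hcz _ (mul_mem (hL a a') (heq μ₀ a')) (L a')).eq,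
          ← mul_assoc (L a), mul_inv_cancel_right]
  have hscen : ∀ a, s a ∈ center Γ := by
    intro a
    obtain ⟨z, hz, e⟩ := hsZ a
    rw [e]
    exact mul_mem (mem_center_iff.2 fun g => (hcentral a g).eq) (hZ hz)
  have hwd : ∀ x y, (L y)⁻¹ * x ∈ Z → φ μ₀ x * x⁻¹ = φ μ₀ (L y) * (L y)⁻¹ := by
    intro x y h
    have e : x = L y * ((L y)⁻¹ * x) := (mul_inv_cancel_left _ _).symm
    conv_lhs => rw [e, map_mul, hfix _ _ h]
    group
  have hadd : ∀ a b, s (a + b) = s a * s b := by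
    intro a b
    simp only [hs]
    rw [add_div, ← hwd (L (a / d) * L (b / d)) _ (by
      have := inv_mem (hL (a / d) (b / d))
      rwa [mul_inv_rev, inv_inv] at this)]
    have hb := mem_center_iff.1 (hscen b) (L (a / d))⁻¹
    simp only [hs] at hb
    rw [map_mul, mul_inv_rev, mul_assoc (φ μ₀ (L (a / d))), ← mul_assoc (φ μ₀ (L (b / d))),
      ← hb, mul_assoc (φ μ₀ (L (a / d)))]
  have h0 : s 0 = 1 := mul_eq_left.1 ((hadd 0 0).symm.trans (by rw [add_zero]))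
  have hconj : ∀ μ a, φ μ (s a) = s (χ μ * a) := by
    intro μ a
    simp only [hs]
    rw [map_mul, map_inv, hcomm, mul_div_assoc]
    exact hwd _ _ (heq μ (a / d))
  let M : Subgroup Γ :=
    { carrier := Set.range s
      one_mem' := ⟨0, h0⟩
      mul_mem' := by rintro _ _ ⟨a, rfl⟩ ⟨b, rfl⟩; exact ⟨a + b, hadd a b⟩
      inv_mem' := by
        rintro _ ⟨a, rfl⟩
        exact ⟨-a, eq_inv_of_mul_eq_one_left (by rw [← hadd, neg_add_cancel, h0])⟩ }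
  refine ⟨M, ?_, ?_, fun a => ?_, fun μ => ?_, ?_⟩
  · rintro _ ⟨a, rfl⟩; exact hscen a
  · rw [eq_bot_iff]
    rintro _ ⟨⟨a, rfl⟩, hZa⟩
    obtain ⟨z, hz, e⟩ := hsZ a
    have hLa : L a ∈ Z := by
      have := mul_mem (show s a ∈ Z from hZa) (inv_mem hz)
      rwa [e, mul_inv_cancel_right] at this
    rw [Subgroup.mem_bot, hzero a hLa, h0]
  · obtain ⟨z, hz, e⟩ := hsZ a
    rw [show L a = s a * z⁻¹ by rw [e, mul_inv_cancel_right]]
    exact mul_mem (le_sup_right (a := Z) (show s a ∈ M from ⟨a, rfl⟩)) (le_sup_left (b := M) (inv_mem hz))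
  · ext x
    constructor
    · rintro ⟨_, ⟨a, rfl⟩, rfl⟩
      exact ⟨χ μ * a, (hconj μ a).symm⟩
    · rintro ⟨a, rfl⟩
      refine ⟨s (a / χ μ), ⟨_, rfl⟩, ?_⟩
      show φ μ (s (a / χ μ)) = s a
      rw [hconj, mul_div_cancel₀ a (hχ μ)]
  · rintro _ ⟨a, rfl⟩
    obtain ⟨z, hz, e⟩ := hsZ a
    rw [e]
    exact mul_mem (Subgroup.subset_closure (Or.inr ⟨a, rfl⟩)) (Subgroup.subset_closure (Or.inl hz))

/-- The data of three layers: `L₁` is deepest. -/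
structure ThreeLayers (Z : Subgroup Γ) (L₁ L₂ L₃ : K → Γ) (χ₁ χ₂ χ₃ : Kˣ → K) (φ : Kˣ → MulAut Γ) : Prop where
  central : Z ≤ center Γ
  gen : Subgroup.closure ((Z : Set Γ) ∪ (Set.range L₁ ∪ Set.range L₂ ∪ Set.range L₃)) = ⊤
  fix : ∀ μ, ∀ z ∈ Z, φ μ z = z
  comm : ∀ μ ν g, φ μ (φ ν g) = φ ν (φ μ g)
  add₁ : ∀ a b, (L₁ a * L₁ b)⁻¹ * L₁ (a + b) ∈ Z
  add₂ : ∀ a b, (L₂ a * L₂ b)⁻¹ * L₂ (a + b) ∈ Subgroup.closure ((Z : Set Γ) ∪ Set.range L₁)
  add₃ : ∀ a b, (L₃ a * L₃ b)⁻¹ * L₃ (a + b) ∈ Subgroup.closure ((Z : Set Γ) ∪ (Set.range L₁ ∪ Set.range L₂))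
  com₁ : ∀ (g : Γ) (a : K), ⁅g, L₁ a⁆ ∈ Z
  com₂ : ∀ (g : Γ) (a : K), ⁅g, L₂ a⁆ ∈ Subgroup.closure ((Z : Set Γ) ∪ Set.range L₁)
  com₃ : ∀ a b, ⁅L₃ a, L₃ b⁆ ∈ Subgroup.closure ((Z : Set Γ) ∪ (Set.range L₁ ∪ Set.range L₂))
  eq₁ : ∀ μ a, (L₁ (χ₁ μ * a))⁻¹ * φ μ (L₁ a) ∈ Z
  eq₂ : ∀ μ a, (L₂ (χ₂ μ * a))⁻¹ * φ μ (L₂ a) ∈ Subgroup.closure ((Z : Set Γ) ∪ Set.range L₁)
  eq₃ : ∀ μ a, (L₃ (χ₃ μ * a))⁻¹ * φ μ (L₃ a) ∈ Subgroup.closure ((Z : Set Γ) ∪ (Set.range L₁ ∪ Set.range L₂))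
  zero₁ : ∀ a, L₁ a ∈ Z → a = 0
  zero₂ : ∀ a, L₂ a ∈ Subgroup.closure ((Z : Set Γ) ∪ Set.range L₁) → a = 0

theorem closure_commute {T : Set Γ} {L : K → Γ} (h : ∀ t ∈ T, ∀ a, Commute t (L a)) :
    ∀ s ∈ Subgroup.closure T, ∀ a, Commute s (L a) := by
  intro s hs a
  induction hs using Subgroup.closure_induction with
  | mem t ht => exact h t ht a
  | one => exact Commute.one_left _
  | mul x y _ _ hx hy => exact hx.mul_left hy
  | inv x _ hx => exact hx.inv_left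

/-- The quotient step. -/
theorem inf_commutator_of_quotient {Z M : Subgroup Γ} [M.Normal] (hMZ : M ⊓ Z = ⊥)
    (h : Z.map (QuotientGroup.mk' M) ⊓ commutator (Γ ⧸ M) = ⊥) : Z ⊓ commutator Γ = ⊥ := by
  rw [eq_bot_iff]
  rintro x ⟨hx, hx'⟩
  have h1 : QuotientGroup.mk' M x ∈ commutator (Γ ⧸ M) := by
    have := Subgroup.mem_map_of_mem (QuotientGroup.mk' M) hx'
    rw [commutator_def, Subgroup.map_commutator] at this
    exact Subgroup.commutator_mono le_top le_top this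
  have h2 : QuotientGroup.mk' M x ∈ (⊥ : Subgroup (Γ ⧸ M)) :=
    h ▸ Subgroup.mem_inf.2 ⟨Subgroup.mem_map_of_mem _ hx, h1⟩
  exact hMZ ▸ Subgroup.mem_inf.2 ⟨(QuotientGroup.eq_one_iff x).1 (Subgroup.mem_bot.1 h2), hx⟩

theorem map_center_le (M : Subgroup Γ) [M.Normal] {Z : Subgroup Γ} (hZ : Z ≤ center Γ) :
    Z.map (QuotientGroup.mk' M) ≤ center (Γ ⧸ M) := by
  rintro _ ⟨z, hz, rfl⟩
  rw [mem_center_iff]
  intro g
  obtain ⟨g, rfl⟩ := QuotientGroup.mk'_surjective M g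
  rw [← map_mul, ← map_mul, mem_center_iff.1 (hZ hz) g]

/-- **The kernel meets the derived group trivially.** -/
theorem inf_commutator_eq_bot {Z : Subgroup Γ} {L₁ L₂ L₃ : K → Γ} {χ₁ χ₂ χ₃ : Kˣ → K} {φ : Kˣ → MulAut Γ}
    (T : ThreeLayers Z L₁ L₂ L₃ χ₁ χ₂ χ₃ φ)
    (hχ₁ : ∀ μ, χ₁ μ ≠ 0) (hne₁ : ∃ μ, χ₁ μ ≠ 1) (hχ₂ : ∀ μ, χ₂ μ ≠ 0) (hne₂ : ∃ μ, χ₂ μ ≠ 1)
    (h11 : PairOK χ₁ χ₁) (h21 : PairOK χ₂ χ₁ ∨ PairOK χ₁ χ₂) (h31 : PairOK χ₃ χ₁ ∨ PairOK χ₁ χ₃)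
    (h22 : PairOK χ₂ χ₂) (h32 : PairOK χ₃ χ₂ ∨ PairOK χ₂ χ₃) (h33 : PairOK χ₃ χ₃) :
    Z ⊓ commutator Γ = ⊥ := by
  have hcen : ∀ z ∈ Z, ∀ g, Commute z g := fun z hz g => (mem_center_iff.1 (T.central hz) g).symm
  -- the deepest layer is central
  have hZL : ∀ z ∈ Z, ∀ a, Commute z (L₁ a) := fun z hz a => hcen z hz _
  have c11 : ∀ a b, Commute (L₁ a) (L₁ b) := pair_commute (S := Z) T.central φ T.fix hZL T.add₁ T.add₁
    (fun a b => T.com₁ _ b) T.eq₁ T.eq₁ (Or.inl h11)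
  have hS1 : ∀ s ∈ Subgroup.closure ((Z : Set Γ) ∪ Set.range L₁), ∀ a, Commute s (L₁ a) :=
    closure_commute fun t ht => by
      rcases ht with ht | ⟨b, rfl⟩
      exacts [hZL t ht, c11 b]
  have c21 : ∀ a b, Commute (L₂ a) (L₁ b) := pair_commute T.central φ T.fix hS1 T.add₁ T.add₂
    (fun a b => T.com₁ _ b) T.eq₁ T.eq₂ h21
  have hS2 : ∀ s ∈ Subgroup.closure ((Z : Set Γ) ∪ (Set.range L₁ ∪ Set.range L₂)), ∀ a, Commute s (L₁ a) :=
    closure_commute fun t ht => by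
      rcases ht with ht | ⟨b, rfl⟩ | ⟨b, rfl⟩
      exacts [hZL t ht, c11 b, c21 b]
  have c31 : ∀ a b, Commute (L₃ a) (L₁ b) := pair_commute T.central φ T.fix hS2 T.add₁ T.add₃
    (fun a b => T.com₁ _ b) T.eq₁ T.eq₃ h31
  have hcentral₁ : ∀ a g, Commute g (L₁ a) := fun a g => closure_commute (T := (Z : Set Γ) ∪
    (Set.range L₁ ∪ Set.range L₂ ∪ Set.range L₃)) (L := L₁) (fun t ht => by
      rcases ht with ht | (⟨b, rfl⟩ | ⟨b, rfl⟩) | ⟨b, rfl⟩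
      exacts [hZL t ht, c11 b, c21 b, c31 b]) g (T.gen ▸ Subgroup.mem_top g) a
  obtain ⟨M, hMc, hMZ, hL₁M, hMφ, hMsub⟩ := exists_layer T.central φ T.fix T.comm hcentral₁ T.add₁ T.eq₁ hχ₁ hne₁ T.zero₁
  haveI : M.Normal := ⟨fun x hx g => by rw [mem_center_iff.1 (hMc hx) g, mul_inv_cancel_right]; exact hx⟩
  refine inf_commutator_of_quotient hMZ ?_
  set q := QuotientGroup.mk' M
  have hqker : ∀ x, q x = 1 ↔ x ∈ M := fun x => QuotientGroup.eq_one_iff x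
  let φ' : Kˣ → MulAut (Γ ⧸ M) := fun μ => QuotientGroup.congr M M (φ μ) (hMφ μ)
  have hφ' : ∀ μ x, φ' μ (q x) = q (φ μ x) := fun μ x => rfl
  set Z' := Z.map q
  have hZ' : Z' ≤ center (Γ ⧸ M) := map_center_le M T.central
  have hfix' : ∀ μ, ∀ z ∈ Z', φ' μ z = z := by
    rintro μ _ ⟨z, hz, rfl⟩
    rw [hφ', T.fix μ z hz]
  have hcomm' : ∀ μ ν g, φ' μ (φ' ν g) = φ' ν (φ' μ g) := by
    intro μ ν g
    obtain ⟨g, rfl⟩ := QuotientGroup.mk'_surjective M g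
    simp only [q] at hφ'
    rw [hφ', hφ', hφ', hφ', T.comm]
  have hS1' : ∀ x ∈ Subgroup.closure ((Z : Set Γ) ∪ Set.range L₁), q x ∈ Z' := by
    intro x hx
    have hle : Subgroup.closure ((Z : Set Γ) ∪ Set.range L₁) ≤ Z'.comap q := by
      rw [Subgroup.closure_le]
      rintro t (ht | ⟨a, rfl⟩)
      · exact Subgroup.mem_map_of_mem q ht
      · have hle' : Z ⊔ M ≤ Z'.comap q := sup_le (fun z hz => Subgroup.mem_map_of_mem q hz)
          fun x hx => by rw [Subgroup.mem_comap, (hqker x).2 hx]; exact one_mem _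
        exact hle' (hL₁M a)
    exact hle hx
  set S' := Subgroup.closure ((Z' : Set (Γ ⧸ M)) ∪ Set.range (q ∘ L₂)) with hS'def
  have hS2' : ∀ x ∈ Subgroup.closure ((Z : Set Γ) ∪ (Set.range L₁ ∪ Set.range L₂)), q x ∈ S' := by
    intro x hx
    have hle : Subgroup.closure ((Z : Set Γ) ∪ (Set.range L₁ ∪ Set.range L₂)) ≤ S'.comap q := by
      rw [Subgroup.closure_le]
      rintro t (ht | ⟨a, rfl⟩ | ⟨a, rfl⟩)
      · exact Subgroup.subset_closure (Or.inl (Subgroup.mem_map_of_mem q ht))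
      · exact Subgroup.subset_closure (Or.inl (hS1' _ (Subgroup.subset_closure (Or.inr ⟨a, rfl⟩))))
      · exact Subgroup.subset_closure (Or.inr ⟨a, rfl⟩)
    exact hle hx
  have hgen' : Subgroup.closure ((Z' : Set (Γ ⧸ M)) ∪ (Set.range (q ∘ L₂) ∪ Set.range (q ∘ L₃))) = ⊤ := by
    rw [eq_top_iff, ← Subgroup.map_top_of_surjective q (QuotientGroup.mk'_surjective M), ← T.gen,
      MonoidHom.map_closure, Subgroup.closure_le]
    rintro _ ⟨t, ht, rfl⟩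
    rcases ht with ht | (⟨a, rfl⟩ | ⟨a, rfl⟩) | ⟨a, rfl⟩
    · exact Subgroup.subset_closure (Or.inl (Subgroup.mem_map_of_mem q ht))
    · exact Subgroup.subset_closure (Or.inl (hS1' _ (Subgroup.subset_closure (Or.inr ⟨a, rfl⟩))))
    · exact Subgroup.subset_closure (Or.inr (Or.inl ⟨a, rfl⟩))
    · exact Subgroup.subset_closure (Or.inr (Or.inr ⟨a, rfl⟩))
  -- the middle layer
  have hadd₂ : ∀ a b, ((q ∘ L₂) a * (q ∘ L₂) b)⁻¹ * (q ∘ L₂) (a + b) ∈ Z' := fun a b => by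
    simpa only [Function.comp_apply, map_mul, map_inv] using hS1' _ (T.add₂ a b)
  have heq₂ : ∀ μ a, ((q ∘ L₂) (χ₂ μ * a))⁻¹ * φ' μ ((q ∘ L₂) a) ∈ Z' := fun μ a => by
    simpa only [Function.comp_apply, hφ', map_mul, map_inv] using hS1' _ (T.eq₂ μ a)
  have hcom₂ : ∀ g a, ⁅g, (q ∘ L₂) a⁆ ∈ Z' := fun g a => by
    obtain ⟨g, rfl⟩ := QuotientGroup.mk'_surjective M g
    simpa only [Function.comp_apply, map_commutatorElement] using hS1' _ (T.com₂ g a)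
  have hZL' : ∀ z ∈ Z', ∀ a, Commute z ((q ∘ L₂) a) := fun z hz a => (mem_center_iff.1 (hZ' hz) _).symm
  have c22 : ∀ a b, Commute ((q ∘ L₂) a) ((q ∘ L₂) b) := pair_commute (S := Z') hZ' φ' hfix' hZL' hadd₂ hadd₂
    (fun a b => hcom₂ _ b) heq₂ heq₂ (Or.inl h22)
  have hS2c : ∀ s ∈ S', ∀ a, Commute s ((q ∘ L₂) a) := closure_commute fun t ht => by
    rcases ht with ht | ⟨b, rfl⟩
    exacts [hZL' t ht, c22 b]
  have hadd₃ : ∀ a b, ((q ∘ L₃) a * (q ∘ L₃) b)⁻¹ * (q ∘ L₃) (a + b) ∈ S' := fun a b => by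
    simpa only [Function.comp_apply, map_mul, map_inv] using hS2' _ (T.add₃ a b)
  have heq₃ : ∀ μ a, ((q ∘ L₃) (χ₃ μ * a))⁻¹ * φ' μ ((q ∘ L₃) a) ∈ S' := fun μ a => by
    simpa only [Function.comp_apply, hφ', map_mul, map_inv] using hS2' _ (T.eq₃ μ a)
  have c32 : ∀ a b, Commute ((q ∘ L₃) a) ((q ∘ L₂) b) := pair_commute hZ' φ' hfix' hS2c hadd₂ hadd₃
    (fun a b => hcom₂ _ b) heq₂ heq₃ h32
  have hcentral₂ : ∀ a g, Commute g ((q ∘ L₂) a) := fun a g => closure_commute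
    (T := (Z' : Set (Γ ⧸ M)) ∪ (Set.range (q ∘ L₂) ∪ Set.range (q ∘ L₃))) (L := q ∘ L₂) (fun t ht => by
      rcases ht with ht | ⟨b, rfl⟩ | ⟨b, rfl⟩
      exacts [hZL' t ht, c22 b, c32 b]) g (hgen' ▸ Subgroup.mem_top g) a
  have hzero₂ : ∀ a, (q ∘ L₂) a ∈ Z' → a = 0 := by
    rintro a ⟨z, hz, e⟩
    refine T.zero₂ a ?_
    have h1 : z⁻¹ * L₂ a ∈ M := (hqker _).1 (by rw [map_mul, map_inv, e]; exact inv_mul_cancel _)
    rw [show L₂ a = z * (z⁻¹ * L₂ a) by group]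
    exact mul_mem (Subgroup.subset_closure (Or.inl hz)) (hMsub h1)
  obtain ⟨N, hNc, hNZ, hL₂N, hNφ, -⟩ := exists_layer hZ' φ' hfix' hcomm' hcentral₂ hadd₂ heq₂ hχ₂ hne₂ hzero₂
  haveI : N.Normal := ⟨fun x hx g => by rw [mem_center_iff.1 (hNc hx) g, mul_inv_cancel_right]; exact hx⟩
  refine inf_commutator_of_quotient hNZ ?_
  set r := QuotientGroup.mk' N
  set Z'' := Z'.map r
  have hZ'' : Z'' ≤ center ((Γ ⧸ M) ⧸ N) := map_center_le N hZ'
  let φ'' : Kˣ → MulAut ((Γ ⧸ M) ⧸ N) := fun μ => QuotientGroup.congr N N (φ' μ) (hNφ μ)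
  have hφ'' : ∀ μ x, φ'' μ (r x) = r (φ' μ x) := fun μ x => rfl
  have hfix'' : ∀ μ, ∀ z ∈ Z'', φ'' μ z = z := by
    rintro μ _ ⟨z, hz, rfl⟩
    rw [hφ'', hfix' μ z hz]
  have hS2'' : ∀ x ∈ S', r x ∈ Z'' := by
    intro x hx
    have hle : S' ≤ Z''.comap r := by
      rw [hS'def, Subgroup.closure_le]
      rintro t (ht | ⟨a, rfl⟩)
      · exact Subgroup.mem_map_of_mem r ht
      · have hle' : Z' ⊔ N ≤ Z''.comap r := sup_le (fun z hz => Subgroup.mem_map_of_mem r hz)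
          fun x hx => by rw [Subgroup.mem_comap, show r x = 1 from (QuotientGroup.eq_one_iff x).2 hx]; exact one_mem _
        exact hle' (hL₂N a)
    exact hle hx
  let L : K → (Γ ⧸ M) ⧸ N := r ∘ q ∘ L₃
  have c33 : ∀ a b, Commute (L a) (L b) := pair_commute (S := Z'') (L := L) (L' := L) hZ'' φ'' hfix''
    (fun z hz a => (mem_center_iff.1 (hZ'' hz) _).symm)
    (fun a b => by simpa only [L, Function.comp_apply, map_mul, map_inv] using hS2'' _ (hadd₃ a b))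
    (fun a b => by simpa only [L, Function.comp_apply, map_mul, map_inv] using hS2'' _ (hadd₃ a b))
    (fun a b => by simpa only [L, Function.comp_apply, map_commutatorElement] using hS2'' _ (hS2' _ (T.com₃ a b)))
    (fun μ a => by simpa only [L, Function.comp_apply, hφ'', map_mul, map_inv] using hS2'' _ (heq₃ μ a))
    (fun μ a => by simpa only [L, Function.comp_apply, hφ'', map_mul, map_inv] using hS2'' _ (heq₃ μ a))
    (Or.inl h33)
  have hgen'' : Subgroup.closure ((Z'' : Set ((Γ ⧸ M) ⧸ N)) ∪ Set.range L) = ⊤ := by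
    rw [eq_top_iff, ← Subgroup.map_top_of_surjective r (QuotientGroup.mk'_surjective N), ← hgen',
      MonoidHom.map_closure, Subgroup.closure_le]
    rintro _ ⟨t, ht, rfl⟩
    rcases ht with ht | ⟨a, rfl⟩ | ⟨a, rfl⟩
    · exact Subgroup.subset_closure (Or.inl (Subgroup.mem_map_of_mem r ht))
    · exact Subgroup.subset_closure (Or.inl (hS2'' _ (Subgroup.subset_closure (Or.inr ⟨a, rfl⟩))))
    · exact Subgroup.subset_closure (Or.inr ⟨a, rfl⟩)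
  have hab : ∀ g a, Commute g (L a) := fun g a => closure_commute (L := L) (fun t ht => by
    rcases ht with ht | ⟨b, rfl⟩
    exacts [fun a => (mem_center_iff.1 (hZ'' ht) _).symm, c33 b]) g (hgen'' ▸ Subgroup.mem_top g) a
  have : commutator ((Γ ⧸ M) ⧸ N) = ⊥ := by
    rw [commutator_def, Subgroup.commutator_eq_bot_iff_le_centralizer]
    intro x _
    rw [Subgroup.mem_centralizer_iff]
    intro y _
    have hle : Subgroup.closure ((Z'' : Set ((Γ ⧸ M) ⧸ N)) ∪ Set.range L) ≤ Subgroup.centralizer {x} := by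
      rw [Subgroup.closure_le]
      intro t ht
      rw [SetLike.mem_coe, Subgroup.mem_centralizer_singleton_iff]
      rcases ht with ht | ⟨b, rfl⟩
      exacts [(mem_center_iff.1 (hZ'' ht) x).symm, (hab x b).symm.eq]
    exact Subgroup.mem_centralizer_singleton_iff.1 (hle (hgen'' ▸ Subgroup.mem_top y))
  rw [this, inf_bot_eq]

end Cfsg.Agent.Lib.Schur.LayerKill
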