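import Cfsg.Agent.Lib.Schur.UnitCoord

/-!
Over the field of four elements the special unitary group is generated by the coordinate subgroups on three
coordinates.
-/

set_option autoImplicit false
set_option linter.unusedSectionVars false

namespace Cfsg.Agent.Lib.Schur.UnitMult

open Matrix Cfsg.Agent.Lib.Forms Cfsg.Agent.Lib.FormMax Cfsg.Agent.Lib.UnitaryMax

variable {F : Type*} [Field F] [Fintype F]

/-- The facts about the field of four elements. -/
theorem four_facts (hF : Fintype.card F = 2 ^ 2) :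
    (2 : F) = 0 ∧ (∀ x : F, x ≠ 0 → x ^ 3 = 1) ∧ ∃ ω : F, ω ^ 3 = 1 ∧ ω ^ 2 + ω + 1 = 0 ∧ ω ≠ 1 ∧ ω ≠ 0 := by
  have h2 : (2 : F) = 0 := by
    have h4 : ((4 : ℕ) : F) = 0 := by rw [show (4 : ℕ) = Fintype.card F by rw [hF]; norm_num]; exact FiniteField.cast_card_eq_zero F
    have : (2 : F) ^ 2 = 0 := by rw [← h4]; norm_num
    simpa using this
  have h3 : ∀ x : F, x ≠ 0 → x ^ 3 = 1 := fun x hx => by
    have := FiniteField.pow_card_sub_one_eq_one x hx
    rwa [hF] at this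
  obtain ⟨a, ha⟩ := exists_moved hF
  have ha0 : a ≠ 0 := fun e => ha (by rw [e]; norm_num)
  have ha1 : a ≠ 1 := fun e => ha (by rw [e, one_pow])
  refine ⟨h2, h3, a, h3 a ha0, ?_, ha1, ha0⟩
  exact (mul_eq_zero.mp (show (a - 1) * (a ^ 2 + a + 1) = 0 by linear_combination h3 a ha0)).resolve_left
    (sub_ne_zero.mpr ha1)

/-- An element moving a vector of full support onto a coordinate line. -/
theorem exists_reduce (hF : Fintype.card F = 2 ^ 2) (v : Fin 3 → F) (hv : ∀ a, v a ≠ 0) :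
    ∃ g ∈ suGL 3 F 2, ((g : Matrix (Fin 3) (Fin 3) F) *ᵥ v) 1 = 0 ∧ ((g : Matrix (Fin 3) (Fin 3) F) *ᵥ v) 2 = 0 := by
  obtain ⟨h2, h3, ω, hω3, hω, -, -⟩ := four_facts hF
  set x := v 0
  set y := v 1
  set z := v 2
  have hx := h3 x (hv 0)
  have hy := h3 y (hv 1)
  have hz := h3 z (hv 2)
  set M : Matrix (Fin 3) (Fin 3) F :=
    !![y * z, x * z, x * y; x ^ 2, ω * y ^ 2, ω ^ 2 * z ^ 2; x ^ 2, ω ^ 2 * y ^ 2, ω * z ^ 2] with hM
  have hd : M.det = 1 := by
    rw [Matrix.det_fin_three, hM]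
    simp
    linear_combination (ω ^ 2 - ω ^ 4) * ((z ^ 3) * hy + hz) + (ω ^ 2 - ω) * ((z ^ 3) * hx + hz + (y ^ 3) * hx + hy) +
      (-ω) * hω3 + hω + (ω ^ 2 - 2 * ω - 1) * h2
  have key : ∀ A B C A' B' C' : F, (A + B + C) * (A' + B' + C') +
      (A + ω * B + ω ^ 2 * C) * (A' + ω ^ 2 * B' + ω * C') +
      (A + ω ^ 2 * B + ω * C) * (A' + ω * B' + ω ^ 2 * C') = A * A' + B * B' + C * C' := fun A B C A' B' C' => by
    linear_combination (A * A' + B * B' + C * C') * h2 +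
      (2 * B * B' + 2 * C * C' + ω * B * C' + ω * C * B') * hω3 +
      (A * B' + A * C' + B * A' + B * C' + C * A' + C * B') * hω
  have hMv : ∀ u : Fin 3 → F, (M *ᵥ u) 0 = x * y * z * (x ^ 2 * u 0 + y ^ 2 * u 1 + z ^ 2 * u 2) ∧
      (M *ᵥ u) 1 = x ^ 2 * u 0 + ω * (y ^ 2 * u 1) + ω ^ 2 * (z ^ 2 * u 2) ∧
      (M *ᵥ u) 2 = x ^ 2 * u 0 + ω ^ 2 * (y ^ 2 * u 1) + ω * (z ^ 2 * u 2) := by
    intro u
    refine ⟨?_, ?_, ?_⟩ <;>
      simp [hM, Matrix.mulVec, dotProduct, Fin.sum_univ_three]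
    · linear_combination -(y * z * u 0) * hx - (x * z * u 1) * hy - (x * y * u 2) * hz
    all_goals ring
  refine ⟨glMk M hd, glMk_mem M hd fun u w => ?_, ?_, ?_⟩
  · show ∑ a, (M *ᵥ u) a * (M *ᵥ w) a ^ 2 = ∑ a, u a * w a ^ 2
    obtain ⟨u0, u1, u2⟩ := hMv u
    obtain ⟨w0, w1, w2⟩ := hMv w
    rw [Fin.sum_univ_three, Fin.sum_univ_three, u0, u1, u2, w0, w1, w2]
    have hω4 : (ω ^ 2) ^ 2 = ω := by rw [← pow_mul, pow_succ ω 3, hω3, one_mul]
    simp only [q_add hF, mul_pow, hω4]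
    have h6 : ∀ {t : F}, t ^ 3 = 1 → t ^ 2 * (t ^ 2) ^ 2 = 1 := fun {t} ht => by
      rw [show t ^ 2 * (t ^ 2) ^ 2 = (t ^ 3) ^ 2 by ring, ht, one_pow]
    linear_combination key (x ^ 2 * u 0) (y ^ 2 * u 1) (z ^ 2 * u 2) ((x ^ 2) ^ 2 * w 0 ^ 2)
      ((y ^ 2) ^ 2 * w 1 ^ 2) ((z ^ 2) ^ 2 * w 2 ^ 2) +
      ((x ^ 2 * u 0 + y ^ 2 * u 1 + z ^ 2 * u 2) *
        ((x ^ 2) ^ 2 * w 0 ^ 2 + (y ^ 2) ^ 2 * w 1 ^ 2 + (z ^ 2) ^ 2 * w 2 ^ 2)) *
          ((y ^ 3 * z ^ 3) * hx + z ^ 3 * hy + hz) +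
      (u 0 * w 0 ^ 2) * h6 hx + (u 1 * w 1 ^ 2) * h6 hy + (u 2 * w 2 ^ 2) * h6 hz
  · rw [glMk_val, (hMv v).2.1]
    linear_combination hω + hx + ω * hy + ω ^ 2 * hz
  · rw [glMk_val, (hMv v).2.2]
    linear_combination hω + hx + ω ^ 2 * hy + ω * hz

variable {n : ℕ}

local notation "Vs" => (Fin n → F)

/-- Coordinate subgroups go to coordinate subgroups. -/
theorem embGL_SUS {q m : ℕ} (hF : Fintype.card F = q ^ 2) (f : Fin m ↪ Fin n) {T : Finset (Fin m)}
    {g : GL (Fin m) F} (hg : g ∈ SUS F q T) : embGL F f g ∈ SUS F q (T.map f) := by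
  have h1 : embGL F f g ∈ SUS F q (Finset.univ.map f) := (map_suGL hF f).le ⟨g, hg.1, rfl⟩
  refine ⟨h1.1, fun k hk => ?_⟩
  by_cases hk' : k ∈ Finset.univ.map f
  · obtain ⟨c, -, rfl⟩ := Finset.mem_map.mp hk'
    have hc : c ∉ T := fun hc => hk (Finset.mem_map_of_mem f hc)
    rw [embGL_val, embMat_mulVec, show (Pi.single (f c) (1 : F) : Vs) ∘ f = Pi.single c 1 from funext fun a => by
      show (Pi.single (f c) (1 : F) : Vs) (f a) = _
      simp [Pi.single_apply], hg.2 c hc, sub_self, mulVec_zero, add_zero]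
  · exact h1.2 k hk'

/-- Generation by three coordinates, all coordinates. -/
theorem suGL_le_of_triples (hF : Fintype.card F = 2 ^ 2) (hn : 3 ≤ n) {N : Subgroup (GL (Fin n) F)}
    (hN : ∀ T : Finset (Fin n), T.card = 3 → SUS F 2 T ≤ N) : suGL n F 2 ≤ N := by
  classical
  rcases hn.eq_or_lt with hn3 | hn4
  · subst hn3
    rw [← SUS_univ]
    exact hN _ (by simp)
  set H := N ⊓ suGL n F 2
  have hH : H ≤ suGL n F 2 := inf_le_right
  have hT : ∀ T : Finset (Fin n), T.card = 3 → SUS F 2 T ≤ H := fun T hT g hg => ⟨hN T hT hg, hg.1⟩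
  suffices H = suGL n F 2 by rw [← this]; exact inf_le_left
  refine eq_suGL hF (by omega) (by omega) hH ?_
  suffices ∀ (s : ℕ) (v : Vs), (Finset.univ.filter fun k => v k ≠ 0).card = s →
      Cfsg.hermForm n F 2 v v = 0 → v ∈ root 2 H from fun v hv => this _ v rfl hv
  intro s
  induction s using Nat.strong_induction_on with
  | _ s ih =>
  intro v hs hv
  set S := Finset.univ.filter fun k => v k ≠ 0 with hS
  rcases le_or_gt S.card 2 with h2 | h3
  · obtain ⟨T, hST, hTc⟩ := Finset.exists_superset_card_eq (s := S) (n := 3) (by omega)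
      (by rw [Fintype.card_fin]; omega)
    refine ⟨hv, fun c hc => hT T hTc ⟨T_mem hF v hv hc, fun k hk => ?_⟩⟩
    have hk0 : v k = 0 := by
      by_contra h0
      exact hk (hST (Finset.mem_filter.mpr ⟨Finset.mem_univ k, h0⟩))
    rw [T_mulVec, herm_single_left hF, hk0, q_zero hF, mul_zero, zero_smul, add_zero]
  · obtain ⟨T, hTS, hTc⟩ := Finset.exists_subset_card_eq (s := S) (n := 3) (by omega)
    set f := (T.orderEmbOfFin hTc).toEmbedding with hf
    have hfT : Finset.univ.map f = T := Finset.map_orderEmbOfFin_univ _ _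
    have hfne : ∀ a, v (f a) ≠ 0 := fun a =>
      (Finset.mem_filter.mp (hTS (hfT ▸ Finset.mem_map_of_mem f (Finset.mem_univ a)))).2
    obtain ⟨g3, hg3, e1, e2⟩ := exists_reduce hF (v ∘ f) hfne
    set g := embGL F f g3
    have hg : g ∈ SUS F 2 T := hfT ▸ (map_suGL hF f).le ⟨g3, hg3, rfl⟩
    set w := (g : Matrix (Fin n) (Fin n) F) *ᵥ v with hw
    have hwf : ∀ a, w (f a) = ((g3 : Matrix (Fin 3) (Fin 3) F) *ᵥ (v ∘ f)) a := fun a => by
      rw [hw, embGL_val, embMat_mulVec, Pi.add_apply, sel_mulVec_apply, Pi.sub_apply, Function.comp_apply,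
        add_sub_cancel]
    have hlt : (Finset.univ.filter fun k => w k ≠ 0).card < s := by
      rw [← hs]
      refine Finset.card_lt_card ⟨fun k hk => ?_, fun hsub => ?_⟩
      · by_cases hkT : k ∈ T
        · exact hTS hkT
        · rw [Finset.mem_filter] at hk ⊢
          refine ⟨Finset.mem_univ k, ?_⟩
          rw [← apply_off hF hg v hkT]
          exact hk.2
      · have h1 := hsub (Finset.mem_filter.mpr ⟨Finset.mem_univ (f 1), hfne 1⟩)
        rw [Finset.mem_filter, hwf, e1] at h1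
        exact h1.2 rfl
    have h1 := root_map hH (H.inv_mem (hT T hTc hg))
      (ih _ hlt w rfl (by rw [hw, apply_K hg.1, hv]))
    rwa [hw, inv_mulVec_mulVec] at h1

/-- Generation by three coordinates. -/
theorem SUS_le_of_triples (hF : Fintype.card F = 2 ^ 2) {S : Finset (Fin n)} (hS : 3 ≤ S.card)
    {N : Subgroup (GL (Fin n) F)} (hN : ∀ T ⊆ S, T.card = 3 → SUS F 2 T ≤ N) : SUS F 2 S ≤ N := by
  set f := (S.orderEmbOfFin rfl).toEmbedding
  have hfS : Finset.univ.map f = S := Finset.map_orderEmbOfFin_univ _ _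
  rw [← hfS, ← map_suGL hF f, Subgroup.map_le_iff_le_comap]
  refine suGL_le_of_triples hF hS fun T hT g hg => hN (T.map f) ?_ ?_ (embGL_SUS hF f hg)
  · exact (Finset.map_subset_map.mpr (Finset.subset_univ T)).trans hfS.subset
  · rw [Finset.card_map, hT]

end Cfsg.Agent.Lib.Schur.UnitMult
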