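import Cfsg.Agent.Lib.Schur.ChevMult

/-!
Lifts of the root elements over small fields: the roots are separated modulo the order of a field element,
and the remaining commutations come from decompositions of roots.
-/

set_option autoImplicit false

namespace Cfsg.Agent.Lib.Schur.ChevLift

open Cfsg.Lie Cfsg.Agent.Lib.Chev
open scoped commutatorElement

section checks

variable (D : ChevalleyDatum) (C : Cert)

/-- The root subgroups of distinct roots commute. -/
def cmB (r s : ℕ) : Bool := !Nat.beq s r && !Nat.beq s (ng D r) && (cE C r s).isEmpty && (cE C s r).isEmpty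

/-- `s = a + b` with one term, the coefficient of absolute value at most `k`, both commuting with `r`. -/
def splitB (k r s : ℕ) : Bool :=
  (decs D s).any fun p => Nat.blt p.1 D.nroots && Nat.blt p.2 D.nroots && cmB D C r p.1 && cmB D C r p.2 &&
    !Nat.beq p.2 p.1 && !Nat.beq p.2 (ng D p.1) && Nat.ble (cE C p.2 p.1).length 1 &&
    match cE C p.1 p.2 with
    | [e] => Nat.beq e.1 s && Nat.blt 0 e.2.natAbs && Nat.ble e.2.natAbs k
    | _ => false

/-- Some combination of two rows vanishes at `r` but not at `s`, modulo `n`. -/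
def sepModB (n r s : ℕ) : Bool :=
  (List.range D.rank).any fun i => (List.range D.rank).any fun j =>
    [(-1 : ℤ), 0, 1].any fun a => [(-1 : ℤ), 0, 1].any fun b =>
      decide ((a * D.cartan i r + b * D.cartan j r) % n = 0) &&
        !decide ((a * D.cartan i s + b * D.cartan j s) % n = 0)

/-- The test for one root. -/
def rootModB (n r : ℕ) : Bool :=
  ((List.range D.rank).any fun i => !decide (D.cartan i r % n = 0)) && splitB D C 1 r r

/-- The test for a pair of roots. -/
def pairModB (n k r s : ℕ) : Bool :=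
  Nat.beq s r || Nat.beq s (ng D r) ||
    (decide (0 < phiP D C r s r) && decide (0 < phiP D C r s s) &&
      (sepModB D n r s || (cmB D C r s && splitB D C k r s)))

/-- Everything needed over a field with an element of order `n`. -/
structure TorusModOK (n k : ℕ) : Prop where
  rooted : Rooted D C
  eta_simple : ∀ i < D.rank, eta C i (D.simple i) = -1
  root_ok : (allN D.nroots fun r => rootModB D C n r) = true
  pair_ok : (allN D.nroots fun r => allN D.nroots fun s => pairModB D C n k r s) = true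

end checks

variable {D : ChevalleyDatum} {C : Cert} {F : Type*} [Field F] {Γ : Type*} [Group Γ]

namespace TorusModOK

variable {π : Γ →* GL D.Idx F} (hc : Checked D C) (hker : π.ker ≤ Subgroup.center Γ)
  (hsurj : ∀ r < D.nroots, ∀ t : F, ∃ g : Γ, (π g : Matrix D.Idx D.Idx F) = D.x F r t)

include hc in
theorem commute_x_of_cmB {r s : ℕ} (hr : r < D.nroots) (hs : s < D.nroots) (e : cmB D C r s = true) (t u : F) :
    Commute (xGL hc F hr t) (xGL hc F hs u) := by
  simp only [cmB, Bool.and_eq_true, Bool.not_eq_true', List.isEmpty_iff, natBeq_eq, decide_eq_false_iff_not] at e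
  obtain ⟨⟨⟨h1, h2⟩, h3⟩, h4⟩ := e
  refine Units.ext ?_
  simp only [Units.val_mul, coe_xGL]
  rw [hc.commutator_formula hr hs h1 h2 t u, hc.commWord_eq hr hs, Checked.cTerms_nil h3 h4]
  simp [ChevalleyDatum.wordMat]

include hc hker hsurj in
theorem lf_comm_of_split {k r s : ℕ} (hr : r < D.nroots) (hs : s < D.nroots)
    (hk : ∀ m : ℤ, 0 < m.natAbs → m.natAbs ≤ k → (m : F) ≠ 0) (hsp : splitB D C k r s = true) (t u : F) :
    ⁅Laced.lf π r t, Laced.lf π s u⁆ = 1 := by
  simp only [splitB, List.any_eq_true, Bool.and_eq_true, Nat.blt_eq, Nat.ble_eq, Bool.not_eq_true',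
    natBeq_eq, decide_eq_false_iff_not] at hsp
  obtain ⟨⟨a, b⟩, -, ⟨⟨⟨⟨⟨⟨ha, hb⟩, hra⟩, hrb⟩, hba⟩, hbna⟩, hlen⟩, hm⟩ := hsp
  obtain ⟨ε, hε, hmk⟩ : ∃ ε : ℤ, cE C a b = [(s, ε)] ∧ (ε : F) ≠ 0 := by
    dsimp only at hm
    rcases hL : cE C a b with _ | ⟨⟨e1, e2⟩, _ | _⟩ <;> rw [hL] at hm <;> simp [natBeq_eq] at hm
    obtain ⟨⟨he, h0⟩, h1⟩ := hm
    exact ⟨e2, by rw [he], hk e2 (by omega) h1⟩
  have hinv : ∀ {x : ℕ} (hx : x < D.nroots) (v : F), xGL hc F hx (-v) = (xGL hc F hx v)⁻¹ :=
    fun hx v => Units.ext rfl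
  have hcx : ∀ v w : F, ⁅xGL hc F ha v, xGL hc F hb w⁆ = xGL hc F hs ((ε : F) * v * w) := by
    intro v w
    have hw : D.commWord F a b (-v) (-w) = [(s, -((ε : F) * v * w))] := by
      rw [hc.commWord_eq ha hb, Checked.cTerms_short (by rw [hε]; rfl) hlen, hε]
      simp [mul_assoc]
    have hf : xGL hc F hb (-w) * xGL hc F ha (-v) =
        xGL hc F ha (-v) * xGL hc F hb (-w) * xGL hc F hs (-((ε : F) * v * w)) := by
      refine Units.ext ?_
      simp only [Units.val_mul, coe_xGL]
      rw [hc.commutator_formula ha hb hba hbna, hw]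
      simp [ChevalleyDatum.wordMat]
    rw [hinv, hinv, hinv] at hf
    rw [commutatorElement_def, ← inv_inj, ← mul_right_inj ((xGL hc F ha v)⁻¹ * (xGL hc F hb w)⁻¹), ← hf]
    group
  have e : π (Laced.lf π s u) = π ⁅Laced.lf π a (u / (ε : F)), Laced.lf π b 1⁆ := by
    rw [map_commutatorElement, TorusOK.map_lf' hc hsurj ha, TorusOK.map_lf' hc hsurj hb, hcx,
      TorusOK.map_lf' hc hsurj hs]
    congr 1
    field_simp
  rw [ChevBr.comm_eq hker rfl e]
  refine ChevBr.comm_comm_eq_one hker ?_ ?_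
  · rw [TorusOK.map_lf' hc hsurj hr, TorusOK.map_lf' hc hsurj ha]; exact commute_x_of_cmB hc hr ha hra _ _
  · rw [TorusOK.map_lf' hc hsurj hr, TorusOK.map_lf' hc hsurj hb]; exact commute_x_of_cmB hc hr hb hrb _ _

variable {n k : ℕ} (h : TorusModOK D C n k)

include hker hsurj h in
/-- **The lift.** -/
theorem rootLift (c : Fˣ) (hcn : orderOf c = n)
    (hk : ∀ m : ℤ, 0 < m.natAbs → m.natAbs ≤ k → (m : F) ≠ 0) : RootLift D C π (TorusOK.torX π) := by
  have hc := h.rooted.toChecked
  have hroot := h.root_ok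
  simp only [allN_iff, rootModB, Bool.and_eq_true, List.any_eq_true, List.mem_range, Bool.not_eq_true',
    decide_eq_false_iff_not] at hroot
  have hne1 : ∀ m : ℤ, ¬ m % (n : ℤ) = 0 → c ^ m ≠ 1 := fun m hm e => hm (by
    rw [← orderOf_dvd_iff_zpow_eq_one, hcn] at e
    exact Int.emod_eq_zero_of_dvd e)
  refine LiftHyp.rootLift ⟨h.rooted, h.eta_simple, fun r hr t u => ?_, fun r hr => ?_,
    fun r s hr hs h1 h2 => ?_⟩ hker hsurj
  · refine lf_comm_of_split hc hker hsurj hr hr (k := 1) (fun m m0 m1 => ?_) (hroot r hr).2 t u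
    rcases Int.natAbs_eq_iff.1 (show m.natAbs = 1 by omega) with rfl | rfl <;> simp
  · obtain ⟨i, hi, hA⟩ := (hroot r hr).1
    refine ⟨(_, _), TorusOK.tor_simple hc hsurj hi c, ?_⟩
    rw [ne_eq, Units.val_eq_one]
    exact hne1 _ hA
  · have e := h.pair_ok
    simp only [allN_iff, pairModB, Bool.or_eq_true, Nat.beq_eq, Bool.and_eq_true, decide_eq_true_eq] at e
    rcases e r hr s hs with (e1 | e2) | ⟨⟨a, b⟩, hsb⟩
    · exact absurd e1 h1
    · exact absurd e2 h2
    refine ⟨a, b, ?_⟩
    rcases hsb with hsep | ⟨hcm, hsp⟩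
    · left
      simp only [sepModB, List.any_eq_true, List.mem_range, Bool.and_eq_true, decide_eq_true_eq,
        Bool.not_eq_true', decide_eq_false_iff_not] at hsep
      obtain ⟨i, hi, j, hj, x, -, y, -, e0, e1⟩ := hsep
      obtain ⟨g, χ, hg, hχ⟩ := TorusOK.exists_tor hc hsurj hi hj c x y
      refine ⟨g, χ, hg, ?_, ?_⟩
      · rw [hχ, ← orderOf_dvd_iff_zpow_eq_one, hcn]
        exact Int.dvd_of_emod_eq_zero e0
      · rw [ne_eq, Units.val_eq_one, hχ]
        exact hne1 _ e1
    · refine Or.inr ⟨fun t u => ?_, fun t u => lf_comm_of_split hc hker hsurj hr hs hk hsp t u⟩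
      simp only [cmB, Bool.and_eq_true, List.isEmpty_iff] at hcm
      rw [hc.commWord_eq hr hs, Checked.cTerms_nil hcm.1.2 hcm.2]
      rfl

end TorusModOK

theorem etaSimple_F4' : etaSimpleOK chevF4 F4.cert = true := by decide +kernel
theorem root2_F4 : (allN chevF4.nroots fun r => rootModB chevF4 F4.cert 2 r) = true := by decide +kernel
theorem root3_F4 : (allN chevF4.nroots fun r => rootModB chevF4 F4.cert 3 r) = true := by decide +kernel
theorem pair2_F4 : (allN chevF4.nroots fun r => allN chevF4.nroots fun s => pairModB chevF4 F4.cert 2 2 r s) = true := by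
  decide +kernel
theorem pair3_F4 : (allN chevF4.nroots fun r => allN chevF4.nroots fun s => pairModB chevF4 F4.cert 3 1 r s) = true := by
  decide +kernel

theorem torusMod2_F4 : TorusModOK chevF4 F4.cert 2 2 :=
  ⟨⟨checked_F4, descent_F4⟩, etaSimple_of_ok etaSimple_F4', root2_F4, pair2_F4⟩

theorem torusMod3_F4 : TorusModOK chevF4 F4.cert 3 1 :=
  ⟨⟨checked_F4, descent_F4⟩, etaSimple_of_ok etaSimple_F4', root3_F4, pair3_F4⟩

end Cfsg.Agent.Lib.Schur.ChevLift
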