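import Cfsg.Agent.Lib.Schur.ChevTorusCert
import Cfsg.Agent.Lib.Schur.ChevTorusSmall

/-!
Lifts of the root elements when some roots pair evenly with every coroot (type `B₂`), and the certificates
for `B₂` and `D₄`.
-/

set_option autoImplicit false

namespace Cfsg.Agent.Lib.Schur.ChevLift

open Cfsg.Lie Cfsg.Agent.Lib.Chev
open scoped commutatorElement

section checks

variable (D : ChevalleyDatum) (C : Cert)

/-- Either full, or squares act and the root is split with coefficient at most two. -/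
def rootSqB (r : ℕ) : Bool :=
  fullB D r || (((List.range D.rank).any fun j => decide (D.cartan j r = 2) || decide (D.cartan j r = -2)) &&
    splitB D C 2 r r)

/-- Everything needed when some roots are only acted on by squares. -/
structure TorusSqOK : Prop where
  rooted : Rooted D C
  eta_simple : ∀ i < D.rank, eta C i (D.simple i) = -1
  root_ok : (allN D.nroots fun r => rootSqB D C r) = true
  pair_ok : (allN D.nroots fun r => allN D.nroots fun s => pairB D C r s) = true

end checks

variable {D : ChevalleyDatum} {C : Cert} {F : Type*} [Field F] {Γ : Type*} [Group Γ]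

theorem TorusSqOK.rootLift (h : TorusSqOK D C) {π : Γ →* GL D.Idx F} (hker : π.ker ≤ Subgroup.center Γ)
    (hsurj : ∀ r < D.nroots, ∀ t : F, ∃ g : Γ, (π g : Matrix D.Idx D.Idx F) = D.x F r t)
    (hF : ∃ c : Fˣ, c ^ 2 ≠ 1 ∧ c ^ 3 ≠ 1) : RootLift D C π (TorusOK.torX π) := by
  have hc := h.rooted.toChecked
  obtain ⟨c, hc2, hc3⟩ := hF
  have hroot := h.root_ok
  simp only [allN_iff, rootSqB, fullB, Bool.or_eq_true, Bool.and_eq_true, List.any_eq_true, List.mem_range,
    decide_eq_true_eq] at hroot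
  have hsq : ∀ r < D.nroots, ∀ j < D.rank, (D.cartan j r = 2 ∨ D.cartan j r = -2) → ∀ d : Fˣ,
      ∃ g χ, Tor D π g χ ∧ χ r = d * d := by
    intro r _ j hj hA d
    rcases hA with e | e
    · exact ⟨_, _, TorusOK.tor_simple hc hsurj hj d, by rw [e, zpow_two]⟩
    · exact ⟨_, _, TorusOK.tor_simple hc hsurj hj d⁻¹, by rw [e, inv_zpow, zpow_neg, inv_inv, zpow_two]⟩
  refine LiftHyp.rootLift ⟨h.rooted, h.eta_simple, fun r hr t u => ?_, fun r hr => ?_,
    fun r s hr hs h1 h2 => ?_⟩ hker hsurj
  · rcases hroot r hr with ⟨i, hi, j, hj, a, -, b, -, e⟩ | ⟨⟨j, hj, hA⟩, hsp⟩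
    · refine TorusOK.self_comm_of_tor hc hker hsurj hr c hc2 hc3 (fun x _ => ?_) t u
      obtain ⟨g, χ, hg, hχ⟩ := TorusOK.exists_tor hc hsurj hi hj x a b
      exact ⟨g, χ, hg, by rw [hχ, e, zpow_one]⟩
    by_cases h2 : (2 : F) = 0
    · have hdd : ∀ x : F, (1 + x) * (1 + x) = 1 + x * x := fun x => by linear_combination x * h2
      have hinj : ∀ x : Fˣ, x ^ 2 = 1 → x = 1 := fun x e => by
        have e' := congrArg Units.val e
        rw [Units.val_pow_eq_pow_val, Units.val_one] at e'
        have : ((x : F) - 1) ^ 2 = 0 := by linear_combination e' + (1 - (x : F)) * h2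
        exact Units.ext (sub_eq_zero.1 (pow_eq_zero_iff (n := 2) (by norm_num) |>.1 this))
      refine TorusOK.self_comm_of_tor hc hker hsurj hr (c * c) (fun e => hc2 ?_) (fun e => hc3 ?_)
        (fun x hx => ?_) t u
      · rw [← sq] at e; exact hinj _ e
      · rw [← sq, ← pow_mul, mul_comm, pow_mul] at e; exact hinj _ e
      rcases hx with rfl | rfl | hx
      · exact hsq r hr j hj hA c
      · obtain ⟨g, χ, hg, hχ⟩ := hsq r hr j hj hA c⁻¹
        exact ⟨g, χ, hg, by rw [hχ, mul_inv]⟩
      · have h10 : (1 : F) + c ≠ 0 := fun e => hc2 (by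
          rw [show c = 1 from Units.ext (by rw [Units.val_one]; linear_combination e - h2), one_pow])
        obtain ⟨g, χ, hg, hχ⟩ := hsq r hr j hj hA (Units.mk0 _ h10)
        exact ⟨g, χ, hg, by rw [hχ]; exact Units.ext (by rw [hx, Units.val_mul, Units.val_mk0, Units.val_mul, hdd])⟩
    · refine TorusModOK.lf_comm_of_split hc hker hsurj hr hr (k := 2) (fun m m0 m1 => ?_) hsp t u
      rcases (show m = 1 ∨ m = -1 ∨ m = 2 ∨ m = -2 by omega) with rfl | rfl | rfl | rfl <;> simp [h2]
  · rcases hroot r hr with ⟨i, hi, j, hj, a, -, b, -, e⟩ | ⟨⟨j, hj, hA⟩, -⟩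
    · obtain ⟨g, χ, hg, hχ⟩ := TorusOK.exists_tor hc hsurj hi hj c a b
      refine ⟨(g, χ), hg, fun e' => hc2 ?_⟩
      simp only [Units.val_eq_one, hχ, e, zpow_one] at e'
      rw [e', one_pow]
    · obtain ⟨g, χ, hg, hχ⟩ := hsq r hr j hj hA c
      refine ⟨(g, χ), hg, fun e' => hc2 ?_⟩
      simp only [Units.val_eq_one, hχ] at e'
      rw [sq, e']
  · have e := h.pair_ok
    simp only [allN_iff, pairB, Bool.or_eq_true, Nat.beq_eq, Bool.and_eq_true, decide_eq_true_eq] at e
    rcases e r hr s hs with (e1 | e2) | ⟨⟨a, b⟩, hsb⟩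
    · exact absurd e1 h1
    · exact absurd e2 h2
    refine ⟨a, b, Or.inl ?_⟩
    simp only [sepB, List.any_eq_true, List.mem_range, Bool.and_eq_true, decide_eq_true_eq, Nat.blt_eq,
      Nat.ble_eq] at hsb
    obtain ⟨i, hi, j, hj, e0, hm0, hm3⟩ := hsb
    revert e0 hm0 hm3
    generalize (bif Nat.beq i j then (1 : ℤ) else _) = a
    generalize (bif Nat.beq i j then (0 : ℤ) else _) = b
    intro e0 hm0 hm3
    obtain ⟨g, χ, hg, hχ⟩ := TorusOK.exists_tor hc hsurj hi hj c a b
    refine ⟨g, χ, hg, by rw [hχ, e0, zpow_zero], ?_⟩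
    set m := a * D.cartan i s + b * D.cartan j s
    rw [ne_eq, Units.val_eq_one, hχ s]
    intro e
    rw [← orderOf_dvd_iff_zpow_eq_one, Int.natCast_dvd, orderOf_dvd_iff_pow_eq_one] at e
    rcases (show m.natAbs = 1 ∨ m.natAbs = 2 ∨ m.natAbs = 3 by omega) with k | k | k <;> rw [k] at e
    · exact hc2 (by rw [pow_one] at e; rw [e, one_pow])
    · exact hc2 e
    · exact hc3 e

theorem etaSimple_B2' : etaSimpleOK chevB2 B2.cert = true := by decide +kernel
theorem rootSq_B2 : (allN chevB2.nroots fun r => rootSqB chevB2 B2.cert r) = true := by decide +kernel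
theorem pairs_B2 : (allN chevB2.nroots fun r => allN chevB2.nroots fun s => pairB chevB2 B2.cert r s) = true := by
  decide +kernel

theorem torusSqOK_B2 : TorusSqOK chevB2 B2.cert :=
  ⟨⟨checked_B2, descent_B2⟩, etaSimple_of_ok etaSimple_B2', rootSq_B2, pairs_B2⟩

theorem etaSimple_D4' : etaSimpleOK chevD4 D4.cert = true := by decide +kernel
theorem full_D4 : (allN chevD4.nroots fun r => fullB chevD4 r) = true := by decide +kernel
theorem pairs_D4 : (allN chevD4.nroots fun r => allN chevD4.nroots fun s => pairB chevD4 D4.cert r s) = true := by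
  decide +kernel

theorem torusOK_D4 : TorusOK chevD4 D4.cert :=
  ⟨⟨checked_D4, descent_D4⟩, etaSimple_of_ok etaSimple_D4', full_D4, pairs_D4⟩

end Cfsg.Agent.Lib.Schur.ChevLift
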