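import Cfsg.Agent.Lib.Schur.ChevCommute
import Cfsg.Agent.Lib.Schur.ChevUniv
import Cfsg.Agent.Lib.Schur.ChevTorusB2

/-!
Central extensions of `B₂` over the field with three elements: lifts of the short root elements by means of a
diagonal element, of the long ones as commutators of short ones.
-/

set_option autoImplicit false

namespace Cfsg.Agent.Lib.Schur.ChevLift.B2Three

open Cfsg.Lie Cfsg.Agent.Lib.Chev
open scoped commutatorElement

/-- The short roots. -/
def short (r : ℕ) : Bool := Nat.beq r 1 || Nat.beq r 2 || Nat.beq r 5 || Nat.beq r 6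

/-- A long root as the sum of two short ones, with the coefficient. -/
def dec (r : ℕ) : ℕ × ℕ × ℤ :=
  bif Nat.beq r 0 then (1, 2, 2) else bif Nat.beq r 3 then (1, 5, -2) else bif Nat.beq r 4 then (2, 6, -2) else (5, 6, 2)

local notation "D" => chevB2
local notation "C" => B2.cert

theorem basics : (decide (chevB2.nroots = 8 ∧ chevB2.rank = 2) && allN 8 fun r =>
    (bif short r then !decide (chevB2.cartan 1 r % 2 = 0)
    else short (dec r).1 && short (dec r).2.1 && !Nat.beq (dec r).2.1 (dec r).1 &&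
      !Nat.beq (dec r).2.1 (ng D (dec r).1) && Nat.ble (cE C (dec r).2.1 (dec r).1).length 1 &&
      decide (cE C (dec r).1 (dec r).2.1 = [(r, (dec r).2.2)]) && Nat.beq (dec r).2.2.natAbs 2 &&
      cmSepB D C 2 r (dec r).1 && cmSepB D C 2 r (dec r).2.1)) = true := by decide +kernel

theorem pairs : (allN 8 fun r => allN 8 fun s => Nat.beq s r || Nat.beq s (ng D r) ||
    (decide (0 < phiP D C r s r) && decide (0 < phiP D C r s s) &&
      (sepModB D 2 r s || sepModB D 2 s r ||
        (bif short r && short s then cmB D C r s || (allN 8 fun L => short L || !decide ((cTerms C r s).map Prod.fst = [L]) ||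
            (Nat.beq (dec L).1 r && Nat.beq (dec L).2.1 s) || (Nat.beq (dec L).1 s && Nat.beq (dec L).2.1 r)) &&
            decide ((cTerms C r s).length = 1) && (cTerms C r s).all (fun c => !short c.1)
        else !short r && !short s && cmB D C r s &&
          ((cmB D C r (dec s).1 && (cTerms C r (dec s).2.1).all fun c => Nat.beq c.1 (dec s).1 || cmSepB D C 2 (dec s).1 c.1) ||
          (cmB D C r (dec s).2.1 && (cTerms C r (dec s).1).all fun c => Nat.beq c.1 (dec s).2.1 || cmSepB D C 2 (dec s).2.1 c.1)))))) = true := by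
  decide +kernel

theorem lt_of_short {r : ℕ} (h : short r = true) : r < 8 := by
  simp only [short, Bool.or_eq_true, natBeq_eq, decide_eq_true_eq] at h
  omega

theorem short_spec {r : ℕ} (h : short r = true) : ¬ chevB2.cartan 1 r % 2 = 0 := by
  have e := basics
  simp only [Bool.and_eq_true, allN_iff] at e
  have := e.2 r (lt_of_short h)
  rw [h, cond_true] at this
  simpa using this

theorem long_spec {r : ℕ} (hr : r < 8) (h : short r = false) :
    short (dec r).1 = true ∧ short (dec r).2.1 = true ∧ (dec r).2.1 ≠ (dec r).1 ∧ (dec r).2.1 ≠ ng D (dec r).1 ∧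
      (cE C (dec r).2.1 (dec r).1).length ≤ 1 ∧ cE C (dec r).1 (dec r).2.1 = [(r, (dec r).2.2)] ∧
      (dec r).2.2.natAbs = 2 ∧ cmSepB D C 2 r (dec r).1 = true ∧ cmSepB D C 2 r (dec r).2.1 = true := by
  have e := basics
  simp only [Bool.and_eq_true, allN_iff] at e
  have e1 := e.2 r hr
  rw [h, cond_false] at e1
  simp only [Bool.and_eq_true, Bool.not_eq_true', natBeq_eq, decide_eq_false_iff_not, Nat.ble_eq, decide_eq_true_eq]
    at e1
  obtain ⟨⟨⟨⟨⟨⟨⟨⟨a, b⟩, c⟩, d⟩, e⟩, f⟩, g⟩, i⟩, j⟩ := e1
  exact ⟨a, b, c, d, e, f, g, i, j⟩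

theorem nroots_eq : chevB2.nroots = 8 ∧ chevB2.rank = 2 := by
  have e := basics
  simp only [Bool.and_eq_true, decide_eq_true_eq] at e
  exact e.1

variable {F : Type*} [Field F] {Γ : Type*} [Group Γ]

/-- A commutator with a third element is inverted with it. -/
theorem comm_inv_left {G : Type*} [Group G] {x y : G} (h : Commute x ⁅x, y⁆) : ⁅x⁻¹, y⁆ = ⁅x, y⁆⁻¹ := by
  calc ⁅x⁻¹, y⁆ = x⁻¹ * (⁅x, y⁆⁻¹ * x) := by simp only [commutatorElement_def]; group
    _ = _ := by rw [h.inv_right.symm.eq, inv_mul_cancel_left]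

theorem comm_inv_right {G : Type*} [Group G] {x y : G} (h : Commute y ⁅x, y⁆) : ⁅x, y⁻¹⁆ = ⁅x, y⁆⁻¹ := by
  calc ⁅x, y⁻¹⁆ = y⁻¹ * (⁅x, y⁆⁻¹ * y) := by simp only [commutatorElement_def]; group
    _ = _ := by rw [h.inv_right.symm.eq, inv_mul_cancel_left]

/-- The lift. -/
noncomputable def lift3 (π : Γ →* GL chevB2.Idx F) (g₀ : Γ) (r : ℕ) (t : F) : Γ :=
  bif short r then ⁅g₀, Laced.lf π r t⁆
  else ⁅⁅g₀, Laced.lf π (dec r).1 (t / ((dec r).2.2 : F))⁆, ⁅g₀, Laced.lf π (dec r).2.1 1⁆⁆

variable {π : Γ →* GL chevB2.Idx F} (hker : π.ker ≤ Subgroup.center Γ)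
  (hsurj : ∀ r < chevB2.nroots, ∀ t : F, ∃ g : Γ, (π g : Matrix chevB2.Idx chevB2.Idx F) = chevB2.x F r t)
  (h3 : (3 : F) = 0) (hall : ∀ v : F, v = 0 ∨ v = 1 ∨ v = -1) (c : Fˣ) (hcn : orderOf c = 2)

local notation "ℓ" => Laced.lf π
local notation "X" => lift3 π (hX chevB2 (Laced.lf π) 1 (c : F))

include hker hsurj hall in
theorem self_comm {r : ℕ} (hr : r < chevB2.nroots) (t u : F) : ⁅ℓ r t, ℓ r u⁆ = 1 := by
  have hc : Checked D C := checked_B2
  have h0 : ∀ v, ⁅ℓ r (0 : F), ℓ r v⁆ = 1 := fun v => by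
    rw [ChevBr.comm_eq hker (x' := 1) (y' := ℓ r v) (by
      rw [TorusOK.map_lf' hc hsurj hr, map_one]; exact Units.ext (by rw [coe_xGL, hc.x_zero hr, Units.val_one])) rfl]
    exact commutatorElement_one_left _
  have hneg : ∀ v : F, π (ℓ r (-v)) = π (ℓ r v)⁻¹ := fun v => by
    rw [map_inv, TorusOK.map_lf' hc hsurj hr, TorusOK.map_lf' hc hsurj hr]; exact Units.ext rfl
  have h1 : ∀ v, ⁅ℓ r v, ℓ r v⁆ = 1 ∧ ⁅ℓ r v, ℓ r (-v)⁆ = 1 := fun v =>
    ⟨commutatorElement_self _, by
      rw [ChevBr.comm_eq hker rfl (hneg v), commutatorElement_eq_one_iff_mul_comm]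
      group⟩
  rcases hall t with rfl | rfl | rfl
  · exact h0 u
  all_goals
    rcases hall u with rfl | rfl | rfl
    · rw [← inv_inj, commutatorElement_inv, inv_one]; exact h0 _
    all_goals first | exact (h1 _).1 | exact (h1 _).2 |
      (rw [← inv_inj, commutatorElement_inv, inv_one]; exact (h1 _).2) | simp [(h1 _).1, (h1 _).2]

include hker hsurj hall hcn in
theorem sep_comm {r s : ℕ} (hr : r < chevB2.nroots) (hs : s < chevB2.nroots)
    (e : s = r ∨ cmSepB D C 2 r s = true) {x y : Γ} {t u : F} (hx : π x = π (ℓ r t)) (hy : π y = π (ℓ s u)) :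
    Commute x y := by
  rw [commute_iff_eq, ← commutatorElement_eq_one_iff_mul_comm, ChevBr.comm_eq hker hx hy]
  rcases e with rfl | e
  · exact self_comm hker hsurj hall hr t u
  · exact lf_comm_of_cmSepB checked_B2 hker hsurj c hcn hr hs e t u

include hcn in
theorem unit_neg_one (h : (c : F) = 0 ∨ (c : F) = 1 ∨ (c : F) = -1) : (c : F) = -1 := by
  rcases h with h | h | h
  · exact absurd h c.ne_zero
  · rw [Units.val_eq_one.1 h, orderOf_one] at hcn
    omega
  · exact h

include hsurj hcn hall h3 in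
theorem map_short {r : ℕ} (hs : short r = true) (t : F) : π (X r t) = π (ℓ r t) := by
  have hc : Checked D C := checked_B2
  have hr : r < chevB2.nroots := nroots_eq.1 ▸ lt_of_short hs
  rw [lift3, hs, cond_true, TorusOK.map_tor_comm hc hsurj (TorusOK.tor_simple hc hsurj (nroots_eq.2 ▸ by norm_num) c) hr t]
  congr 2
  have hodd : ((c ^ chevB2.cartan 1 r : Fˣ) : F) = -1 := by
    obtain ⟨k, hk⟩ : ∃ k, chevB2.cartan 1 r = 2 * k + 1 := ⟨chevB2.cartan 1 r / 2, by
      have := short_spec hs
      omega⟩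
    rw [hk, zpow_add, zpow_mul, zpow_one, zpow_ofNat, ← hcn, pow_orderOf_eq_one, one_zpow, one_mul,
      unit_neg_one c hcn (hall _)]
  rw [hodd]
  linear_combination (-t) * h3

include hsurj hcn hall h3 in
theorem two_ne : (2 : F) ≠ 0 := fun e => one_ne_zero (α := F) (by linear_combination h3 - e)

include hsurj hcn hall h3 in
theorem coeff_ne {L : ℕ} (hL : L < 8) (hl : short L = false) : ((dec L).2.2 : F) ≠ 0 := by
  have h2 := two_ne hsurj h3 hall c hcn
  rcases Int.natAbs_eq_iff.1 (long_spec hL hl).2.2.2.2.2.2.1 with e | e <;> rw [e] <;> simp [h2]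

include hker hsurj hcn hall h3 in
theorem map_lift {r : ℕ} (hr : r < chevB2.nroots) (t : F) : π (X r t) = π (ℓ r t) := by
  have hc : Checked D C := checked_B2
  by_cases hs : short r = true
  · exact map_short hsurj h3 hall c hcn hs t
  rw [Bool.not_eq_true] at hs
  obtain ⟨ha, hb, h1, h2, hlen, hcE, -, -, -⟩ := long_spec (nroots_eq.1 ▸ hr) hs
  have hε := coeff_ne hsurj h3 hall c hcn (nroots_eq.1 ▸ hr) hs
  have ha' : (dec r).1 < chevB2.nroots := nroots_eq.1 ▸ lt_of_short ha
  have hb' : (dec r).2.1 < chevB2.nroots := nroots_eq.1 ▸ lt_of_short hb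
  have ea := map_short hsurj h3 hall c hcn ha (t / ((dec r).2.2 : F))
  have eb := map_short hsurj h3 hall c hcn hb (1 : F)
  simp only [lift3, ha, hb, cond_true] at ea eb
  rw [lift3, hs, cond_false, map_commutatorElement, ea, eb, TorusOK.map_lf' hc hsurj ha',
    TorusOK.map_lf' hc hsurj hb', TorusOK.map_lf' hc hsurj hr]
  set ε := (dec r).2.2
  set a := (dec r).1
  set b := (dec r).2.1
  set v := t / (ε : F)
  have hw : chevB2.commWord F a b (-v) (-1) = [(r, -((ε : F) * v))] := by
    rw [hc.commWord_eq ha' hb', Checked.cTerms_short (by rw [hcE]; rfl) hlen, hcE]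
    simp
  have hf : xGL hc F hb' (-1) * xGL hc F ha' (-v) =
      xGL hc F ha' (-v) * xGL hc F hb' (-1) * xGL hc F hr (-((ε : F) * v)) := by
    refine Units.ext ?_
    simp only [Units.val_mul, coe_xGL]
    rw [hc.commutator_formula ha' hb' h1 h2, hw]
    simp [ChevalleyDatum.wordMat]
  have hv : (ε : F) * v = t := mul_div_cancel₀ _ hε
  have hinv : ∀ {x : ℕ} (hx : x < chevB2.nroots) (v : F), xGL hc F hx (-v) = (xGL hc F hx v)⁻¹ :=
    fun hx v => Units.ext rfl
  rw [hinv, hinv, hinv, hv] at hf
  rw [commutatorElement_def, ← inv_inj, ← mul_right_inj ((xGL hc F ha' v)⁻¹ * (xGL hc F hb' 1)⁻¹), ← hf]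
  group

include hker hsurj hcn hall h3 in
theorem short_add {r : ℕ} (hs : short r = true) (t u : F) : X r t * X r u = X r (t + u) := by
  have hr : r < chevB2.nroots := nroots_eq.1 ▸ lt_of_short hs
  have hmap := map_lift hker hsurj h3 hall c hcn hr u
  simp only [lift3, hs, cond_true] at hmap ⊢
  rw [ChevBr.comm_eq hker rfl (map_lf_add checked_B2 hsurj hr t u),
    show ∀ g a b : Γ, ⁅g, a * b⁆ = ⁅g, a⁆ * (a * ⁅g, b⁆ * a⁻¹) from fun g a b => by
      simp only [commutatorElement_def]; group,
    (sep_comm hker hsurj hall c hcn hr hr (Or.inl rfl) (x := ℓ r t) rfl hmap).eq, mul_inv_cancel_right]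

include hker hsurj hcn hall h3 in
theorem short_zero_neg {r : ℕ} (hs : short r = true) :
    X r (0 : F) = 1 ∧ X r (-1 : F) = (X r (1 : F))⁻¹ := by
  have h0 : X r (0 : F) = 1 := by
    have h := short_add hker hsurj h3 hall c hcn hs 0 0
    rw [add_zero] at h
    exact mul_eq_left.mp h
  refine ⟨h0, ?_⟩
  have h := short_add hker hsurj h3 hall c hcn hs (-1) 1
  rw [neg_add_cancel, h0] at h
  exact eq_inv_of_mul_eq_one_left h

include hker hsurj hcn hall h3 in
/-- The commutators of the lifts of the two short summands of a long root. -/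
theorem long_comm {L : ℕ} (hL : L < 8) (hl : short L = false) (v w : F) :
    (∃ y, ⁅X (dec L).1 v, X (dec L).2.1 w⁆ = X L y) ∧ (∀ t, X L (-t) = (X L t)⁻¹) ∧ X L (0 : F) = 1 := by
  obtain ⟨ha, hb, -, -, -, -, -, hca, hcb⟩ := long_spec hL hl
  have hL' : L < chevB2.nroots := nroots_eq.1.symm ▸ hL
  have ha' : (dec L).1 < chevB2.nroots := nroots_eq.1 ▸ lt_of_short ha
  have hb' : (dec L).2.1 < chevB2.nroots := nroots_eq.1 ▸ lt_of_short hb
  have hε := coeff_ne hsurj h3 hall c hcn hL hl
  set ε := ((dec L).2.2 : F)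
  set a := (dec L).1
  set b := (dec L).2.1
  have hdef : ∀ t, X L t = ⁅X a (t / ε), X b 1⁆ := fun t => by simp [lift3, hl, ha, hb, a, b, ε]
  have hcomA : ∀ v : F, Commute (X a v) ⁅X a 1, X b 1⁆ := fun v => by
    refine (sep_comm hker hsurj hall c hcn hL' ha' (Or.inr hca) (t := ε) (u := v) ?_ (map_lift hker hsurj h3 hall c hcn ha' v)).symm
    exact (congrArg π (show ⁅X a 1, X b 1⁆ = X L ε by rw [hdef, div_self hε])).trans (map_lift hker hsurj h3 hall c hcn hL' ε)
  have hcomB : Commute (X b 1) ⁅X a 1, X b 1⁆ := by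
    refine (sep_comm hker hsurj hall c hcn hL' hb' (Or.inr hcb) (t := ε) (u := (1 : F)) ?_
      (map_lift hker hsurj h3 hall c hcn hb' 1)).symm
    exact (congrArg π (show ⁅X a 1, X b 1⁆ = X L ε by rw [hdef, div_self hε])).trans (map_lift hker hsurj h3 hall c hcn hL' ε)
  obtain ⟨a0, an⟩ := short_zero_neg hker hsurj h3 hall c hcn ha
  obtain ⟨b0, bn⟩ := short_zero_neg hker hsurj h3 hall c hcn hb
  have hn1 : ⁅X a (-1), X b 1⁆ = ⁅X a 1, X b 1⁆⁻¹ := by rw [an, comm_inv_left (hcomA 1)]
  have hcomB' : Commute (X b 1) ⁅X a (-1), X b 1⁆ := by rw [hn1]; exact hcomB.inv_right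
  have hodd : ∀ t, X L (-t) = (X L t)⁻¹ := by
    intro t
    rw [hdef, hdef, neg_div]
    rcases hall (t / ε) with e | e | e <;> rw [e]
    · simp [a0]
    · exact hn1
    · rw [neg_neg, hn1, inv_inv]
  refine ⟨?_, hodd, by rw [hdef, zero_div, a0, commutatorElement_one_left]⟩
  have h1 : ∀ v, ⁅X a v, X b 1⁆ = X L (ε * v) := fun v => by rw [hdef, mul_div_cancel_left₀ _ hε]
  rcases hall w with rfl | rfl | rfl
  · exact ⟨0, by rw [b0, commutatorElement_one_right, hdef, zero_div, a0, commutatorElement_one_left]⟩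
  · exact ⟨_, h1 v⟩
  · refine ⟨-(ε * v), ?_⟩
    rw [hodd, ← h1, bn, comm_inv_right ?_]
    rcases hall v with rfl | rfl | rfl
    · simp [a0]
    · exact hcomB
    · exact hcomB'

include hker hsurj hcn hall h3 in
theorem addLift : AddLift chevB2 π X where
  map_X r hr t := by rw [map_lift hker hsurj h3 hall c hcn hr, TorusOK.map_lf' checked_B2 hsurj hr, coe_xGL]
  add r hr t u := by
    by_cases hs : short r = true
    · exact short_add hker hsurj h3 hall c hcn hs t u
    rw [Bool.not_eq_true] at hs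
    have hr8 : r < 8 := nroots_eq.1 ▸ hr
    obtain ⟨-, hodd, h0⟩ := long_comm hker hsurj h3 hall c hcn hr8 hs 0 0
    obtain ⟨ha, hb, -, -, -, -, -, hca, hcb⟩ := long_spec hr8 hs
    rcases hall t with rfl | rfl | rfl <;> rcases hall u with rfl | rfl | rfl <;>
      (try simp only [h0, add_zero, zero_add, one_mul, mul_one, add_neg_cancel, neg_add_cancel, hodd,
        inv_mul_cancel, mul_inv_cancel])
    all_goals
      -- the remaining cases reduce to the additivity of the first short summand
      have key : X r (1 : F) * X r (1 : F) = X r (1 + 1) := by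
        set a := (dec r).1
        set b := (dec r).2.1
        have hdef : ∀ t, X r t = ⁅X a (t / ((dec r).2.2 : F)), X b 1⁆ := fun t => by
          simp [lift3, hs, ha, hb, a, b]
        rw [hdef, hdef (1 + 1), add_div]
        rw [← short_add hker hsurj h3 hall c hcn ha,
          show ∀ x y z : Γ, ⁅x * y, z⁆ = x * ⁅y, z⁆ * x⁻¹ * ⁅x, z⁆ from fun x y z => by
            simp only [commutatorElement_def]; group, ← hdef,
          ((sep_comm hker hsurj hall c hcn hr (nroots_eq.1 ▸ lt_of_short ha) (Or.inr hca)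
            (map_lift hker hsurj h3 hall c hcn hr _)
            (map_lift hker hsurj h3 hall c hcn (nroots_eq.1 ▸ lt_of_short ha) _)).symm).eq, mul_inv_cancel_right]
      first
        | exact key
        | rw [← mul_inv_rev, key, ← hodd, neg_add]

include hker hsurj hcn hall h3 in
theorem rootLift : RootLift chevB2 C π X := by
  have hc : Checked D C := checked_B2
  have hh : Rooted D C := ⟨checked_B2, descent_B2⟩
  have A := addLift hker hsurj h3 hall c hcn
  have heq : ∀ (g : Γ) (χ : ℕ → Fˣ), Tor chevB2 π g χ → ∀ r < chevB2.nroots, ∀ t : F,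
      g * X r t * g⁻¹ = X r ((χ r : F) * t) := by
    intro g χ hg r hr t
    have himg : π (g * X r t * g⁻¹) = π (X r ((χ r : F) * t)) := by
      rw [TorusOK.tor_conj hc hsurj hg hr t (map_lift hker hsurj h3 hall c hcn hr t),
        map_lift hker hsurj h3 hall c hcn hr]
    have hshort : ∀ a, short a = true → ∀ v, g * X a v * g⁻¹ = X a ((χ a : F) * v) := by
      intro a ha v
      have ha' : a < chevB2.nroots := nroots_eq.1 ▸ lt_of_short ha
      simp only [lift3, ha, cond_true]
      set k := hX chevB2 (Laced.lf π) 1 (c : F)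
      rw [show g * ⁅k, ℓ a v⁆ * g⁻¹ = ⁅g * k * g⁻¹, g * ℓ a v * g⁻¹⁆ by simp only [commutatorElement_def]; group]
      exact ChevBr.comm_eq hker (TorusOK.tor_commute hg (TorusOK.tor_simple hc hsurj (nroots_eq.2 ▸ by norm_num) c))
        (TorusOK.tor_conj hc hsurj hg ha' v rfl)
    by_cases hs : short r = true
    · exact hshort r hs t
    rw [Bool.not_eq_true] at hs
    have hr8 : r < 8 := nroots_eq.1 ▸ hr
    obtain ⟨ha, hb, -⟩ := long_spec hr8 hs
    obtain ⟨⟨y, hy⟩, -⟩ := long_comm hker hsurj h3 hall c hcn hr8 hs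
      ((χ (dec r).1 : F) * (t / ((dec r).2.2 : F))) ((χ (dec r).2.1 : F) * 1)
    have e : g * X r t * g⁻¹ = X r y := by
      rw [← hy, ← hshort _ ha, ← hshort _ hb]
      simp only [lift3, hs, ha, hb, cond_true, cond_false, commutatorElement_def]
      group
    rw [e] at himg ⊢
    rw [map_lift hker hsurj h3 hall c hcn hr, map_lift hker hsurj h3 hall c hcn hr, TorusOK.map_lf' hc hsurj hr,
      TorusOK.map_lf' hc hsurj hr] at himg
    rw [hc.x_injective hr (congrArg Units.val himg)]
  -- pairs outside the reach of the diagonal elements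
  have hpair : ∀ r s, r < chevB2.nroots → s < chevB2.nroots → s ≠ r → s ≠ ng chevB2 r →
      Kill chevB2 π r s ∨ RelPair chevB2 X r s := by
    intro r s hr hs h1 h2
    have e := pairs
    simp only [allN_iff] at e
    have e' := e r (nroots_eq.1 ▸ hr) s (nroots_eq.1 ▸ hs)
    simp only [Bool.or_eq_true, Bool.and_eq_true, natBeq_eq, decide_eq_true_eq] at e'
    rcases e' with (e1 | e2) | ⟨-, (e' | e') | e'⟩
    · exact absurd e1 h1
    · exact absurd e2 h2
    · obtain ⟨g, χ, hg, h⟩ : ∃ g χ, Tor chevB2 π g χ ∧ χ r = 1 ∧ (χ s : F) ≠ 1 := by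
        simp only [sepModB, List.any_eq_true, List.mem_range, Bool.and_eq_true, decide_eq_true_eq,
          Bool.not_eq_true', decide_eq_false_iff_not] at e'
        obtain ⟨i, hi, j, hj, a, -, b, -, q0, q1⟩ := e'
        obtain ⟨g, χ, hg, hχ⟩ := TorusOK.exists_tor hc hsurj hi hj c a b
        refine ⟨g, χ, hg, ?_, ?_⟩
        · rw [hχ, ← orderOf_dvd_iff_zpow_eq_one, hcn]; exact Int.dvd_of_emod_eq_zero q0
        · rw [ne_eq, Units.val_eq_one, hχ, ← orderOf_dvd_iff_zpow_eq_one, hcn]
          exact fun e => q1 (Int.emod_eq_zero_of_dvd e)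
      exact Or.inl (Kill.of_tor hg (Or.inl h))
    · obtain ⟨g, χ, hg, hs1, hr1⟩ : ∃ g χ, Tor chevB2 π g χ ∧ χ s = 1 ∧ (χ r : F) ≠ 1 := by
        simp only [sepModB, List.any_eq_true, List.mem_range, Bool.and_eq_true, decide_eq_true_eq,
          Bool.not_eq_true', decide_eq_false_iff_not] at e'
        obtain ⟨i, hi, j, hj, a, -, b, -, q0, q1⟩ := e'
        obtain ⟨g, χ, hg, hχ⟩ := TorusOK.exists_tor hc hsurj hi hj c a b
        refine ⟨g, χ, hg, ?_, ?_⟩
        · rw [hχ, ← orderOf_dvd_iff_zpow_eq_one, hcn]; exact Int.dvd_of_emod_eq_zero q0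
        · rw [ne_eq, Units.val_eq_one, hχ, ← orderOf_dvd_iff_zpow_eq_one, hcn]
          exact fun e => q1 (Int.emod_eq_zero_of_dvd e)
      exact Or.inl (Kill.of_tor hg (Or.inr ⟨hr1, hs1⟩))
    refine Or.inr fun t u => ?_
    -- commuting pairs
    have hnil : cmB D C r s = true → ⁅ℓ r t, ℓ s u⁆ = 1 →
        X s u * X r t = X r t * X s u * wordX X (chevB2.commWord F r s t u) := by
      intro hcm hl
      rw [← ChevBr.comm_eq hker (map_lift hker hsurj h3 hall c hcn hr t) (map_lift hker hsurj h3 hall c hcn hs u),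
        commutatorElement_eq_one_iff_mul_comm] at hl
      simp only [cmB, Bool.and_eq_true, List.isEmpty_iff] at hcm
      rw [hc.commWord_eq hr hs, Checked.cTerms_nil hcm.1.2 hcm.2]
      simp [wordX, hl]
    by_cases hss : short r = true ∧ short s = true
    · rw [hss.1, hss.2, Bool.and_self, cond_true] at e'
      simp only [Bool.or_eq_true, Bool.and_eq_true, List.all_eq_true, allN_iff, decide_eq_true_eq, Bool.not_eq_true',
        decide_eq_false_iff_not, natBeq_eq] at e'
      rcases e' with hcm | ⟨⟨hdec, hlen⟩, hlong⟩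
      · refine hnil hcm ?_
        have hsep : cmSepB D C 2 r s = true ∨ cmSepB D C 2 r s = false := Bool.eq_false_or_eq_true _
        revert hcm
        have e8 : ∀ r < 8, ∀ s < 8, short r = true → short s = true → cmB D C r s = false := by decide +kernel
        rw [e8 r (nroots_eq.1 ▸ hr) s (nroots_eq.1 ▸ hs) hss.1 hss.2]
        simp
      · obtain ⟨z, hz⟩ := List.length_eq_one_iff.1 hlen
        have hzL : z.1 < chevB2.nroots := hc.cTerms_lt hr hs z (by rw [hz]; simp)
        have hl : short z.1 = false := hlong z (by rw [hz]; simp)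
        have hz8 : z.1 < 8 := nroots_eq.1 ▸ hzL
        have hy : ∃ y, ⁅X s (-u), X r (-t)⁆ = X z.1 y := by
          rcases hdec z.1 hz8 with ((e | e) | e) | e
          · rw [hl] at e; simp at e
          · exact absurd (by rw [hz]; simp) e
          · obtain ⟨⟨y, hy⟩, hodd, -⟩ := long_comm hker hsurj h3 hall c hcn hz8 hl (-t) (-u)
            rw [e.1, e.2] at hy
            exact ⟨-y, by rw [← commutatorElement_inv, hy, hodd]⟩
          · obtain ⟨⟨y, hy⟩, -⟩ := long_comm hker hsurj h3 hall c hcn hz8 hl (-u) (-t)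
            rw [e.1, e.2] at hy
            exact ⟨y, hy⟩
        obtain ⟨y, hy⟩ := hy
        obtain ⟨v, hw⟩ : ∃ v, chevB2.commWord F r s t u = [(z.1, v)] := by
          rw [hc.commWord_eq hr hs, hz]; exact ⟨_, rfl⟩
        have hrs : X s u * X r t = X r t * X s u * ⁅X s (-u), X r (-t)⁆ := by
          rw [A.X_neg hs, A.X_neg hr, commutatorElement_def, inv_inv, inv_inv]; group
        have hπ : π (X z.1 y) = π (X z.1 v) := by
          have e1 : π (X s u) * π (X r t) = π (X r t) * π (X s u) * π (X z.1 y) := by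
            rw [← map_mul, hrs, hy, map_mul, map_mul]
          have e2 : π (X s u) * π (X r t) = π (X r t) * π (X s u) * π (X z.1 v) := by
            refine Units.ext ?_
            simp only [Units.val_mul, A.map_X _ hr, A.map_X _ hs, A.map_X _ hzL]
            rw [hc.commutator_formula hr hs h1 h2, hw]
            simp [ChevalleyDatum.wordMat]
          exact mul_left_cancel (e1.symm.trans e2)
        have hyv : y = v := hc.x_injective hzL (by
          have := congrArg Units.val hπ
          simpa only [A.map_X _ hzL] using this)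
        rw [hrs, hy, hyv, hw]
        simp [wordX]
    · rw [show (short r && short s) = false by simpa using hss, cond_false] at e'
      simp only [Bool.and_eq_true, Bool.not_eq_true', Bool.or_eq_true, List.all_eq_true, natBeq_eq,
        decide_eq_true_eq] at e'
      obtain ⟨⟨⟨hr', hs'⟩, hcm⟩, hside⟩ := e'
      refine hnil hcm ?_
      have hs8 : s < 8 := nroots_eq.1 ▸ hs
      obtain ⟨hsa, hsb, -⟩ := long_spec hs8 hs'
      have hdef : X s u = ⁅X (dec s).1 (u / ((dec s).2.2 : F)), X (dec s).2.1 1⁆ := by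
        simp [lift3, hs', hsa, hsb]
      rw [ChevBr.comm_eq hker rfl (map_lift hker hsurj h3 hall c hcn hs u).symm, hdef]
      set R := ℓ r t
      -- `R` moves one summand by elements commuting with the other
      have move : ∀ a b : ℕ, short a = true → short b = true → cmB D C r a = true →
          (∀ x ∈ cTerms C r b, x.1 = a ∨ cmSepB D C 2 a x.1 = true) → b ≠ r → b ≠ ng chevB2 r → ∀ v w : F,
            π (R * X a v * R⁻¹) = π (X a v) ∧
            ∃ W, Commute W (X a v) ∧ π (R * X b w * R⁻¹) = π (X b w * W) := by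
        intro a b ha hb hra hrb hbr hbn v w
        have ha' : a < chevB2.nroots := nroots_eq.1 ▸ lt_of_short ha
        have hb' : b < chevB2.nroots := nroots_eq.1 ▸ lt_of_short hb
        refine ⟨?_, wordX X (chevB2.commWord F r b (-t) w), ?_, ?_⟩
        · simp only [map_mul, map_inv, map_lift hker hsurj h3 hall c hcn ha', R]
          rw [(commute_map_lf hc hsurj hr ha' hra t v).eq, mul_inv_cancel_right]
        · refine Commute.list_prod_left _ _ ?_
          intro q hq
          obtain ⟨p, hp, rfl⟩ := List.mem_map.1 hq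
          rw [hc.commWord_eq hr hb'] at hp
          obtain ⟨x, hx, rfl⟩ := List.mem_map.1 hp
          exact (sep_comm hker hsurj hall c hcn ha' (hc.cTerms_lt hr hb' x hx)
            ((hrb x hx).imp id id) (map_lift hker hsurj h3 hall c hcn ha' v)
            (map_lift hker hsurj h3 hall c hcn (hc.cTerms_lt hr hb' x hx) _)).symm
        · have hw : π (wordX X (chevB2.commWord F r b (-t) w)) =
              (π (X r (-t)) * π (X b w))⁻¹ * (π (X b w) * π (X r (-t))) := by
            rw [eq_inv_mul_iff_mul_eq]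
            have hwm : ∀ l : List (ℕ × F), (∀ x ∈ l, x.1 < chevB2.nroots) →
                ((π (wordX X l) : GL chevB2.Idx F) : Matrix chevB2.Idx chevB2.Idx F) = chevB2.wordMat F l := by
              intro l
              induction l with
              | nil => simp [wordX, ChevalleyDatum.wordMat]
              | cons x l ih =>
                intro hl
                simp only [wordX, ChevalleyDatum.wordMat, List.map_cons, List.prod_cons, map_mul, Units.val_mul]
                rw [A.map_X _ (hl x List.mem_cons_self)]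
                exact congrArg _ (ih fun q hq => hl q (List.mem_cons_of_mem _ hq))
            refine Units.ext ?_
            simp only [Units.val_mul]
            rw [hwm _ fun x hx => ?_, A.map_X r hr, A.map_X b hb']
            · exact (hc.commutator_formula hr hb' hbr hbn _ _).symm
            · rw [hc.commWord_eq hr hb'] at hx
              obtain ⟨q, hq, rfl⟩ := List.mem_map.1 hx
              exact hc.cTerms_lt hr hb' q hq
          have hR : π R = π (X r t) := (map_lift hker hsurj h3 hall c hcn hr t).symm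
          simp only [map_mul, map_inv, hw, hR, A.X_neg hr]
          group
      have hne : ∀ b : ℕ, short b = true → b ≠ r ∧ b ≠ ng chevB2 r := by
        have e8 : ∀ r < 8, short r = false → short (ng chevB2 r) = false := by decide +kernel
        intro b hb
        exact ⟨fun e => by rw [e, hr'] at hb; simp at hb,
          fun e => by rw [e, e8 r (nroots_eq.1 ▸ hr) hr'] at hb; simp at hb⟩
      rw [commutatorElement_eq_one_iff_mul_comm, ← mul_inv_eq_iff_eq_mul]
      set U := X (dec s).1 (u / ((dec s).2.2 : F))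
      set V := X (dec s).2.1 (1 : F)
      rw [show R * ⁅U, V⁆ * R⁻¹ = ⁅R * U * R⁻¹, R * V * R⁻¹⁆ by simp only [commutatorElement_def]; group]
      rcases hside with ⟨hra, hrb⟩ | ⟨hra, hrb⟩
      · obtain ⟨eU, W, hW, eV⟩ := move _ _ hsa hsb hra hrb (hne _ hsb).1 (hne _ hsb).2 (u / ((dec s).2.2 : F)) 1
        rw [ChevBr.comm_eq hker eU eV, show ⁅U, V * W⁆ = ⁅U, V⁆ * (V * ⁅U, W⁆ * V⁻¹) by
          simp only [commutatorElement_def]; group, commutatorElement_eq_one_iff_mul_comm.2 hW.symm.eq]
        group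
      · obtain ⟨eV, W, hW, eU⟩ := move _ _ hsb hsa hra hrb (hne _ hsa).1 (hne _ hsa).2 1 (u / ((dec s).2.2 : F))
        rw [ChevBr.comm_eq hker eU eV, show ⁅U * W, V⁆ = U * ⁅W, V⁆ * U⁻¹ * ⁅U, V⁆ by
          simp only [commutatorElement_def]; group, commutatorElement_eq_one_iff_mul_comm.2 hW.eq]
        group
  have hP : PresOK chevB2 C := ⟨hh, etaSimple_of_ok etaS_B2, psi_B2, iso_B2⟩
  refine hP.rootLift A fun r hr s hs h1 h2 => ?_
  have e := pairs_B2
  simp only [allN_iff, pairB, Bool.or_eq_true, Nat.beq_eq, Bool.and_eq_true, decide_eq_true_eq] at e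
  rcases e r hr s hs with (e1 | e2) | ⟨⟨a, b⟩, -⟩
  · exact absurd e1 h1
  · exact absurd e2 h2
  exact A.rel_of_kill hh hker heq (isAdd_phiP hc r s) _ hpair r s hr hs h1 a b le_rfl

end Cfsg.Agent.Lib.Schur.ChevLift.B2Three
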