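import Cfsg.Agent.Lib.Schur.ChevLaced

/-! The tables of `E6` pass the checks of the simply laced construction. -/

set_option autoImplicit false

namespace Cfsg.Agent.Lib.Schur.ChevLift

open Cfsg.Lie Cfsg.Agent.Lib.Chev

/-- Paths between the decompositions of the fundamental roots of `E6`. -/
def pathsE6Cert : List (List ((ℕ × ℕ) × ℕ × ℕ)) :=
  [[((21, 61), 66, 16), ((28, 58), 66, 16), ((29, 57), 66, 16), ((59, 27), 66, 16), ((60, 26), 66, 16),
    ((62, 20), 66, 16), ((63, 19), 66, 16), ((64, 18), 66, 16), ((65, 17), 66, 16), ((17, 65), 21, 61),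
    ((18, 64), 21, 61), ((19, 63), 21, 61), ((20, 62), 21, 61), ((26, 60), 28, 58), ((27, 59), 28, 58),
    ((57, 29), 59, 27), ((58, 28), 59, 27), ((61, 21), 62, 20), ((66, 16), 21, 61), ((16, 66), 17, 65)],
  [((47, 32), 71, 1), ((48, 31), 71, 1), ((49, 30), 71, 1), ((50, 28), 71, 1), ((51, 27), 71, 1),
    ((52, 26), 71, 1), ((61, 13), 71, 1), ((62, 12), 71, 1), ((63, 11), 71, 1), ((11, 63), 47, 32),
    ((12, 62), 47, 32), ((13, 61), 48, 31), ((26, 52), 47, 32), ((27, 51), 47, 32), ((28, 50), 48, 31),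
    ((30, 49), 50, 28), ((31, 48), 50, 28), ((32, 47), 51, 27), ((71, 1), 47, 32), ((1, 71), 11, 63)],
  [((24, 50), 69, 5), ((32, 43), 69, 5), ((44, 31), 69, 5), ((45, 30), 69, 5), ((51, 23), 69, 5),
    ((52, 22), 69, 5), ((57, 15), 69, 5), ((67, 7), 69, 5), ((68, 6), 69, 5), ((6, 68), 24, 50),
    ((7, 67), 24, 50), ((15, 57), 44, 31), ((22, 52), 24, 50), ((23, 51), 24, 50), ((30, 45), 32, 43),
    ((31, 44), 32, 43), ((43, 32), 44, 31), ((50, 24), 51, 23), ((69, 5), 24, 50), ((5, 69), 6, 68)],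
  [((25, 47), 70, 2), ((40, 34), 70, 2), ((41, 33), 70, 2), ((43, 29), 70, 2), ((53, 20), 70, 2),
    ((54, 19), 70, 2), ((58, 14), 70, 2), ((64, 9), 70, 2), ((65, 8), 70, 2), ((8, 65), 25, 47),
    ((9, 64), 25, 47), ((14, 58), 40, 34), ((19, 54), 25, 47), ((20, 53), 25, 47), ((29, 43), 40, 34),
    ((33, 41), 43, 29), ((34, 40), 43, 29), ((47, 25), 53, 20), ((70, 2), 25, 47), ((2, 70), 8, 65)],
  [((24, 48), 69, 3), ((32, 40), 69, 3), ((38, 35), 69, 3), ((44, 28), 69, 3), ((51, 21), 69, 3),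
    ((55, 17), 69, 3), ((59, 13), 69, 3), ((62, 10), 69, 3), ((66, 6), 69, 3), ((6, 66), 24, 48),
    ((10, 62), 24, 48), ((13, 59), 32, 40), ((17, 55), 24, 48), ((21, 51), 24, 48), ((28, 44), 32, 40),
    ((35, 38), 44, 28), ((40, 32), 44, 28), ((48, 24), 51, 21), ((69, 3), 24, 48), ((3, 69), 6, 66)],
  [((23, 49), 68, 4), ((31, 41), 68, 4), ((34, 38), 68, 4), ((45, 27), 68, 4), ((52, 20), 68, 4),
    ((54, 18), 68, 4), ((60, 12), 68, 4), ((63, 9), 68, 4), ((65, 7), 68, 4), ((7, 65), 23, 49),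
    ((9, 63), 23, 49), ((12, 60), 31, 41), ((18, 54), 23, 49), ((20, 52), 23, 49), ((27, 45), 31, 41),
    ((38, 34), 45, 27), ((41, 31), 45, 27), ((49, 23), 52, 20), ((68, 4), 23, 49), ((4, 68), 7, 65)]]

theorem etaSimple_E6 : etaSimpleOK chevE6 E6.cert = true := by decide +kernel
theorem entries_E6 : chkEntries chevE6 E6.cert = true := by decide +kernel
theorem commPairs_E6 : chkCommPairs chevE6 E6.cert = true := by decide +kernel
theorem paths_E6 : chkPaths chevE6 E6.cert pathsE6Cert = true := by decide +kernel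
theorem cover_E6 : chkCover chevE6 pathsE6Cert = true := by decide +kernel
theorem adj_E6 : adjOK chevE6 = true := by decide +kernel

theorem laced_E6 : Laced chevE6 E6.cert :=
  ⟨⟨checked_E6, descent_E6⟩, etaSimple_of_ok etaSimple_E6, entries_E6, commPairs_E6, ⟨_, paths_E6, cover_E6⟩⟩

theorem solve_E6 : solveOK chevE6 3 0 [1, 0, 2, 0, 1, 2] [4, 3, 5, 6, 4, 2]
    [[0, 0, 0, 0, 0, 0], [1, 2, 2, 3, 2, 1], [-1, 0, 0, 0, 0, 0], [2, 3, 4, 6, 4, 2], [0, 1, 1, 2, 2, 1],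
      [-2, -1, -2, -2, -1, 0]] = true := by decide +kernel

end Cfsg.Agent.Lib.Schur.ChevLift
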