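import Cfsg.Agent.Lib.Schur.ChevLaced

/-! The tables of `E7` pass the checks of the simply laced construction. -/

set_option autoImplicit false

namespace Cfsg.Agent.Lib.Schur.ChevLift

open Cfsg.Lie Cfsg.Agent.Lib.Chev

/-- Paths between the decompositions of the fundamental roots of `E7`. -/
def pathsE7Cert : List (List ((ℕ × ℕ) × ℕ × ℕ)) :=
  [[((94, 52), 125, 1), ((95, 51), 125, 1), ((96, 50), 125, 1), ((97, 49), 125, 1), ((98, 48), 125, 1),
    ((99, 42), 125, 1), ((100, 41), 125, 1), ((101, 40), 125, 1), ((102, 39), 125, 1), ((103, 38), 125, 1),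
    ((104, 37), 125, 1), ((105, 36), 125, 1), ((106, 35), 125, 1), ((107, 34), 125, 1), ((108, 33), 125, 1),
    ((33, 108), 94, 52), ((34, 107), 94, 52), ((35, 106), 94, 52), ((36, 105), 94, 52), ((37, 104), 94, 52),
    ((38, 103), 94, 52), ((39, 102), 95, 51), ((40, 101), 95, 51), ((41, 100), 95, 51), ((42, 99), 96, 50),
    ((48, 98), 99, 42), ((49, 97), 99, 42), ((50, 96), 99, 42), ((51, 95), 100, 41), ((52, 94), 103, 38),
    ((125, 1), 94, 52), ((1, 125), 33, 108)],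
  [((30, 99), 122, 7), ((51, 83), 122, 7), ((56, 79), 122, 7), ((80, 55), 122, 7), ((81, 54), 122, 7),
    ((82, 53), 122, 7), ((84, 50), 122, 7), ((85, 49), 122, 7), ((86, 48), 122, 7), ((100, 29), 122, 7),
    ((101, 28), 122, 7), ((102, 27), 122, 7), ((119, 10), 122, 7), ((120, 9), 122, 7), ((121, 8), 122, 7),
    ((8, 121), 30, 99), ((9, 120), 30, 99), ((10, 119), 30, 99), ((27, 102), 30, 99), ((28, 101), 30, 99),
    ((29, 100), 30, 99), ((48, 86), 51, 83), ((49, 85), 51, 83), ((50, 84), 51, 83), ((53, 82), 56, 79),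
    ((54, 81), 56, 79), ((55, 80), 56, 79), ((79, 56), 80, 55), ((83, 51), 84, 50), ((99, 30), 100, 29),
    ((122, 7), 30, 99), ((7, 122), 8, 121)],
  [((32, 94), 124, 2), ((74, 56), 124, 2), ((75, 55), 124, 2), ((76, 54), 124, 2), ((77, 53), 124, 2),
    ((83, 46), 124, 2), ((84, 45), 124, 2), ((85, 44), 124, 2), ((86, 43), 124, 2), ((109, 22), 124, 2),
    ((110, 21), 124, 2), ((111, 20), 124, 2), ((112, 19), 124, 2), ((113, 18), 124, 2), ((114, 17), 124, 2),
    ((17, 114), 32, 94), ((18, 113), 32, 94), ((19, 112), 32, 94), ((20, 111), 32, 94), ((21, 110), 32, 94),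
    ((22, 109), 32, 94), ((43, 86), 74, 56), ((44, 85), 74, 56), ((45, 84), 74, 56), ((46, 83), 75, 55),
    ((53, 77), 83, 46), ((54, 76), 83, 46), ((55, 75), 83, 46), ((56, 74), 84, 45), ((94, 32), 109, 22),
    ((124, 2), 32, 94), ((2, 124), 17, 114)],
  [((31, 95), 123, 3), ((52, 74), 123, 3), ((70, 59), 123, 3), ((71, 58), 123, 3), ((72, 57), 123, 3),
    ((79, 47), 123, 3), ((87, 41), 123, 3), ((88, 40), 123, 3), ((89, 39), 123, 3), ((103, 25), 123, 3),
    ((104, 24), 123, 3), ((105, 23), 123, 3), ((115, 13), 123, 3), ((116, 12), 123, 3), ((117, 11), 123, 3),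
    ((11, 117), 31, 95), ((12, 116), 31, 95), ((13, 115), 31, 95), ((23, 105), 31, 95), ((24, 104), 31, 95),
    ((25, 103), 31, 95), ((39, 89), 52, 74), ((40, 88), 52, 74), ((41, 87), 52, 74), ((47, 79), 70, 59),
    ((57, 72), 79, 47), ((58, 71), 79, 47), ((59, 70), 79, 47), ((74, 52), 87, 41), ((95, 31), 103, 25),
    ((123, 3), 31, 95), ((3, 123), 11, 117)],
  [((30, 96), 122, 4), ((51, 75), 122, 4), ((56, 70), 122, 4), ((67, 61), 122, 4), ((68, 60), 122, 4),
    ((80, 46), 122, 4), ((84, 42), 122, 4), ((90, 37), 122, 4), ((91, 36), 122, 4), ((100, 26), 122, 4),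
    ((106, 21), 122, 4), ((107, 20), 122, 4), ((112, 15), 122, 4), ((113, 14), 122, 4), ((118, 8), 122, 4),
    ((8, 118), 30, 96), ((14, 113), 30, 96), ((15, 112), 30, 96), ((20, 107), 30, 96), ((21, 106), 30, 96),
    ((26, 100), 30, 96), ((36, 91), 51, 75), ((37, 90), 51, 75), ((42, 84), 51, 75), ((46, 80), 56, 70),
    ((60, 68), 80, 46), ((61, 67), 80, 46), ((70, 56), 80, 46), ((75, 51), 84, 42), ((96, 30), 100, 26),
    ((122, 4), 30, 96), ((4, 122), 8, 118)],
  [((29, 97), 121, 5), ((50, 76), 121, 5), ((55, 71), 121, 5), ((59, 67), 121, 5), ((65, 62), 121, 5),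
    ((81, 45), 121, 5), ((85, 41), 121, 5), ((88, 38), 121, 5), ((92, 34), 121, 5), ((101, 25), 121, 5),
    ((104, 22), 121, 5), ((108, 18), 121, 5), ((110, 16), 121, 5), ((114, 12), 121, 5), ((117, 9), 121, 5),
    ((9, 117), 29, 97), ((12, 114), 29, 97), ((16, 110), 29, 97), ((18, 108), 29, 97), ((22, 104), 29, 97),
    ((25, 101), 29, 97), ((34, 92), 50, 76), ((38, 88), 50, 76), ((41, 85), 50, 76), ((45, 81), 55, 71),
    ((62, 65), 81, 45), ((67, 59), 81, 45), ((71, 55), 81, 45), ((76, 50), 85, 41), ((97, 29), 101, 25),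
    ((121, 5), 29, 97), ((5, 121), 9, 117)],
  [((28, 98), 120, 6), ((49, 77), 120, 6), ((54, 72), 120, 6), ((58, 68), 120, 6), ((61, 65), 120, 6),
    ((82, 44), 120, 6), ((86, 40), 120, 6), ((89, 37), 120, 6), ((91, 35), 120, 6), ((102, 24), 120, 6),
    ((105, 21), 120, 6), ((107, 19), 120, 6), ((111, 15), 120, 6), ((113, 13), 120, 6), ((116, 10), 120, 6),
    ((10, 116), 28, 98), ((13, 113), 28, 98), ((15, 111), 28, 98), ((19, 107), 28, 98), ((21, 105), 28, 98),
    ((24, 102), 28, 98), ((35, 91), 49, 77), ((37, 89), 49, 77), ((40, 86), 49, 77), ((44, 82), 54, 72),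
    ((65, 61), 82, 44), ((68, 58), 82, 44), ((72, 54), 82, 44), ((77, 49), 86, 40), ((98, 28), 102, 24),
    ((120, 6), 28, 98), ((6, 120), 10, 116)]]

theorem etaSimple_E7 : etaSimpleOK chevE7 E7.cert = true := by decide +kernel
theorem entries_E7 : chkEntries chevE7 E7.cert = true := by decide +kernel
theorem commPairs_E7 : chkCommPairs chevE7 E7.cert = true := by decide +kernel
theorem paths_E7 : chkPaths chevE7 E7.cert pathsE7Cert = true := by decide +kernel
theorem cover_E7 : chkCover chevE7 pathsE7Cert = true := by decide +kernel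
theorem adj_E7 : adjOK chevE7 = true := by decide +kernel

theorem laced_E7 : Laced chevE7 E7.cert :=
  ⟨⟨checked_E7, descent_E7⟩, etaSimple_of_ok etaSimple_E7, entries_E7, commPairs_E7, ⟨_, paths_E7, cover_E7⟩⟩

theorem solve_E7 : solveOK chevE7 2 1 [0, 1, 0, 0, 1, 0, 1] [4, 7, 8, 12, 9, 6, 3]
    [[2, 2, 3, 4, 3, 2, 1], [0, 0, 0, 0, 0, 0, 0], [3, 4, 6, 8, 6, 4, 2], [4, 6, 8, 12, 9, 6, 3],
      [1, 1, 2, 3, 3, 2, 1], [2, 3, 4, 6, 5, 4, 2], [-1, -2, -2, -3, -2, -1, 0]] = true := by decide +kernel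

end Cfsg.Agent.Lib.Schur.ChevLift
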