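import Cfsg.Agent.Lib.Schur.ChevUniv
import Cfsg.Agent.Lib.Schur.ChevTorusB2
import Cfsg.Agent.Lib.Schur.ChevLacedE6
import Cfsg.Agent.Lib.Schur.ChevLacedE7
import Cfsg.Agent.Lib.Schur.ChevLacedE8
import Cfsg.Agent.Lib.Schur.Perfect

/-!
Every central extension of one of the seven Chevalley groups over a field with more than four elements contains a
lift of the root elements; central extensions of the group presented by (R1), (R2) split.
-/

set_option autoImplicit false

namespace Cfsg.Agent.Lib.Schur.ChevLift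

open Cfsg.Lie Cfsg.Agent.Lib.Chev
open scoped commutatorElement

/-- A field with more than four elements has a unit whose square and cube are not one. -/
theorem exists_unit_sq_cube_of_finset {F : Type*} [Field F] (hs : ∃ s : Finset F, 4 < s.card) :
    ∃ c : Fˣ, c ^ 2 ≠ 1 ∧ c ^ 3 ≠ 1 := by
  classical
  by_contra hcon
  push Not at hcon
  have hall : ∀ x : F, x = 0 ∨ x = 1 ∨ x = -1 ∨ x ^ 2 + x + 1 = 0 := by
    intro x
    by_cases h0 : x = 0
    · exact Or.inl h0
    by_cases h2 : x ^ 2 = 1
    · rcases mul_self_eq_one_iff.1 ((sq x).symm.trans h2) with e | e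
      exacts [Or.inr (Or.inl e), Or.inr (Or.inr (Or.inl e))]
    · have h3 := congrArg Units.val (hcon (Units.mk0 x h0) fun e => h2 (by simpa [Units.ext_iff] using e))
      rw [Units.val_pow_eq_pow_val, Units.val_mk0, Units.val_one] at h3
      by_cases h1 : x = 1
      · exact Or.inr (Or.inl h1)
      refine Or.inr (Or.inr (Or.inr ?_))
      refine mul_left_cancel₀ (sub_ne_zero.2 h1) ?_
      linear_combination h3
  obtain ⟨s, hcard⟩ := hs
  -- at most one root of the quadratic can occur unless `2 = 0`
  by_cases hq : ∃ w : F, w ^ 2 + w + 1 = 0 ∧ w ≠ 1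
  · obtain ⟨w, hw, hw1⟩ := hq
    have h2 : (2 : F) = 0 := by
      have hw0 : w ≠ 0 := fun e => by simp [e] at hw
      rcases hall (-w) with e | e | e | e
      · exact absurd (neg_eq_zero.1 e) hw0
      · linear_combination 2 * hw - 2 * (w + 1) * 0 + 2 * (1 : F) * 0 + (2 * w) * e + 2 * (1 + w) * 0 + 0 * e
      · exact absurd (neg_injective e) hw1
      · have e2 : (2 : F) * w = 0 := by linear_combination hw - e
        exact (mul_eq_zero.1 e2).resolve_right hw0
    have hsub : s ⊆ ({0, 1, w, -1 - w} : Finset F) := by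
      intro x _
      simp only [Finset.mem_insert, Finset.mem_singleton]
      rcases hall x with e | e | e | e
      · exact Or.inl e
      · exact Or.inr (Or.inl e)
      · exact Or.inr (Or.inl (by linear_combination e - h2))
      · have : (x - w) * (x - (-1 - w)) = 0 := by linear_combination e - hw
        rcases mul_eq_zero.1 this with h | h
        · exact Or.inr (Or.inr (Or.inl (sub_eq_zero.1 h)))
        · exact Or.inr (Or.inr (Or.inr (sub_eq_zero.1 h)))
    have := (Finset.card_le_card hsub).trans Finset.card_le_four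
    omega
  · push Not at hq
    have hsub : s ⊆ ({0, 1, -1} : Finset F) := by
      intro x _
      simp only [Finset.mem_insert, Finset.mem_singleton]
      rcases hall x with e | e | e | e
      exacts [Or.inl e, Or.inr (Or.inl e), Or.inr (Or.inr e), Or.inr (Or.inl (hq x e))]
    have := (Finset.card_le_card hsub).trans Finset.card_le_three
    omega

universe u

/-- **Lifts exist in every central extension.** -/
theorem exists_rootLift_of_mem {D : ChevalleyDatum} (hD : D ∈ sevenTypes) {F : Type*} [Field F]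
    (hF : ∃ c : Fˣ, c ^ 2 ≠ 1 ∧ c ^ 3 ≠ 1) :
    ∃ C, ∀ {Y : Type u} [Group Y] (π : Y →* GL D.Idx F), π.ker ≤ Subgroup.center Y →
      (∀ r < D.nroots, ∀ t : F, ∃ g : Y, (π g : Matrix D.Idx D.Idx F) = D.x F r t) →
      ∃ X, RootLift D C π X := by
  simp only [sevenTypes, List.mem_cons, List.not_mem_nil, or_false] at hD
  rcases hD with rfl | rfl | rfl | rfl | rfl | rfl | rfl
  exacts [⟨_, fun π hk hs => ⟨_, torusOK_G2.rootLift hk hs hF⟩⟩,
    ⟨_, fun π hk hs => ⟨_, torusSqOK_B2.rootLift hk hs hF⟩⟩,
    ⟨_, fun π hk hs => ⟨_, torusOK_D4.rootLift hk hs hF⟩⟩,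
    ⟨_, fun π hk hs => ⟨_, torusOK_F4.rootLift hk hs hF⟩⟩,
    ⟨_, fun π hk hs => ⟨_, laced_E6.rootLift hk hs⟩⟩,
    ⟨_, fun π hk hs => ⟨_, laced_E7.rootLift hk hs⟩⟩,
    ⟨_, fun π hk hs => ⟨_, laced_E8.rootLift hk hs⟩⟩]

variable {D : ChevalleyDatum} {F : Type*} [Field F]

/-- A lift in any group gives a map of the group presented by (R1), (R2). -/
theorem exists_hom_of_rootLift {C : Cert} {Y : Type*} [Group Y] {π : Y →* GL D.Idx F} {X : ℕ → F → Y}
    (L : RootLift D C π X) :
    ∃ f : D.SteinbergCover F →* Y, ∀ r < D.nroots, ∀ t : F, f (D.scGen F r t) = X r t := by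
  let gen : Fin D.nroots × F → Y := fun p => X p.1 p.2
  have hX : ∀ r < D.nroots, ∀ t : F, FreeGroup.lift gen (D.stX r t) = X r t := fun r hr t => by
    simp [ChevalleyDatum.stX, hr, gen]
  have hrels : ∀ g ∈ D.steinbergRelsAB F, FreeGroup.lift gen g = 1 := by
    rintro g (⟨r, t, u, hr, rfl⟩ | ⟨r, s, t, u, hr, hs, h1, h2, rfl⟩)
    · rw [map_mul, map_mul, map_inv, hX r hr, hX r hr, hX r hr, L.add r hr, mul_inv_cancel]
    · rw [L.checked.neg_eq hr] at h2
      have hw : FreeGroup.lift gen (D.stWord (D.commWord F r s t u)) = wordX X (D.commWord F r s t u) := by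
        simp only [ChevalleyDatum.stWord, wordX, map_list_prod, List.map_map]
        congr 1
        refine List.map_congr_left fun x hx => ?_
        rw [L.checked.commWord_eq hr hs] at hx
        obtain ⟨c, hc, rfl⟩ := List.mem_map.1 hx
        exact hX _ (L.checked.cTerms_lt hr hs c hc) _
      simp only [map_mul, map_inv, hX r hr, hX s hs, hw]
      rw [mul_assoc _ (X s u) (X r t), L.comm r hr s hs h1 h2 t u]
      group
  refine ⟨PresentedGroup.toGroup (f := gen) hrels, fun r hr t => ?_⟩
  simp only [ChevalleyDatum.scGen, ChevalleyDatum.stX, dif_pos hr]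
  exact PresentedGroup.toGroup.of _

/-- Central extensions of a perfect group presented by (R1), (R2) lift every homomorphism uniquely, if the root
elements lift in central extensions of the Chevalley group. -/
theorem existsUnique_lift_of_lift.{uF, uE, uG} {D : ChevalleyDatum} {F : Type uF} [Field F] (hD : D ∈ sevenTypes)
    (hperf : commutator (D.SteinbergCover F) = ⊤) {C : Cert}
    (hlift : ∀ {Y : Type max uF uE} [Group Y] (π : Y →* GL D.Idx F), π.ker ≤ Subgroup.center Y →
      (∀ r < D.nroots, ∀ t : F, ∃ g : Y, (π g : Matrix D.Idx D.Idx F) = D.x F r t) →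
      ∃ X, RootLift D C π X)
    {G₁ : Type uG} {E : Type uE} [Group G₁] [Group E] (π₁ : E →* G₁) (hπ : Function.Surjective π₁)
    (hc : π₁.ker ≤ Subgroup.center E) (σ : D.SteinbergCover F →* G₁) :
    ∃! τ : D.SteinbergCover F →* E, π₁.comp τ = σ := by
  obtain ⟨C₀, θ, U⟩ := exists_univMap_cover (F := F) hD
  have hP : Group.IsPerfect (D.SteinbergCover F) := ⟨hperf⟩
  let P := pullback σ π₁
  obtain ⟨hsurjP, hkerP⟩ := pullback_fst_central σ π₁ hπ hc
  set p₁ : P →* D.SteinbergCover F := (MonoidHom.fst _ _).comp P.subtype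
  have hmap : (commutator P).map p₁ = ⊤ := by
    rw [commutator_def, Subgroup.map_commutator, ← MonoidHom.range_eq_map, MonoidHom.range_eq_top.mpr hsurjP,
      ← commutator_def, hperf]
  have hperfP : Group.IsPerfect (commutator P) := by
    rw [Subgroup.isPerfect_iff]
    refine (commutator_eq_of_central_supplement _ p₁.ker hkerP fun z => ?_).symm
    obtain ⟨l, hl, hlz⟩ := hmap.ge (Subgroup.mem_top (p₁ z))
    exact ⟨l, hl, l⁻¹ * z, by simp [MonoidHom.mem_ker, hlz], by group⟩
  set q : commutator P →* D.SteinbergCover F := p₁.comp (commutator P).subtype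
  set π : commutator P →* GL D.Idx F := (D.group F).subtype.comp (θ.comp q)
  have hker : π.ker ≤ Subgroup.center (commutator P) := by
    intro y hy
    refine mem_center_of_perfect hperfP fun x => ?_
    have h1 : q y ∈ Subgroup.center (D.SteinbergCover F) := by
      rw [← U.ker_eq_center]
      simpa [π, MonoidHom.mem_ker] using hy
    have h2 : q ⁅y, x⁆ = 1 := by
      rw [map_commutatorElement, commutatorElement_eq_one_iff_mul_comm]
      exact (Subgroup.mem_center_iff.1 h1 _).symm
    have h3 : ((⁅y, x⁆ : commutator P) : P) ∈ Subgroup.center P := hkerP (MonoidHom.mem_ker.2 h2)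
    rw [Subgroup.mem_center_iff]
    exact fun g => Subtype.ext (Subgroup.mem_center_iff.1 h3 g)
  have hs : ∀ r < D.nroots, ∀ t : F, ∃ g : commutator P, (π g : Matrix D.Idx D.Idx F) = D.x F r t := by
    intro r hr t
    obtain ⟨l, hl, hlz⟩ := hmap.ge (Subgroup.mem_top (D.scGen F r t))
    refine ⟨⟨l, hl⟩, ?_⟩
    have e := U.map_X r t hr
    rw [← hlz] at e
    exact e
  obtain ⟨X, L⟩ := hlift π hker hs
  obtain ⟨f, hf⟩ := exists_hom_of_rootLift L
  have hgens : ∀ {M : Type _} [Group M] (a b : D.SteinbergCover F →* M),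
      (∀ r < D.nroots, ∀ t : F, a (D.scGen F r t) = b (D.scGen F r t)) → a = b := fun a b h =>
    PresentedGroup.ext fun p => by
      have := h p.1 p.1.isLt p.2
      simpa [ChevalleyDatum.scGen, ChevalleyDatum.stX, PresentedGroup.of] using this
  have hid : q.comp f = MonoidHom.id _ := by
    refine perfect_lift_unique hP θ ((U.ker_eq_center).le) _ _ (hgens _ _ fun r hr t => ?_)
    simp only [MonoidHom.comp_apply, MonoidHom.id_apply, hf r hr]
    exact Subtype.ext (Units.ext ((L.map_X r hr t).trans (U.map_X r t hr).symm))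
  refine ⟨((MonoidHom.snd _ _).comp P.subtype).comp ((commutator P).subtype.comp f), ?_, fun τ hτ => ?_⟩
  · refine MonoidHom.ext fun g => ?_
    have h1 : σ (q (f g)) = π₁ (((f g : P) : D.SteinbergCover F × E).2) := mem_pullback.1 (f g : P).2
    rw [show q (f g) = g from DFunLike.congr_fun hid g] at h1
    exact h1.symm
  · refine perfect_lift_unique hP π₁ hc _ _ (hτ.trans ?_)
    refine MonoidHom.ext fun g => ?_
    have h1 : σ (q (f g)) = π₁ (((f g : P) : D.SteinbergCover F × E).2) := mem_pullback.1 (f g : P).2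
    rw [show q (f g) = g from DFunLike.congr_fun hid g] at h1
    exact h1

/-- Central extensions of a perfect group presented by (R1), (R2) lift every homomorphism uniquely. -/
theorem existsUnique_lift (hD : D ∈ sevenTypes) (hperf : commutator (D.SteinbergCover F) = ⊤)
    (hF : ∃ c : Fˣ, c ^ 2 ≠ 1 ∧ c ^ 3 ≠ 1)
    {G₁ E : Type*} [Group G₁] [Group E] (π₁ : E →* G₁) (hπ : Function.Surjective π₁)
    (hc : π₁.ker ≤ Subgroup.center E) (σ : D.SteinbergCover F →* G₁) :
    ∃! τ : D.SteinbergCover F →* E, π₁.comp τ = σ := by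
  obtain ⟨C, hlift⟩ := exists_rootLift_of_mem hD hF
  exact existsUnique_lift_of_lift hD hperf hlift π₁ hπ hc σ

end Cfsg.Agent.Lib.Schur.ChevLift
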