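import Cfsg.Agent.Lib.Schur.ChevTorusSmall

/-!
Commutation of preimages of root elements over the fields with three and four elements.
-/

set_option autoImplicit false

namespace Cfsg.Agent.Lib.Schur.ChevLift

open Cfsg.Lie Cfsg.Agent.Lib.Chev
open scoped commutatorElement

section checks

variable (D : ChevalleyDatum) (C : Cert)

/-- Commuting and separated modulo `n`. -/
def cmSepB (n r s : ℕ) : Bool := cmB D C r s && (sepModB D n r s || sepModB D n s r)

/-- A term `r` of the commutator of `(a, b)` of degree one in the first variable, all other terms and both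
conjugations being under control. -/
def selfWitB (n r a b : ℕ) : Bool :=
  Nat.blt b D.nroots && !Nat.beq b a && !Nat.beq b (ng D a) && !Nat.beq b r && !Nat.beq b (ng D r) && cmB D C r a &&
    (cTerms C r b).all (fun c => cmSepB D C n a c.1) &&
    (cTerms C a b).any (fun c => Nat.beq c.1 r && (decide (c.2.1 = 1) || decide (c.2.1 = -1)) && Nat.beq c.2.2.1 1) &&
    Nat.beq ((cTerms C a b).countP fun c => Nat.beq c.1 r) 1 &&
    (cTerms C a b).all fun c => Nat.beq c.1 r || cmSepB D C n r c.1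

/-- The test for one root. -/
def selfModB (n r : ℕ) : Bool :=
  ((List.range D.rank).any fun i => !decide (D.cartan i r % n = 0)) &&
    (List.range D.nroots).any fun a => (chainList D a).any fun x => selfWitB D C n r a x.1

/-- `(r, s)` is carried to `(c, b)` with sign `κ` by a decomposition `s = a + b`. -/
def moveB (r s : ℕ) : List (ℕ × ℕ × ℤ × ℕ) :=
  (decs D s).filterMap fun p => match cE C p.1 p.2, cE C r p.1 with
    | [e], [f] =>
      if Nat.blt p.1 D.nroots && Nat.blt p.2 D.nroots && !Nat.beq p.2 p.1 && !Nat.beq p.2 (ng D p.1) &&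
          !Nat.beq p.1 r && !Nat.beq p.1 (ng D r) && Nat.ble (cE C p.2 p.1).length 1 &&
          Nat.ble (cE C p.1 r).length 1 && Nat.beq e.1 s && (decide (e.2 = 1) || decide (e.2 = -1)) &&
          (decide (f.2 = 1) || decide (f.2 = -1)) && cmB D C r p.2 && cmB D C f.1 p.2 && Nat.blt f.1 D.nroots
      then some (f.1, p.2, e.2 * f.2, p.1) else none
    | _, _ => none

/-- Two moves landing on opposite orders with the same sign. -/
def triangleB (r s : ℕ) : Bool :=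
  (moveB D C r s).any fun x => (moveB D C r s).any fun y =>
    Nat.beq y.1 x.2.1 && Nat.beq y.2.1 x.1 && decide (y.2.2.1 = x.2.2.1)

end checks

variable {D : ChevalleyDatum} {C : Cert} {F : Type*} [Field F] {Γ : Type*} [Group Γ]
variable {π : Γ →* GL D.Idx F} (hc : Checked D C) (hker : π.ker ≤ Subgroup.center Γ)
  (hsurj : ∀ r < D.nroots, ∀ t : F, ∃ g : Γ, (π g : Matrix D.Idx D.Idx F) = D.x F r t)

local notation "ℓ" => Laced.lf π

include hc hsurj in
theorem commute_map_lf {r s : ℕ} (hr : r < D.nroots) (hs : s < D.nroots) (e : cmB D C r s = true) (t u : F) :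
    Commute (π (ℓ r t)) (π (ℓ s u)) := by
  rw [TorusOK.map_lf' hc hsurj hr, TorusOK.map_lf' hc hsurj hs]
  exact TorusModOK.commute_x_of_cmB hc hr hs e t u

include hc hsurj in
theorem map_lf_add {r : ℕ} (hr : r < D.nroots) (t t' : F) : π (ℓ r (t + t')) = π (ℓ r t * ℓ r t') := by
  rw [map_mul, TorusOK.map_lf' hc hsurj hr, TorusOK.map_lf' hc hsurj hr, TorusOK.map_lf' hc hsurj hr]
  exact Units.ext (by simp only [Units.val_mul, coe_xGL, hc.x_add hr])

include hc hker hsurj in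
theorem lf_comm_add {r s : ℕ} (hr : r < D.nroots) (hs : s < D.nroots) (e : cmB D C r s = true) :
    (∀ t t' u : F, ⁅ℓ r (t + t'), ℓ s u⁆ = ⁅ℓ r t, ℓ s u⁆ * ⁅ℓ r t', ℓ s u⁆) ∧
      ∀ t u u' : F, ⁅ℓ r t, ℓ s (u + u')⁆ = ⁅ℓ r t, ℓ s u⁆ * ⁅ℓ r t, ℓ s u'⁆ := by
  have hz := fun t u => ChevBr.comm_mem_center hker (commute_map_lf hc hsurj hr hs e t u)
  exact ⟨fun t t' u => by rw [ChevBr.comm_eq hker (map_lf_add hc hsurj hr t t') rfl, ChevBr.comm_mul_left (hz t' u)],
    fun t u u' => by rw [ChevBr.comm_eq hker rfl (map_lf_add hc hsurj hs u u'), ChevBr.comm_mul_right (hz t u')]⟩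

include hc hker hsurj in
theorem lf_comm_of_cmSepB {n r s : ℕ} (c : Fˣ) (hcn : orderOf c = n) (hr : r < D.nroots) (hs : s < D.nroots)
    (e : cmSepB D C n r s = true) (t u : F) : ⁅ℓ r t, ℓ s u⁆ = 1 := by
  simp only [cmSepB, Bool.and_eq_true, Bool.or_eq_true] at e
  obtain ⟨hcm, hsep⟩ := e
  have hex : ∀ x y, sepModB D n x y = true → ∃ g χ, Tor D π g χ ∧ χ x = 1 ∧ (χ y : F) ≠ 1 := by
    intro x y h
    simp only [sepModB, List.any_eq_true, List.mem_range, Bool.and_eq_true, decide_eq_true_eq, Bool.not_eq_true',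
      decide_eq_false_iff_not] at h
    obtain ⟨i, hi, j, hj, a, -, b, -, e0, e1⟩ := h
    obtain ⟨g, χ, hg, hχ⟩ := TorusOK.exists_tor hc hsurj hi hj c a b
    refine ⟨g, χ, hg, ?_, ?_⟩
    · rw [hχ, ← orderOf_dvd_iff_zpow_eq_one, hcn]
      exact Int.dvd_of_emod_eq_zero e0
    · rw [ne_eq, Units.val_eq_one, hχ, ← orderOf_dvd_iff_zpow_eq_one, hcn]
      exact fun e => e1 (Int.emod_eq_zero_of_dvd e)
  obtain ⟨hl, hrg⟩ := lf_comm_add hc hker hsurj hr hs hcm
  have hinv : ∀ {g : Γ} {χ : ℕ → Fˣ}, Tor D π g χ → ∀ t u : F,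
      ⁅ℓ r ((χ r : F) * t), ℓ s ((χ s : F) * u)⁆ = ⁅ℓ r t, ℓ s u⁆ := fun {g χ} hg t u => by
    conv_rhs => rw [← ChevBr.conj_of_commute hker (commute_map_lf hc hsurj hr hs hcm t u) g]
    exact (ChevBr.comm_eq hker (TorusOK.tor_conj hc hsurj hg hr t rfl) (TorusOK.tor_conj hc hsurj hg hs u rfl)).symm
  have hkill : Kill D π r s := by
    rcases hsep with h | h
    · obtain ⟨g, χ, hg, h1, h2⟩ := hex _ _ h; exact Kill.of_tor hg (Or.inl ⟨h1, h2⟩)
    · obtain ⟨g, χ, hg, h1, h2⟩ := hex _ _ h; exact Kill.of_tor hg (Or.inr ⟨h2, h1⟩)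
  have hz := fun t u => ChevBr.comm_mem_center hker (commute_map_lf hc hsurj hr hs hcm t u)
  refine hkill (fun t u => ⁅ℓ r t, ℓ s u⁆) hz (fun t u => ?_)
    (fun t t' u => by rw [hl, Subgroup.mem_center_iff.mp (hz t' u)]) hrg (fun hg => hinv hg) t u
  rw [map_commutatorElement, commutatorElement_eq_one_iff_mul_comm]
  exact (commute_map_lf hc hsurj hr hs hcm t u).eq

include hc hker hsurj in
/-- Preimages of one root subgroup commute. -/
theorem lf_self_of_selfModB {n r : ℕ} (c : Fˣ) (hcn : orderOf c = n) (hr : r < D.nroots)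
    (hwit : selfModB D C n r = true) (t u : F) : ⁅ℓ r t, ℓ r u⁆ = 1 := by
  simp only [selfModB, selfWitB, Bool.and_eq_true, List.any_eq_true, List.all_eq_true, List.mem_range,
    Bool.or_eq_true, decide_eq_true_eq, Nat.blt_eq, Bool.not_eq_true', natBeq_eq, decide_eq_false_iff_not] at hwit
  obtain ⟨-, a, ha, x, -, ⟨⟨⟨⟨⟨⟨⟨⟨⟨hb, h1⟩, h2⟩, h3⟩, h4⟩, hra⟩, hrb⟩, z, hz, ⟨⟨hz1, hzε⟩, hz3⟩⟩, hcount⟩, hall⟩⟩ := hwit
  set b := x.1
  obtain ⟨l1, l2, hl⟩ := List.append_of_mem hz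
  have hlt := hc.cTerms_lt ha hb
  have hwmap : ∀ (w : List (ℕ × F)), (∀ y ∈ w, y.1 < D.nroots) →
      ((π (wordX ℓ w) : GL D.Idx F) : Matrix D.Idx D.Idx F) = D.wordMat F w := by
    intro w
    induction w with
    | nil => simp [wordX, ChevalleyDatum.wordMat]
    | cons y w ih =>
      intro hw
      simp only [wordX, ChevalleyDatum.wordMat, List.map_cons, List.prod_cons, map_mul, Units.val_mul]
      rw [TorusOK.map_lf' hc hsurj (hw y List.mem_cons_self), coe_xGL]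
      exact congrArg _ (ih fun q hq => hw q (List.mem_cons_of_mem _ hq))
  -- `x_s(v) x_p(w) = x_p(w) x_s(v) W`, read on preimages
  have hform : ∀ {p s : ℕ}, p < D.nroots → s < D.nroots → s ≠ p → s ≠ ng D p → ∀ v w : F,
      π (ℓ s w * ℓ p v) = π (ℓ p v * ℓ s w * wordX ℓ (D.commWord F p s v w)) := by
    intro p s hp hs e1 e2 v w
    refine Units.ext ?_
    simp only [map_mul, Units.val_mul]
    rw [hwmap _ fun y hy => ?_, TorusOK.map_lf' hc hsurj hs, TorusOK.map_lf' hc hsurj hp, coe_xGL, coe_xGL]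
    · exact hc.commutator_formula hp hs e1 e2 v w
    · rw [hc.commWord_eq hp hs] at hy
      obtain ⟨q, hq, rfl⟩ := List.mem_map.1 hy
      exact hc.cTerms_lt hp hs q hq
  -- the lifted commutator is fixed by `ℓ r t`
  set t₀ := -(z.2.1 : F) * u
  set A := ℓ a (-t₀)
  set B := ℓ b (-1 : F)
  have hneg : ∀ {p : ℕ}, p < D.nroots → ∀ v : F, π (ℓ p (-v)) = (π (ℓ p v))⁻¹ := fun hp v => by
    rw [TorusOK.map_lf' hc hsurj hp, TorusOK.map_lf' hc hsurj hp]; exact Units.ext rfl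
  have hW : π ⁅B, A⁆ = π (wordX ℓ (D.commWord F a b t₀ 1)) := by
    have e := hform ha hb h1 h2 t₀ 1
    simp only [map_mul] at e
    rw [map_commutatorElement, commutatorElement_def]
    simp only [A, B, hneg ha, hneg hb, inv_inv]
    rw [mul_assoc _ (π (ℓ b 1)) (π (ℓ a t₀)), e]
    group
  have hfix : Commute (ℓ r t) ⁅B, A⁆ := by
    rw [commute_iff_eq, ← mul_inv_eq_iff_eq_mul,
      show ℓ r t * ⁅B, A⁆ * (ℓ r t)⁻¹ = ⁅ℓ r t * B * (ℓ r t)⁻¹, ℓ r t * A * (ℓ r t)⁻¹⁆ by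
        simp only [commutatorElement_def]; group]
    set Wl := wordX ℓ (D.commWord F r b (-t) (-1))
    have eA : π (ℓ r t * A * (ℓ r t)⁻¹) = π A := by
      simp only [map_inv, map_mul, A]
      rw [(commute_map_lf hc hsurj hr ha hra t _).eq, mul_inv_cancel_right]
    have eB : π (ℓ r t * B * (ℓ r t)⁻¹) = π (B * Wl) := by
      have e := hform hr hb h3 h4 (-t) (-1)
      simp only [map_mul, hneg hr] at e
      simp only [map_mul, map_inv, B]
      rw [mul_assoc, e]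
      group
      rfl
    have hWA : Commute Wl A := by
      refine Commute.list_prod_left _ _ ?_
      intro q hq
      obtain ⟨y, hy, rfl⟩ := List.mem_map.1 hq
      rw [hc.commWord_eq hr hb] at hy
      obtain ⟨c', hc', rfl⟩ := List.mem_map.1 hy
      exact (commutatorElement_eq_one_iff_mul_comm.1
        (lf_comm_of_cmSepB hc hker hsurj c hcn ha (hc.cTerms_lt hr hb c' hc') (hrb c' hc') _ _)).symm
    rw [ChevBr.comm_eq hker eB eA,
      show ⁅B * Wl, A⁆ = B * ⁅Wl, A⁆ * B⁻¹ * ⁅B, A⁆ by simp only [commutatorElement_def]; group,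
      commutatorElement_eq_one_iff_mul_comm.2 hWA.eq]
    group
  -- only the term `r` contributes
  set f : ℕ × ℤ × ℕ × ℕ → ℕ × F := fun y => (y.1, (y.2.1 : F) * (-t₀) ^ y.2.2.1 * (1 : F) ^ y.2.2.2)
  have hw : D.commWord F a b t₀ 1 = l1.map f ++ (r, u) :: l2.map f := by
    rw [hc.commWord_eq ha hb, hl, List.map_append, List.map_cons]
    congr 2
    rw [hz1, hz3, pow_one, one_pow, mul_one, Prod.mk.injEq]
    refine ⟨rfl, ?_⟩
    rcases hzε with e | e <;> simp [t₀, e]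
  have hother : ∀ y ∈ l1 ++ l2, cmSepB D C n r y.1 = true := by
    rw [hl, List.countP_append, List.countP_cons] at hcount
    simp only [hz1, decide_true, if_true] at hcount
    intro y hy
    refine (hall y (hl ▸ ?_)).resolve_left ?_
    · rcases List.mem_append.1 hy with h | h
      exacts [List.mem_append_left _ h, List.mem_append_right _ (List.mem_cons_of_mem _ h)]
    · obtain ⟨h5, h6⟩ := Nat.add_eq_zero_iff.1 (Nat.succ.inj (Eq.trans (by rw [← Nat.add_assoc]) hcount) :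
        List.countP (fun q => decide (q.1 = r)) l1 + List.countP (fun q => decide (q.1 = r)) l2 = 0)
      rcases List.mem_append.1 hy with h | h
      · simpa using List.countP_eq_zero.1 h5 y h
      · simpa using List.countP_eq_zero.1 h6 y h
  have hcent : ∀ y : ℕ × F, y.1 < D.nroots → (y.1 = r ∨ cmSepB D C n r y.1 = true) →
      Commute (π (ℓ r t)) (π (ℓ y.1 y.2)) := by
    rintro ⟨p, v⟩ hp (rfl | e)
    · simp only [TorusOK.map_lf' hc hsurj hr]
      exact Units.ext (by simp only [Units.val_mul, coe_xGL, hc.x_add hr, add_comm])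
    · simp only [cmSepB, Bool.and_eq_true] at e
      exact commute_map_lf hc hsurj hr hp e.1 t v
  have hkill : ∀ l : List (ℕ × ℤ × ℕ × ℕ), (∀ y ∈ l, y.1 < D.nroots ∧ cmSepB D C n r y.1 = true) →
      Commute (ℓ r t) (wordX ℓ (l.map f)) := by
    intro l hl
    refine Commute.list_prod_right _ _ ?_
    intro q hq
    obtain ⟨p, hp, rfl⟩ := List.mem_map.1 hq
    obtain ⟨y, hy, rfl⟩ := List.mem_map.1 hp
    exact commutatorElement_eq_one_iff_mul_comm.1
      (lf_comm_of_cmSepB hc hker hsurj c hcn hr (hl y hy).1 (hl y hy).2 _ _)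
  have hmem : ∀ y ∈ l1 ++ l2, y.1 < D.nroots := fun y hy => hlt y (hl ▸ by
    rcases List.mem_append.1 hy with h | h
    exacts [List.mem_append_left _ h, List.mem_append_right _ (List.mem_cons_of_mem _ h)])
  have c1 := hkill l1 fun y hy => ⟨hmem y (List.mem_append_left _ hy), hother y (List.mem_append_left _ hy)⟩
  have c2 := hkill l2 fun y hy => ⟨hmem y (List.mem_append_right _ hy), hother y (List.mem_append_right _ hy)⟩
  have e2 : π (wordX ℓ (l1.map f)) * π (ℓ r u) * π (wordX ℓ (l2.map f)) = π ⁅B, A⁆ := by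
    rw [hW, hw, ← map_mul, ← map_mul]
    simp [wordX, mul_assoc]
  have hu : π (ℓ r u) = π ((wordX ℓ (l1.map f))⁻¹ * ⁅B, A⁆ * (wordX ℓ (l2.map f))⁻¹) := by
    simp only [map_mul, map_inv, ← e2]
    group
  rw [ChevBr.comm_eq hker rfl hu]
  exact commutatorElement_eq_one_iff_mul_comm.2 ((c1.inv_right.mul_right hfix).mul_right c2.inv_right).eq

include hc hker hsurj in
/-- The orthogonal pair of a triangle over the field with three elements. -/
theorem lf_comm_of_triangle {r s : ℕ} (hr : r < D.nroots) (hs : s < D.nroots) (hcm : cmB D C r s = true)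
    (htri : triangleB D C r s = true) (h3 : (3 : F) = 0) (hall : ∀ v : F, v = 0 ∨ v = 1 ∨ v = -1) (t u : F) :
    ⁅ℓ r t, ℓ s u⁆ = 1 := by
  simp only [triangleB, List.any_eq_true, Bool.and_eq_true, decide_eq_true_eq, natBeq_eq] at htri
  obtain ⟨x, hx, y, hy, ⟨hyx1, hyx2⟩, hκ⟩ := htri
  have key : ∀ x ∈ moveB D C r s, cmB D C x.1 x.2.1 = true ∧ x.1 < D.nroots ∧ x.2.1 < D.nroots ∧
      (x.2.2.1 = 1 ∨ x.2.2.1 = -1) ∧ ⁅ℓ r 1, ℓ s 1⁆ = ⁅ℓ x.1 (x.2.2.1 : F), ℓ x.2.1 1⁆ := by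
    intro x hx
    simp only [moveB, List.mem_filterMap] at hx
    obtain ⟨⟨a, b⟩, -, hx⟩ := hx
    dsimp only at hx
    rcases hab : cE C a b with _ | ⟨e, _ | _⟩ <;> rcases hra : cE C r a with _ | ⟨f, _ | _⟩ <;>
      rw [hab, hra] at hx <;> simp only [reduceCtorEq] at hx
    rw [Option.ite_none_right_eq_some, Option.some.injEq] at hx
    obtain ⟨hx, rfl⟩ := hx
    simp only [Bool.and_eq_true, Bool.or_eq_true, Bool.not_eq_true', decide_eq_true_eq, natBeq_eq, Nat.blt_eq,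
      Nat.ble_eq, decide_eq_false_iff_not] at hx
    obtain ⟨⟨⟨⟨⟨⟨⟨⟨⟨⟨⟨⟨⟨ha, hb⟩, h1⟩, h2⟩, h4⟩, h5⟩, hl1⟩, hl2⟩, he⟩, hε⟩, hδ⟩, hrb⟩, hfb⟩, hf⟩ := hx
    obtain ⟨es, ε⟩ := e
    obtain ⟨c, δ⟩ := f
    dsimp only at *
    subst he
    have hpm : ∀ {m : ℤ}, (m = 1 ∨ m = -1) → (m : F) * (m : F) = 1 := by rintro m (rfl | rfl) <;> simp
    refine ⟨hfb, hf, hb, by rcases hε with rfl | rfl <;> rcases hδ with rfl | rfl <;> simp, ?_⟩
    have hcomm : ∀ v w : F, ⁅xGL hc F ha v, xGL hc F hb w⁆ = xGL hc F hs ((ε : F) * v * w) := by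
      intro v w
      have hw : D.commWord F a b (-v) (-w) = [(es, -((ε : F) * v * w))] := by
        rw [hc.commWord_eq ha hb, Checked.cTerms_short (by rw [hab]; rfl) hl1, hab]
        simp [mul_assoc]
      have hf : xGL hc F hb (-w) * xGL hc F ha (-v) =
          xGL hc F ha (-v) * xGL hc F hb (-w) * xGL hc F hs (-((ε : F) * v * w)) := by
        refine Units.ext ?_
        simp only [Units.val_mul, coe_xGL]
        rw [hc.commutator_formula ha hb h1 h2, hw]
        simp [ChevalleyDatum.wordMat]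
      have hinv : ∀ {x : ℕ} (hx : x < D.nroots) (v : F), xGL hc F hx (-v) = (xGL hc F hx v)⁻¹ :=
        fun hx v => Units.ext rfl
      rw [hinv, hinv, hinv] at hf
      rw [commutatorElement_def, ← inv_inj, ← mul_right_inj ((xGL hc F ha v)⁻¹ * (xGL hc F hb w)⁻¹), ← hf]
      group
    set A := ℓ a (1 : F)
    set B := ℓ b (ε : F)
    have hS : π (ℓ es 1) = π ⁅A, B⁆ := by
      rw [map_commutatorElement, TorusOK.map_lf' hc hsurj ha, TorusOK.map_lf' hc hsurj hb, hcomm,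
        TorusOK.map_lf' hc hsurj hs, mul_one, hpm hε]
    have eA : π (ℓ r 1 * A * (ℓ r 1)⁻¹) = π (A * ℓ c (δ : F)) := by
      have hw : D.commWord F r a (-1) 1 = [(c, (δ : F))] := by
        rw [hc.commWord_eq hr ha, Checked.cTerms_short (by rw [hra]; rfl) hl2, hra]
        simp
      rw [map_mul, map_mul, map_inv, map_mul, TorusOK.map_lf' hc hsurj hr, TorusOK.map_lf' hc hsurj ha,
        TorusOK.map_lf' hc hsurj hf]
      have e : xGL hc F ha (1 : F) * xGL hc F hr (-1) =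
          xGL hc F hr (-1) * xGL hc F ha 1 * xGL hc F hf (δ : F) := by
        refine Units.ext ?_
        simp only [Units.val_mul, coe_xGL]
        rw [hc.commutator_formula hr ha h4 h5, hw]
        simp [ChevalleyDatum.wordMat]
      have hneg : xGL hc F hr (-1) = (xGL hc F hr 1)⁻¹ := Units.ext rfl
      rw [hneg] at e
      rw [mul_assoc, e]
      group
    have eB : π (ℓ r 1 * B * (ℓ r 1)⁻¹) = π B := by
      simp only [map_mul, map_inv, B]
      rw [(commute_map_lf hc hsurj hr hb hrb 1 _).eq, mul_inv_cancel_right]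
    have hz : ⁅ℓ c (δ : F), B⁆ ∈ Subgroup.center Γ :=
      ChevBr.comm_mem_center hker (commute_map_lf hc hsurj hf hb hfb _ _)
    rw [ChevBr.comm_eq hker rfl hS, show ⁅ℓ r 1, ⁅A, B⁆⁆ =
        ⁅ℓ r 1 * A * (ℓ r 1)⁻¹, ℓ r 1 * B * (ℓ r 1)⁻¹⁆ * ⁅A, B⁆⁻¹ by simp only [commutatorElement_def]; group,
      ChevBr.comm_eq hker eA eB, show ⁅A * ℓ c (δ : F), B⁆ = A * ⁅ℓ c (δ : F), B⁆ * A⁻¹ * ⁅A, B⁆ by
        simp only [commutatorElement_def]; group, Subgroup.mem_center_iff.mp hz A]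
    rw [mul_inv_cancel_right, mul_inv_cancel_right, Int.cast_mul]
    -- move the sign to the first entry
    obtain ⟨hl, hrg⟩ := lf_comm_add hc hker hsurj hf hb hfb
    have hnl : ∀ v w : F, ⁅ℓ c (-v), ℓ b w⁆ = ⁅ℓ c v, ℓ b w⁆⁻¹ := fun v w => by
      have h0 := hl 0 0 w
      rw [add_zero, left_eq_mul] at h0
      exact eq_inv_of_mul_eq_one_left (by rw [← hl, neg_add_cancel, h0])
    have hnr : ∀ v w : F, ⁅ℓ c v, ℓ b (-w)⁆ = ⁅ℓ c v, ℓ b w⁆⁻¹ := fun v w => by
      have h0 := hrg v 0 0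
      rw [add_zero, left_eq_mul] at h0
      exact eq_inv_of_mul_eq_one_left (by rw [← hrg, neg_add_cancel, h0])
    rcases hε with rfl | rfl <;> rcases hδ with rfl | rfl <;> simp [B, hnl, hnr]
  obtain ⟨hfb, hc1, hb1, hκ1, e1⟩ := key x hx
  obtain ⟨hfb', -, -, -, e2⟩ := key y hy
  rw [hyx1, hyx2, hκ] at e2
  obtain ⟨hl, hrg⟩ := lf_comm_add hc hker hsurj hr hs hcm
  have hone : ⁅ℓ r 1, ℓ s 1⁆ = 1 := by
    obtain ⟨gl, gr⟩ := lf_comm_add hc hker hsurj hb1 hc1 (hyx1 ▸ hyx2 ▸ hfb')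
    have hcc : ⁅ℓ r 1, ℓ s 1⁆ * ⁅ℓ r 1, ℓ s 1⁆ = 1 := by
      nth_rw 1 [e1]
      rw [e2]
      have hsw : ⁅ℓ x.1 (x.2.2.1 : F), ℓ x.2.1 1⁆ = ⁅ℓ x.2.1 (x.2.2.1 : F), ℓ x.1 1⁆⁻¹ := by
        rw [commutatorElement_inv]
        rcases hκ1 with e | e <;> rw [e]
        · simp
        · obtain ⟨kl, kr⟩ := lf_comm_add hc hker hsurj hc1 hb1 hfb
          have h0 := kr 0 0 0
          simp only [Int.cast_neg, Int.cast_one]
          have p1 : ∀ v w : F, ⁅ℓ x.1 (-v), ℓ x.2.1 w⁆ = ⁅ℓ x.1 v, ℓ x.2.1 w⁆⁻¹ := fun v w => by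
            have h0 := kl 0 0 w
            rw [add_zero, left_eq_mul] at h0
            exact eq_inv_of_mul_eq_one_left (by rw [← kl, neg_add_cancel, h0])
          have p2 : ∀ v w : F, ⁅ℓ x.1 v, ℓ x.2.1 (-w)⁆ = ⁅ℓ x.1 v, ℓ x.2.1 w⁆⁻¹ := fun v w => by
            have h0 := kr v 0 0
            rw [add_zero, left_eq_mul] at h0
            exact eq_inv_of_mul_eq_one_left (by rw [← kr, neg_add_cancel, h0])
          rw [p1, p2]
      rw [hsw, inv_mul_cancel]
    have hcube : ⁅ℓ r 1, ℓ s 1⁆ * ⁅ℓ r 1, ℓ s 1⁆ * ⁅ℓ r 1, ℓ s 1⁆ = 1 := by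
      rw [← hl, ← hl, show (1 : F) + 1 + 1 = 0 by linear_combination h3]
      have h0 := hl 0 0 1
      rw [add_zero] at h0
      exact left_eq_mul.mp h0
    rwa [hcc, one_mul] at hcube
  have z1 : ∀ w : F, ⁅ℓ r 0, ℓ s w⁆ = 1 := fun w => by
    have h0 := hl 0 0 w; rw [add_zero] at h0; exact left_eq_mul.mp h0
  have z2 : ∀ v : F, ⁅ℓ r v, ℓ s 0⁆ = 1 := fun v => by
    have h0 := hrg v 0 0; rw [add_zero] at h0; exact left_eq_mul.mp h0
  have n1 : ∀ v w : F, ⁅ℓ r (-v), ℓ s w⁆ = ⁅ℓ r v, ℓ s w⁆⁻¹ := fun v w =>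
    eq_inv_of_mul_eq_one_left (by rw [← hl, neg_add_cancel, z1])
  have n2 : ∀ v w : F, ⁅ℓ r v, ℓ s (-w)⁆ = ⁅ℓ r v, ℓ s w⁆⁻¹ := fun v w =>
    eq_inv_of_mul_eq_one_left (by rw [← hrg, neg_add_cancel, z2])
  rcases hall t with rfl | rfl | rfl <;> rcases hall u with rfl | rfl | rfl <;> simp [z1, z2, n1, n2, hone]

end Cfsg.Agent.Lib.Schur.ChevLift
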