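import Cfsg.Agent.S1079
import Cfsg.Agent.S2395
import Cfsg.Agent.S2397
import Cfsg.Agent.Lib.Schur.ChevMult
import Cfsg.Agent.Lib.Schur.Cover

/-! The multipliers of the adjoint groups of type `E₆` and `E₇`. -/

set_option autoImplicit false

namespace Cfsg.Agent.Lib.Schur.ChevLift

open Cfsg.Lie Cfsg.Agent.Lib.Chev

universe u

theorem hasCyclicSchurMultiplier_of_center {D : ChevalleyDatum} {C : Cert} (hD : D ∈ sevenTypes) {F : Type u}
    [Field F] [Fintype F] (hx : D ∈ [chevB2, chevG2] → ∃ x : F, x ≠ 0 ∧ x ≠ 1)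
    (hl : Laced D C) (hadj : adjOK D = true) {d i₀ : ℕ} (hd : d.Prime) {m v : List ℤ} {M : List (List ℤ)}
    (hs : solveOK D d i₀ m v M = true)
    (hcent : Nat.card (Subgroup.center (D.SteinbergGroup F)) = Nat.gcd d (Fintype.card F - 1)) :
    Cfsg.HasCyclicSchurMultiplier ↥(D.group F) (Nat.gcd d (Fintype.card F - 1)) := by
  obtain ⟨C', θ, U⟩ := exists_univMap_group (F := F) hD
  obtain ⟨e, -⟩ := Cfsg.Agent.S2397.result (K := F) D hD hx
  set g := Nat.gcd d (Fintype.card F - 1) with hg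
  haveI : NeZero g := ⟨(Nat.gcd_pos_of_pos_left _ hd.pos).ne'⟩
  have hperf : commutator (D.SteinbergGroup F) = ⊤ := by
    rw [commutator_def, ← MonoidHom.range_eq_top.2 (show Function.Surjective e.toMonoidHom from e.surjective), MonoidHom.range_eq_map, ← Subgroup.map_commutator,
      ← commutator_def, Cfsg.Agent.S2395.result D hD hx]
  haveI : Finite (Subgroup.center (D.SteinbergGroup F)) := Nat.finite_of_card_ne_zero (hcent ▸ NeZero.ne g)
  have hcyc : IsCyclic (Subgroup.center (D.SteinbergGroup F)) := by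
    rcases (Nat.dvd_prime hd).1 (Nat.gcd_dvd_left d (Fintype.card F - 1)) with h1 | h1
    · haveI : Subsingleton (Subgroup.center (D.SteinbergGroup F)) := (Nat.card_eq_one_iff_unique.1 (hcent.trans h1)).1
      infer_instance
    · haveI : Fact d.Prime := ⟨hd⟩
      exact isCyclic_of_prime_card (hcent.trans h1)
  have hker : θ.ker ⊓ commutator (D.SteinbergGroup F) = Subgroup.center (D.SteinbergGroup F) := by
    rw [hperf, inf_top_eq, U.ker_eq_center]
  obtain ⟨f⟩ : Nonempty ((θ.ker ⊓ commutator (D.SteinbergGroup F) : Subgroup _) ≃* Multiplicative (ZMod g)) :=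
    ⟨(MulEquiv.subgroupCongr hker).trans (zmodCyclicMulEquiv hcyc |>.symm.trans
      (AddEquiv.toMultiplicative (ZMod.ringEquivCongr hcent).toAddEquiv))⟩
  refine hasSchurMultiplier_of_bound θ U.surj U.ker_eq_center.le f.toMonoidHom f.surjective
    fun Y _ τ hτ hc => ?_
  obtain ⟨-, hle⟩ := hl.card_ker_inf_commutator_le hadj τ hτ hc
  refine hle.trans ((card_cartanKer_le hs).trans (le_of_eq ?_))
  simp [g, Nat.gcd_comm, Nat.card_units]

end Cfsg.Agent.Lib.Schur.ChevLift
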