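import Cfsg.Agent.Lib.Schur.ChevTorsion
import Cfsg.Agent.Lib.Schur.ChevCentralExt
import Cfsg.Agent.Lib.Schur.ChevTorusCert
import Mathlib.FieldTheory.IsAlgClosed.AlgebraicClosure

/-! Projective representations of the Chevalley groups in the natural characteristic. -/

set_option autoImplicit false

namespace Cfsg.Agent.Lib.Schur.ChevLift

open Cfsg.Lie Cfsg.Agent.Lib.Chev
open scoped commutatorElement MatrixGroups

universe u v

variable {D : ChevalleyDatum} {F : Type u} [Field F] {Λ : Type v} [Field Λ]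

/-- Lifts in a central extension whose kernel consists of scalars over an algebraically closed field of the same
characteristic. -/
theorem exists_lift_proj [IsAlgClosed Λ] (hD : D ∈ sevenTypes) (hchar : ringChar Λ = ringChar F) {n : ℕ}
    (θ : D.SteinbergCover F →* ↥(D.group F))
    (hθ : ∀ (r : ℕ) (t : F), r < D.nroots → ((θ (D.scGen F r t) : GL D.Idx F) : Matrix D.Idx D.Idx F) = D.x F r t)
    (φ : ↥(D.group F) →* GL (Fin n) Λ ⧸ Subgroup.center (GL (Fin n) Λ)) :
    ∃ ψ : D.SteinbergCover F →* GL (Fin n) Λ,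
      (QuotientGroup.mk' (Subgroup.center (GL (Fin n) Λ))).comp ψ = φ.comp θ := by
  set Z := Subgroup.center (GL (Fin n) Λ)
  let P := pullback φ (QuotientGroup.mk' Z)
  obtain ⟨hsurj₁, hker₁⟩ := pullback_fst_central φ (QuotientGroup.mk' Z) (QuotientGroup.mk'_surjective Z)
    (le_of_eq (QuotientGroup.ker_mk' Z))
  set p₁ : P →* D.group F := (MonoidHom.fst _ _).comp P.subtype
  set π : P →* GL D.Idx F := (D.group F).subtype.comp p₁
  have hker : π.ker ≤ Subgroup.center P := fun x hx => hker₁ (by simpa [π, MonoidHom.mem_ker] using hx)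
  have hsurj : ∀ r < D.nroots, ∀ t : F, ∃ g : P, (π g : Matrix D.Idx D.Idx F) = D.x F r t := fun r hr t => by
    obtain ⟨g, hg⟩ := hsurj₁ (θ (D.scGen F r t))
    exact ⟨g, (congrArg (fun z : D.group F => ((z : GL D.Idx F) : Matrix D.Idx D.Idx F)) hg).trans (hθ r t hr)⟩
  obtain ⟨C, X, L⟩ : ∃ C X, RootLift D C π X := by
    obtain ⟨p, hp⟩ : ∃ p, ringChar F = p := ⟨_, rfl⟩
    haveI : CharP F p := ringChar.of_eq hp
    haveI : CharP Λ p := ringChar.of_eq (hchar.trans hp)
    rcases CharP.char_is_prime_or_zero F p with hprime | h0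
    · haveI : Fact p.Prime := ⟨hprime⟩
      have hz : ∀ z : P, π z = 1 → ∃ a : Λˣ, (z.1.2 : GL (Fin n) Λ) = Matrix.GeneralLinearGroup.scalar (Fin n) a := by
        intro z hz
        have hz1 : z.1.1 = 1 := Subtype.ext hz
        have hm : (z.1.2 : GL (Fin n) Λ) ∈ Z := by
          rw [← QuotientGroup.eq_one_iff]
          have := (mem_pullback.1 z.2).symm
          rwa [hz1, map_one] at this
        have hm' : (z.1.2 : GL (Fin n) Λ) ∈ Subgroup.center (GL (Fin n) Λ) := hm
        rw [Matrix.GeneralLinearGroup.center_eq_range_scalar] at hm'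
        obtain ⟨a, ha⟩ := hm'
        exact ⟨a, ha.symm⟩
      have hroot : ∀ z : P, π z = 1 → ∃ w, π w = 1 ∧ w ^ p = z := by
        intro z h
        obtain ⟨a, ha⟩ := hz z h
        obtain ⟨b, hb⟩ := IsAlgClosed.exists_pow_nat_eq (a : Λ) hprime.pos
        have hb0 : b ≠ 0 := fun e => a.ne_zero (by rw [← hb, e, zero_pow hprime.ne_zero])
        refine ⟨⟨(1, Matrix.GeneralLinearGroup.scalar (Fin n) (Units.mk0 b hb0)), ?_⟩, rfl, ?_⟩
        · rw [mem_pullback, map_one, eq_comm]
          refine (QuotientGroup.eq_one_iff _).2 ?_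
          show _ ∈ Subgroup.center (GL (Fin n) Λ)
          rw [Matrix.GeneralLinearGroup.center_eq_range_scalar]
          exact ⟨_, rfl⟩
        · refine Subtype.ext (Prod.ext ?_ ?_)
          · exact (one_pow p).trans (Subtype.ext h : z.1.1 = 1).symm
          · show Matrix.GeneralLinearGroup.scalar (Fin n) (Units.mk0 b hb0) ^ p = z.1.2
            rw [← map_pow, ha]
            exact congrArg _ (Units.ext hb)
      have huniq : ∀ z : P, π z = 1 → z ^ p = 1 → z = 1 := by
        intro z h hpow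
        obtain ⟨a, ha⟩ := hz z h
        refine Subtype.ext (Prod.ext (Subtype.ext h) ?_)
        have e : Matrix.GeneralLinearGroup.scalar (Fin n) (a ^ p) = 1 := by
          rw [map_pow, ← ha]
          exact congrArg (fun w : P => w.1.2) hpow
        show z.1.2 = 1
        rw [ha]
        refine Matrix.GeneralLinearGroup.ext fun i j => ?_
        have eii := congrArg (fun g : GL (Fin n) Λ => (g : Matrix (Fin n) (Fin n) Λ) i i) e
        simp [Matrix.diagonal_pow] at eii
        have ha1 : a = 1 := by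
          refine Units.ext (sub_eq_zero.1 ?_)
          rw [Units.val_one]
          exact eq_zero_of_pow_eq_zero (n := p) (by rw [sub_pow_char, eii, one_pow, sub_self])
        simp [ha1]
      have hpF : (p : F) = 0 := CharP.cast_eq_zero F p
      have hD' := hD
      simp only [sevenTypes, List.mem_cons, List.not_mem_nil, or_false] at hD'
      rcases hD' with rfl | rfl | rfl | rfl | rfl | rfl | rfl
      exacts [⟨_, rootLift_of_torsion torusOK_G2.rooted torusOK_G2.eta_simple torusOK_G2.pair_ok hker hsurj hpF hroot huniq⟩,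
        ⟨_, rootLift_of_torsion torusSqOK_B2.rooted torusSqOK_B2.eta_simple torusSqOK_B2.pair_ok hker hsurj hpF hroot huniq⟩,
        ⟨_, rootLift_of_torsion torusOK_D4.rooted torusOK_D4.eta_simple torusOK_D4.pair_ok hker hsurj hpF hroot huniq⟩,
        ⟨_, rootLift_of_torsion torusOK_F4.rooted torusOK_F4.eta_simple torusOK_F4.pair_ok hker hsurj hpF hroot huniq⟩,
        ⟨_, _, laced_E6.rootLift hker hsurj⟩, ⟨_, _, laced_E7.rootLift hker hsurj⟩,
        ⟨_, _, laced_E8.rootLift hker hsurj⟩]
    · subst h0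
      haveI : CharZero F := CharP.charP_to_charZero F
      obtain ⟨C, hC⟩ := exists_rootLift_of_mem hD (F := F)
        ⟨Units.mk0 2 two_ne_zero,
          fun e => by
            have h := congrArg Units.val e
            rw [Units.val_pow_eq_pow_val] at h
            norm_num at h,
          fun e => by
            have h := congrArg Units.val e
            rw [Units.val_pow_eq_pow_val] at h
            norm_num at h⟩
      exact ⟨C, hC π hker hsurj⟩
  obtain ⟨f, hf⟩ := exists_hom_of_rootLift L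
  refine ⟨((MonoidHom.snd _ _).comp P.subtype).comp f, ?_⟩
  refine PresentedGroup.ext fun q => ?_
  have hq : (PresentedGroup.of q : D.SteinbergCover F) = D.scGen F q.1 q.2 := by
    simp [ChevalleyDatum.scGen, ChevalleyDatum.stX, PresentedGroup.of]
  have h1 : φ ((f (D.scGen F q.1 q.2) : P).1.1) = QuotientGroup.mk' Z ((f (D.scGen F q.1 q.2) : P).1.2) :=
    mem_pullback.1 (f (D.scGen F q.1 q.2) : P).2
  have h2 : (f (D.scGen F q.1 q.2) : P).1.1 = θ (D.scGen F q.1 q.2) := by
    rw [hf q.1 q.1.isLt]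
    exact Subtype.ext (Units.ext ((L.map_X q.1 q.1.isLt q.2).trans (hθ q.1 q.2 q.1.isLt).symm))
  rw [hq]
  show QuotientGroup.mk' Z _ = φ (θ _)
  rw [← h2]
  exact h1.symm

/-- Projective representations lift uniquely. -/
theorem existsUnique_lift_proj {L : Type v} [Field L] (hD : D ∈ sevenTypes)
    (hperf : commutator (D.SteinbergCover F) = ⊤) (hchar : ringChar L = ringChar F) {n : ℕ}
    (θ : D.SteinbergCover F →* ↥(D.group F))
    (hθ : ∀ (r : ℕ) (t : F), r < D.nroots → ((θ (D.scGen F r t) : GL D.Idx F) : Matrix D.Idx D.Idx F) = D.x F r t)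
    (φ : ↥(D.group F) →* GL (Fin n) L ⧸ Subgroup.center (GL (Fin n) L)) :
    ∃! ψ : D.SteinbergCover F →* GL (Fin n) L,
      (QuotientGroup.mk' (Subgroup.center (GL (Fin n) L))).comp ψ = φ.comp θ := by
  classical
  set Z := Subgroup.center (GL (Fin n) L)
  set Λ' := AlgebraicClosure L
  set Z' := Subgroup.center (GL (Fin n) Λ')
  set μ : GL (Fin n) L →* GL (Fin n) Λ' := Matrix.GeneralLinearGroup.map (algebraMap L Λ')
  have hμ : Function.Injective μ := fun a b e => Matrix.GeneralLinearGroup.ext fun i j =>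
    (algebraMap L Λ').injective (by
      have := congrArg (fun g : GL (Fin n) Λ' => (g : Matrix (Fin n) (Fin n) Λ') i j) e
      simpa [μ, Matrix.GeneralLinearGroup.map_apply] using this)
  have hμZ : ∀ m, μ m ∈ Z' → m ∈ Z := fun m hm => by
    rw [Subgroup.mem_center_iff] at hm ⊢
    exact fun g => hμ (by rw [map_mul, map_mul, hm])
  have hZμ : Z ≤ Z'.comap μ := fun m hm => by
    rw [Subgroup.mem_comap]
    show μ m ∈ Subgroup.center (GL (Fin n) Λ')
    rw [Matrix.GeneralLinearGroup.center_eq_range_scalar]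
    have hm' : m ∈ Subgroup.center (GL (Fin n) L) := hm
    rw [Matrix.GeneralLinearGroup.center_eq_range_scalar] at hm'
    obtain ⟨a, rfl⟩ := hm'
    refine ⟨Units.map (algebraMap L Λ').toMonoidHom a, Matrix.GeneralLinearGroup.ext fun i j => ?_⟩
    rcases eq_or_ne i j with rfl | hij <;> simp [μ, Matrix.GeneralLinearGroup.map_apply, *]
  have hchar' : ringChar Λ' = ringChar F := by
    rw [← Algebra.ringChar_eq L Λ', hchar]
  obtain ⟨ψ', hψ'⟩ := exists_lift_proj (Λ := Λ') hD hchar' θ hθ
    ((QuotientGroup.map Z Z' μ hZμ).comp φ)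
  have key : ∀ g, ∀ m : GL (Fin n) L, (QuotientGroup.mk' Z m) = φ (θ g) →
      (QuotientGroup.mk' Z') (ψ' g) = QuotientGroup.mk' Z' (μ m) := by
    intro g m hm
    rw [← MonoidHom.comp_apply, hψ', MonoidHom.comp_apply, MonoidHom.comp_apply, ← hm]
    rfl
  have hrange : ∀ g, ψ' g ∈ μ.range := by
    intro g
    have : commutator (D.SteinbergCover F) ≤ μ.range.comap ψ' := by
      rw [commutator_def, Subgroup.commutator_le]
      intro a _ b _
      obtain ⟨ma, hma⟩ := QuotientGroup.mk'_surjective Z (φ (θ a))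
      obtain ⟨mb, hmb⟩ := QuotientGroup.mk'_surjective Z (φ (θ b))
      refine ⟨⁅ma, mb⁆, ?_⟩
      rw [map_commutatorElement, map_commutatorElement]
      exact (ChevBr.comm_eq (le_of_eq (QuotientGroup.ker_mk' Z')) (key a ma hma) (key b mb hmb)).symm
    exact this (hperf ▸ Subgroup.mem_top g)
  set ψ : D.SteinbergCover F →* GL (Fin n) L :=
    (MonoidHom.ofInjective hμ).symm.toMonoidHom.comp (ψ'.codRestrict μ.range hrange)
  have hψ : ∀ g, μ (ψ g) = ψ' g := fun g => by
    show ((MonoidHom.ofInjective hμ (ψ g)) : GL (Fin n) Λ') = ψ' g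
    simp [ψ]
  have hcomp : (QuotientGroup.mk' Z).comp ψ = φ.comp θ := by
    refine MonoidHom.ext fun g => ?_
    obtain ⟨m, hm⟩ := QuotientGroup.mk'_surjective Z (φ (θ g))
    show QuotientGroup.mk' Z (ψ g) = φ (θ g)
    rw [← hm]
    have e := key g m hm
    rw [← hψ g, QuotientGroup.mk'_eq_mk'] at e
    obtain ⟨z, hz, hze⟩ := e
    rw [QuotientGroup.mk'_eq_mk']
    refine ⟨(ψ g)⁻¹ * m, hμZ _ ?_, mul_inv_cancel_left _ _⟩
    rw [map_mul, map_inv, ← hze, inv_mul_cancel_left]
    exact hz
  refine ⟨ψ, hcomp, fun τ hτ => ?_⟩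
  exact perfect_lift_unique ⟨hperf⟩ (QuotientGroup.mk' Z) (le_of_eq (QuotientGroup.ker_mk' Z)) _ _ (hτ.trans hcomp.symm)

end Cfsg.Agent.Lib.Schur.ChevLift
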