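import Cfsg.Agent.Lib.Schur.ChevTorusLift

/-!
Central extensions with a kernel in which every element has exactly one `p`-th root, `p` the characteristic:
the root elements have a unique lift of order `p`, and these lifts satisfy Steinberg's relations.
-/

set_option autoImplicit false

namespace Cfsg.Agent.Lib.Schur.ChevLift

open Cfsg.Lie Cfsg.Agent.Lib.Chev
open scoped commutatorElement

variable {D : ChevalleyDatum} {C : Cert} {F : Type*} [Field F] {Γ : Type*} [Group Γ]

theorem rootLift_of_torsion (hh : Rooted D C) (heta : ∀ i < D.rank, eta C i (D.simple i) = -1)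
    (hpairs : (allN D.nroots fun r => allN D.nroots fun s => pairB D C r s) = true)
    {π : Γ →* GL D.Idx F} (hker : π.ker ≤ Subgroup.center Γ)
    (hsurj : ∀ r < D.nroots, ∀ t : F, ∃ g : Γ, (π g : Matrix D.Idx D.Idx F) = D.x F r t)
    {p : ℕ} (hp : (p : F) = 0) (hroot : ∀ z, π z = 1 → ∃ w, π w = 1 ∧ w ^ p = z)
    (huniq : ∀ z, π z = 1 → z ^ p = 1 → z = 1) : ∃ X, RootLift D C π X := by
  classical
  have hc := hh.toChecked
  have hcen : ∀ z, π z = 1 → ∀ g, Commute z g := fun z hz g =>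
    (Subgroup.mem_center_iff.1 (hker hz) g).symm
  have hxp : ∀ r (hr : r < D.nroots) (t : F), xGL hc F hr t ^ p = 1 := by
    intro r hr t
    have : ∀ m : ℕ, ((xGL hc F hr t ^ m : GL D.Idx F) : Matrix D.Idx D.Idx F) = D.x F r ((m : F) * t) := by
      intro m
      induction m with
      | zero => rw [pow_zero, Units.val_one, Nat.cast_zero, zero_mul, hc.x_zero hr]
      | succ m ih =>
        rw [pow_succ, Units.val_mul, ih, coe_xGL, hc.x_add hr, Nat.cast_succ, add_mul, one_mul]
    exact Units.ext (by rw [this, hp, zero_mul, hc.x_zero hr, Units.val_one])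
  -- the unique preimage of order `p`
  have huq : ∀ x y : Γ, π x = π y → x ^ p = 1 → y ^ p = 1 → x = y := by
    intro x y e hx hy
    have hz : π (y⁻¹ * x) = 1 := by rw [map_mul, map_inv, e, inv_mul_cancel]
    have : (y⁻¹ * x) ^ p = 1 := by
      have h1 : x ^ p = y ^ p * (y⁻¹ * x) ^ p := by
        rw [← (hcen _ hz y).symm.mul_pow, mul_inv_cancel_left]
      rw [hx, hy, one_mul] at h1
      exact h1.symm
    exact (inv_mul_eq_one.1 (huniq _ hz this)).symm
  have hex : ∀ r < D.nroots, ∀ t : F, ∃ x : Γ, (π x : Matrix D.Idx D.Idx F) = D.x F r t ∧ x ^ p = 1 := by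
    intro r hr t
    obtain ⟨g, hg⟩ := hsurj r hr t
    have hg' : π g = xGL hc F hr t := Units.ext (hg.trans (coe_xGL hc hr t).symm)
    obtain ⟨w, hw, hwp⟩ := hroot (g ^ p) (by rw [map_pow, hg', hxp])
    refine ⟨g * w⁻¹, by rw [map_mul, map_inv, hw, inv_one, mul_one, hg], ?_⟩
    rw [((hcen w hw g).symm.inv_right).mul_pow, inv_pow, hwp, mul_inv_cancel]
  let X : ℕ → F → Γ := fun r t => if h : r < D.nroots then (hex r h t).choose else 1
  have hX : ∀ r (hr : r < D.nroots) (t : F), π (X r t) = xGL hc F hr t ∧ X r t ^ p = 1 := fun r hr t => by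
    simp only [X, dif_pos hr]
    exact ⟨Units.ext ((hex r hr t).choose_spec.1.trans (coe_xGL hc hr t).symm), (hex r hr t).choose_spec.2⟩
  have heqX : ∀ r (hr : r < D.nroots) (t : F) (y : Γ), π y = xGL hc F hr t → y ^ p = 1 → y = X r t :=
    fun r hr t y e hy => huq _ _ (e.trans (hX r hr t).1.symm) hy (hX r hr t).2
  have hconj : ∀ r (hr : r < D.nroots) (t : F) (g : Γ) s (hs : s < D.nroots) (v : F),
      π (g * X r t * g⁻¹) = xGL hc F hs v → g * X r t * g⁻¹ = X s v := fun r hr t g s hs v e =>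
    heqX s hs v _ e (by rw [conj_pow, (hX r hr t).2, mul_one, mul_inv_cancel])
  have hadd : ∀ r < D.nroots, ∀ t u : F, X r t * X r u = X r (t + u) := by
    intro r hr t u
    have hcomm : Commute (X r t) (X r u) := by
      refine mul_inv_eq_iff_eq_mul.1 (hconj r hr u (X r t) r hr u ?_)
      rw [map_mul, map_mul, map_inv, (hX r hr t).1, (hX r hr u).1, mul_inv_eq_iff_eq_mul]
      refine Units.ext ?_
      rw [Units.val_mul, Units.val_mul, coe_xGL, coe_xGL, hc.x_add hr, hc.x_add hr, add_comm]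
    refine heqX r hr _ _ (Units.ext ?_) (by rw [hcomm.mul_pow, (hX r hr t).2, (hX r hr u).2, one_mul])
    rw [map_mul, (hX r hr t).1, (hX r hr u).1, Units.val_mul, coe_xGL, coe_xGL, coe_xGL, hc.x_add hr]
  have hmapX : ∀ r < D.nroots, ∀ t : F, ((π (X r t) : GL D.Idx F) : Matrix D.Idx D.Idx F) = D.x F r t :=
    fun r hr t => by rw [(hX r hr t).1, coe_xGL]
  have A : AddLift D π X := ⟨hmapX, hadd⟩
  have hlf : ∀ r (hr : r < D.nroots) (t : F), π (X r t) = π (Laced.lf π r t) := fun r hr t => by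
    rw [(hX r hr t).1, TorusOK.map_lf' hc hsurj hr]
  refine ⟨X, ⟨hh, heta, hmapX, hadd, fun r hr s hs h1 h2 => ?_, fun i hi c hc0 s hs t => ?_⟩⟩
  · have hp' := hpairs
    simp only [allN_iff, pairB, Bool.or_eq_true, Bool.and_eq_true, natBeq_eq, decide_eq_true_eq] at hp'
    rcases hp' r hr s hs with (e1 | e2) | ⟨⟨a, b⟩, -⟩
    · exact absurd e1 h1
    · exact absurd e2 h2
    refine A.rel_of_kill hh hker (fun g χ hg x hx u => ?_) (isAdd_phiP hc r s) _
      (fun x y _ _ _ _ => Or.inl (Kill.of_torsion x y hp fun z _ hz1 hzp => huniq z hz1 hzp)) r s hr hs h1 a b le_rfl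
    refine hconj x hx u g x hx _ ?_
    rw [TorusOK.tor_conj hc hsurj hg hx u (hlf x hx u), TorusOK.map_lf' hc hsurj hx]
  · obtain ⟨c, rfl⟩ : ∃ c' : Fˣ, (c' : F) = c := ⟨Units.mk0 c hc0, rfl⟩
    have hp' := hc.simple_lt hi
    have hm := Checked.ng_lt (D := D) hp'
    have hnπ : ((π (nX D X i c) : GL D.Idx F) : Matrix D.Idx D.Idx F) =
        powDiag D (c : F) (fun a => D.cartan i a) * D.nMat F (D.simple i) 1 := by
      simp only [nX, wordX, List.map_cons, List.map_nil, List.prod_cons, List.prod_nil, mul_one, map_mul,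
        Units.val_mul, hmapX _ hp', hmapX _ hm]
      rw [← hc.nMat_simple_eq hi]
      simp [ChevalleyDatum.nMat, ChevalleyDatum.nWord, ChevalleyDatum.wordMat, hc.neg_eq hp']
    refine ⟨((c ^ D.cartan i (refl C i s) : Fˣ) : F) * ((eta C i s : F) * t), ?_⟩
    have hs' := hc.refl_lt hi hs
    refine hconj s hs t _ _ hs' _ ?_
    rw [map_mul, map_mul, map_inv, mul_inv_eq_iff_eq_mul, (hX s hs t).1]
    refine Units.ext ?_
    rw [Units.val_mul, Units.val_mul, hnπ, coe_xGL, coe_xGL, mul_assoc, hc.nMat_mul_x hi hs, ← mul_assoc,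
      powDiag_eq_charDiag, hc.charDiag_mul_x_of_eq _ hs' _ (fun b hb => hc.chiOf_cartan hi c hb), mul_assoc]

end Cfsg.Agent.Lib.Schur.ChevLift
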