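import Cfsg.Agent.Lib.Schur.ChevCommute

/-! Lifts for `D₄` over the fields with three and four elements and for `B₂` over the field with four. -/

set_option autoImplicit false

namespace Cfsg.Agent.Lib.Schur.ChevLift

open Cfsg.Lie Cfsg.Agent.Lib.Chev
open scoped commutatorElement

theorem etaSimple_D4s : etaSimpleOK chevD4 D4.cert = true := by decide +kernel
theorem root3_D4 : (allN chevD4.nroots fun r => rootModB chevD4 D4.cert 3 r) = true := by decide +kernel
theorem pair3_D4 : (allN chevD4.nroots fun r => allN chevD4.nroots fun s => pairModB chevD4 D4.cert 3 1 r s) = true := by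
  decide +kernel

theorem torusMod3_D4 : TorusModOK chevD4 D4.cert 3 1 :=
  ⟨⟨checked_D4, descent_D4⟩, etaSimple_of_ok etaSimple_D4s, root3_D4, pair3_D4⟩

theorem root2_D4 : (allN chevD4.nroots fun r => rootModB chevD4 D4.cert 2 r) = true := by decide +kernel
theorem pair2_D4 : (allN chevD4.nroots fun r => allN chevD4.nroots fun s =>
    Nat.beq s r || Nat.beq s (ng chevD4 r) ||
    (decide (0 < phiP chevD4 D4.cert r s r) && decide (0 < phiP chevD4 D4.cert r s s) &&
      (sepModB chevD4 2 r s || (cmB chevD4 D4.cert r s && triangleB chevD4 D4.cert r s)))) = true := by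
  decide +kernel

theorem etaSimple_B2s : etaSimpleOK chevB2 B2.cert = true := by decide +kernel
theorem root3_B2 : (allN chevB2.nroots fun r => selfModB chevB2 B2.cert 3 r) = true := by decide +kernel
theorem pair3_B2 : (allN chevB2.nroots fun r => allN chevB2.nroots fun s => pairModB chevB2 B2.cert 3 1 r s) = true := by
  decide +kernel

variable {F : Type*} [Field F] {Γ : Type*} [Group Γ]

theorem exists_tor_of_sepMod {D : ChevalleyDatum} {C : Cert} {π : Γ →* GL D.Idx F} (hc : Checked D C)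
    (hsurj : ∀ r < D.nroots, ∀ t : F, ∃ g : Γ, (π g : Matrix D.Idx D.Idx F) = D.x F r t)
    {n r s : ℕ} (c : Fˣ) (hcn : orderOf c = n) (h : sepModB D n r s = true) :
    ∃ g χ, Tor D π g χ ∧ χ r = 1 ∧ (χ s : F) ≠ 1 := by
  simp only [sepModB, List.any_eq_true, List.mem_range, Bool.and_eq_true, decide_eq_true_eq, Bool.not_eq_true',
    decide_eq_false_iff_not] at h
  obtain ⟨i, hi, j, hj, a, -, b, -, e0, e1⟩ := h
  obtain ⟨g, χ, hg, hχ⟩ := TorusOK.exists_tor hc hsurj hi hj c a b
  refine ⟨g, χ, hg, ?_, ?_⟩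
  · rw [hχ, ← orderOf_dvd_iff_zpow_eq_one, hcn]
    exact Int.dvd_of_emod_eq_zero e0
  · rw [ne_eq, Units.val_eq_one, hχ, ← orderOf_dvd_iff_zpow_eq_one, hcn]
    exact fun e => e1 (Int.emod_eq_zero_of_dvd e)

theorem exists_tor_of_any {D : ChevalleyDatum} {C : Cert} {π : Γ →* GL D.Idx F} (hc : Checked D C)
    (hsurj : ∀ r < D.nroots, ∀ t : F, ∃ g : Γ, (π g : Matrix D.Idx D.Idx F) = D.x F r t)
    {n r : ℕ} (c : Fˣ) (hcn : orderOf c = n)
    (h : ((List.range D.rank).any fun i => !decide (D.cartan i r % (n : ℤ) = 0)) = true) :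
    ∃ p : Γ × (ℕ → Fˣ), Tor D π p.1 p.2 ∧ (p.2 r : F) ≠ 1 := by
  simp only [List.any_eq_true, List.mem_range, Bool.not_eq_true', decide_eq_false_iff_not] at h
  obtain ⟨i, hi, hA⟩ := h
  refine ⟨(_, _), TorusOK.tor_simple hc hsurj hi c, ?_⟩
  rw [ne_eq, Units.val_eq_one, ← orderOf_dvd_iff_zpow_eq_one, hcn]
  exact fun e => hA (Int.emod_eq_zero_of_dvd e)

/-- `D₄` over the field with three elements. -/
theorem rootLift_D4_three {π : Γ →* GL chevD4.Idx F} (hker : π.ker ≤ Subgroup.center Γ)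
    (hsurj : ∀ r < chevD4.nroots, ∀ t : F, ∃ g : Γ, (π g : Matrix chevD4.Idx chevD4.Idx F) = chevD4.x F r t)
    (c : Fˣ) (hcn : orderOf c = 2) (h3 : (3 : F) = 0) (hall : ∀ v : F, v = 0 ∨ v = 1 ∨ v = -1) :
    RootLift chevD4 D4.cert π (TorusOK.torX π) := by
  have hc : Checked chevD4 D4.cert := checked_D4
  refine LiftHyp.rootLift ⟨⟨checked_D4, descent_D4⟩, etaSimple_of_ok etaSimple_D4s, fun r hr t u => ?_,
    fun r hr => ?_, fun r s hr hs h1 h2 => ?_⟩ hker hsurj
  · have h := root2_D4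
    simp only [allN_iff, rootModB, Bool.and_eq_true] at h
    refine TorusModOK.lf_comm_of_split hc hker hsurj hr hr (k := 1) (fun m m0 m1 => ?_) (h r hr).2 t u
    rcases (show m = 1 ∨ m = -1 by omega) with rfl | rfl <;> simp
  · have h := root2_D4
    simp only [allN_iff, rootModB, Bool.and_eq_true] at h
    exact exists_tor_of_any hc hsurj c hcn (h r hr).1
  · have e := pair2_D4
    simp only [allN_iff, Bool.or_eq_true, Nat.beq_eq, Bool.and_eq_true, decide_eq_true_eq] at e
    rcases e r hr s hs with (e1 | e2) | ⟨⟨a, b⟩, hsb⟩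
    · exact absurd e1 h1
    · exact absurd e2 h2
    refine ⟨a, b, ?_⟩
    rcases hsb with hsep | ⟨hcm, htri⟩
    · exact Or.inl (exists_tor_of_sepMod hc hsurj c hcn hsep)
    · refine Or.inr ⟨fun t u => ?_, fun t u => lf_comm_of_triangle hc hker hsurj hr hs hcm htri h3 hall t u⟩
      simp only [cmB, Bool.and_eq_true, List.isEmpty_iff] at hcm
      rw [hc.commWord_eq hr hs, Checked.cTerms_nil hcm.1.2 hcm.2]
      rfl

/-- `B₂` over the field with four elements. -/
theorem rootLift_B2_four {π : Γ →* GL chevB2.Idx F} (hker : π.ker ≤ Subgroup.center Γ)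
    (hsurj : ∀ r < chevB2.nroots, ∀ t : F, ∃ g : Γ, (π g : Matrix chevB2.Idx chevB2.Idx F) = chevB2.x F r t)
    (c : Fˣ) (hcn : orderOf c = 3) : RootLift chevB2 B2.cert π (TorusOK.torX π) := by
  have hc : Checked chevB2 B2.cert := checked_B2
  have hroot := root3_B2
  simp only [allN_iff] at hroot
  refine LiftHyp.rootLift ⟨⟨checked_B2, descent_B2⟩, etaSimple_of_ok etaSimple_B2s,
    fun r hr t u => lf_self_of_selfModB hc hker hsurj c hcn hr (hroot r hr) t u, fun r hr => ?_,
    fun r s hr hs h1 h2 => ?_⟩ hker hsurj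
  · have h := hroot r hr
    simp only [selfModB, Bool.and_eq_true] at h
    exact exists_tor_of_any hc hsurj c hcn h.1
  · have e := pair3_B2
    simp only [allN_iff, pairModB, Bool.or_eq_true, Nat.beq_eq, Bool.and_eq_true, decide_eq_true_eq] at e
    rcases e r hr s hs with (e1 | e2) | ⟨⟨a, b⟩, hsb⟩
    · exact absurd e1 h1
    · exact absurd e2 h2
    refine ⟨a, b, ?_⟩
    rcases hsb with hsep | ⟨hcm, hsp⟩
    · exact Or.inl (exists_tor_of_sepMod hc hsurj c hcn hsep)
    · refine Or.inr ⟨fun t u => ?_, fun t u =>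
        TorusModOK.lf_comm_of_split hc hker hsurj hr hs (k := 1) (fun m m0 m1 => ?_) hsp t u⟩
      · simp only [cmB, Bool.and_eq_true, List.isEmpty_iff] at hcm
        rw [hc.commWord_eq hr hs, Checked.cTerms_nil hcm.1.2 hcm.2]
        rfl
      · rcases (show m = 1 ∨ m = -1 by omega) with rfl | rfl <;> simp

end Cfsg.Agent.Lib.Schur.ChevLift
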