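import Cfsg.Agent.Lib.Schur.Small
import Mathlib

/-!
The multiplier of a metacyclic group `⟨a, b | a^m, b^n = a^t, bab⁻¹ = a^r⟩`.
-/

namespace Cfsg.Agent.Lib.Schur.Metacyclic

open Subgroup
open scoped commutatorElement Pointwise

/-! ### Lifts in a central extension -/

theorem sum_pow_succ_int (R : ℤ) (k : ℕ) :
    (∑ i ∈ Finset.range (k + 1), R ^ i) = 1 + R * ∑ i ∈ Finset.range k, R ^ i := by
  rw [geom_sum_succ]; ring

/-- The element generating the derived subgroup. -/
abbrev comGen {Y : Type*} [Group Y] (R : ℤ) (x y : Y) : Y :=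
  x ^ (R - 1) * ((x ^ R)⁻¹ * (y * x * y⁻¹))

/-- The bound in an arbitrary central extension. -/
theorem bound {G Y : Type*} [Group G] [Finite G] [Group Y] {a b : G} (m n t : ℕ) (R : ℤ)
    (hgen : Subgroup.closure ({a, b} : Set G) = ⊤)
    (ha : a ^ m = 1) (hb : b ^ n = a ^ t) (hab : b * a * b⁻¹ = a ^ R) (τ : Y →* G)
    (hc : τ.ker ≤ center Y) (x y : Y) (hx : τ x = a) (hy : τ y = b) :
    commutator Y = zpowers (comGen R x y) ∧ τ (comGen R x y) = a ^ (R - 1) ∧
      comGen R x y ^ m = 1 ∧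
      comGen R x y ^ (∑ i ∈ Finset.range n, R ^ i) = 1 ∧ comGen R x y ^ t = 1 := by
  set c := (x ^ R)⁻¹ * (y * x * y⁻¹) with hcdef
  have hck : τ c = 1 := by simp [hcdef, hx, hy, hab]
  have hcc : c ∈ center Y := hc hck
  have hr : y * x * y⁻¹ = x ^ R * c := by rw [hcdef, mul_inv_cancel_left]
  obtain ⟨h1, hyu⟩ := commutator_eq_zpowers τ hc x y (by rw [hx, hy]; exact hgen) R c hcc hr
  set u := x ^ (R - 1) * c with hu
  have hxu : y * x * y⁻¹ = x * u := by
    rw [hr, hu, ← mul_assoc x, ← zpow_one_add, add_sub_cancel]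
  have hcomm : Commute x u :=
    ((Commute.refl x).zpow_right _).mul_right (Subgroup.mem_center_iff.mp hcc x)
  have hfix : ∀ k : ℕ, τ (x ^ k) ∈ center G → y * x ^ k * y⁻¹ = x ^ k → u ^ k = 1 := fun k _ h => by
    rwa [← conj_pow, hxu, hcomm.mul_pow, mul_eq_left] at h
  refine ⟨h1, (by show τ u = _; rw [hu, map_mul, map_zpow, hck, hx, mul_one]), ?_, ?_, ?_⟩
  · refine hfix m (by rw [map_pow, hx, ha]; exact one_mem _) ?_
    rw [Subgroup.mem_center_iff.mp (hc (show τ (x ^ m) = 1 by rw [map_pow, hx, ha])) y,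
      mul_inv_cancel_right]
  · have hit : ∀ k : ℕ, y ^ k * x * (y ^ k)⁻¹ = x * u ^ (∑ i ∈ Finset.range k, R ^ i) := by
      intro k
      induction k with
      | zero => simp
      | succ k ih =>
        rw [pow_succ' y, mul_inv_rev,
          show y * y ^ k * x * ((y ^ k)⁻¹ * y⁻¹) = y * (y ^ k * x * (y ^ k)⁻¹) * y⁻¹ by group, ih,
          ← conj_mul, hxu, ← conj_zpow, hyu, ← zpow_mul, sum_pow_succ_int, zpow_add, zpow_one,
          mul_assoc]
    have hz : (x ^ t)⁻¹ * y ^ n ∈ center Y := hc (by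
      simp [MonoidHom.mem_ker, hx, hy, hb])
    have h := hit n
    rw [show y ^ n = x ^ t * ((x ^ t)⁻¹ * y ^ n) by group] at h
    rw [show x ^ t * ((x ^ t)⁻¹ * y ^ n) * x * (x ^ t * ((x ^ t)⁻¹ * y ^ n))⁻¹ = x from ?_,
      left_eq_mul] at h
    · exact h
    · rw [mul_assoc (x ^ t) _ x, ← Subgroup.mem_center_iff.mp hz x]
      group
  · refine hfix t ?_ ?_
    · rw [map_pow, hx, Subgroup.mem_center_iff]
      intro g
      have hg : g ∈ Subgroup.centralizer {a ^ t} := by
        refine (Subgroup.closure_le _).mpr ?_ (hgen.ge (Subgroup.mem_top g))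
        rintro z (rfl | rfl)
        · exact Subgroup.mem_centralizer_singleton_iff.mpr ((Commute.refl z).pow_right t).eq
        · exact Subgroup.mem_centralizer_singleton_iff.mpr (by rw [← hb]; exact (Commute.refl z).pow_right n |>.eq)
      exact Subgroup.mem_centralizer_singleton_iff.mp hg
    · have hz : (x ^ t)⁻¹ * y ^ n ∈ center Y := hc (by simp [MonoidHom.mem_ker, hx, hy, hb])
      set z := (x ^ t)⁻¹ * y ^ n with hzdef
      have hcy : Commute y (x ^ t * z) := by
        rw [hzdef, mul_inv_cancel_left]; exact (Commute.refl y).pow_right n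
      have hcy' : Commute y (x ^ t) := by
        have := hcy.mul_right (Subgroup.mem_center_iff.mp (inv_mem hz) y : Commute y z⁻¹)
        rwa [mul_inv_cancel_right] at this
      rw [hcy'.eq, mul_inv_cancel_right]

/-! ### The model -/

variable (N : ℕ) (R : ℤ)

/-- The lattice quotient on which the model acts. -/
abbrev Lat : Type := (ℤ × ℤ) ⧸ AddSubgroup.zmultiples (((R - 1) * N, (N : ℤ)) : ℤ × ℤ)

/-- Class in the lattice quotient. -/
abbrev cls (v : ℤ × ℤ) : Lat N R := QuotientAddGroup.mk' _ v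

/-- The image of the commutator. -/
abbrev uvec : Lat N R := cls N R (R - 1, 1)

/-- The action of `b`. -/
def act : Lat N R →+ Lat N R :=
  QuotientAddGroup.map _ _
    (AddMonoidHom.mk' (fun v : ℤ × ℤ => (R * v.1, v.1 + v.2)) fun v w => by
      ext <;> simp <;> ring)
    (by
      intro v hv
      obtain ⟨k, rfl⟩ := hv
      exact ⟨R * k, by ext <;> simp <;> ring⟩)

theorem act_cls (v : ℤ × ℤ) : act N R (cls N R v) = cls N R v + v.1 • uvec N R := by
  rw [← map_zsmul, ← map_add]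
  show cls N R _ = _
  congr 1
  ext <;> simp <;> ring

theorem nsmul_uvec : (N : ℤ) • uvec N R = 0 := by
  rw [← map_zsmul]
  exact (QuotientAddGroup.eq_zero_iff _).mpr ⟨1, by ext <;> simp <;> ring⟩

theorem zsmul_uvec_eq_zero {k : ℤ} (h : k • uvec N R = 0) : (N : ℤ) ∣ k := by
  rw [← map_zsmul] at h
  obtain ⟨s, hs⟩ := (QuotientAddGroup.eq_zero_iff _).mp h
  have := congrArg Prod.snd hs
  simp at this
  exact ⟨s, by rw [← this, mul_comm]⟩

theorem zsmul_uvec_of_dvd {k : ℤ} (h : (N : ℤ) ∣ k) : k • uvec N R = 0 := by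
  obtain ⟨s, rfl⟩ := h
  rw [mul_comm (N : ℤ) s, mul_zsmul, nsmul_uvec, smul_zero]

theorem iterate_act (k : ℕ) (v : ℤ × ℤ) :
    (act N R)^[k] (cls N R v) = cls N R v + (v.1 * ∑ i ∈ Finset.range k, R ^ i) • uvec N R := by
  induction k with
  | zero => simp
  | succ k ih =>
    have hau : act N R (uvec N R) = R • uvec N R := by
      rw [uvec, act_cls, sub_smul, one_smul]; abel
    rw [Function.iterate_succ_apply', ih, map_add, map_zsmul, hau, act_cls, smul_smul, add_assoc,
      ← add_zsmul, sum_pow_succ_int]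
    congr 2
    ring

variable {N R} {m n t : ℕ}

/-- The arithmetic hypotheses. -/
structure Par (N : ℕ) (R : ℤ) (m n t : ℕ) : Prop where
  npos : 0 < n
  dvd_sum : (N : ℤ) ∣ ∑ i ∈ Finset.range n, R ^ i
  dvd_m : N ∣ m
  dvd_t : N ∣ t
  rel : (m : ℤ) ∣ (R - 1) * N
  comm : (m : ℤ) ∣ (R - 1) * t

theorem iterate_n (P : Par N R m n t) (v : Lat N R) : (act N R)^[n] v = v := by
  obtain ⟨v, rfl⟩ := QuotientAddGroup.mk'_surjective _ v
  rw [iterate_act, zsmul_uvec_of_dvd _ _ (P.dvd_sum.mul_left _), add_zero]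

/-- The automorphism induced by `b`. -/
def actEquiv (P : Par N R m n t) : MulAut (Multiplicative (Lat N R)) :=
  AddEquiv.toMultiplicative
    { toFun := act N R
      invFun := (act N R)^[n - 1]
      left_inv := fun v => by
        show (act N R)^[n - 1] (act N R v) = v
        rw [← Function.iterate_succ_apply, Nat.succ_eq_add_one, Nat.sub_add_cancel P.npos, iterate_n P]
      right_inv := fun v => by
        show act N R ((act N R)^[n - 1] v) = v
        rw [← Function.iterate_succ_apply' (f := act N R), Nat.succ_eq_add_one,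
          Nat.sub_add_cancel P.npos, iterate_n P]
      map_add' := map_add (act N R) }

theorem actEquiv_pow_apply (P : Par N R m n t) (k : ℕ) (v : Lat N R) :
    (actEquiv P ^ k) (Multiplicative.ofAdd v) = Multiplicative.ofAdd ((act N R)^[k] v) := by
  induction k with
  | zero => rfl
  | succ k ih => rw [pow_succ', MulAut.mul_apply, ih, Function.iterate_succ_apply']; rfl

theorem actEquiv_pow_n (P : Par N R m n t) : actEquiv P ^ n = 1 := by
  refine MulEquiv.ext fun v => ?_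
  obtain ⟨v, rfl⟩ := Multiplicative.ofAdd.surjective v
  rw [actEquiv_pow_apply, iterate_n P]; rfl

/-- The extension realising the multiplier. -/
abbrev Ext (P : Par N R m n t) : Type :=
  Multiplicative (Lat N R) ⋊[zpowersHom (MulAut (Multiplicative (Lat N R))) (actEquiv P)] Multiplicative ℤ

variable (P : Par N R m n t)

/-- First coordinate modulo `m`. -/
def fstMod : Lat N R →+ ZMod m :=
  QuotientAddGroup.lift _ ((Int.castAddHom (ZMod m)).comp (AddMonoidHom.fst ℤ ℤ)) (by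
    intro v hv
    obtain ⟨k, rfl⟩ := hv
    simp only [AddMonoidHom.mem_ker, AddMonoidHom.coe_comp, Function.comp_apply]
    exact (ZMod.intCast_zmod_eq_zero_iff_dvd _ _).mpr (by simpa using P.rel.mul_left k))

theorem fstMod_mk (v : ℤ × ℤ) : fstMod P (v : Lat N R) = (v.1 : ZMod m) := rfl

theorem fstMod_cls (v : ℤ × ℤ) : fstMod P (cls N R v) = (v.1 : ZMod m) := rfl

theorem act_fix {v : Lat N R} {q : ℤ} (hv : fstMod P v = ((-(t : ℤ) * q : ℤ) : ZMod m)) :
    act N R v = v := by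
  obtain ⟨v, rfl⟩ := QuotientAddGroup.mk'_surjective _ v
  rw [act_cls, zsmul_uvec_of_dvd N R ?_, add_zero]
  rw [fstMod_cls, ZMod.intCast_eq_intCast_iff_dvd_sub] at hv
  have h1 : (N : ℤ) ∣ -(t : ℤ) * q - v.1 := (Int.natCast_dvd_natCast.mpr P.dvd_m).trans hv
  have h2 : (N : ℤ) ∣ -(t : ℤ) * q := ((Int.natCast_dvd_natCast.mpr P.dvd_t).neg_right).mul_right q
  simpa using h2.sub h1

theorem aut_mul_n (q : ℤ) :
    zpowersHom (MulAut (Multiplicative (Lat N R))) (actEquiv P) (Multiplicative.ofAdd (q * n)) = 1 := by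
  rw [zpowersHom_apply, toAdd_ofAdd, mul_comm q (n : ℤ), zpow_mul, zpow_natCast, actEquiv_pow_n, one_zpow]

/-- The central kernel over the metacyclic group. -/
def kerSub : Subgroup (Ext P) where
  carrier := {z | ∃ q : ℤ, Multiplicative.toAdd z.right = q * n ∧
    fstMod P (Multiplicative.toAdd z.left) = ((-(t : ℤ) * q : ℤ) : ZMod m)}
  one_mem' := ⟨0, by simp, by simp⟩
  mul_mem' := by
    rintro z w ⟨q, hq, hq'⟩ ⟨p, hp, hp'⟩
    refine ⟨q + p, by rw [SemidirectProduct.mul_right, toAdd_mul, hq, hp, add_mul], ?_⟩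
    rw [SemidirectProduct.mul_left, show z.right = Multiplicative.ofAdd (q * n) by rw [← hq]; rfl,
      aut_mul_n, MulAut.one_apply, toAdd_mul, map_add, hq', hp']
    push_cast; ring
  inv_mem' := by
    rintro z ⟨q, hq, hq'⟩
    refine ⟨-q, by rw [SemidirectProduct.inv_right, toAdd_inv, hq, neg_mul], ?_⟩
    rw [SemidirectProduct.inv_left, show z.right⁻¹ = Multiplicative.ofAdd (-q * n) by
      rw [neg_mul, ← hq]; rfl, aut_mul_n, MulAut.one_apply, toAdd_inv, map_neg, hq']
    push_cast; ring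

theorem kerSub_le_center : kerSub P ≤ center (Ext P) := by
  rintro z ⟨q, hq, hq'⟩
  rw [Subgroup.mem_center_iff]
  intro w
  refine SemidirectProduct.ext ?_ (mul_comm _ _)
  have hfix : ∀ k : ℤ, (actEquiv P ^ k) z.left = z.left := by
    have h : actEquiv P ∈ MulAction.stabilizer (MulAut (Multiplicative (Lat N R))) z.left :=
      congrArg Multiplicative.ofAdd (act_fix P hq')
    exact fun k => Subgroup.zpow_mem _ h k
  rw [SemidirectProduct.mul_left, SemidirectProduct.mul_left,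
    show z.right = Multiplicative.ofAdd (q * n) by rw [← hq]; rfl, aut_mul_n, MulAut.one_apply,
    zpowersHom_apply, hfix, mul_comm]

instance : (kerSub P).Normal :=
  ⟨fun z hz g => by
    rw [Subgroup.mem_center_iff.mp (kerSub_le_center P hz) g, mul_inv_cancel_right]; exact hz⟩

/-- `x`. -/
def ex : Ext P := SemidirectProduct.inl (Multiplicative.ofAdd (cls N R (1, 0)))
/-- `y`. -/
def ey : Ext P := SemidirectProduct.inr (Multiplicative.ofAdd 1)

theorem conj_ex : ey P * ex P * (ey P)⁻¹ =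
    SemidirectProduct.inl (Multiplicative.ofAdd (cls N R (R, 1))) := by
  rw [ey, ex, ← map_inv, ← SemidirectProduct.inl_aut]
  simp only [zpowersHom_apply, toAdd_ofAdd, zpow_one]
  congr 1
  show Multiplicative.ofAdd (act N R (cls N R (1, 0))) = Multiplicative.ofAdd (cls N R (R, 1))
  rw [act_cls, ← map_zsmul, ← map_add]
  simp

theorem ex_zpow (k : ℤ) : ex P ^ k = SemidirectProduct.inl (Multiplicative.ofAdd (cls N R (k, 0))) := by
  rw [ex, ← map_zpow, ← ofAdd_zsmul, ← map_zsmul]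
  simp

theorem rels_quot :
    (QuotientGroup.mk' (kerSub P) (ex P)) ^ m = 1 ∧
    (QuotientGroup.mk' (kerSub P) (ey P)) ^ n = (QuotientGroup.mk' (kerSub P) (ex P)) ^ t ∧
    QuotientGroup.mk' (kerSub P) (ey P) * QuotientGroup.mk' (kerSub P) (ex P) *
      (QuotientGroup.mk' (kerSub P) (ey P))⁻¹ = (QuotientGroup.mk' (kerSub P) (ex P)) ^ R := by
  refine ⟨?_, ?_, ?_⟩
  · rw [← map_pow, ← zpow_natCast, ex_zpow]
    refine (QuotientGroup.eq_one_iff _).mpr ⟨0, by simp, ?_⟩
    simp [fstMod_mk]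
  · rw [← map_pow, ← map_pow, eq_comm, ← inv_mul_eq_one, ← map_inv, ← map_mul, ← zpow_natCast (ex P),
      ex_zpow, ey, ← map_pow SemidirectProduct.inr, ← ofAdd_nsmul]
    refine (QuotientGroup.eq_one_iff _).mpr ⟨1, by simp, ?_⟩
    simp [fstMod_mk]
  · rw [← map_inv, ← map_mul, ← map_mul, conj_ex, ← map_zpow, ex_zpow, eq_comm, ← inv_mul_eq_one,
      ← map_inv, ← map_mul]
    refine (QuotientGroup.eq_one_iff _).mpr ⟨0, by simp, ?_⟩
    simp [fstMod_mk]

theorem dvd_of_zpow_mem {k : ℤ} (h : ex P ^ k ∈ kerSub P) (hn : 0 < n) : (m : ℤ) ∣ k := by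
  rw [ex_zpow] at h
  obtain ⟨q, hq, hq'⟩ := h
  have hq0 : q = 0 := by
    have h2 : q * (n : ℤ) = 0 := hq.symm
    exact (mul_eq_zero.mp h2).resolve_right (by omega)
  subst hq0
  simp [fstMod_mk] at hq'
  exact (ZMod.intCast_zmod_eq_zero_iff_dvd _ _).mp hq'

/-- A metacyclic group given by generators and relations is finite. -/
theorem finite_of_rels {G : Type*} [Group G] {a b : G} (hm : 0 < m) (hn : 0 < n)
    (hgen : Subgroup.closure ({a, b} : Set G) = ⊤)
    (ha : a ^ m = 1) (hb : b ^ n = a ^ t) (hab : b * a * b⁻¹ = a ^ R) : Finite G := by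
  have hfa : IsOfFinOrder a := isOfFinOrder_iff_pow_eq_one.mpr ⟨m, hm, ha⟩
  have hfb : IsOfFinOrder b := isOfFinOrder_iff_pow_eq_one.mpr
    ⟨n * m, Nat.mul_pos hn hm, by rw [pow_mul, hb, ← pow_mul, mul_comm, pow_mul, ha, one_pow]⟩
  haveI : Finite (zpowers a) := hfa.finite_zpowers.to_subtype
  haveI : Finite (zpowers b) := hfb.finite_zpowers.to_subtype
  have hN : zpowers b ≤ normalizer (zpowers a : Set G) := by
    rw [zpowers_le]
    let f : zpowers a → zpowers a := fun z => ⟨b * z.1 * b⁻¹, by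
      obtain ⟨k, hk⟩ := z.2
      exact ⟨R * k, by simp only at hk ⊢; rw [← hk, zpow_mul, ← hab, conj_zpow]⟩⟩
    have hf : Function.Injective f := fun p q h =>
      Subtype.ext (mul_left_cancel (mul_right_cancel (congrArg Subtype.val h)))
    rw [Subgroup.mem_normalizer_iff]
    intro z
    refine ⟨fun hz => (f ⟨z, hz⟩).2, fun hz => ?_⟩
    obtain ⟨w, hw⟩ := (Finite.injective_iff_surjective.mp hf) ⟨_, hz⟩
    have := mul_left_cancel (mul_right_cancel (congrArg Subtype.val hw))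
    exact this ▸ w.2
  have hsup : zpowers a ⊔ zpowers b = ⊤ := by
    rw [← hgen, Set.insert_eq, Subgroup.closure_union, ← Subgroup.zpowers_eq_closure,
      ← Subgroup.zpowers_eq_closure]
  refine Finite.of_surjective (fun p : zpowers a × zpowers b => (p.1 : G) * p.2) fun g => ?_
  have hg : g ∈ ((zpowers a : Subgroup G) : Set G) * (zpowers b : Set G) := by
    rw [← Subgroup.coe_mul_of_right_le_normalizer_left _ _ hN, hsup]; trivial
  obtain ⟨p, hp, q, hq, rfl⟩ := hg
  exact ⟨(⟨p, hp⟩, ⟨q, hq⟩), rfl⟩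

/-- The multiplier of the metacyclic group. -/
theorem multiplier {G : Type} [Group G] {a b : G} (m n r l : ℕ) (hm : 0 < m) (hn : 0 < n)
    (hr : 0 < r) (hrn : r ^ n ≡ 1 [MOD m])
    (hgen : Subgroup.closure ({a, b} : Set G) = ⊤)
    (ha : a ^ m = 1) (hb : b ^ n = a ^ (m * l / Nat.gcd m (r - 1))) (hab : b * a * b⁻¹ = a ^ r)
    (univ : ∀ (H : Type) [Group H] (a' b' : H), a' ^ m = 1 →
      b' ^ n = a' ^ (m * l / Nat.gcd m (r - 1)) → b' * a' * b'⁻¹ = a' ^ r →
      ∃ f : G →* H, f a = a' ∧ f b = b') :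
    Cfsg.HasCyclicSchurMultiplier G
      (Nat.gcd l (Nat.gcd m (r - 1) * Nat.gcd m (∑ i ∈ Finset.range n, r ^ i) / m)) := by
  set d := Nat.gcd m (r - 1) with hd
  set S := ∑ i ∈ Finset.range n, r ^ i with hS
  set M0 := m / d with hM0
  set t := m * l / d with ht
  set h := d * Nat.gcd m S / m with hh
  set g := Nat.gcd l h with hg
  have hdm : d ∣ m := Nat.gcd_dvd_left _ _
  have hdpos : 0 < d := Nat.gcd_pos_of_pos_left _ hm
  have hM : M0 * d = m := Nat.div_mul_cancel hdm
  have ht' : t = M0 * l := by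
    rw [ht, ← hM, mul_right_comm, Nat.mul_div_cancel _ hdpos]
  have hR1 : ((r - 1 : ℕ) : ℤ) = (r : ℤ) - 1 := by omega
  -- `m` divides `d * gcd m S`
  have hdvd : m ∣ d * Nat.gcd m S := by
    have h1 : m ∣ (r - 1) * S := by
      have h2 := (Nat.modEq_iff_dvd' (Nat.one_le_pow _ _ hr)).mp hrn.symm
      have h3 : (r - 1) * S = r ^ n - 1 := by
        rw [hS]
        have := geom_sum_mul_add (r - 1) n
        rw [Nat.sub_add_cancel (show 1 ≤ r from hr)] at this
        rw [mul_comm]; omega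
      rwa [h3]
    have h4 : m ∣ d * S := by
      rw [hd, ← Nat.gcd_mul_right]
      exact Nat.dvd_gcd (dvd_mul_right _ _) h1
    rw [← Nat.gcd_mul_left]
    exact Nat.dvd_gcd (dvd_mul_left _ _) h4
  have hgcdS : M0 * h = Nat.gcd m S := by
    have h2 : d * Nat.gcd m S = m * h := (Nat.mul_div_cancel' hdvd).symm
    rw [← hM, mul_comm M0 d, mul_assoc] at h2
    exact (Nat.eq_of_mul_eq_mul_left hdpos h2).symm.trans (by rw [mul_comm d M0, hM])
  have hgpos : 0 < g := by
    refine Nat.gcd_pos_of_pos_right _ ?_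
    have h5 : 0 < M0 * h := hgcdS ▸ Nat.gcd_pos_of_pos_left _ hm
    exact Nat.pos_of_mul_pos_left h5
  have hN : M0 * g = Nat.gcd (Nat.gcd m S) t := by
    rw [ht', ← hgcdS, Nat.gcd_mul_left, hg, Nat.gcd_comm l h]
  set N := M0 * g with hNdef
  have hNm : N ∣ m := hN ▸ (Nat.gcd_dvd_left _ _).trans (Nat.gcd_dvd_left _ _)
  have hNS : (N : ℤ) ∣ ∑ i ∈ Finset.range n, (r : ℤ) ^ i := by
    have h6 : N ∣ S := hN ▸ (Nat.gcd_dvd_left _ _).trans (Nat.gcd_dvd_right _ _)
    have := Int.natCast_dvd_natCast.mpr h6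
    simpa [hS] using this
  have hm0 : (m : ℤ) ∣ ((r : ℤ) - 1) * M0 := by
    rw [← hR1, ← Nat.cast_mul, Int.natCast_dvd_natCast]
    obtain ⟨e, he⟩ : d ∣ r - 1 := Nat.gcd_dvd_right _ _
    exact ⟨e, by rw [he, ← hM]; ring⟩
  have P : Par N (r : ℤ) m n t := ⟨hn, hNS, hNm, hN ▸ Nat.gcd_dvd_right _ _,
    by rw [hNdef, Nat.cast_mul, ← mul_assoc]; exact hm0.mul_right _,
    by rw [ht', Nat.cast_mul, ← mul_assoc]; exact hm0.mul_right _⟩
  have habR : b * a * b⁻¹ = a ^ (r : ℤ) := by rw [zpow_natCast, hab]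
  haveI : Finite G := finite_of_rels hm hn hgen ha hb habR
  haveI : NeZero g := ⟨hgpos.ne'⟩
  -- the map back to the model
  obtain ⟨h1, h2, h3⟩ := rels_quot P
  rw [zpow_natCast] at h3
  obtain ⟨ρ, hρa, hρb⟩ := univ _ _ _ h1 h2 h3
  have haord : ∀ k : ℤ, a ^ k = 1 → (m : ℤ) ∣ k := fun k hk => by
    refine dvd_of_zpow_mem P ?_ hn
    rw [← QuotientGroup.eq_one_iff, ← QuotientGroup.mk'_apply, map_zpow, ← hρa, ← map_zpow, hk, map_one]
  have hkerbound : ∀ {Y : Type} [Group Y] (τ : Y →* G), τ.ker ≤ center Y → ∀ x y : Y,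
      τ x = a → τ y = b →
      τ.ker ⊓ commutator Y ≤ zpowers (comGen (r : ℤ) x y ^ M0) ∧
        (comGen (r : ℤ) x y ^ M0) ^ g = 1 := by
    intro Y _ τ hc x y hx hy
    obtain ⟨k1, k2, k3, k4, k5⟩ := bound m n t (r : ℤ) hgen ha hb habR τ hc x y hx hy
    set u := comGen (r : ℤ) x y
    refine ⟨?_, ?_⟩
    · rintro z ⟨hz, hz'⟩
      obtain ⟨k, rfl⟩ := Subgroup.mem_zpowers_iff.mp (k1 ▸ hz' : z ∈ zpowers u)
      have h4 : a ^ (((r : ℤ) - 1) * k) = 1 := by
        rw [zpow_mul, ← k2, ← map_zpow]; exact hz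
      have h5 := haord _ h4
      rw [← hR1, Int.natCast_dvd, Int.natAbs_mul, Int.natAbs_natCast] at h5
      have h6 : M0 ∣ k.natAbs := by
        have hco : Nat.Coprime M0 ((r - 1) / d) := Nat.coprime_div_gcd_div_gcd hdpos
        refine hco.dvd_of_dvd_mul_left ?_
        refine Nat.dvd_of_mul_dvd_mul_right hdpos ?_
        rw [hM, mul_right_comm, Nat.div_mul_cancel (Nat.gcd_dvd_right _ _)]
        exact h5
      obtain ⟨s, hs⟩ := Int.natCast_dvd.mpr h6
      exact Subgroup.mem_zpowers_iff.mpr ⟨s, by rw [hs, zpow_mul, zpow_natCast]⟩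
    · rw [← pow_mul, ← hNdef, hN]
      refine orderOf_dvd_iff_pow_eq_one.mp (Nat.dvd_gcd (Nat.dvd_gcd ?_ ?_) ?_)
      · exact orderOf_dvd_of_pow_eq_one k3
      · refine orderOf_dvd_of_pow_eq_one ?_
        rw [← zpow_natCast, hS]
        push_cast
        exact k4
      · exact orderOf_dvd_of_pow_eq_one k5
  -- the witness
  let fl : Lat N (r : ℤ) →+ Additive G :=
    QuotientAddGroup.lift _ ((zmultiplesHom _ (Additive.ofMul a)).comp (AddMonoidHom.fst ℤ ℤ)) (by
      intro v hv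
      obtain ⟨k, rfl⟩ := hv
      obtain ⟨s, hs⟩ := P.rel
      refine AddMonoidHom.mem_ker.mpr ?_
      show (k • ((((r : ℤ) - 1) * N), (N : ℤ))).1 • Additive.ofMul a = 0
      rw [Prod.smul_fst, smul_eq_mul, hs, ← ofMul_zpow, mul_left_comm, zpow_mul, zpow_natCast, ha,
        one_zpow, ofMul_one])
  let fn : Multiplicative (Lat N (r : ℤ)) →* G := AddMonoidHom.toMultiplicativeLeft fl
  have hfn : ∀ v : ℤ × ℤ, fn (Multiplicative.ofAdd (cls N (r : ℤ) v)) = a ^ v.1 := fun v => by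
    show Additive.toMul (v.1 • Additive.ofMul a) = _
    rfl
  have hgenc : ∀ v, fn (actEquiv P v) = b * fn v * b⁻¹ := fun v => by
    obtain ⟨v, rfl⟩ := Multiplicative.ofAdd.surjective v
    obtain ⟨v, rfl⟩ := QuotientAddGroup.mk'_surjective _ v
    show fn (Multiplicative.ofAdd (act N (r : ℤ) (cls N _ v))) = _
    rw [show act N (r : ℤ) (cls N _ v) = cls N _ ((r : ℤ) * v.1, v.1 + v.2) from rfl, hfn, hfn,
      ← conj_zpow, habR, ← zpow_mul]
  have hcompat : ∀ k : ℤ, ∀ v, fn ((actEquiv P ^ k) v) = b ^ k * fn v * (b ^ k)⁻¹ := by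
    intro k
    induction k using Int.induction_on with
    | zero => intro v; simp
    | succ k ih =>
      intro v
      rw [zpow_add_one, MulAut.mul_apply, ih, hgenc, zpow_add_one]; group
    | pred k ih =>
      intro v
      have h7 := hgenc ((actEquiv P)⁻¹ v)
      rw [MulAut.apply_inv_self] at h7
      rw [zpow_sub_one, MulAut.mul_apply, ih, h7, zpow_sub_one]; group
  let σ : Ext P →* G := SemidirectProduct.lift fn (zpowersHom G b) fun k => by
    refine MonoidHom.ext fun v => ?_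
    simp only [MonoidHom.comp_apply, MulEquiv.coe_toMonoidHom, zpowersHom_apply, MulAut.conj_apply]
    exact hcompat _ v
  have hσx : σ (ex P) = a := by
    rw [ex, SemidirectProduct.lift_inl, hfn, zpow_one]
  have hσy : σ (ey P) = b := by
    rw [ey, SemidirectProduct.lift_inr, zpowersHom_apply, toAdd_ofAdd, zpow_one]
  have hσs : Function.Surjective σ := by
    rw [← MonoidHom.range_eq_top, eq_top_iff, ← hgen, Subgroup.closure_le]
    rintro z (rfl | rfl)
    exacts [⟨_, hσx⟩, ⟨_, hσy⟩]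
  have hσc : σ.ker ≤ center (Ext P) := by
    refine le_trans (fun z hz => ?_) (kerSub_le_center P)
    have hcomp : ∀ z, ρ (σ z) = QuotientGroup.mk' (kerSub P) z := by
      intro z
      have e1 : ∀ v, ρ (σ (SemidirectProduct.inl v)) =
          QuotientGroup.mk' (kerSub P) (SemidirectProduct.inl v) := by
        intro v
        obtain ⟨v, rfl⟩ := Multiplicative.ofAdd.surjective v
        obtain ⟨v, rfl⟩ := QuotientAddGroup.mk'_surjective _ v
        rw [SemidirectProduct.lift_inl, hfn, map_zpow, hρa, ← map_zpow, ex_zpow, eq_comm,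
          ← inv_mul_eq_one, ← map_inv, ← map_mul]
        refine (QuotientGroup.eq_one_iff _).mpr ⟨0, by simp, ?_⟩
        simp [fstMod_mk]
      rw [← SemidirectProduct.inl_left_mul_inr_right z, map_mul, map_mul, map_mul, e1]
      congr 1
      rw [SemidirectProduct.lift_inr, zpowersHom_apply, map_zpow, hρb, ← map_zpow, ey, ← map_zpow,
        ← ofAdd_zsmul]
      simp
    rw [← QuotientGroup.eq_one_iff, ← QuotientGroup.mk'_apply, ← hcomp, MonoidHom.mem_ker.mp hz, map_one]
  obtain ⟨k1, hwg⟩ := hkerbound σ hσc (ex P) (ey P) hσx hσy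
  obtain ⟨c1, c2, -, -, -⟩ := bound m n t (r : ℤ) hgen ha hb habR σ hσc (ex P) (ey P) hσx hσy
  have hu : comGen (r : ℤ) (ex P) (ey P) =
      SemidirectProduct.inl (Multiplicative.ofAdd (uvec N (r : ℤ))) := by
    rw [comGen, conj_ex, ex_zpow, ex_zpow, ← map_inv, ← map_mul, ← map_mul, ← ofAdd_neg, ← ofAdd_add,
      ← ofAdd_add, ← map_neg, ← map_add, ← map_add]
    simp
  have hK : σ.ker ⊓ commutator (Ext P) = zpowers (comGen (r : ℤ) (ex P) (ey P) ^ M0) := by
    refine le_antisymm k1 ((zpowers_le).mpr ⟨?_, ?_⟩)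
    · show σ _ = 1
      rw [map_pow, c2, ← zpow_natCast, ← zpow_mul]
      obtain ⟨s, hs⟩ := hm0
      rw [hs, zpow_mul, zpow_natCast, ha, one_zpow]
    · exact Subgroup.pow_mem _ (c1 ▸ Subgroup.mem_zpowers _) _
  have hord : orderOf (comGen (r : ℤ) (ex P) (ey P) ^ M0) = g := by
    refine Nat.dvd_antisymm (orderOf_dvd_of_pow_eq_one hwg) ?_
    set o := orderOf (comGen (r : ℤ) (ex P) (ey P) ^ M0)
    have h8 : (comGen (r : ℤ) (ex P) (ey P) ^ M0) ^ o = 1 := pow_orderOf_eq_one _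
    rw [hu, ← pow_mul, ← map_pow, ← ofAdd_nsmul, ← map_one (SemidirectProduct.inl (φ := zpowersHom
      (MulAut (Multiplicative (Lat N (r : ℤ)))) (actEquiv P))), SemidirectProduct.inl_inj] at h8
    have h9 := zsmul_uvec_eq_zero N (r : ℤ) (k := ((M0 * o : ℕ) : ℤ))
      (by rw [natCast_zsmul]; exact h8)
    rw [Int.natCast_dvd_natCast, hNdef] at h9
    exact Nat.dvd_of_mul_dvd_mul_left (Nat.div_pos (Nat.le_of_dvd hm hdm) hdpos) h9
  have hcard : Nat.card (zpowers (comGen (r : ℤ) (ex P) (ey P) ^ M0)) = g := by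
    rw [Nat.card_zpowers, hord]
  have hcard' : Nat.card (Multiplicative (ZMod g)) = g :=
    (Nat.card_congr Multiplicative.toAdd).trans (Nat.card_zmod g)
  refine hasSchurMultiplier_of_bound σ hσs hσc ((MulEquiv.subgroupCongr hK).trans
    (mulEquivOfCyclicCardEq (hcard.trans hcard'.symm))).toMonoidHom (MulEquiv.surjective _)
    fun Y _ τ hτ hc => ?_
  obtain ⟨x, hx⟩ := hτ a
  obtain ⟨y, hy⟩ := hτ b
  obtain ⟨e1, e2⟩ := hkerbound τ hc x y hx hy
  rw [hcard']
  haveI := (isOfFinOrder_iff_pow_eq_one.mpr ⟨g, hgpos, e2⟩).finite_zpowers.to_subtype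
  calc Nat.card (τ.ker ⊓ commutator Y : Subgroup Y)
      ≤ Nat.card (zpowers (comGen (r : ℤ) x y ^ M0)) :=
        Nat.card_le_card_of_injective _ (Subgroup.inclusion_injective e1)
    _ ≤ g := by rw [Nat.card_zpowers]; exact Nat.le_of_dvd hgpos (orderOf_dvd_of_pow_eq_one e2)

end Cfsg.Agent.Lib.Schur.Metacyclic
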