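import Cfsg.Agent.Lib.Orth.Centre
import Cfsg.Agent.Lib.Schur.Cover

/-!
A central extension of `Ω(Q)`, `q` odd, with a non-trivial central element in the derived group: the units
of the Clifford algebra lifting the Eichler transformations.
-/

set_option autoImplicit false
set_option linter.unusedSectionVars false

namespace Cfsg.Agent.Lib.Schur.OrthMult

open QuadraticMap Cfsg.Agent.Lib.Orth
open scoped commutatorElement

universe u

variable {ι : Type} [Fintype ι] [DecidableEq ι] {F : Type u} [Field F] {Q : QuadraticForm F (ι → F)}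

set_option quotPrecheck false in
local notation "O" => ↥(Cfsg.isometryGroup F ⇑Q)
local notation "Cl" => CliffordAlgebra Q
local notation "γ" => CliffordAlgebra.ι Q

/-- Pairs of a unit and an isometry inducing the same map on vectors. -/
def cliffordPairs (Q : QuadraticForm F (ι → F)) :
    Subgroup ((CliffordAlgebra Q)ˣ × ↥(Cfsg.isometryGroup F ⇑Q)) where
  carrier := {p | ∀ x, (p.1 : CliffordAlgebra Q) * CliffordAlgebra.ι Q x =
    CliffordAlgebra.ι Q (app p.2 x) * p.1}
  one_mem' := fun x => by simp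
  mul_mem' := by
    rintro p r hp hr x
    rw [Prod.fst_mul, Prod.snd_mul, Units.val_mul, mul_assoc, hr, ← mul_assoc, hp, app_mul, mul_assoc]
  inv_mem' := by
    rintro p hp x
    have h := hp (app p.2⁻¹ x)
    rw [app_app_inv] at h
    rw [Prod.fst_inv, Prod.snd_inv, Units.inv_mul_eq_iff_eq_mul, ← mul_assoc, h, mul_assoc,
      Units.mul_inv, mul_one]

theorem mem_cliffordPairs {p : (CliffordAlgebra Q)ˣ × O} :
    p ∈ cliffordPairs Q ↔ ∀ x, (p.1 : Cl) * γ x = γ (app p.2 x) * p.1 := Iff.rfl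

theorem gamma_mul_swap (a x : ι → F) : γ a * γ x = algebraMap F Cl (polar ⇑Q a x) - γ x * γ a :=
  CliffordAlgebra.ι_mul_ι_comm a x

/-- An element commuting with every vector is central. -/
theorem commute_all {c : Cl} (hc : ∀ x, Commute c (γ x)) (y : Cl) : Commute c y := by
  induction y using CliffordAlgebra.induction with
  | algebraMap r => exact (Algebra.commutes r c).symm
  | ι x => exact hc x
  | mul a b ha hb => exact ha.mul_right hb
  | add a b ha hb => exact ha.add_right hb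

/-- A non-singular vector as a unit. -/
noncomputable def vecUnit (Q : QuadraticForm F (ι → F)) (a : ι → F) (ha : Q a ≠ 0) : (CliffordAlgebra Q)ˣ where
  val := CliffordAlgebra.ι Q a
  inv := (Q a)⁻¹ • CliffordAlgebra.ι Q a
  val_inv := by
    rw [mul_smul_comm, CliffordAlgebra.ι_sq_scalar, Algebra.algebraMap_eq_smul_one, smul_smul,
      inv_mul_cancel₀ ha, one_smul]
  inv_val := by
    rw [smul_mul_assoc, CliffordAlgebra.ι_sq_scalar, Algebra.algebraMap_eq_smul_one, smul_smul,
      inv_mul_cancel₀ ha, one_smul]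

theorem vec_mul_gamma {a : ι → F} (ha : Q a ≠ 0) (x : ι → F) :
    γ a * γ x = -(γ (app (refl Q a ha) x) * γ a) := by
  rw [app_refl, map_sub, map_smul, sub_mul, smul_mul_assoc, CliffordAlgebra.ι_sq_scalar,
    Algebra.algebraMap_eq_smul_one, smul_smul, gamma_mul_swap, Algebra.algebraMap_eq_smul_one,
    show ((Q a)⁻¹ * polar ⇑Q a x) * Q a = polar ⇑Q a x by field_simp, neg_sub]

theorem pair_mem {a b : ι → F} (ha : Q a ≠ 0) (hb : Q b ≠ 0) :
    ((vecUnit Q a ha * vecUnit Q b hb, refl Q a ha * refl Q b hb) : (CliffordAlgebra Q)ˣ × O) ∈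
      cliffordPairs Q := by
  intro x
  show γ a * γ b * γ x = γ (app (refl Q a ha * refl Q b hb) x) * (γ a * γ b)
  rw [mul_assoc, vec_mul_gamma hb, mul_neg, ← mul_assoc, vec_mul_gamma ha, neg_mul, neg_neg, mul_assoc,
    app_mul]

/-- The unit of an Eichler transformation. -/
theorem exists_siegel_pair {u v : ι → F} (hu : Q u = 0) (hv : Q v = 0) (huv : polar ⇑Q u v = 0) (c : F) :
    ∃ U : (CliffordAlgebra Q)ˣ, (U, siegel Q u v hu hv huv c) ∈ cliffordPairs Q := by
  obtain ⟨w, hw⟩ : ∃ w, w = c • v := ⟨_, rfl⟩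
  have huw : polar ⇑Q u w = 0 := by rw [hw, polar_smul_right, huv, smul_zero]
  have hQw : Q w = 0 := by rw [hw, QuadraticMap.map_smul, hv, smul_zero]
  have hswap : γ w * γ u = -(γ u * γ w) := by
    rw [gamma_mul_swap, polar_comm, huw, map_zero, zero_sub]
  have hsq : γ u * γ w * (γ u * γ w) = 0 := by
    rw [mul_assoc, ← mul_assoc (γ w), hswap, neg_mul, mul_assoc, CliffordAlgebra.ι_sq_scalar, hQw, map_zero,
      mul_zero, neg_zero, mul_zero]
  let U : (CliffordAlgebra Q)ˣ :=
    { val := 1 - γ u * γ w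
      inv := 1 + γ u * γ w
      val_inv := by rw [sub_mul, one_mul, mul_add, hsq, mul_one, add_zero, add_sub_cancel_right]
      inv_val := by rw [add_mul, one_mul, mul_sub, hsq, mul_one, sub_zero, sub_add_cancel] }
  refine ⟨U, fun x => ?_⟩
  show (1 - γ u * γ w) * γ x = γ (app (siegel Q u v hu hv huv c) x) * (1 - γ u * γ w)
  have hform : app (siegel Q u v hu hv huv c) x = x + (polar ⇑Q u x • w - polar ⇑Q w x • u) := by
    rw [app_siegel, hw, polar_smul_left, smul_sub, smul_smul, smul_smul, smul_smul, smul_eq_mul,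
      mul_comm c (polar ⇑Q u x)]
  rw [hform, map_add, map_sub, map_smul, map_smul]
  have h1 : γ u * γ w * γ x = polar ⇑Q w x • γ u - polar ⇑Q u x • γ w + γ x * (γ u * γ w) := by
    rw [mul_assoc, gamma_mul_swap w x, mul_sub, ← mul_assoc (γ u) (γ x), gamma_mul_swap u x, sub_mul,
      ← mul_assoc, Algebra.algebraMap_eq_smul_one, Algebra.algebraMap_eq_smul_one, mul_smul_comm, mul_one,
      smul_mul_assoc, one_mul]
    abel
  have h2 : γ w * (γ u * γ w) = 0 := by
    rw [← mul_assoc, hswap, neg_mul, mul_assoc, CliffordAlgebra.ι_sq_scalar, hQw, map_zero, mul_zero, neg_zero]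
  have h3 : γ u * (γ u * γ w) = 0 := by
    rw [← mul_assoc, CliffordAlgebra.ι_sq_scalar, hu, map_zero, zero_mul]
  rw [sub_mul, one_mul, h1, add_mul, sub_mul, smul_mul_assoc, smul_mul_assoc, mul_sub, mul_sub, mul_sub,
    h2, h3, mul_one, mul_one, mul_one, smul_sub, smul_sub, smul_zero, smul_zero]
  abel

variable [Finite F] (h2 : (2 : F) ≠ 0) (hQ : (QuadraticMap.polarBilin Q).Nondegenerate)
include h2 hQ

/-- A central extension of `Ω` with a non-trivial central element in its derived group. -/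
theorem exists_double (hn : 5 ≤ Fintype.card ι) :
    ∃ (X : Type u) (_ : Group X) (σ : X →* ↥(Cfsg.Omega F ⇑Q)), Function.Surjective σ ∧
      σ.ker ≤ Subgroup.center X ∧ ∃ z ∈ σ.ker ⊓ commutator X, z ≠ 1 := by
  let S : Subgroup ((CliffordAlgebra Q)ˣ × O) :=
    cliffordPairs Q ⊓ (Cfsg.Omega F ⇑Q).comap (MonoidHom.snd _ _)
  let σ : S →* ↥(Cfsg.Omega F ⇑Q) :=
    ((MonoidHom.snd _ _).comp S.subtype).codRestrict _ fun x => (Subgroup.mem_inf.mp x.2).2
  have hs : Function.Surjective σ := by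
    rintro ⟨g, hg⟩
    suffices h : g ∈ (cliffordPairs Q).map (MonoidHom.snd _ _) by
      obtain ⟨⟨U, g'⟩, hU, rfl⟩ := h
      exact ⟨⟨(U, g'), Subgroup.mem_inf.mpr ⟨hU, hg⟩⟩, rfl⟩
    rw [omega_eq_siegelGroup h2 hQ hn] at hg
    refine (Subgroup.closure_le _).mpr ?_ hg
    intro s hs'
    obtain ⟨u, v, hu, hv, huv, c, rfl⟩ := exists_eq_siegel hs'
    obtain ⟨U, hU⟩ := exists_siegel_pair hu hv huv c
    exact ⟨(U, _), hU, rfl⟩
  have hcentral : ∀ U : (CliffordAlgebra Q)ˣ, ((U, (1 : O)) : (CliffordAlgebra Q)ˣ × O) ∈ cliffordPairs Q →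
      ∀ W : (CliffordAlgebra Q)ˣ, Commute U W := by
    intro U hU W
    have h := commute_all (c := (U : Cl)) (fun x => by
      have := hU x
      rwa [app_one] at this) (W : Cl)
    exact Units.ext h.eq
  have hc : σ.ker ≤ Subgroup.center S := by
    rintro ⟨⟨U, g⟩, hp⟩ hk
    have hg : g = 1 := congrArg Subtype.val (MonoidHom.mem_ker.mp hk)
    subst hg
    rw [Subgroup.mem_center_iff]
    rintro ⟨⟨W, h⟩, hh⟩
    refine Subtype.ext (Prod.ext ?_ ?_)
    · exact ((hcentral U (Subgroup.mem_inf.mp hp).1 W).symm).eq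
    · show h * 1 = 1 * h
      rw [one_mul, mul_one]
  refine ⟨S, inferInstance, σ, hs, hc, ?_⟩
  -- two commuting elements with anticommuting lifts
  obtain ⟨v, hv, hvc⟩ := exists_orth_family h2 hQ (one_ne_zero (α := F)) (k := 3) (by omega)
  have hv' : ∀ i, Q (v i) ≠ 0 := fun i => by rw [hvc i]; exact one_ne_zero
  have hn2 : 2 ≤ Fintype.card ι := by omega
  have hmem : ∀ j : Fin 3, j ≠ 0 → refl Q (v 0) (hv' 0) * refl Q (v j) (hv' j) ∈ Cfsg.Omega F ⇑Q := by
    intro j hj
    rw [mem_omega_iff h2 hQ hn2]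
    constructor
    · rw [map_mul, detSign_refl h2 hQ, detSign_refl h2 hQ]; exact Int.units_mul_self _
    · rw [map_mul, map_refl_eq h2 (spinor Q) (hv' j) (hv' 0) (by rw [hvc, hvc])]
      exact Int.units_mul_self _
  let G : ∀ j : Fin 3, j ≠ 0 → S := fun j hj =>
    ⟨(vecUnit Q (v 0) (hv' 0) * vecUnit Q (v j) (hv' j), refl Q (v 0) (hv' 0) * refl Q (v j) (hv' j)),
      Subgroup.mem_inf.mpr ⟨pair_mem (hv' 0) (hv' j), hmem j hj⟩⟩
  set x := G 1 (by decide)
  set y := G 2 (by decide)
  have horth : ∀ i j : Fin 3, i ≠ j → γ (v i) * γ (v j) = -(γ (v j) * γ (v i)) := fun i j hij => by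
    rw [gamma_mul_swap, hv i j hij, map_zero, zero_sub]
  have hg : refl Q (v 0) (hv' 0) * refl Q (v 1) (hv' 1) * (refl Q (v 0) (hv' 0) * refl Q (v 2) (hv' 2)) =
      refl Q (v 0) (hv' 0) * refl Q (v 2) (hv' 2) * (refl Q (v 0) (hv' 0) * refl Q (v 1) (hv' 1)) := by
    have hcm : ∀ i j : Fin 3, i ≠ j → Commute (refl Q (v i) (hv' i)) (refl Q (v j) (hv' j)) := fun i j hij => by
      have h := conj_refl (refl Q (v i) (hv' i)) (hv' j)
      rw [refl_congr _ (hv' j) (app_refl_of_polar_eq_zero (hv' i) (hv i j hij))] at h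
      exact mul_inv_eq_iff_eq_mul.1 h
    exact (((Commute.refl _).mul_left (hcm 1 0 (by decide))).mul_right
      ((hcm 0 2 (by decide)).mul_left (hcm 1 2 (by decide)))).eq
  refine ⟨⁅x, y⁆, Subgroup.mem_inf.mpr ⟨?_, Subgroup.commutator_mem_commutator (Subgroup.mem_top _) (Subgroup.mem_top _)⟩, ?_⟩
  · rw [MonoidHom.mem_ker, map_commutatorElement, commutatorElement_eq_one_iff_commute]
    exact Subtype.ext hg
  · intro h
    rw [commutatorElement_eq_one_iff_commute] at h
    have h' := congrArg (fun z : S => (((z : (CliffordAlgebra Q)ˣ × O).1 : (CliffordAlgebra Q)ˣ) : Cl)) h.eq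
    simp only [x, y, G, Subgroup.coe_mul, Prod.fst_mul, Units.val_mul, vecUnit] at h'
    set a := γ (v 0)
    set b := γ (v 1)
    set c := γ (v 2)
    have haa : a * a = 1 := by rw [CliffordAlgebra.ι_sq_scalar, hvc, map_one]
    have hbb : b * b = 1 := by rw [CliffordAlgebra.ι_sq_scalar, hvc, map_one]
    have hcc : c * c = 1 := by rw [CliffordAlgebra.ι_sq_scalar, hvc, map_one]
    have l1 : a * b * (a * c) = -(b * c) := by
      rw [horth 0 1 (by decide), neg_mul, mul_assoc, ← mul_assoc a a c, haa, one_mul]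
    have l2 : a * c * (a * b) = b * c := by
      rw [horth 0 2 (by decide), neg_mul, mul_assoc, ← mul_assoc a a b, haa, one_mul, horth 2 1 (by decide),
        neg_neg]
    rw [l1, l2] at h'
    haveI : Invertible (2 : F) := invertibleOfNonzero h2
    have h3 : (2 : F) • (1 : Cl) = 0 := by
      have h4 : -(b * c) * (c * b) = b * c * (c * b) := by rw [h']
      rw [neg_mul, mul_assoc, ← mul_assoc c c b, hcc, one_mul, hbb] at h4
      rw [two_smul]
      nth_rw 1 [← h4]
      exact neg_add_cancel 1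
    exact (smul_ne_zero h2 one_ne_zero) h3

end Cfsg.Agent.Lib.Schur.OrthMult
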