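import Cfsg.Agent.Lib.Schur.OrthGeom
import Cfsg.Agent.Lib.Schur.PLift

/-!
In a central extension of `Ω(Q)` with kernel prime to the characteristic: if the lifted stabiliser of a
hyperbolic pair meets the kernel trivially, so does the lifted group of the whole space (dimension at least
seven). The cosets of the lifted stabiliser of a singular vector are identified with the singular vectors
through the lifted stabilisers of common orthogonal singular vectors.
-/

set_option autoImplicit false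
set_option linter.unusedSectionVars false

namespace Cfsg.Agent.Lib.Schur.OrthMult

open QuadraticMap Cfsg.Agent.Lib.Orth Cfsg.Agent.Lib.Schur
open scoped commutatorElement

variable {ι : Type} [Fintype ι] [DecidableEq ι] {F : Type*} [Field F] {Q : QuadraticForm F (ι → F)}
variable {Γ : Type*} [Group Γ] {p : ℕ}

set_option quotPrecheck false in
local notation "O" => ↥(Cfsg.isometryGroup F ⇑Q)
local notation "V" => (ι → F)
set_option quotPrecheck false in
local notation "B" => polar ⇑Q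

/-- The lifted group of the complement of `C` meets the kernel trivially. -/
def Meets (σ : Γ →* ↥(Cfsg.isometryGroup F ⇑Q)) (p : ℕ) (C : Set (ι → F)) : Prop :=
  pGen σ p (eGroup Q C : Set ↥(Cfsg.isometryGroup F ⇑Q)) ⊓ σ.ker = ⊥

theorem eGroup_mono_perp {C D : Set V} (h : ∀ x, Perp Q D x → Perp Q C x) : eGroup Q D ≤ eGroup Q C :=
  Subgroup.closure_mono fun _ ⟨e, a, h1, h2, h3, h4, h5⟩ => ⟨e, a, h1, h2, h3, h _ h4, h _ h5⟩

theorem isPElt_eSet [CharP F p] {C : Set V} {g : O} (hg : g ∈ eSet Q C) : IsPElt p g := by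
  obtain ⟨e, a, hg, he, hea, -, -⟩ := hg
  refine ⟨1, ?_⟩
  have h := hg.pow he hea p
  rw [CharP.cast_eq_zero, zero_smul] at h
  rw [pow_one]
  exact h.unique (isEic_one e)

theorem eq_smul_of_dependent {e v : V} (he0 : e ≠ 0) {k l : F} (h : k • e + l • v = 0)
    (hkl : k = 0 → l ≠ 0) : ∃ c : F, v = c • e := by
  have hl : l ≠ 0 := fun hl => by
    rw [hl, zero_smul, add_zero, smul_eq_zero, or_iff_left he0] at h
    exact hkl h hl
  refine ⟨-(l⁻¹ * k), ?_⟩
  have := congrArg (l⁻¹ • ·) h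
  simp only [smul_add, smul_smul, inv_mul_cancel₀ hl, one_smul, smul_zero] at this
  rw [neg_smul]
  exact eq_neg_of_add_eq_zero_right this

/-- Being orthogonal to the common complement of `e` and `v` means lying in their span. -/
theorem exists_combination {C : Set V} (hC : Nd Q C) {e f v u : V} (he : Perp Q C e) (he0 : e ≠ 0)
    (hf : Perp Q C f) (hef : B e f = 1) (hv : Perp Q C v) (hu : Perp Q C u)
    (h : ∀ z, Perp Q C z → B e z = 0 → B v z = 0 → B u z = 0) : ∃ k l : F, u = k • e + l • v := by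
  by_cases hind : ∀ k l : F, k • e + l • v = 0 → k = 0 ∧ l = 0
  · obtain ⟨x1, hx1, he1, hv1⟩ := exists_dual hC he hv hind
    obtain ⟨x2, hx2, hv2, he2⟩ := exists_dual hC hv he (fun k l h => (hind l k (by rwa [add_comm])).symm)
    refine ⟨B u x1, B u x2, sub_eq_zero.mp (hC _ (hu.sub ((he.smul _).add (hv.smul _))) fun y hy => ?_)⟩
    have := h (y - B e y • x1 - B v y • x2) ((hy.sub (hx1.smul _)).sub (hx2.smul _))
      (by simp only [polar_sub_right, polar_smul_right, he1, he2, smul_eq_mul, mul_one, mul_zero, sub_zero,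
        sub_self])
      (by simp only [polar_sub_right, polar_smul_right, hv1, hv2, smul_eq_mul, mul_one, mul_zero, sub_zero,
        sub_self])
    simp only [polar_sub_right, polar_smul_right, smul_eq_mul] at this
    simp only [polar_sub_left, polar_add_left, polar_smul_left, smul_eq_mul]
    linear_combination this
  · push Not at hind
    obtain ⟨k, l, hkl, hkl'⟩ := hind
    obtain ⟨c, rfl⟩ := eq_smul_of_dependent he0 hkl hkl'
    refine ⟨B u f, 0, sub_eq_zero.mp (hC _ (hu.sub ((he.smul _).add (hv.smul _))) fun y hy => ?_)⟩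
    have h1 : B e (y - B e y • f) = 0 := by
      rw [polar_sub_right, polar_smul_right, hef, smul_eq_mul, mul_one, sub_self]
    have := h _ (hy.sub (hf.smul _)) h1 (by rw [polar_smul_left, h1, smul_zero])
    simp only [polar_sub_right, polar_smul_right, smul_eq_mul] at this
    simp only [polar_sub_left, polar_add_left, polar_smul_left, smul_eq_mul]
    linear_combination this

/-- Two vectors detecting the span of `e` and `v`. -/
theorem exists_detect {C : Set V} (hC : Nd Q C) {e f v : V} (he : Perp Q C e) (he0 : e ≠ 0)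
    (hef : B e f = 1) (hv : Perp Q C v) :
    ∃ x1 x2 : V, ∀ k l : F, B x1 (k • e + l • v) = 0 → B x2 (k • e + l • v) = 0 → k • e + l • v = 0 := by
  by_cases hind : ∀ k l : F, k • e + l • v = 0 → k = 0 ∧ l = 0
  · obtain ⟨x1, -, he1, hv1⟩ := exists_dual hC he hv hind
    obtain ⟨x2, -, hv2, he2⟩ := exists_dual hC hv he (fun k l h => (hind l k (by rwa [add_comm])).symm)
    refine ⟨x1, x2, fun k l h1 h3 => ?_⟩
    rw [polar_add_right, polar_smul_right, polar_smul_right, polar_comm _ x1 e, polar_comm _ x1 v, he1, hv1,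
      smul_zero, add_zero, smul_eq_mul, mul_one] at h1
    rw [polar_add_right, polar_smul_right, polar_smul_right, polar_comm _ x2 e, polar_comm _ x2 v, he2, hv2,
      smul_zero, zero_add, smul_eq_mul, mul_one] at h3
    rw [h1, h3, zero_smul, zero_smul, add_zero]
  · push Not at hind
    obtain ⟨k, l, hkl, hkl'⟩ := hind
    obtain ⟨c, rfl⟩ := eq_smul_of_dependent he0 hkl hkl'
    refine ⟨f, f, fun i j h1 _ => ?_⟩
    rw [smul_smul, ← add_smul, polar_smul_right, polar_comm _ f e, hef, smul_eq_mul, mul_one] at h1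
    rw [smul_smul, ← add_smul, h1, zero_smul]

section

variable [Finite Γ] [Fact p.Prime] [CharP F p] [Finite F] (h2 : (2 : F) ≠ 0)
  (hQ : (QuadraticMap.polarBilin Q).Nondegenerate) (hn : 5 ≤ Fintype.card ι)
  {σ : Γ →* ↥(Cfsg.isometryGroup F ⇑Q)} (hr : σ.range = siegelGroup Q)
  (hc : σ.ker ≤ Subgroup.center Γ) (hA : ¬ p ∣ Nat.card σ.ker)

include h2 hQ hn hr in
theorem exists_plift {g : O} (hg : g ∈ siegelGroup Q) (hp : IsPElt p g) :
    ∃ x : Γ, IsPElt p x ∧ σ x = g := by
  rw [← hr] at hg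
  obtain ⟨y, rfl⟩ := hg
  obtain ⟨x, -, hx, hxy⟩ := exists_isPElt_preimage (σ := σ) (p := p) ⊤ (Subgroup.mem_top y) hp
  exact ⟨x, hx, hxy⟩

include h2 hQ hn hr in
theorem exists_lift {C : Set V} {g : O} (hg : g ∈ eGroup Q C) :
    ∃ γ ∈ pGen σ p (eGroup Q C : Set O), σ γ = g := by
  suffices h : eGroup Q C ≤ (pGen σ p (eGroup Q C : Set O)).map σ from h hg
  refine (Subgroup.closure_le _).mpr fun t ht => ?_
  have ht' : t ∈ eGroup Q C := Subgroup.subset_closure ht
  obtain ⟨x, hx, hxt⟩ := exists_plift h2 hQ hn hr (eGroup_le_fixG h2 hQ hn ht').1 (isPElt_eSet ht)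
  exact ⟨x, mem_pGen hx (hxt ▸ ht'), hxt⟩

include hc hA in
/-- Commuting `p`-elements of exponent `p` have commuting lifts. -/
theorem commute_plift {x y : Γ} (hx : IsPElt p x) (hxp : σ x ^ p = 1) (h : Commute (σ x) (σ y)) :
    Commute x y := by
  set c := ⁅x, y⁆ with hcd
  have hck : σ c = 1 := by rw [hcd, map_commutatorElement, commutatorElement_eq_one_iff_commute.mpr h]
  have hcc : c ∈ Subgroup.center Γ := hc hck
  have hxp1 : x ^ p = 1 := by
    obtain ⟨k, hk⟩ := hx
    exact eq_of_isPElt hc hA ⟨k, by rw [← pow_mul, mul_comm, pow_mul, hk, one_pow]⟩ (isPElt_one p)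
      (by rw [map_pow, hxp, map_one])
  have key : ∀ k : ℕ, x ^ k * y * (x ^ k)⁻¹ = c ^ k * y := by
    intro k
    induction k with
    | zero => simp
    | succ k ih =>
      have e1 : x * c ^ k = c ^ k * x := Subgroup.mem_center_iff.mp (pow_mem hcc k) x
      have e2 : x ^ (k + 1) * y * (x ^ (k + 1))⁻¹ = x * (x ^ k * y * (x ^ k)⁻¹) * x⁻¹ := by
        rw [pow_succ']; group
      rw [e2, ih, ← mul_assoc x, e1, pow_succ, hcd, commutatorElement_def]
      group
  have h1 := key p
  rw [hxp1, one_mul, inv_one, mul_one, eq_comm, mul_eq_right] at h1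
  exact commutatorElement_eq_one_iff_commute.mp
    (eq_of_isPElt hc hA ⟨1, by rw [pow_one]; exact h1⟩ (isPElt_one p) (by rw [hck, map_one]))

include h2 hQ hn hr hc hA in
/-- The lifted stabiliser of a singular vector meets the kernel trivially. -/
theorem stab_meets {C : Set V} (hC : Nd Q C) {r : ℕ} (hd : Module.finrank F (perpSub Q C) = 2 * r + 3)
    {u f : V} (hu : Perp Q C u) (hf : Perp Q C f) (hQu : Q u = 0) (hQf : Q f = 0) (huf : B u f = 1)
    (ih : Meets σ p (insert u (insert f C))) : Meets σ p (insert u C) := by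
  have hd' := finrank_insert_pair hu hf hQu hQf huf
  set C' : Set V := insert u (insert f C) with hC'
  let U : Subgroup O :=
    { carrier := {g | ∃ a, IsEic g u a ∧ B u a = 0 ∧ B f a = 0 ∧ Perp Q C a}
      one_mem' := ⟨0, isEic_one u, QuadraticMap.polar_zero_right Q u, QuadraticMap.polar_zero_right Q f, perp_zero C⟩
      mul_mem' := by
        rintro g h ⟨a, hg, ha1, ha2, ha3⟩ ⟨b, hh, hb1, hb2, hb3⟩
        exact ⟨a + b, hg.mul hQu ha1 hb1 hh, by rw [polar_add_right, ha1, hb1, add_zero],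
          by rw [polar_add_right, ha2, hb2, add_zero], ha3.add hb3⟩
      inv_mem' := by
        rintro g ⟨a, hg, ha1, ha2, ha3⟩
        exact ⟨-a, hg.inv hQu ha1, by rw [polar_neg_right, ha1, neg_zero],
          by rw [polar_neg_right, ha2, neg_zero], ha3.neg⟩ }
  have hUcomm : ∀ g ∈ U, ∀ h ∈ U, Commute g h := by
    rintro g ⟨a, hg, ha1, -, -⟩ h ⟨b, hh, hb1, -, -⟩
    have e := hh.mul hQu hb1 ha1 hg
    rw [add_comm] at e
    exact (hg.mul hQu ha1 hb1 hh).unique e
  have hUp : ∀ g ∈ U, g ^ p = 1 := by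
    rintro g ⟨a, hg, ha1, -, -⟩
    have h := hg.pow hQu ha1 p
    rw [CharP.cast_eq_zero, zero_smul] at h
    exact h.unique (isEic_one u)
  let W : Subgroup Γ :=
    { carrier := {x | IsPElt p x ∧ σ x ∈ U}
      one_mem' := ⟨isPElt_one p, by rw [map_one]; exact one_mem U⟩
      mul_mem' := by
        rintro x y ⟨hx, hx'⟩ ⟨hy, hy'⟩
        exact ⟨hx.mul hy (commute_plift hc hA hx (hUp _ hx') (hUcomm _ hx' _ hy')),
          by rw [map_mul]; exact mul_mem hx' hy'⟩
      inv_mem' := by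
        rintro x ⟨hx, hx'⟩
        exact ⟨hx.inv, by rw [map_inv]; exact inv_mem hx'⟩ }
  set L := pGen σ p (eGroup Q C' : Set O) with hL
  have hLfix : ∀ l ∈ L, σ l ∈ fixG Q C' := fun l hl =>
    eGroup_le_fixG h2 hQ hn (sigma_mem_of_mem_pGen hl)
  have hfixu : ∀ g ∈ fixG Q C', app g u = u ∧ app g f = f := fun g hg =>
    ⟨hg.2 u fun x hx => by rw [polar_comm]; exact (perp_insert.mp hx).1,
     hg.2 f fun x hx => by rw [polar_comm]; exact (perp_insert.mp (perp_insert.mp hx).2).1⟩
  have hnorm : L ≤ Subgroup.normalizer (W : Set Γ) := by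
    have hone : ∀ l ∈ L, ∀ x ∈ W, l * x * l⁻¹ ∈ W := by
      rintro l hl x ⟨hx, a, hxa, ha1, ha2, ha3⟩
      obtain ⟨hgu, hgf⟩ := hfixu _ (hLfix l hl)
      refine ⟨hx.conj l, app (σ l) a, ?_, ?_, ?_, ha3.map_fixG (fixG_le_of_pair (hLfix l hl))⟩
      · rw [map_mul, map_mul, map_inv]
        have := hxa.conj (σ l)
        rwa [hgu] at this
      · rw [← hgu, polar_app, ha1]
      · rw [← hgf, polar_app, ha2]
    intro l hl
    rw [Subgroup.mem_normalizer_iff]
    refine fun x => ⟨fun hx => hone l hl x hx, fun hx => ?_⟩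
    have := hone l⁻¹ (inv_mem hl) _ hx
    simpa [mul_assoc] using this
  have hle : pGen σ p (eGroup Q (insert u C) : Set O) ≤ W ⊔ L := by
    refine pGen_le hc hA _ fun g hg => ?_
    have hgC : g ∈ fixG Q C := eGroup_le_fixG h2 hQ hn (eGroup_mono (Set.subset_insert _ _) hg)
    obtain ⟨k, h, a, hk, hua, hfa, haC, hh, rfl⟩ :=
      exists_decomp h2 hQ hn hu hf hQu hQf huf hgC (app_eq_of_mem_eGroup h2 hQ hg)
    have hkS : k ∈ siegelGroup Q := by
      have := mul_mem hgC.1 (inv_mem hh.1)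
      rwa [mul_inv_cancel_right] at this
    have hkU : k ∈ U := ⟨a, hk, hua, hfa, haC⟩
    obtain ⟨x, hx, hxk⟩ := exists_plift (p := p) h2 hQ hn hr hkS ⟨1, by rw [pow_one]; exact hUp _ hkU⟩
    obtain ⟨l, hl, rfl⟩ := exists_lift (p := p) h2 hQ hn hr
      (fixG_le_eGroup h2 hQ hn r C' (nd_insert_pair hC hu hf hQu hQf huf) (by omega) hh)
    exact ⟨x * l, mul_mem (Subgroup.mem_sup_left ⟨hx, hxk ▸ hkU⟩) (Subgroup.mem_sup_right hl),
      by rw [map_mul, hxk]⟩
  show _ = ⊥
  rw [eq_bot_iff]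
  rintro x ⟨hx, hxk⟩
  have hmem : x ∈ ((W ⊔ L : Subgroup Γ) : Set Γ) := hle hx
  rw [sup_comm, Subgroup.coe_mul_of_left_le_normalizer_right L W hnorm] at hmem
  obtain ⟨l, hl, w, ⟨hw, a, hwa, -, hfa, -⟩, rfl⟩ := hmem
  have hwk : σ w = (σ l)⁻¹ := eq_inv_of_mul_eq_one_right (by rw [← map_mul]; exact hxk)
  have hwf : app (σ w) f = f := by rw [hwk]; exact (hfixu _ (inv_mem (hLfix l hl))).2
  rw [hwa, eichler, huf, one_smul, mul_one, polar_comm _ a f, hfa, zero_add] at hwf
  have ha : a = Q a • u := by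
    rw [add_sub_assoc, add_eq_left, sub_eq_zero] at hwf; exact hwf
  have hQa : Q a = 0 := by
    have h := congrArg (fun z => B f z) ha
    simp only [polar_smul_right, hfa, polar_comm (⇑Q) f u, huf, smul_eq_mul, mul_one] at h
    exact h.symm
  rw [hQa, zero_smul] at ha
  have hw1 : σ w = 1 := by rw [ha] at hwa; exact hwa.unique (isEic_one u)
  have hw2 : w = 1 := eq_of_isPElt hc hA hw (isPElt_one p) (by rw [hw1, map_one])
  have hl1 : σ l = 1 := inv_eq_one.mp (hwk.symm.trans hw1)
  have hl2 : l = 1 := by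
    have : l ∈ L ⊓ σ.ker := ⟨hl, hl1⟩
    rw [hL, show pGen σ p (eGroup Q C' : Set O) ⊓ σ.ker = ⊥ from ih, Subgroup.mem_bot] at this
    exact this
  simp [hw2, hl2]

include h2 hQ hn hr hc hA in
/-- The same for every singular vector of the complement. -/
theorem stab_meets_any {C : Set V} (hC : Nd Q C) {r : ℕ} (hd : Module.finrank F (perpSub Q C) = 2 * r + 5)
    {e f : V} (he : Perp Q C e) (hf : Perp Q C f) (hQe : Q e = 0) (hQf : Q f = 0) (hef : B e f = 1)
    (ih : Meets σ p (insert e (insert f C))) {u : V} (hu : Perp Q C u) (hu0 : u ≠ 0) (hQu : Q u = 0) :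
    Meets σ p (insert u C) := by
  have he0 : e ≠ 0 := fun h => one_ne_zero (hef.symm.trans (by rw [h, polar_zero_left]))
  obtain ⟨g, hg, hge⟩ := exists_trans h2 hQ hn hC (by omega) he hu he0 hu0 hQe hQu
  have hgC := eGroup_le_fixG h2 hQ hn hg
  obtain ⟨γ, hγ⟩ : ∃ γ, σ γ = g := by rw [← MonoidHom.mem_range, hr]; exact hgC.1
  show _ = ⊥
  rw [eq_bot_iff]
  rintro x ⟨hx, hxk⟩
  have h3 : γ⁻¹ * x * γ⁻¹⁻¹ ∈ pGen σ p (eGroup Q (insert e C) : Set O) ⊓ σ.ker := by
    refine ⟨conj_mem_pGen γ⁻¹ (fun a ha => ?_) hx, ?_⟩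
    · rw [map_inv, hγ, inv_inv]
      refine stab_le_eGroup h2 hQ hn hC (r := r + 1) (by omega) he he0 hQe
        (mul_mem (mul_mem (inv_mem hgC) (eGroup_le_fixG h2 hQ hn (eGroup_mono (Set.subset_insert _ _) ha))) hgC) ?_
      rw [app_mul, app_mul, hge, app_eq_of_mem_eGroup h2 hQ ha, ← hge, app_inv_app]
    · show σ _ = 1
      rw [map_mul, map_mul, show σ x = 1 from hxk, mul_one, map_inv σ γ⁻¹, mul_inv_cancel]
  rw [show pGen σ p (eGroup Q (insert e C) : Set O) ⊓ σ.ker = ⊥ from
    stab_meets h2 hQ hn hr hc hA hC (r := r + 1) (by omega) he hf hQe hQf hef ih, Subgroup.mem_bot, inv_inv] at h3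
  rw [Subgroup.mem_bot, show x = γ * (γ⁻¹ * x * γ) * γ⁻¹ by group, h3, mul_one, mul_inv_cancel]

include h2 hQ hn hr hc hA in
/-- The inductive step. -/
theorem step {C : Set V} (hC : Nd Q C) {r : ℕ} (hd : Module.finrank F (perpSub Q C) = 2 * r + 7)
    {e f : V} (he : Perp Q C e) (hf : Perp Q C f) (hQe : Q e = 0) (hQf : Q f = 0) (hef : B e f = 1)
    (ih : Meets σ p (insert e (insert f C))) : Meets σ p C := by
  classical
  set P := pGen σ p (eGroup Q (insert e C) : Set O) with hP
  have he0 : e ≠ 0 := fun h => one_ne_zero (hef.symm.trans (by rw [h, polar_zero_left]))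
  let cs : Γ → Γ ⧸ P := fun γ => (γ : Γ ⧸ P)
  let Good : V → V → Prop := fun u v =>
    Perp Q C u ∧ Q u = 0 ∧ B e u = 0 ∧ B v u = 0 ∧ ∀ k l : F, u ≠ k • e + l • v
  have good_ne : ∀ {u v}, Good u v → u ≠ 0 := fun {u v} h h0 =>
    h.2.2.2.2 0 0 (by rw [h0, zero_smul, zero_smul, add_zero])
  let H : V → Subgroup Γ := fun u => pGen σ p (eGroup Q (insert u C) : Set O)
  -- closing
  have close : ∀ {u v : V}, Good u v → ∀ {a b : Γ}, a ∈ H u → b ∈ H u →
      app (σ a) e = app (σ b) e → cs a = cs b := by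
    intro u v hu a b ha hb hab
    show (a : Γ ⧸ P) = b
    rw [QuotientGroup.eq]
    set γ := a⁻¹ * b with hγ
    have hγu : γ ∈ H u := mul_mem (inv_mem ha) hb
    have hg := sigma_mem_of_mem_pGen (H := eGroup Q (insert u C)) hγu
    have hgC := eGroup_le_fixG h2 hQ hn (eGroup_mono (Set.subset_insert _ _) hg)
    have hind : ∀ k l : F, k • u + l • e = 0 → k = 0 ∧ l = 0 := by
      intro k l h
      by_cases hk : k = 0
      · rw [hk, zero_smul, zero_add, smul_eq_zero, or_iff_left he0] at h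
        exact ⟨hk, h⟩
      · exfalso
        refine hu.2.2.2.2 (-(k⁻¹ * l)) 0 ?_
        have := congrArg (k⁻¹ • ·) h
        simp only [smul_add, smul_smul, inv_mul_cancel₀ hk, one_smul, smul_zero] at this
        rw [zero_smul, add_zero, neg_smul]
        exact eq_neg_of_add_eq_zero_left this
    have hge : app (σ γ) e = e := by rw [hγ, map_mul, map_inv, app_mul, ← hab, app_inv_app]
    have hmem := stab_two_le_eGroup h2 hQ hn hC (r := r + 1) (by omega) hu.1 hu.2.1 he hQe
      (by rw [polar_comm]; exact hu.2.2.1) hind hgC (app_eq_of_mem_eGroup h2 hQ hg) hge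
    obtain ⟨δ, hδ, hδe⟩ := exists_lift (p := p) h2 hQ hn hr hmem
    have hδu : δ ∈ H u := pGen_mono (eGroup_mono (Set.subset_insert _ _)) hδ
    have h1 : γ * δ⁻¹ ∈ H u ⊓ σ.ker := Subgroup.mem_inf.mpr ⟨mul_mem hγu (inv_mem hδu),
      show σ _ = 1 by rw [map_mul, map_inv, hδe, mul_inv_cancel]⟩
    rw [show H u ⊓ σ.ker = ⊥ from stab_meets_any h2 hQ hn hr hc hA hC (r := r + 1) (by omega) he hf hQe hQf
      hef ih hu.1 (good_ne hu) hu.2.1, Subgroup.mem_bot, mul_inv_eq_one] at h1
    rw [h1]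
    exact pGen_mono (eGroup_mono (Set.insert_subset_insert (Set.subset_insert _ _))) hδ
  have good_adj : ∀ {u v : V}, Good u v → Perp Q C v → ∀ {u' : V}, Good u' v → B u u' = 0 →
      ∃ w, Good w v ∧ B u w ≠ 0 ∧ B u' w ≠ 0 := by
    intro u v hu hv u' hu' huu
    have hne : ∀ {a : V}, Good a v → ∃ x, Perp Q C x ∧ B e x = 0 ∧ B v x = 0 ∧ B a x ≠ 0 := by
      intro a ha
      by_contra hcon
      push Not at hcon
      obtain ⟨k, l, h⟩ := exists_combination hC he he0 hf hef hv ha.1 hcon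
      exact ha.2.2.2.2 k l h
    obtain ⟨x, hxC, hex, hvx, hux, hu'x⟩ : ∃ x, Perp Q C x ∧ B e x = 0 ∧ B v x = 0 ∧ B u x ≠ 0 ∧ B u' x ≠ 0 := by
      obtain ⟨a, ha, ha1, ha2, ha3⟩ := hne hu
      obtain ⟨b, hb, hb1, hb2, hb3⟩ := hne hu'
      by_cases h1 : B u' a = 0
      · by_cases h3 : B u b = 0
        · exact ⟨a + b, ha.add hb, by rw [polar_add_right, ha1, hb1, add_zero],
            by rw [polar_add_right, ha2, hb2, add_zero], by rwa [polar_add_right, h3, add_zero],
            by rwa [polar_add_right, h1, zero_add]⟩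
        · exact ⟨b, hb, hb1, hb2, h3, hb3⟩
      · exact ⟨a, ha, ha1, ha2, ha3, h1⟩
    -- make it singular
    set w := x - (Q x / B u x) • u with hw
    have hQw : Q w = 0 := by
      rw [hw, sub_eq_add_neg, ← neg_smul, QuadraticMap.map_add (⇑Q), QuadraticMap.map_smul, hu.2.1,
        polar_smul_right, polar_comm _ x u, smul_zero, smul_eq_mul, neg_mul, div_mul_cancel₀ _ hux]
      ring
    have huw : B u w ≠ 0 := by
      rwa [hw, polar_sub_right, polar_smul_right, polar_self_zero hu.2.1, smul_zero, sub_zero]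
    refine ⟨w, ⟨hxC.sub (hu.1.smul _), hQw, ?_, ?_, fun k l h => huw ?_⟩, huw, ?_⟩
    · rw [hw, polar_sub_right, polar_smul_right, hex, hu.2.2.1, smul_zero, sub_zero]
    · rw [hw, polar_sub_right, polar_smul_right, hvx, hu.2.2.2.1, smul_zero, sub_zero]
    · rw [h, polar_add_right, polar_smul_right, polar_smul_right, polar_comm _ u e, hu.2.2.1,
        polar_comm _ u v, hu.2.2.2.1, smul_zero, smul_zero, add_zero]
    · rwa [hw, polar_sub_right, polar_smul_right, polar_comm _ u' u, huu, smul_zero, sub_zero]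
  -- an element common to two non-orthogonal stabilisers
  have common : ∀ {u v : V}, Good u v → Perp Q C v → v ≠ 0 → Q v = 0 → ∀ {u' : V}, Good u' v → B u u' ≠ 0 →
      ∃ δ, δ ∈ H u ∧ δ ∈ H u' ∧ app (σ δ) e = v := by
    intro u v hu hv hv0 hQv u' hu' huu
    set u'' := (B u u')⁻¹ • u' with hu''
    have h1 : B u u'' = 1 := by rw [hu'', polar_smul_right, smul_eq_mul, inv_mul_cancel₀ huu]
    have hC2 := nd_insert_pair hC hu.1 (hu'.1.smul _) hu.2.1
      (by rw [QuadraticMap.map_smul, hu'.2.1, smul_zero]) h1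
    have hd2 := finrank_insert_pair hu.1 (hu'.1.smul _) hu.2.1
      (show Q u'' = 0 by rw [hu'', QuadraticMap.map_smul, hu'.2.1, smul_zero]) h1
    obtain ⟨g, hg, hge⟩ := exists_trans h2 hQ hn hC2 (by omega) (x := e) (y := v)
      (by rw [perp_insert, perp_insert]
          exact ⟨by rw [polar_comm]; exact hu.2.2.1,
            by rw [polar_smul_left, polar_comm _ u' e, hu'.2.2.1, smul_zero], he⟩)
      (by rw [perp_insert, perp_insert]
          exact ⟨by rw [polar_comm]; exact hu.2.2.2.1,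
            by rw [polar_smul_left, polar_comm _ u' v, hu'.2.2.2.1, smul_zero], hv⟩)
      he0 hv0 hQe hQv
    obtain ⟨δ, hδ, rfl⟩ := exists_lift (p := p) h2 hQ hn hr hg
    refine ⟨δ, pGen_mono (eGroup_mono_perp fun x hx => ?_) hδ, pGen_mono (eGroup_mono_perp fun x hx => ?_) hδ, hge⟩
    · rw [perp_insert] at hx ⊢; exact ⟨hx.1, (perp_insert.mp hx.2).2⟩
    · rw [perp_insert, perp_insert] at hx; rw [perp_insert]
      refine ⟨?_, hx.2.2⟩
      have := hx.2.1
      rw [polar_smul_left, smul_eq_mul] at this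
      exact (mul_eq_zero.mp this).resolve_left (inv_ne_zero huu)
  have hex : ∀ v : V, ∃ (u : V) (δ : Γ), Perp Q C v → v ≠ 0 → Q v = 0 →
      Good u v ∧ δ ∈ H u ∧ app (σ δ) e = v := by
    intro v
    by_cases h : Perp Q C v ∧ v ≠ 0 ∧ Q v = 0
    swap
    · exact ⟨0, 1, fun h1 h2' h3 => absurd ⟨h1, h2', h3⟩ h⟩
    obtain ⟨hv, hv0, hQv⟩ := h
    obtain ⟨x1, x2, hx⟩ := exists_detect hC he he0 hef hv
    obtain ⟨z, hz0, hQz, hzC, hzv⟩ := exists_singular_extra h2 hQ (C := C) (k := 4) ![e, v, x1, x2] (by omega)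
    have hgood : Good z v := ⟨hzC, hQz, hzv 0, hzv 1, fun k l h =>
      hz0 (h.trans (hx k l (h ▸ hzv 2) (h ▸ hzv 3)))⟩
    by_cases hzz : ∃ w, Good w v ∧ B z w ≠ 0
    · obtain ⟨w, hw, hzw⟩ := hzz
      obtain ⟨δ, hδ, -, hδe⟩ := common hgood hv hv0 hQv hw hzw
      exact ⟨z, δ, fun _ _ _ => ⟨hgood, hδ, hδe⟩⟩
    · exfalso
      obtain ⟨w, hw, hzw, -⟩ := good_adj hgood hv hgood (polar_self_zero hQz)
      exact hzz ⟨w, hw, hzw⟩
  choose uc δc hδc using hex
  let sec : V → Γ ⧸ P := fun v => cs (δc v)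
  have sec_eq : ∀ {u v : V}, Good u v → Perp Q C v → v ≠ 0 → Q v = 0 → ∀ {δ : Γ}, δ ∈ H u →
      app (σ δ) e = v → sec v = cs δ := by
    intro u v hu hv hv0 hQv δ hδ hδe
    obtain ⟨hu0, hδ0, hδ0e⟩ := hδc v hv hv0 hQv
    have adj : ∀ {u u' : V}, Good u v → Good u' v → B u u' ≠ 0 → ∀ {a b : Γ}, a ∈ H u → app (σ a) e = v →
        b ∈ H u' → app (σ b) e = v → cs a = cs b := by
      intro u u' hu hu' huu a b ha hae hb hbe
      obtain ⟨c, hc1, hc3, hce⟩ := common hu hv hv0 hQv hu' huu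
      rw [close hu ha hc1 (hae.trans hce.symm), close hu' hc3 hb (hce.trans hbe.symm)]
    by_cases huu : B (uc v) u = 0
    · obtain ⟨w, hw, h1, h3⟩ := good_adj hu0 hv hu huu
      obtain ⟨c, hc1, -, hce⟩ := common hw hv hv0 hQv hu (by rwa [polar_comm])
      show cs _ = cs δ
      rw [adj hu0 hw h1 hδ0 hδ0e hc1 hce, adj hw hu (by rwa [polar_comm]) hc1 hce hδ hδe]
    · exact adj hu0 hu huu hδ0 hδ0e hδ hδe
  have sec_e : sec e = cs 1 := by
    obtain ⟨hu0, -, -⟩ := hδc e he he0 hQe
    exact sec_eq hu0 he he0 hQe (one_mem _) (by rw [map_one, app_one])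
  have hmap : ∀ {g : O}, g ∈ fixG Q C → ∀ {v : V}, Perp Q C v → v ≠ 0 → Q v = 0 →
      Perp Q C (app g v) ∧ app g v ≠ 0 ∧ Q (app g v) = 0 := fun {g} hg {v} hv hv0 hQv =>
    ⟨hv.map_fixG hg, fun h => hv0 (app_injective g (by rw [h, app_zero])), by rw [Q_app, hQv]⟩
  let M : Subgroup Γ :=
    { carrier := {γ | σ γ ∈ fixG Q C ∧
        ∀ v, Perp Q C v → v ≠ 0 → Q v = 0 → γ • sec v = sec (app (σ γ) v)}
      one_mem' := ⟨by rw [map_one]; exact one_mem _, fun v _ _ _ => by rw [one_smul, map_one, app_one]⟩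
      mul_mem' := fun {x y} hx hy => ⟨by rw [map_mul]; exact mul_mem hx.1 hy.1, fun v hv hv0 hQv => by
        obtain ⟨a1, a2, a3⟩ := hmap hy.1 hv hv0 hQv
        rw [mul_smul, hy.2 v hv hv0 hQv, hx.2 _ a1 a2 a3, map_mul, app_mul]⟩
      inv_mem' := fun {x} hx => ⟨by rw [map_inv]; exact inv_mem hx.1, fun v hv hv0 hQv => by
        obtain ⟨a1, a2, a3⟩ := hmap (inv_mem hx.1) hv hv0 hQv
        have := hx.2 _ a1 a2 a3
        rw [app_app_inv] at this
        rw [← this, inv_smul_smul, map_inv]⟩ }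
  have hsmul : ∀ (γ a : Γ), γ • cs a = cs (γ * a) := fun γ a => rfl
  have hgen : pGen σ p (eGroup Q C : Set O) ≤ M := by
    refine (pGen_le hc hA (Subgroup.closure {x : Γ | IsPElt p x ∧ σ x ∈ longSet Q C}) fun g hg => ?_).trans ?_
    · rw [MonoidHom.map_closure]
      refine (eGroup_le_long h2 hQ hn hC (by omega)).trans (Subgroup.closure_mono ?_) hg
      rintro t ⟨a, b, ht, hQa, hQb, hab, ha, hb⟩
      obtain ⟨y, hy, hyt⟩ := exists_plift (p := p) h2 hQ hn hr
        (eGroup_le_fixG h2 hQ hn (mem_eGroup ht hQa hab ha hb)).1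
        (isPElt_eSet (C := C) ⟨a, b, ht, hQa, hab, ha, hb⟩)
      exact ⟨y, ⟨hy, by rw [hyt]; exact ⟨a, b, ht, hQa, hQb, hab, ha, hb⟩⟩, hyt⟩
    rw [Subgroup.closure_le]
    rintro γ ⟨hγp, u1, w1, hg, hQu1, hQw1, huw1, hu1, hw1⟩
    set g := σ γ with hgd
    have hgC : g ∈ fixG Q C := eGroup_le_fixG h2 hQ hn (mem_eGroup hg hQu1 huw1 hu1 hw1)
    have hdel : ∀ x, app g x = x + (B u1 x • w1 - B w1 x • u1) := fun x => by
      rw [hg, eichler, hQw1, zero_mul, add_zero, add_sub_assoc]
    have hfixed : ∀ x, B u1 x = 0 → B w1 x = 0 → app g x = x := fun x a1 a2 => by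
      rw [hdel, a1, a2, zero_smul, zero_smul, sub_zero, add_zero]
    have hmemH : ∀ {x : V}, Perp Q C x → x ≠ 0 → Q x = 0 → app g x = x → γ ∈ H x := fun hx hx0 hQx hgx =>
      mem_pGen hγp (stab_le_eGroup h2 hQ hn hC (r := r + 2) (by omega) hx hx0 hQx hgC hgx)
    refine ⟨hgC, fun v hv hv0 hQv => ?_⟩
    obtain ⟨hgv, hgv0, hQgv⟩ := hmap hgC hv hv0 hQv
    by_cases hge : app g e = e
    · obtain ⟨hu0, hδ0, hδ0e⟩ := hδc v hv hv0 hQv
      have hγP : γ ∈ P := hmemH he he0 hQe hge
      set u := uc v with hudef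
      have hgood : Good (app g u) (app g v) := ⟨hu0.1.map_fixG hgC, by rw [Q_app, hu0.2.1],
        by rw [← hge, polar_app, hu0.2.2.1], by rw [polar_app, hu0.2.2.2.1],
        fun k l h => hu0.2.2.2.2 k l (app_injective g (by rw [h, app_add, app_smul, app_smul, hge]))⟩
      have hδ' : γ * δc v * γ⁻¹ ∈ H (app g u) := by
        refine conj_mem_pGen γ (fun a ha => ?_) hδ0
        rw [← hgd]
        refine stab_le_eGroup h2 hQ hn hC (r := r + 2) (by omega) hgood.1 (good_ne hgood) hgood.2.1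
          (mul_mem (mul_mem hgC (eGroup_le_fixG h2 hQ hn (eGroup_mono (Set.subset_insert _ _) ha))) (inv_mem hgC)) ?_
        rw [app_mul, app_mul, app_inv_app, app_eq_of_mem_eGroup h2 hQ ha]
      show γ • cs (δc v) = sec (app g v)
      rw [sec_eq hgood hgv hgv0 hQgv hδ' (by
        rw [map_mul, map_mul, map_inv, ← hgd, app_mul, app_mul]
        conv_lhs => arg 2; arg 2; arg 2; rw [← hge]
        rw [app_inv_app, hδ0e]), hsmul]
      show ((γ * δc v : Γ) : Γ ⧸ P) = ((γ * δc v * γ⁻¹ : Γ) : Γ ⧸ P)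
      rw [QuotientGroup.mk_mul_of_mem _ (inv_mem hγP)]
    -- a common vector fixed by `γ`
    suffices h : ∃ u, Good u v ∧ Good u (app g v) ∧ app g u = u by
      obtain ⟨u, hu, hu', hgu⟩ := h
      have hδ : ∃ δ, δ ∈ H u ∧ app (σ δ) e = v := by
        obtain ⟨w, hw, huw, -⟩ := good_adj hu hv hu (polar_self_zero hu.2.1)
        obtain ⟨δ, hδ, -, hδe⟩ := common hu hv hv0 hQv hw huw
        exact ⟨δ, hδ, hδe⟩
      obtain ⟨δ, hδ, hδe⟩ := hδ
      rw [sec_eq hu hv hv0 hQv hδ hδe, hsmul,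
        sec_eq hu' hgv hgv0 hQgv (mul_mem (hmemH hu.1 (good_ne hu) hu.2.1 hgu) hδ)
          (by rw [map_mul, app_mul, hδe])]
    set d := app g e - e with hdd
    have hd0 : d ≠ 0 := fun h => hge (sub_eq_zero.mp h)
    have hdeq : d = B u1 e • w1 - B w1 e • u1 := by rw [hdd, hdel, add_sub_cancel_left]
    have huu : B u1 u1 = 0 := polar_self_zero hQu1
    have hww : B w1 w1 = 0 := polar_self_zero hQw1
    have hgd : app g d = d := hfixed _
      (by rw [hdeq, polar_sub_right, polar_smul_right, polar_smul_right, huw1, huu, smul_zero, smul_zero, sub_zero])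
      (by rw [hdeq, polar_sub_right, polar_smul_right, polar_smul_right, polar_comm _ w1 u1, huw1, hww,
        smul_zero, smul_zero, sub_zero])
    have hdC : Perp Q C d := (he.map_fixG hgC).sub he
    have hed : B e d = 0 := by
      rw [hdeq, polar_sub_right, polar_smul_right, polar_smul_right, polar_comm _ e w1, polar_comm _ e u1,
        smul_eq_mul, smul_eq_mul]
      ring
    have hQd : Q d = 0 := by
      rw [hdd, sub_eq_add_neg, QuadraticMap.map_add (⇑Q), QuadraticMap.map_neg, Q_app, hQe, polar_neg_right]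
      have : B (app g e) e = 0 := by
        rw [show app g e = e + d by rw [hdd, add_sub_cancel], polar_add_left, polar_self_zero hQe,
          polar_comm, hed, add_zero]
      rw [this, neg_zero, add_zero, add_zero]
    have hperp : ∀ z, B u1 z = 0 → B w1 z = 0 → B d z = 0 := fun z a1 a2 => by
      rw [hdeq, polar_sub_left, polar_smul_left, polar_smul_left, a1, a2, smul_zero, smul_zero, sub_zero]
    have hcoef : ∀ k : F, B u1 (k • e) = 0 → B w1 (k • e) = 0 → k = 0 := fun k a1 a2 => by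
      by_contra hk
      rw [polar_smul_right, smul_eq_mul, mul_eq_zero, or_iff_right hk] at a1 a2
      exact hd0 (by rw [hdeq, a1, a2, zero_smul, zero_smul, sub_zero])
    have hgvd : B (app g v) d = B v d := by
      conv_lhs => rw [← hgd]
      rw [polar_app]
    by_cases hvd : B v d = 0
    · by_cases hA' : (∀ k l : F, d ≠ k • e + l • v) ∧ ∀ k l : F, d ≠ k • e + l • app g v
      · exact ⟨d, ⟨hdC, hQd, hed, hvd, hA'.1⟩, ⟨hdC, hQd, hed, hgvd.trans hvd, hA'.2⟩, hgd⟩
      -- `v` lies in the plane of `e` and `d`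
      have hdk : ∀ k : F, d ≠ k • e := by
        intro k h
        have h' := congrArg (app g) h
        rw [hgd, app_smul, show app g e = e + d by rw [hdd, add_sub_cancel], smul_add, ← h] at h'
        rcases smul_eq_zero.mp (left_eq_add.mp h') with h3 | h3
        · exact hd0 (by rw [h, h3, zero_smul])
        · exact hd0 h3
      obtain ⟨α, β, hv'⟩ : ∃ α β : F, v = α • e + β • d := by
        rcases not_and_or.mp hA' with h | h
        · push Not at h
          obtain ⟨k, l, h⟩ := h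
          have hl : l ≠ 0 := fun hl => hdk k (by rw [h, hl, zero_smul, add_zero])
          refine ⟨-(l⁻¹ * k), l⁻¹, ?_⟩
          rw [h, smul_add, smul_smul, smul_smul, inv_mul_cancel₀ hl, one_smul, neg_smul, neg_add_cancel_left]
        · push Not at h
          obtain ⟨k, l, h⟩ := h
          have hl : l ≠ 0 := fun hl => hdk k (by rw [h, hl, zero_smul, add_zero])
          refine ⟨-(l⁻¹ * k), l⁻¹ * k + l⁻¹, app_injective g ?_⟩
          have : app g v = l⁻¹ • d + (-(l⁻¹ * k)) • e := by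
            rw [h, smul_add, smul_smul, smul_smul, inv_mul_cancel₀ hl, one_smul, neg_smul,
              add_comm ((l⁻¹ * k) • e), add_neg_cancel_right]
          rw [app_add, app_smul, app_smul, hgd, show app g e = e + d by rw [hdd, add_sub_cancel], this]
          module
      obtain ⟨fd, -, -, hdf⟩ := exists_partner_perp hC hdC hd0 hQd
      obtain ⟨z, hz0, hQz, hzC, hzv⟩ :=
        exists_singular_extra h2 hQ (C := C) (k := 4) ![e, u1, w1, fd] (by omega)
      have hdz := hperp z (hzv 1) (hzv 2)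
      have hnot : ∀ a b : F, z ≠ a • e + b • d := by
        intro a b h
        have a1 : B u1 (a • e) = 0 := by
          have h' : B u1 z = 0 := hzv 1
          rwa [h, polar_add_right, show B u1 (b • d) = 0 by
            rw [polar_smul_right, hdeq, polar_sub_right, polar_smul_right, polar_smul_right, huw1, huu,
              smul_zero, smul_zero, sub_zero, smul_zero], add_zero] at h'
        have a2 : B w1 (a • e) = 0 := by
          have h' : B w1 z = 0 := hzv 2
          rwa [h, polar_add_right, show B w1 (b • d) = 0 by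
            rw [polar_smul_right, hdeq, polar_sub_right, polar_smul_right, polar_smul_right, polar_comm _ w1 u1,
              huw1, hww, smul_zero, smul_zero, sub_zero, smul_zero], add_zero] at h'
        have ha := hcoef a a1 a2
        subst ha
        rw [zero_smul, zero_add] at h
        have h' : B fd z = 0 := hzv 3
        rw [h, polar_smul_right, polar_comm _ fd d, hdf, smul_eq_mul, mul_one] at h'
        exact hz0 (by rw [h, h', zero_smul])
      have hgv' : app g v = α • e + (α + β) • d := by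
        rw [hv', app_add, app_smul, app_smul, hgd, show app g e = e + d by rw [hdd, add_sub_cancel]]
        module
      refine ⟨z, ⟨hzC, hQz, hzv 0, ?_, fun k l h => hnot (k + l * α) (l * β) ?_⟩,
        ⟨hzC, hQz, hzv 0, ?_, fun k l h => hnot (k + l * α) (l * (α + β)) ?_⟩, hfixed _ (hzv 1) (hzv 2)⟩
      · rw [hv', polar_add_left, polar_smul_left, polar_smul_left, show B e z = 0 from hzv 0, hdz,
          smul_zero, smul_zero, add_zero]
      · rw [h, hv']; module
      · rw [hgv', polar_add_left, polar_smul_left, polar_smul_left, show B e z = 0 from hzv 0, hdz,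
          smul_zero, smul_zero, add_zero]
      · rw [h, hgv']; module
    · obtain ⟨z, hz0, hQz, hzC, hzv⟩ :=
        exists_singular_extra h2 hQ (C := C) (k := 4) ![e, v, u1, w1] (by omega)
      have hgz : app g z = z := hfixed _ (hzv 2) (hzv 3)
      have hdz := hperp z (hzv 2) (hzv 3)
      have hgvz : B (app g v) z = 0 := by
        conv_lhs => rw [← hgz]
        rw [polar_app]; exact hzv 1
      have hnot : ∀ {w : V}, B w d ≠ 0 → ∀ k l : F, z ≠ k • e + l • w := by
        intro w hw k l h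
        rw [h, polar_add_right, polar_smul_right, polar_smul_right, polar_comm _ d e, hed, smul_zero, zero_add,
          smul_eq_mul, mul_eq_zero, polar_comm _ d w, or_iff_left hw] at hdz
        subst hdz
        rw [zero_smul, add_zero] at h
        have hk := hcoef k (h ▸ hzv 2) (h ▸ hzv 3)
        exact hz0 (by rw [h, hk, zero_smul])
      exact ⟨z, ⟨hzC, hQz, hzv 0, hzv 1, hnot hvd⟩, ⟨hzC, hQz, hzv 0, hgvz, hnot (hgvd ▸ hvd)⟩, hgz⟩
  show _ = ⊥
  rw [eq_bot_iff]
  rintro x ⟨hx, hxk⟩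
  have h := (hgen hx).2 e he he0 hQe
  rw [show σ x = 1 from hxk, app_one, sec_e, hsmul, mul_one] at h
  have hxP : x ∈ P := by
    have h' : ((1 : Γ) : Γ ⧸ P) = (x : Γ ⧸ P) := h.symm
    rw [QuotientGroup.eq, inv_one, one_mul] at h'
    exact h'
  have hx1 : x ∈ P ⊓ σ.ker := ⟨hxP, hxk⟩
  rwa [hP, show pGen σ p (eGroup Q (insert e C) : Set O) ⊓ σ.ker = ⊥ from
    stab_meets h2 hQ hn hr hc hA hC (r := r + 2) (by omega) he hf hQe hQf hef ih] at hx1

end

end Cfsg.Agent.Lib.Schur.OrthMult
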