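import Cfsg.Agent.Lib.Schur.OrthGeom
import Cfsg.Agent.Lib.Orth.Centre
import Cfsg.Agent.Lib.Dickson.StdQuad
import Cfsg.Agent.Lib.Classical.LowRank.OddFive
import Cfsg.Agent.Lib.Schur.SympMult

/-!
The group of a five-dimensional non-degenerate complement is `Ω₅(q) ≅ PSp₄(q)`.
-/

set_option autoImplicit false
set_option linter.unusedSectionVars false

namespace Cfsg.Agent.Lib.Schur.OrthMult

open QuadraticMap Cfsg.Agent.Lib.Orth Cfsg.Agent.Lib.Schur

variable {ι : Type} [Fintype ι] [DecidableEq ι] {F : Type*} [Field F] {Q : QuadraticForm F (ι → F)}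

set_option quotPrecheck false in
local notation "O" => ↥(Cfsg.isometryGroup F ⇑Q)
local notation "V" => (ι → F)
set_option quotPrecheck false in
local notation "B" => polar ⇑Q
local notation "W5" => (Unit ⊕ (Fin 2 ⊕ Fin 2) → F)
set_option quotPrecheck false in
local notation "Q5" => StdForms.oddQ F 2

variable [Finite F] (h2 : (2 : F) ≠ 0) (hQ : (QuadraticMap.polarBilin Q).Nondegenerate)
include h2 hQ

/-- The group of a five-dimensional complement. -/
theorem nonempty_fixG_five (hn : 5 ≤ Fintype.card ι) {C : Set V} (hC : Nd Q C)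
    (hd : Module.finrank F (perpSub Q C) = 5) :
    Nonempty (↥(fixG Q C) ≃* ↥(Cfsg.Omega F ⇑Q5)) := by
  classical
  have hQ5 : (QuadraticMap.polarBilin Q5).Nondegenerate := StdForms.oddQ_nondegenerate h2 2
  have hn5 : 5 ≤ Fintype.card (Unit ⊕ (Fin 2 ⊕ Fin 2)) := by simp
  -- a basis of the complement
  obtain ⟨e1, he1, hQe1, heC1, -⟩ := exists_singular_extra h2 hQ (C := C) (k := 0) ![] (by omega)
  obtain ⟨f1, hfC1, hQf1, hef1⟩ := exists_partner_perp hC heC1 he1 hQe1
  have hC1 := nd_insert_pair hC heC1 hfC1 hQe1 hQf1 hef1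
  have hd1 := finrank_insert_pair heC1 hfC1 hQe1 hQf1 hef1
  obtain ⟨e2, he2, hQe2, heC2', -⟩ :=
    exists_singular_extra h2 hQ (C := insert e1 (insert f1 C)) (k := 0) ![] (by omega)
  obtain ⟨f2, hfC2', hQf2, hef2⟩ := exists_partner_perp hC1 heC2' he2 hQe2
  have hC2 := nd_insert_pair hC1 heC2' hfC2' hQe2 hQf2 hef2
  have hd2 := finrank_insert_pair heC2' hfC2' hQe2 hQf2 hef2
  obtain ⟨d, hdC', hd0, hline⟩ := exists_line h2 hQ (C := insert e2 (insert f2 (insert e1 (insert f1 C))))
    (by omega)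
  have hQd : Q d ≠ 0 := fun h => hd0 (hC2 d hdC' fun y hy => by
    obtain ⟨k, rfl⟩ := hline y hy
    rw [polar_smul_right, polar_self_eq, h, mul_zero, smul_zero])
  simp only [perp_insert] at heC2' hfC2' hdC'
  obtain ⟨he12, hf1e2, heC2⟩ := heC2'
  obtain ⟨he1f2, hf12, hfC2⟩ := hfC2'
  obtain ⟨he2d, hf2d, he1d, hf1d, hdC⟩ := hdC'
  set c := Q d with hc
  -- coordinates
  let φ : W5 →ₗ[F] V :=
    { toFun := fun x => x (.inl ()) • d + (c * x (.inr (.inl 0))) • e1 + x (.inr (.inr 0)) • f1 +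
        (c * x (.inr (.inl 1))) • e2 + x (.inr (.inr 1)) • f2
      map_add' := fun x y => by simp only [Pi.add_apply]; module
      map_smul' := fun k x => by simp only [Pi.smul_apply, smul_eq_mul, RingHom.id_apply]; module }
  have hφ : ∀ x, φ x = x (.inl ()) • d + (c * x (.inr (.inl 0))) • e1 + x (.inr (.inr 0)) • f1 +
        (c * x (.inr (.inl 1))) • e2 + x (.inr (.inr 1)) • f2 := fun x => rfl
  have hφC : ∀ x, Perp Q C (φ x) := fun x =>
    ((((hdC.smul _).add (heC1.smul _)).add (hfC1.smul _)).add (heC2.smul _)).add (hfC2.smul _)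
  let ψ : V →ₗ[F] W5 :=
    { toFun := fun v => Sum.elim (fun _ => B d v / (2 * c))
        (Sum.elim ![B f1 v / c, B f2 v / c] ![B e1 v, B e2 v])
      map_add' := fun v w => by
        funext i; rcases i with i | i | i
        · simp [polar_add_right, add_div]
        · fin_cases i <;> simp [polar_add_right, add_div]
        · fin_cases i <;> simp [polar_add_right]
      map_smul' := fun k v => by
        funext i; rcases i with i | i | i
        · simp [polar_smul_right, mul_div_assoc]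
        · fin_cases i <;> simp [polar_smul_right, mul_div_assoc]
        · fin_cases i <;> simp [polar_smul_right] }
  have h2c : 2 * c ≠ 0 := mul_ne_zero h2 hQd
  -- the pairings
  have pd : ∀ x, B d (φ x) = 2 * c * x (.inl ()) := fun x => by
    simp only [hφ, polar_add_right, polar_smul_right, polar_self_eq, polar_comm (⇑Q) d e1, polar_comm (⇑Q) d f1,
      polar_comm (⇑Q) d e2, polar_comm (⇑Q) d f2, he2d, hf2d, he1d, hf1d, smul_eq_mul, ← hc]
    ring
  have pe1 : ∀ x, B e1 (φ x) = x (.inr (.inr 0)) := fun x => by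
    simp only [hφ, polar_add_right, polar_smul_right, polar_self_zero hQe1, he1d, hef1, he12, he1f2, smul_eq_mul]
    ring
  have pf1 : ∀ x, B f1 (φ x) = c * x (.inr (.inl 0)) := fun x => by
    simp only [hφ, polar_add_right, polar_smul_right, polar_self_zero hQf1, hf1d, polar_comm (⇑Q) f1 e1, hef1,
      hf1e2, hf12, smul_eq_mul]
    ring
  have pe2 : ∀ x, B e2 (φ x) = x (.inr (.inr 1)) := fun x => by
    simp only [hφ, polar_add_right, polar_smul_right, polar_self_zero hQe2, he2d, hef2, polar_comm (⇑Q) e2 e1,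
      polar_comm (⇑Q) e2 f1, he12, hf1e2, smul_eq_mul]
    ring
  have pf2 : ∀ x, B f2 (φ x) = c * x (.inr (.inl 1)) := fun x => by
    simp only [hφ, polar_add_right, polar_smul_right, polar_self_zero hQf2, hf2d, polar_comm (⇑Q) f2 e2, hef2,
      polar_comm (⇑Q) f2 e1, polar_comm (⇑Q) f2 f1, he1f2, hf12, smul_eq_mul]
    ring
  have hψφ : ∀ x, ψ (φ x) = x := fun x => by
    funext i; rcases i with i | i | i
    · show B d (φ x) / (2 * c) = _
      rw [pd, mul_div_cancel_left₀ _ h2c]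
    · fin_cases i
      · show B f1 (φ x) / c = _
        rw [pf1, mul_div_cancel_left₀ _ hQd]; rfl
      · show B f2 (φ x) / c = _
        rw [pf2, mul_div_cancel_left₀ _ hQd]; rfl
    · fin_cases i
      · exact pe1 x
      · exact pe2 x
  have hφψ : ∀ v, Perp Q C v → φ (ψ v) = v := by
    intro v hv
    set z := v - φ (ψ v) with hz
    have hzC : Perp Q (insert e2 (insert f2 (insert e1 (insert f1 C)))) z := by
      simp only [perp_insert]
      refine ⟨?_, ?_, ?_, ?_, hv.sub (hφC _)⟩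
      · rw [hz, polar_sub_right, pe2]; show B e2 v - B e2 v = 0; rw [sub_self]
      · rw [hz, polar_sub_right, pf2]; show B f2 v - c * (B f2 v / c) = 0; rw [mul_div_cancel₀ _ hQd, sub_self]
      · rw [hz, polar_sub_right, pe1]; show B e1 v - B e1 v = 0; rw [sub_self]
      · rw [hz, polar_sub_right, pf1]; show B f1 v - c * (B f1 v / c) = 0; rw [mul_div_cancel₀ _ hQd, sub_self]
    obtain ⟨k, hk⟩ := hline z hzC
    have h : B d z = 0 := by
      rw [hz, polar_sub_right, pd]
      show B d v - 2 * c * (B d v / (2 * c)) = 0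
      rw [mul_div_cancel₀ _ h2c, sub_self]
    rw [hk, polar_smul_right, polar_self_eq, ← hc, smul_eq_mul, mul_eq_zero, or_iff_left h2c] at h
    rw [h, zero_smul] at hk
    exact (sub_eq_zero.mp hk).symm
  have hQφ : ∀ x, Q (φ x) = c * Q5 x := fun x => by
    rw [StdForms.coe_oddQ, Cfsg.quadFormOdd, Fin.sum_univ_two, hφ]
    simp only [QuadraticMap.map_add (⇑Q), QuadraticMap.map_smul, polar_smul_right, polar_smul_left,
      polar_add_left, polar_comm (⇑Q) d e1, polar_comm (⇑Q) d f1, polar_comm (⇑Q) d e2, polar_comm (⇑Q) d f2,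
      he1d, hf1d, he2d, hf2d, hQe1, hQf1, hQe2, hQf2, hef1, hef2, he12, he1f2, hf1e2, hf12, ← hc, smul_eq_mul]
    ring
  have hBφ : ∀ x y, B (φ x) (φ y) = c * polar ⇑Q5 x y := fun x y => by
    simp only [QuadraticMap.polar, ← map_add, hQφ]
    ring
  have hperp : ∀ {v}, (∀ y, Perp Q C y → B y v = 0) → ψ v = 0 := fun {v} hv => by
    funext i; rcases i with i | i | i
    · show B d v / (2 * c) = 0; rw [hv d hdC, zero_div]
    · fin_cases i
      · show B f1 v / c = 0; rw [hv f1 hfC1, zero_div]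
      · show B f2 v / c = 0; rw [hv f2 hfC2, zero_div]
    · fin_cases i
      · exact hv e1 heC1
      · exact hv e2 heC2
  -- the isomorphism
  have hback : ∀ {g : O}, g ∈ fixG Q C → ∀ x, φ (ψ (app g (φ x))) = app g (φ x) := fun {g} hg x =>
    hφψ _ ((hφC x).map_fixG hg)
  let E : fixG Q C → (W5 ≃ₗ[F] W5) := fun g =>
    { toFun := fun x => ψ (app g.1 (φ x))
      map_add' := fun x y => by rw [map_add, app_add, map_add]
      map_smul' := fun k x => by rw [map_smul, app_smul, map_smul, RingHom.id_apply]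
      invFun := fun x => ψ (app g.1⁻¹ (φ x))
      left_inv := fun x => by dsimp only; rw [hback g.2, app_inv_app, hψφ]
      right_inv := fun x => by dsimp only; rw [hback (inv_mem g.2), app_app_inv, hψφ] }
  have hE : ∀ g x, Q5 (E g x) = Q5 x := fun g x => by
    refine mul_left_cancel₀ hQd ?_
    show c * Q5 (ψ (app g.1 (φ x))) = c * Q5 x
    rw [← hQφ, ← hQφ, hback g.2, Q_app]
  let Ψ : ↥(fixG Q C) →* ↥(Cfsg.isometryGroup F ⇑Q5) :=
    MonoidHom.mk' (fun g => ofEquiv Q5 (E g) (hE g)) fun g h => isometry_ext fun x => by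
      rw [app_mul, app_ofEquiv, app_ofEquiv, app_ofEquiv]
      show ψ (app (g.1 * h.1) (φ x)) = ψ (app g.1 (φ (ψ (app h.1 (φ x)))))
      rw [hback h.2, app_mul]
  have hΨ : ∀ g x, app (Ψ g) x = ψ (app g.1 (φ x)) := fun g x => app_ofEquiv (E g) (hE g) x
  have hinj : Function.Injective Ψ := by
    refine (injective_iff_map_eq_one _).mpr fun g hg => Subtype.ext (isometry_ext fun v => ?_)
    have hfix : ∀ x, app g.1 (φ x) = φ x := fun x => by
      have h := congrArg φ (hΨ g x)
      rw [hg, app_one, hback g.2] at h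
      exact h.symm
    have hrest : app g.1 (v - φ (ψ v)) = v - φ (ψ v) := g.2.2 _ fun y hy => by
      rw [polar_sub_right, sub_eq_zero, ← hφψ y hy]
      simp only [hφ (ψ y), polar_add_left, polar_smul_left, smul_eq_mul, pd, pe1, pe2, pf1, pf2]
      show _ = (ψ y (.inl ())) * (2 * c * (B d v / (2 * c))) + c * ψ y (.inr (.inl 0)) * B e1 v +
        ψ y (.inr (.inr 0)) * (c * (B f1 v / c)) + c * ψ y (.inr (.inl 1)) * B e2 v +
        ψ y (.inr (.inr 1)) * (c * (B f2 v / c))
      rw [mul_div_cancel₀ _ h2c, mul_div_cancel₀ _ hQd, mul_div_cancel₀ _ hQd]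
    show app g.1 v = app (1 : O) v
    conv_lhs => rw [show v = φ (ψ v) + (v - φ (ψ v)) by rw [add_sub_cancel]]
    rw [app_add, hfix, hrest, add_sub_cancel, app_one]
  have hrange : Ψ.range = Cfsg.Omega F ⇑Q5 := by
    rw [omega_eq_siegelGroup h2 hQ5 hn5]
    apply le_antisymm
    · have htop : (⊤ : Subgroup ↥(fixG Q C)) ≤
          Subgroup.closure ((↑) ⁻¹' longSet Q C : Set ↥(fixG Q C)) := by
        rintro ⟨g, hg⟩ -
        have hg' := eGroup_le_long h2 hQ hn hC (by omega) (fixG_le_eGroup h2 hQ hn 2 C hC (by omega) hg)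
        have hsub : longSet Q C ⊆ ((fixG Q C).subtype.range : Set O) := fun t ⟨u, w, ht, hu, _, huw, huC, hwC⟩ =>
          ⟨⟨t, eGroup_le_fixG h2 hQ hn (mem_eGroup ht hu huw huC hwC)⟩, rfl⟩
        rw [← Set.image_preimage_eq_of_subset hsub, ← MonoidHom.map_closure] at hg'
        obtain ⟨y, hy, hye⟩ := hg'
        rwa [show y = ⟨g, hg⟩ from Subtype.ext hye] at hy
      rw [MonoidHom.range_eq_map]
      refine (Subgroup.map_mono htop).trans ?_
      rw [MonoidHom.map_closure, Subgroup.closure_le]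
      rintro _ ⟨⟨t, htC⟩, ⟨u, w, ht, hu, hw, huw, huC, hwC⟩, rfl⟩
      have a1 : Q5 (ψ u) = 0 := (mul_eq_zero.mp (by rw [← hQφ, hφψ u huC, hu])).resolve_left hQd
      have a2 : Q5 (ψ w) = 0 := (mul_eq_zero.mp (by rw [← hQφ, hφψ w hwC, hw])).resolve_left hQd
      have a3 : polar ⇑Q5 (ψ u) (ψ w) = 0 :=
        (mul_eq_zero.mp (by rw [← hBφ, hφψ u huC, hφψ w hwC, huw])).resolve_left hQd
      suffices h : Ψ ⟨t, htC⟩ = siegel Q5 (ψ u) (ψ w) a1 a2 a3 c by
        rw [SetLike.mem_coe, h]; exact siegel_mem a1 a2 a3 c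
      refine isometry_ext fun x => ?_
      rw [hΨ, app_siegel, ht, eichler, hw, map_sub, map_add, map_smul, map_smul, hψφ, zero_mul, add_zero,
        show B u (φ x) = c * polar ⇑Q5 (ψ u) x by rw [← hBφ, hφψ u huC],
        show B w (φ x) = c * polar ⇑Q5 (ψ w) x by rw [← hBφ, hφψ w hwC]]
      module
    · rw [siegelGroup, Subgroup.closure_le]
      intro s hs
      obtain ⟨u, v, t, hu, hv, huv, hsm⟩ := hs
      have hB : B (φ u) ((t / c) • φ v) = 0 := by rw [polar_smul_right, hBφ, huv, mul_zero, smul_zero]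
      have hQu : Q (φ u) = 0 := by rw [hQφ, hu, mul_zero]
      obtain ⟨g, -, hg⟩ := exists_eic h2 hQ hn hQu hB
      have hgC : g ∈ fixG Q C :=
        eGroup_le_fixG h2 hQ hn (mem_eGroup hg hQu hB (hφC u) ((hφC v).smul _))
      refine ⟨⟨g, hgC⟩, isometry_ext fun x => ?_⟩
      rw [hΨ, hg, eichler, QuadraticMap.map_smul, hQφ v, hv, mul_zero, smul_zero, zero_mul, add_zero,
        polar_smul_left, map_sub, map_add, map_smul, map_smul, map_smul, hψφ, hψφ, hψφ, hBφ, hBφ]
      rw [show s = siegel Q5 u v hu hv huv t from Subtype.ext (Units.ext hsm), app_siegel, smul_sub, smul_smul,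
        smul_smul, smul_smul, smul_eq_mul, show c * polar (⇑Q5) u x * (t / c) = t * polar (⇑Q5) u x by field_simp,
        show t / c * (c * polar (⇑Q5) v x) = t * polar (⇑Q5) v x by field_simp]
      abel
  exact ⟨(MonoidHom.ofInjective hinj).trans (MulEquiv.subgroupCongr hrange)⟩

/-- It is `PSp₄(q)`. -/
theorem nonempty_fixG_five_PSp [Fintype F] (hn : 5 ≤ Fintype.card ι) {C : Set V} (hC : Nd Q C)
    (hd : Module.finrank F (perpSub Q C) = 5) : Nonempty (↥(fixG Q C) ≃* Cfsg.PSp 2 F) := by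
  obtain ⟨e⟩ := nonempty_fixG_five h2 hQ hn hC hd
  have hodd : Odd (Fintype.card F) := Nat.not_even_iff_odd.mp fun he =>
    h2 (Cfsg.Agent.Lib.Classical.two_eq_zero_iff_even_card.2 he)
  obtain ⟨e'⟩ := Cfsg.Agent.Lib.Classical.LowRank.nonempty_POmega_five (F := F) hodd
  have hbot : Subgroup.center ↥(Cfsg.Omega F ⇑Q5) = ⊥ :=
    center_omega_eq_bot h2 (StdForms.oddQ_nondegenerate h2 2) (by simp) ⟨2, by simp⟩
  let q : ↥(Cfsg.Omega F ⇑Q5) ≃* Cfsg.POmega F ⇑Q5 :=
    MulEquiv.ofBijective (QuotientGroup.mk' (Subgroup.center ↥(Cfsg.Omega F ⇑Q5)))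
      ⟨(MonoidHom.ker_eq_bot_iff _).mp (by rw [QuotientGroup.ker_mk', hbot]), QuotientGroup.mk'_surjective _⟩
  rw [StdForms.coe_oddQ] at q e
  exact ⟨e.trans (q.trans e')⟩

end Cfsg.Agent.Lib.Schur.OrthMult
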