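import Cfsg.Agent.Lib.Orth.Perfect

/-!
Pointwise stabilisers in `Ω(Q)`, `q` odd, of non-degenerate subspaces, of a singular vector and of two
orthogonal singular vectors: generation by Eichler transformations, transitivity on singular vectors.
-/

set_option autoImplicit false
set_option linter.unusedSectionVars false

namespace Cfsg.Agent.Lib.Schur.OrthMult

open QuadraticMap Cfsg.Agent.Lib.Orth

variable {ι : Type} [Fintype ι] [DecidableEq ι] {F : Type*} [Field F] {Q : QuadraticForm F (ι → F)}

set_option quotPrecheck false in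
local notation "O" => ↥(Cfsg.isometryGroup F ⇑Q)
local notation "V" => (ι → F)
set_option quotPrecheck false in
local notation "B" => polar ⇑Q

/-! ### Eichler transformations -/

/-- `g` is the Eichler transformation of `e` and `a`. -/
def IsEic (g : O) (e a : V) : Prop := ∀ x, app g x = eichler Q e a x

theorem IsEic.unique {g h : O} {e a : V} (hg : IsEic g e a) (hh : IsEic h e a) : g = h :=
  isometry_ext fun x => by rw [hg, hh]

theorem eichler_fix {e a x : V} (he : B e x = 0) (ha : B a x = 0) : eichler Q e a x = x := by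
  rw [eichler, he, ha, mul_zero, add_zero, zero_smul, zero_smul, add_zero, sub_zero]

theorem eichler_zero_right (e x : V) : eichler Q e 0 x = x := by
  simp [eichler, polar_zero_left]

theorem eichler_zero_left (a x : V) : eichler Q 0 a x = x := by
  simp [eichler, polar_zero_left]

theorem eichler_eichler {e a b : V} (he : Q e = 0) (hea : B e a = 0) (heb : B e b = 0) (x : V) :
    eichler Q e a (eichler Q e b x) = eichler Q e (a + b) x := by
  simp only [eichler]
  simp only [polar_add_right, polar_sub_right, polar_smul_right, polar_add_left, polar_self, he,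
    heb, polar_comm (⇑Q) a e, hea, smul_zero, sub_zero, add_zero, nsmul_zero, smul_eq_mul,
    mul_zero, QuadraticMap.map_add (⇑Q) a b]
  module

theorem IsEic.mul {g h : O} {e a b : V} (he : Q e = 0) (hea : B e a = 0) (heb : B e b = 0)
    (hg : IsEic g e a) (hh : IsEic h e b) : IsEic (g * h) e (a + b) := fun x => by
  rw [app_mul, hg, hh, eichler_eichler he hea heb]

theorem isEic_one (e : V) : IsEic (1 : O) e 0 := fun x => by rw [app_one, eichler_zero_right]

theorem IsEic.inv {g : O} {e a : V} (he : Q e = 0) (hea : B e a = 0) (hg : IsEic g e a) :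
    IsEic g⁻¹ e (-a) := fun x => by
  refine app_injective g ?_
  rw [app_app_inv, hg, eichler_eichler he hea (by rw [polar_neg_right, hea, neg_zero]), add_neg_cancel,
    eichler_zero_right]

theorem IsEic.conj {g : O} {e a : V} (hg : IsEic g e a) (k : O) :
    IsEic (k * g * k⁻¹) (app k e) (app k a) := fun x => by
  have e1 : B (app k e) x = B e (app k⁻¹ x) := by rw [← polar_app k e (app k⁻¹ x), app_app_inv]
  have e2 : B (app k a) x = B a (app k⁻¹ x) := by rw [← polar_app k a (app k⁻¹ x), app_app_inv]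
  rw [app_mul, app_mul, hg, eichler, eichler, e1, e2, Q_app, app_sub, app_add, app_smul, app_smul,
    app_app_inv]

theorem IsEic.pow {g : O} {e a : V} (he : Q e = 0) (hea : B e a = 0) (hg : IsEic g e a) (n : ℕ) :
    IsEic (g ^ n) e ((n : F) • a) := by
  induction n with
  | zero => rw [pow_zero, Nat.cast_zero, zero_smul]; exact isEic_one e
  | succ n ih =>
    have h := ih.mul he (by rw [polar_smul_right, hea, smul_zero]) hea hg
    rwa [← pow_succ, show (n : F) • a + a = ((n + 1 : ℕ) : F) • a by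
      rw [Nat.cast_succ, add_smul, one_smul]] at h

theorem isEic_siegel {u v : V} (hu : Q u = 0) (hv : Q v = 0) (huv : B u v = 0) (c : F) :
    IsEic (siegel Q u v hu hv huv c) u (c • v) := fun x => by
  rw [app_siegel, eichler, QuadraticMap.map_smul, hv, polar_smul_left, smul_zero, zero_mul, add_zero,
    smul_eq_mul, smul_sub, smul_smul, smul_smul, smul_smul, mul_comm (B u x) c]
  abel

/-! ### Orthogonal complements -/

/-- `x` is orthogonal to `C`. -/
def Perp (Q : QuadraticForm F (ι → F)) (C : Set (ι → F)) (x : ι → F) : Prop :=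
  ∀ c ∈ C, polar ⇑Q c x = 0

theorem perp_insert {C : Set V} {u x : V} : Perp Q (insert u C) x ↔ B u x = 0 ∧ Perp Q C x := by
  simp [Perp]

theorem Perp.add {C : Set V} {x y : V} (hx : Perp Q C x) (hy : Perp Q C y) : Perp Q C (x + y) :=
  fun c hc => by rw [polar_add_right, hx c hc, hy c hc, add_zero]

theorem Perp.smul {C : Set V} {x : V} (hx : Perp Q C x) (k : F) : Perp Q C (k • x) :=
  fun c hc => by rw [polar_smul_right, hx c hc, smul_zero]

theorem Perp.sub {C : Set V} {x y : V} (hx : Perp Q C x) (hy : Perp Q C y) : Perp Q C (x - y) :=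
  fun c hc => by rw [polar_sub_right, hx c hc, hy c hc, sub_zero]

theorem Perp.neg {C : Set V} {x : V} (hx : Perp Q C x) : Perp Q C (-x) :=
  fun c hc => by rw [polar_neg_right, hx c hc, neg_zero]

theorem perp_zero (C : Set V) : Perp Q C 0 := fun c _ => QuadraticMap.polar_zero_right Q c

theorem Perp.mono {C D : Set V} {x : V} (h : C ⊆ D) (hx : Perp Q D x) : Perp Q C x :=
  fun c hc => hx c (h hc)

/-- The orthogonal complement as a submodule. -/
def perpSub (Q : QuadraticForm F (ι → F)) (C : Set (ι → F)) : Submodule F (ι → F) where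
  carrier := {x | Perp Q C x}
  add_mem' hx hy := hx.add hy
  zero_mem' := perp_zero C
  smul_mem' k _ hx := hx.smul k

/-- The complement is non-degenerate. -/
def Nd (Q : QuadraticForm F (ι → F)) (C : Set (ι → F)) : Prop :=
  ∀ x, Perp Q C x → (∀ y, Perp Q C y → polar ⇑Q x y = 0) → x = 0

theorem nd_empty (hQ : (QuadraticMap.polarBilin Q).Nondegenerate) : Nd Q (∅ : Set V) :=
  fun x _ hx => hQ.1 x fun y => hx y (by simp [Perp])

variable {C : Set (ι → F)}

theorem exists_partner_perp (hC : Nd Q C) {e : V} (he : Perp Q C e) (he0 : e ≠ 0) (hQe : Q e = 0) :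
    ∃ f, Perp Q C f ∧ Q f = 0 ∧ B e f = 1 := by
  obtain ⟨y, hy, hey⟩ : ∃ y, Perp Q C y ∧ B e y ≠ 0 := by
    by_contra h
    push Not at h
    exact he0 (hC e he h)
  have hy1 : Perp Q C ((B e y)⁻¹ • y) := hy.smul _
  have hB : B e ((B e y)⁻¹ • y) = 1 := by rw [polar_smul_right, smul_eq_mul, inv_mul_cancel₀ hey]
  obtain ⟨z, rfl⟩ : ∃ z, z = (B e y)⁻¹ • y := ⟨_, rfl⟩
  generalize (B e y)⁻¹ • y = z at hy1 hB
  refine ⟨z - Q z • e, hy1.sub (he.smul _), ?_, ?_⟩
  · rw [sub_eq_add_neg, QuadraticMap.map_add (⇑Q), ← neg_smul, QuadraticMap.map_smul, hQe,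
      polar_smul_right, polar_comm _ z e, hB, smul_zero, smul_eq_mul]
    ring
  · rw [polar_sub_right, polar_smul_right, polar_self_zero hQe, hB, smul_zero, sub_zero]

/-- A vector pairing as prescribed with two independent vectors. -/
theorem exists_dual (hC : Nd Q C) {a b : V} (ha : Perp Q C a) (hb : Perp Q C b)
    (hind : ∀ k l : F, k • a + l • b = 0 → k = 0 ∧ l = 0) :
    ∃ x, Perp Q C x ∧ B a x = 1 ∧ B b x = 0 := by
  have hb0 : b ≠ 0 := fun h => one_ne_zero (hind 0 1 (by rw [h, smul_zero, zero_smul, add_zero])).2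
  obtain ⟨y, hy, hby⟩ : ∃ y, Perp Q C y ∧ B b y ≠ 0 := by
    by_contra h
    push Not at h
    exact hb0 (hC b hb h)
  set k := B a y / B b y with hk
  obtain ⟨z, hz, hz'⟩ : ∃ z, Perp Q C z ∧ B (a - k • b) z ≠ 0 := by
    by_contra h
    push Not at h
    have := hind 1 (-k) (by rw [one_smul, neg_smul, ← sub_eq_add_neg]; exact hC _ (ha.sub (hb.smul k)) h)
    exact one_ne_zero this.1
  set x0 := z - (B b z / B b y) • y with hx0
  have h1 : B b x0 = 0 := by
    rw [hx0, polar_sub_right, polar_smul_right, smul_eq_mul, div_mul_cancel₀ _ hby, sub_self]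
  have h2 : B a x0 = B (a - k • b) z := by
    rw [hx0, polar_sub_right, polar_smul_right, polar_sub_left, polar_smul_left, hk, smul_eq_mul,
      smul_eq_mul]
    ring
  refine ⟨(B a x0)⁻¹ • x0, (hz.sub (hy.smul _)).smul _, ?_, ?_⟩
  · rw [polar_smul_right, smul_eq_mul, inv_mul_cancel₀ (h2 ▸ hz')]
  · rw [polar_smul_right, h1, smul_zero]

theorem nd_insert_pair (hC : Nd Q C) {e f : V} (he : Perp Q C e) (hf : Perp Q C f) (hQe : Q e = 0)
    (hQf : Q f = 0) (hef : B e f = 1) : Nd Q (insert e (insert f C)) := by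
  intro x hx hxy
  rw [perp_insert, perp_insert] at hx
  obtain ⟨hex, hfx, hxC⟩ := hx
  refine hC x hxC fun y hy => ?_
  have h := hxy (y - B f y • e - B e y • f) (by
    rw [perp_insert, perp_insert]
    refine ⟨?_, ?_, (hy.sub (he.smul _)).sub (hf.smul _)⟩
    · rw [polar_sub_right, polar_sub_right, polar_smul_right, polar_smul_right, polar_self_zero hQe,
        hef, smul_zero, smul_eq_mul, mul_one, sub_zero, sub_self]
    · rw [polar_sub_right, polar_sub_right, polar_smul_right, polar_smul_right, polar_self_zero hQf,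
        polar_comm _ f e, hef, smul_zero, smul_eq_mul, mul_one, sub_zero, sub_self])
  rwa [polar_sub_right, polar_sub_right, polar_smul_right, polar_smul_right, polar_comm _ x e, hex,
    polar_comm _ x f, hfx, smul_zero, smul_zero, sub_zero, sub_zero] at h

theorem finrank_insert_pair {e f : V} (he : Perp Q C e) (hf : Perp Q C f) (hQe : Q e = 0)
    (hQf : Q f = 0) (hef : B e f = 1) :
    Module.finrank F (perpSub Q (insert e (insert f C))) + 2 = Module.finrank F (perpSub Q C) := by
  let L : perpSub Q C →ₗ[F] F × F :=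
    ((QuadraticMap.polarBilin Q e).comp (perpSub Q C).subtype).prod
      ((QuadraticMap.polarBilin Q f).comp (perpSub Q C).subtype)
  have hs : Function.Surjective L := by
    rintro ⟨a, b⟩
    refine ⟨⟨a • f + b • e, (hf.smul a).add (he.smul b)⟩, Prod.ext ?_ ?_⟩
    · show B e (a • f + b • e) = a
      rw [polar_add_right, polar_smul_right, polar_smul_right, hef, polar_self_zero hQe, smul_zero,
        add_zero, smul_eq_mul, mul_one]
    · show B f (a • f + b • e) = b
      rw [polar_add_right, polar_smul_right, polar_smul_right, polar_self_zero hQf, polar_comm _ f e,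
        hef, smul_zero, zero_add, smul_eq_mul, mul_one]
  have h := L.finrank_range_add_finrank_ker
  rw [LinearMap.range_eq_top.mpr hs, finrank_top, Module.finrank_prod, Module.finrank_self] at h
  have e1 : (perpSub Q (insert e (insert f C))) ≃ₗ[F] L.ker :=
    { toFun := fun x => ⟨⟨x.1, (perp_insert.mp (perp_insert.mp x.2).2).2⟩,
        Prod.ext (perp_insert.mp x.2).1 (perp_insert.mp (perp_insert.mp x.2).2).1⟩
      map_add' := fun x y => rfl
      map_smul' := fun k x => rfl
      invFun := fun x => ⟨x.1.1, perp_insert.mpr ⟨congrArg Prod.fst x.2,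
        perp_insert.mpr ⟨congrArg Prod.snd x.2, x.1.2⟩⟩⟩
      left_inv := fun x => rfl
      right_inv := fun x => rfl }
  rw [e1.finrank_eq]
  omega

theorem exists_perp_extra {k : ℕ} (v : Fin k → V) (hk : k < Module.finrank F (perpSub Q C)) :
    ∃ x, x ≠ 0 ∧ Perp Q C x ∧ ∀ i, B (v i) x = 0 := by
  let L : perpSub Q C →ₗ[F] (Fin k → F) :=
    LinearMap.pi fun i => (QuadraticMap.polarBilin Q (v i)).comp (perpSub Q C).subtype
  have hne : LinearMap.ker L ≠ ⊥ := LinearMap.ker_ne_bot_of_finrank_lt (by simpa using hk)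
  obtain ⟨x, hx, hx0⟩ := Submodule.exists_mem_ne_zero_of_ne_bot hne
  exact ⟨x.1, fun h => hx0 (Subtype.ext h), x.2, fun i => congrFun (LinearMap.mem_ker.1 hx) i⟩

variable [Finite F] (h2 : (2 : F) ≠ 0) (hQ : (QuadraticMap.polarBilin Q).Nondegenerate)
include h2 hQ

/-- A singular vector in a complement of dimension at least three. -/
theorem exists_singular_extra {k : ℕ} (v : Fin k → V) (hk : k + 3 ≤ Module.finrank F (perpSub Q C)) :
    ∃ z, z ≠ 0 ∧ Q z = 0 ∧ Perp Q C z ∧ ∀ i, B (v i) z = 0 := by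
  obtain ⟨x, hx0, hxC, hxv⟩ := exists_perp_extra (Q := Q) (C := C) v (by omega)
  by_cases hx : Q x = 0
  · exact ⟨x, hx0, hx, hxC, hxv⟩
  obtain ⟨y, hy0, hyC, hyv⟩ := exists_perp_extra (Q := Q) (C := C) (Fin.snoc v x) (by omega)
  have hyv' : ∀ i, B (v i) y = 0 := fun i => by have := hyv i.castSucc; rwa [Fin.snoc_castSucc] at this
  by_cases hy : Q y = 0
  · exact ⟨y, hy0, hy, hyC, hyv'⟩
  obtain ⟨z, hz0, hzC, hzv⟩ := exists_perp_extra (Q := Q) (C := C) (Fin.snoc (Fin.snoc v x) y) (by omega)
  have hzv' : ∀ i, B (v i) z = 0 := fun i => by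
    have := hzv i.castSucc.castSucc; rwa [Fin.snoc_castSucc, Fin.snoc_castSucc] at this
  by_cases hz : Q z = 0
  · exact ⟨z, hz0, hz, hzC, hzv'⟩
  have hxy : B x y = 0 := by have := hyv (Fin.last k); rwa [Fin.snoc_last] at this
  have hxz : B x z = 0 := by
    have := hzv (Fin.last k).castSucc; rwa [Fin.snoc_castSucc, Fin.snoc_last] at this
  have hyz : B y z = 0 := by have := hzv (Fin.last (k + 1)); rwa [Fin.snoc_last] at this
  obtain ⟨α, β, h0, h⟩ := exists_singular_of_orth h2 hQ hx hy hz hxy hxz hyz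
  exact ⟨_, h0, h, ((hxC.smul α).add (hyC.smul β)).add hzC, fun i => by
    rw [polar_add_right, polar_add_right, polar_smul_right, polar_smul_right, hxv, hyv', hzv',
      smul_zero, smul_zero, add_zero, add_zero]⟩

theorem finrank_empty : Module.finrank F (perpSub Q (∅ : Set V)) = Fintype.card ι := by
  rw [show perpSub Q (∅ : Set V) = ⊤ from eq_top_iff.mpr fun x _ => show Perp Q ∅ x by simp [Perp],
    finrank_top, Module.finrank_pi]

/-- Every Eichler transformation lies in `Ω`. -/
theorem exists_eic (hn : 5 ≤ Fintype.card ι) {e a : V} (he : Q e = 0) (hea : B e a = 0) :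
    ∃ g ∈ siegelGroup Q, IsEic g e a := by
  rcases eq_or_ne e 0 with rfl | he0
  · exact ⟨1, one_mem _, fun x => by rw [app_one, eichler_zero_left]⟩
  obtain ⟨f, hfC, hf, hef⟩ := exists_partner_perp (nd_empty hQ) (by simp [Perp]) he0 he
  have heC : Perp Q (∅ : Set V) e := by simp [Perp]
  have hd := finrank_insert_pair heC hfC he hf hef
  rw [finrank_empty h2 hQ] at hd
  obtain ⟨r, hr0, hr, hrC, -⟩ := exists_singular_extra h2 hQ (C := insert e (insert f (∅ : Set V)))
    (k := 0) ![] (by omega)
  obtain ⟨s, hsC, hs, hrs⟩ := exists_partner_perp (nd_insert_pair (nd_empty hQ) heC hfC he hf hef) hrC hr0 hr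
  rw [perp_insert, perp_insert] at hrC hsC
  exact TwoPairs.eichler_mem
    (⟨he, hf, hr, hs, hef, hrs, hrC.1, hsC.1, hrC.2.1, hsC.2.1⟩ : TwoPairs Q e f r s) hea

/-! ### Stabilisers -/

/-- Elements of `Ω` fixing everything orthogonal to the complement of `C`. -/
def fixG (Q : QuadraticForm F (ι → F)) (C : Set (ι → F)) : Subgroup ↥(Cfsg.isometryGroup F ⇑Q) where
  carrier := {g | g ∈ siegelGroup Q ∧ ∀ y, (∀ x, Perp Q C x → polar ⇑Q x y = 0) → app g y = y}
  one_mem' := ⟨one_mem _, fun y _ => app_one y⟩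
  mul_mem' := fun {g h} hg hh => ⟨mul_mem hg.1 hh.1, fun y hy => by rw [app_mul, hh.2 y hy, hg.2 y hy]⟩
  inv_mem' := fun {g} hg => ⟨inv_mem hg.1, fun y hy => by
    conv_lhs => rw [← hg.2 y hy]
    rw [app_inv_app]⟩

/-- The Eichler transformations inside the complement of `C`. -/
def eSet (Q : QuadraticForm F (ι → F)) (C : Set (ι → F)) : Set ↥(Cfsg.isometryGroup F ⇑Q) :=
  {g | ∃ e a, IsEic g e a ∧ Q e = 0 ∧ polar ⇑Q e a = 0 ∧ Perp Q C e ∧ Perp Q C a}

/-- The subgroup generated by the Eichler transformations inside the complement of `C`. -/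
def eGroup (Q : QuadraticForm F (ι → F)) (C : Set (ι → F)) : Subgroup ↥(Cfsg.isometryGroup F ⇑Q) :=
  Subgroup.closure (eSet Q C)

omit [Finite F] h2 hQ in
theorem eGroup_mono {C D : Set V} (h : C ⊆ D) : eGroup Q D ≤ eGroup Q C :=
  Subgroup.closure_mono fun _ ⟨e, a, h1, h2, h3, h4, h5⟩ => ⟨e, a, h1, h2, h3, h4.mono h, h5.mono h⟩

omit [Finite F] h2 hQ in
theorem mem_eGroup {g : O} {e a : V} (hg : IsEic g e a) (he : Q e = 0) (hea : B e a = 0)
    (heC : Perp Q C e) (haC : Perp Q C a) : g ∈ eGroup Q C :=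
  Subgroup.subset_closure ⟨e, a, hg, he, hea, heC, haC⟩

theorem eGroup_le_fixG (hn : 5 ≤ Fintype.card ι) : eGroup Q C ≤ fixG Q C := by
  refine (Subgroup.closure_le _).mpr ?_
  rintro g ⟨e, a, hg, he, hea, heC, haC⟩
  obtain ⟨g', hg', hge⟩ := exists_eic h2 hQ hn he hea
  refine ⟨hg.unique hge ▸ hg', fun y hy => ?_⟩
  rw [hg, eichler_fix (hy e heC) (hy a haC)]

theorem eGroup_le_stab {u : V} (huC : ∀ g ∈ eSet Q (insert u C), app g u = u) {g : O}
    (hg : g ∈ eGroup Q (insert u C)) : app g u = u := by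
  induction hg using Subgroup.closure_induction with
  | mem x hx => exact huC x hx
  | one => exact app_one u
  | mul x y _ _ hx hy => rw [app_mul, hy, hx]
  | inv x _ hx =>
    conv_lhs => rw [← hx]
    exact app_inv_app x u

omit [Finite F] h2 hQ in
theorem eSet_fix {u : V} {g : O} (hg : g ∈ eSet Q (insert u C)) : app g u = u := by
  obtain ⟨e, a, hg, he, hea, heC, haC⟩ := hg
  rw [perp_insert] at heC haC
  rw [hg, eichler_fix (by rw [polar_comm]; exact heC.1) (by rw [polar_comm]; exact haC.1)]

theorem app_eq_of_mem_eGroup {u : V} {g : O} (hg : g ∈ eGroup Q (insert u C)) : app g u = u :=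
  eGroup_le_stab h2 hQ (fun _ h => eSet_fix h) hg

omit [Finite F] h2 hQ in
theorem Perp.map_fixG {g : O} (hg : g ∈ fixG Q C) {x : V} (hx : Perp Q C x) : Perp Q C (app g x) :=
  fun c hc => by
    conv_lhs => rw [← hg.2 c (fun y hy => by rw [polar_comm]; exact hy c hc)]
    rw [polar_app, hx c hc]

omit [Finite F] h2 hQ in
theorem fixG_pair {e f : V} (he : Perp Q C e) (hf : Perp Q C f) (hQe : Q e = 0)
    (hQf : Q f = 0) (hef : B e f = 1) {g : O} (hg : g ∈ fixG Q C) (hge : app g e = e) (hgf : app g f = f) :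
    g ∈ fixG Q (insert e (insert f C)) := by
  refine ⟨hg.1, fun y hy => ?_⟩
  have h : app g (y - B f y • e - B e y • f) = y - B f y • e - B e y • f := by
    refine hg.2 _ fun x hx => ?_
    have hx' := hy (x - B f x • e - B e x • f) (by
      rw [perp_insert, perp_insert]
      refine ⟨?_, ?_, (hx.sub (he.smul _)).sub (hf.smul _)⟩
      · rw [polar_sub_right, polar_sub_right, polar_smul_right, polar_smul_right, polar_self_zero hQe,
          hef, smul_zero, smul_eq_mul, mul_one, sub_zero, sub_self]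
      · rw [polar_sub_right, polar_sub_right, polar_smul_right, polar_smul_right, polar_self_zero hQf,
          polar_comm _ f e, hef, smul_zero, smul_eq_mul, mul_one, sub_zero, sub_self])
    simp only [polar_sub_left, polar_sub_right, polar_smul_left, polar_smul_right, smul_eq_mul] at hx' ⊢
    rw [polar_comm (⇑Q) x e, polar_comm (⇑Q) x f]
    linear_combination hx'
  rwa [app_sub, app_sub, app_smul, app_smul, hge, hgf, sub_left_inj, sub_left_inj] at h

omit [Finite F] h2 hQ in
theorem fixG_le_of_pair {e f : V} : fixG Q (insert e (insert f C)) ≤ fixG Q C := fun g hg =>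
  ⟨hg.1, fun y hy => hg.2 y fun x hx => hy x (perp_insert.mp (perp_insert.mp hx).2).2⟩

/-- Clearing the image of the partner. -/
theorem exists_clear (hn : 5 ≤ Fintype.card ι) {e f : V} (he : Perp Q C e) (hf : Perp Q C f)
    (hQe : Q e = 0) (hQf : Q f = 0) (hef : B e f = 1) {g : O} (hg : g ∈ fixG Q C) {l : F}
    (hge : app g e = l • e) :
    ∃ k a, IsEic k e a ∧ B e a = 0 ∧ B f a = 0 ∧ Perp Q C a ∧ k ∈ eGroup Q C ∧
      app (k * g) e = l • e ∧ app (k * g) f = l⁻¹ • f ∧ l ≠ 0 := by
  have hl : l ≠ 0 := by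
    rintro rfl
    rw [zero_smul, ← app_zero g] at hge
    exact one_ne_zero (hef.symm.trans (by rw [app_injective g hge, polar_zero_left]))
  set w := app g f with hw
  have hwC : Perp Q C w := hf.map_fixG hg
  have hQw : Q w = 0 := by rw [hw, Q_app, hQf]
  have hew : B e w = l⁻¹ := by
    have h := polar_app g e f
    rw [hge, hef, polar_smul_left, smul_eq_mul] at h
    exact eq_inv_of_mul_eq_one_right h
  set a0 := w - B f w • e - l⁻¹ • f with ha0
  have ha0C : Perp Q C a0 := (hwC.sub (he.smul _)).sub (hf.smul _)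
  have hea : B e a0 = 0 := by
    rw [ha0, polar_sub_right, polar_sub_right, polar_smul_right, polar_smul_right, polar_self_zero hQe,
      hef, hew, smul_zero, smul_eq_mul, mul_one, sub_zero, sub_self]
  have hfa : B f a0 = 0 := by
    rw [ha0, polar_sub_right, polar_sub_right, polar_smul_right, polar_smul_right, polar_self_zero hQf,
      polar_comm _ f e, hef, smul_zero, smul_eq_mul, mul_one, sub_zero, sub_self]
  set c := -(l • a0) with hc
  have hec : B e c = 0 := by rw [hc, polar_neg_right, polar_smul_right, hea, smul_zero, neg_zero]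
  have hfc : B f c = 0 := by rw [hc, polar_neg_right, polar_smul_right, hfa, smul_zero, neg_zero]
  obtain ⟨k, -, hk⟩ := exists_eic h2 hQ hn hQe hec
  have hkeq : ∀ x, app k x = eichler Q e c x := hk
  have hke : app k e = e := by
    rw [hk, eichler_fix (polar_self_zero hQe) (by rw [polar_comm]; exact hec)]
  have hcC : Perp Q C c := (ha0C.smul l).neg
  refine ⟨k, c, hk, hec, hfc, hcC, mem_eGroup hk hQe hec he hcC,
    by rw [app_mul, hge, app_smul, hke], ?_, hl⟩
  rw [app_mul, ← hw]
  obtain ⟨k', hk'⟩ : ∃ k' : F, app k w = l⁻¹ • f + k' • e := by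
    refine ⟨B f w - (B c w + Q c * B e w), ?_⟩
    rw [hkeq, eichler, hew, hc, smul_neg, smul_smul, inv_mul_cancel₀ hl, one_smul]
    conv_lhs => arg 1; arg 2; rw [ha0]
    module
  have h0 : k' = 0 := by
    have h := Q_app k w
    rw [hk', hQw, QuadraticMap.map_add (⇑Q), QuadraticMap.map_smul, QuadraticMap.map_smul, hQf, hQe,
      polar_smul_left, polar_smul_right, polar_comm _ f e, hef] at h
    simp only [smul_eq_mul, mul_zero, zero_add, mul_one] at h
    exact (mul_eq_zero.mp h).resolve_left (inv_ne_zero hl)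
  rw [hk', h0, zero_smul, add_zero]

omit [Finite F] hQ in
/-- An isometry fixing everything orthogonal to a line is `1` or the reflection. -/
theorem eq_one_or_refl (hC : Nd Q C) {d : V} (hd : Perp Q C d) (hd0 : d ≠ 0)
    (hline : ∀ x, Perp Q C x → ∃ k : F, x = k • d) {g : O}
    (hg : ∀ y, (∀ x, Perp Q C x → B x y = 0) → app g y = y) (hgd : Perp Q C (app g d)) :
    g = 1 ∨ ∃ hQd : Q d ≠ 0, g = refl Q d hQd := by
  have hQd : Q d ≠ 0 := fun h => hd0 (hC d hd fun y hy => by
    obtain ⟨k, rfl⟩ := hline y hy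
    rw [polar_smul_right, polar_self_zero h, smul_zero])
  obtain ⟨k, hk⟩ := hline _ hgd
  have hk2 : (k - 1) * (k + 1) = 0 := by
    have h := Q_app g d
    rw [hk, QuadraticMap.map_smul, smul_eq_mul] at h
    have := mul_right_cancel₀ hQd (h.trans (one_mul (Q d)).symm)
    linear_combination this
  have hdec : ∀ x, app g (x - (B d x / (2 * Q d)) • d) = x - (B d x / (2 * Q d)) • d := fun x => by
    refine hg _ fun z hz => ?_
    obtain ⟨j, rfl⟩ := hline z hz
    rw [polar_smul_left, polar_sub_right, polar_smul_right, polar_self_eq, smul_eq_mul,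
      smul_eq_mul, div_mul_cancel₀ _ (mul_ne_zero h2 hQd), sub_self, mul_zero]
  have happ : ∀ x, app g x = x + ((k - 1) * (B d x / (2 * Q d))) • d := fun x => by
    have h := hdec x
    rw [app_sub, app_smul, hk, sub_eq_iff_eq_add] at h
    rw [h, smul_smul]
    module
  rcases mul_eq_zero.mp hk2 with h | h
  · refine Or.inl (isometry_ext fun x => ?_)
    rw [happ, h, zero_mul, zero_smul, add_zero, app_one]
  · refine Or.inr ⟨hQd, isometry_ext fun x => ?_⟩
    rw [happ, app_refl, show k = -1 from eq_neg_of_add_eq_zero_left h, sub_eq_add_neg x, ← neg_smul]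
    congr 2
    field_simp
    ring

theorem exists_line (hd : Module.finrank F (perpSub Q C) = 1) :
    ∃ d, Perp Q C d ∧ d ≠ 0 ∧ ∀ x, Perp Q C x → ∃ k : F, x = k • d := by
  obtain ⟨⟨d, hdC⟩, hd0, hsp⟩ := finrank_eq_one_iff'.mp hd
  refine ⟨d, hdC, fun h => hd0 (Subtype.ext h), fun x hx => ?_⟩
  obtain ⟨k, hk⟩ := hsp ⟨x, hx⟩
  exact ⟨k, (congrArg Subtype.val hk).symm⟩

/-- In dimension three the multiplier of a singular line is a square. -/
theorem isSquare_of_three (hn : 2 ≤ Fintype.card ι) {e f : V} (hC : Nd Q C) (he : Perp Q C e)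
    (hf : Perp Q C f) (hQe : Q e = 0) (hQf : Q f = 0) (hef : B e f = 1)
    (hd : Module.finrank F (perpSub Q (insert e (insert f C))) = 1)
    {g : O} (hg : g ∈ fixG Q C) {l : F} (hl : l ≠ 0) (hge : app g e = l • e) (hgf : app g f = l⁻¹ • f) :
    IsSquare l := by
  have hQ1 : Q (e - f) = -1 := by
    rw [sub_eq_add_neg, QuadraticMap.map_add (⇑Q), QuadraticMap.map_neg, hQe, hQf, polar_neg_right, hef]
    ring
  have hQl : Q (e - l • f) = -l := by
    rw [sub_eq_add_neg, ← neg_smul, QuadraticMap.map_add (⇑Q), QuadraticMap.map_smul, hQe, hQf,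
      polar_smul_right, hef, smul_zero, smul_eq_mul]
    ring
  have h1 : Q (e - f) ≠ 0 := by rw [hQ1]; exact neg_ne_zero.mpr one_ne_zero
  have h3 : Q (e - l • f) ≠ 0 := by rw [hQl]; exact neg_ne_zero.mpr hl
  set t := refl Q (e - f) h1 * refl Q (e - l • f) h3 with ht
  have hte : app t e = l • e := by
    rw [ht, app_mul, app_refl h3, hQl, polar_sub_left, polar_smul_left, polar_self_zero hQe,
      polar_comm _ f e, hef, smul_eq_mul, mul_one, zero_sub, show (-l)⁻¹ * -l = (1 : F) by field_simp,
      one_smul, sub_sub_cancel, app_smul, app_refl h1, hQ1, polar_sub_left, polar_self_zero hQf, hef,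
      sub_zero, show (-1 : F)⁻¹ * 1 = -1 by norm_num, neg_one_smul, sub_neg_eq_add, add_sub_cancel]
  have htf : app t f = l⁻¹ • f := by
    rw [ht, app_mul, app_refl h3, hQl, polar_sub_left, polar_smul_left, polar_self_zero hQf, hef,
      smul_zero, sub_zero, show (-l)⁻¹ * 1 = -l⁻¹ by field_simp, neg_smul, sub_neg_eq_add, smul_sub,
      smul_smul, inv_mul_cancel₀ hl, one_smul, add_sub_cancel, app_smul, app_refl h1, hQ1,
      polar_sub_left, polar_self_zero hQe, polar_comm _ f e, hef, zero_sub,
      show (-1 : F)⁻¹ * -1 = 1 by norm_num, one_smul, sub_sub_cancel]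
  have htfix : ∀ y, (∀ x, Perp Q C x → B x y = 0) → app t y = y := fun y hy => by
    rw [ht, app_mul, app_refl_of_polar_eq_zero h3 (by rw [polar_sub_left, polar_smul_left, hy e he,
      hy f hf, smul_zero, sub_zero]), app_refl_of_polar_eq_zero h1 (by rw [polar_sub_left, hy e he,
      hy f hf, sub_zero])]
  set k := t⁻¹ * g with hk
  have hke : app k e = e := by rw [hk, app_mul, hge, ← hte, app_inv_app]
  have hkf : app k f = f := by rw [hk, app_mul, hgf, ← htf, app_inv_app]
  have hkfix : ∀ y, (∀ x, Perp Q (insert e (insert f C)) x → B x y = 0) → app k y = y := by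
    intro y hy
    have h : app k (y - B f y • e - B e y • f) = y - B f y • e - B e y • f := by
      have hz : ∀ x, Perp Q C x → B x (y - B f y • e - B e y • f) = 0 := fun x hx => by
        have hx' := hy (x - B f x • e - B e x • f) (by
          rw [perp_insert, perp_insert]
          refine ⟨?_, ?_, (hx.sub (he.smul _)).sub (hf.smul _)⟩
          · rw [polar_sub_right, polar_sub_right, polar_smul_right, polar_smul_right, polar_self_zero hQe,
              hef, smul_zero, smul_eq_mul, mul_one, sub_zero, sub_self]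
          · rw [polar_sub_right, polar_sub_right, polar_smul_right, polar_smul_right, polar_self_zero hQf,
              polar_comm _ f e, hef, smul_zero, smul_eq_mul, mul_one, sub_zero, sub_self])
        simp only [polar_sub_left, polar_sub_right, polar_smul_left, polar_smul_right, smul_eq_mul] at hx' ⊢
        rw [polar_comm (⇑Q) x e, polar_comm (⇑Q) x f]
        linear_combination hx'
      rw [hk, app_mul, hg.2 _ hz]
      conv_lhs => rw [← htfix _ hz]
      exact app_inv_app t _
    rwa [app_sub, app_sub, app_smul, app_smul, hke, hkf, sub_left_inj, sub_left_inj] at h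
  obtain ⟨d, hdC, hd0, hline⟩ := exists_line h2 hQ hd
  have hdC' := perp_insert.mp hdC
  have hd'' := perp_insert.mp hdC'.2
  have hkd : Perp Q (insert e (insert f C)) (app k d) := by
    rw [perp_insert, perp_insert]
    refine ⟨by rw [← hke, polar_app, hdC'.1], by rw [← hkf, polar_app, hd''.1], fun c hc => ?_⟩
    rw [← hkfix c (fun x hx => by rw [polar_comm]; exact (perp_insert.mp (perp_insert.mp hx).2).2 c hc),
      polar_app, hd''.2 c hc]
  have hom := (mem_omega_iff h2 hQ hn g).mp (siegelGroup_le_omega h2 hQ hn hg.1)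
  rcases eq_one_or_refl h2 (nd_insert_pair hC he hf hQe hQf hef) hdC hd0 hline hkfix hkd with h | ⟨hQd, h⟩
  · rw [hk, inv_mul_eq_one] at h
    have hs := hom.2
    rw [← h, ht, map_mul] at hs
    by_contra hns
    rcases em (IsSquare (Q (e - f))) with hsq | hsq
    · have hsl : ¬ IsSquare (Q (e - l • f)) := by
        rw [hQl]; rw [hQ1] at hsq
        intro hc'
        exact hns (by simpa using hc'.mul hsq)
      rw [spinor_refl_of_isSquare h2 h1 hsq, spinor_refl_of_not_isSquare h2 h3 hsl] at hs
      exact absurd hs (by decide)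
    · have hsl : IsSquare (Q (e - l • f)) := by
        rw [hQl]; rw [hQ1] at hsq
        obtain ⟨w, -, hw⟩ := exists_sq_mul h2 (neg_ne_zero.mpr one_ne_zero) hl (iff_of_false hsq hns)
        exact ⟨w, by rw [hw]; ring⟩
      rw [spinor_refl_of_not_isSquare h2 h1 hsq, spinor_refl_of_isSquare h2 h3 hsl] at hs
      exact absurd hs (by decide)
  · exfalso
    rw [hk, inv_mul_eq_iff_eq_mul] at h
    have hs := hom.1
    rw [h, ht, map_mul, map_mul, detSign_refl h2 hQ, detSign_refl h2 hQ, detSign_refl h2 hQ] at hs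
    exact absurd hs (by decide)

/-- An element moving a singular vector to its multiple, from two non-singular vectors. -/
theorem exists_swap (hn : 5 ≤ Fintype.card ι) {e f a : V} (he : Perp Q C e) (hf : Perp Q C f)
    (hQe : Q e = 0) (hQf : Q f = 0) (hef : B e f = 1) (ha : Perp Q C a) (hea : B e a = 0)
    (hfa : B f a = 0) (hQa : Q a ≠ 0) :
    ∃ h ∈ eGroup Q C, app h e = (-Q a) • f := by
  obtain ⟨g1, -, hg1⟩ := exists_eic h2 hQ hn hQf hfa
  set b := (Q a)⁻¹ • a with hb
  have heb : B e b = 0 := by rw [hb, polar_smul_right, hea, smul_zero]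
  have hfb : B f b = 0 := by rw [hb, polar_smul_right, hfa, smul_zero]
  obtain ⟨g2, -, hg2⟩ := exists_eic h2 hQ hn hQe heb
  refine ⟨g2 * g1, mul_mem (mem_eGroup hg2 hQe heb he (ha.smul _)) (mem_eGroup hg1 hQf hfa hf ha), ?_⟩
  rw [app_mul, hg1, eichler, polar_comm _ f e, hef, polar_comm _ a e, hea, mul_one, zero_add, one_smul,
    hg2, eichler]
  simp only [polar_add_right, polar_sub_right, polar_smul_right, polar_self_zero hQe, hef, hea,
    hb, polar_smul_left, polar_comm (⇑Q) a e, polar_comm (⇑Q) a f, hfa, polar_self_eq,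
    QuadraticMap.map_smul, smul_eq_mul, mul_zero, mul_one, zero_add, add_zero, zero_sub, smul_smul]
  match_scalars <;> field_simp <;> ring

/-- An element moving a singular vector into a given line. -/
theorem exists_to_line (hn : 5 ≤ Fintype.card ι) (hC : Nd Q C) {e f a : V} (he : Perp Q C e)
    (hf : Perp Q C f) (hQe : Q e = 0) (hQf : Q f = 0) (hef : B e f = 1) (ha : Perp Q C a)
    (hea : B e a = 0) (hfa : B f a = 0) (hQa : Q a ≠ 0) {w : V} (hw : Perp Q C w) (hQw : Q w = 0) :
    ∃ h ∈ eGroup Q C, ∃ l : F, app h w = l • e := by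
  have key : ∀ w, Perp Q C w → Q w = 0 → B e w ≠ 0 → ∃ h ∈ eGroup Q C, ∃ l : F, app h w = l • e := by
    intro w hw hQw hβ
    set w0 := w - B f w • e - B e w • f with hw0
    have h1 : B e w0 = 0 := by
      rw [hw0, polar_sub_right, polar_sub_right, polar_smul_right, polar_smul_right, polar_self_zero hQe,
        hef, smul_zero, smul_eq_mul, mul_one, sub_zero, sub_self]
    set c := -((B e w)⁻¹ • w0) with hc
    have hec : B e c = 0 := by rw [hc, polar_neg_right, polar_smul_right, h1, smul_zero, neg_zero]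
    obtain ⟨g1, -, hg1⟩ := exists_eic h2 hQ hn hQe hec
    obtain ⟨k, hk⟩ : ∃ k : F, app g1 w = k • e + B e w • f := by
      refine ⟨B f w - (B c w + Q c * B e w), ?_⟩
      rw [hg1, eichler, hc, smul_neg, smul_smul, mul_inv_cancel₀ hβ, one_smul]
      conv_lhs => arg 1; arg 2; rw [hw0]
      module
    have hk0 : k = 0 := by
      have h := Q_app g1 w
      rw [hk, hQw, QuadraticMap.map_add (⇑Q), QuadraticMap.map_smul, QuadraticMap.map_smul, hQf, hQe,
        polar_smul_left, polar_smul_right, hef] at h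
      simp only [smul_eq_mul, mul_zero, zero_add, mul_one] at h
      exact (mul_eq_zero.mp h).resolve_right hβ
    obtain ⟨t, ht, hte⟩ := exists_swap h2 hQ hn he hf hQe hQf hef ha hea hfa hQa
    refine ⟨t⁻¹ * g1, mul_mem (inv_mem ht) (mem_eGroup hg1 hQe hec he
      ((((hw.sub (he.smul _)).sub (hf.smul _)).smul _).neg)), B e w * (-Q a)⁻¹, ?_⟩
    refine app_injective t ?_
    rw [app_mul, app_app_inv, hk, hk0, zero_smul, zero_add, app_smul, hte, smul_smul, mul_assoc,
      inv_mul_cancel₀ (neg_ne_zero.mpr hQa), mul_one]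
  by_cases hβ : B e w = 0
  swap
  · exact key w hw hQw hβ
  set w0 := w - B f w • e with hw0
  rcases eq_or_ne w0 0 with h0 | h0
  · exact ⟨1, one_mem _, B f w, by rw [app_one]; exact sub_eq_zero.mp h0⟩
  have hw0e : B e w0 = 0 := by
    rw [hw0, polar_sub_right, polar_smul_right, hβ, polar_self_zero hQe, smul_zero, sub_zero]
  have hw0f : B f w0 = 0 := by
    rw [hw0, polar_sub_right, polar_smul_right, polar_comm _ f e, hef, smul_eq_mul, mul_one, sub_self]
  have hQw0 : Q w0 = 0 := by
    rw [hw0, sub_eq_add_neg, ← neg_smul, QuadraticMap.map_add (⇑Q), QuadraticMap.map_smul, hQe, hQw,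
      polar_smul_right, polar_comm _ w e, hβ, smul_zero, smul_zero, add_zero, add_zero]
  have hw0C : Perp Q (insert e (insert f C)) w0 := by
    rw [perp_insert, perp_insert]; exact ⟨hw0e, hw0f, hw.sub (he.smul _)⟩
  obtain ⟨s, hsC, hs, hws⟩ := exists_partner_perp (nd_insert_pair hC he hf hQe hQf hef) hw0C h0 hQw0
  rw [perp_insert, perp_insert] at hsC
  obtain ⟨g1, -, hg1⟩ := exists_eic h2 hQ hn hQf hsC.2.1
  have h := key (app g1 w) (hw.map_fixG (eGroup_le_fixG h2 hQ hn (mem_eGroup hg1 hQf hsC.2.1 hf hsC.2.2)))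
    (by rw [Q_app, hQw]) (by
      rw [hg1, eichler, polar_sub_right, polar_add_right, polar_smul_right, polar_smul_right, hβ,
        hsC.1, hef, hs]
      have : B s w = 1 := by
        rw [show w = w0 + B f w • e by rw [hw0, sub_add_cancel], polar_add_right, polar_smul_right,
          polar_comm _ s e, hsC.1, smul_zero, add_zero, polar_comm _ s w0, hws]
      rw [this]
      simp)
  obtain ⟨k, hk, l, hl⟩ := h
  exact ⟨k * g1, mul_mem hk (mem_eGroup hg1 hQf hsC.2.1 hf hsC.2.2), l, by rw [app_mul, hl]⟩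

/-- The stabiliser of a non-degenerate subspace of odd codimension is generated by Eichler transformations. -/
theorem fixG_le_eGroup (hn : 5 ≤ Fintype.card ι) (r : ℕ) :
    ∀ C : Set V, Nd Q C → Module.finrank F (perpSub Q C) = 2 * r + 1 → fixG Q C ≤ eGroup Q C := by
  have hn2 : 2 ≤ Fintype.card ι := by omega
  induction r with
  | zero =>
    intro C hC hd g hg
    obtain ⟨d, hdC, hd0, hline⟩ := exists_line h2 hQ hd
    rcases eq_one_or_refl h2 hC hdC hd0 hline hg.2 (hdC.map_fixG hg) with rfl | ⟨hQd, rfl⟩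
    · exact one_mem _
    · exfalso
      have h := ((mem_omega_iff h2 hQ hn2 _).mp (siegelGroup_le_omega h2 hQ hn2 hg.1)).1
      rw [detSign_refl h2 hQ] at h
      exact absurd h (by decide)
  | succ r ih =>
    intro C hC hd g hg
    obtain ⟨e, he0, hQe, heC, -⟩ := exists_singular_extra h2 hQ (C := C) (k := 0) ![] (by omega)
    obtain ⟨f, hfC, hQf, hef⟩ := exists_partner_perp hC heC he0 hQe
    have hC' := nd_insert_pair hC heC hfC hQe hQf hef
    have hd' := finrank_insert_pair heC hfC hQe hQf hef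
    have hle : eGroup Q (insert e (insert f C)) ≤ eGroup Q C :=
      eGroup_mono ((Set.subset_insert _ _).trans (Set.subset_insert _ _))
    obtain ⟨a, ha, hQa⟩ : ∃ a, Perp Q (insert e (insert f C)) a ∧ Q a ≠ 0 := by
      by_contra h
      push Not at h
      obtain ⟨x, hx0, hx, -⟩ := exists_perp_extra (Q := Q) (C := insert e (insert f C)) (k := 0) ![]
        (by omega)
      refine hx0 (hC' x hx fun y hy => ?_)
      rw [QuadraticMap.polar, h x hx, h y hy, h _ (hx.add hy), sub_zero, sub_zero]
    have ha' := perp_insert.mp ha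
    have ha'' := perp_insert.mp ha'.2
    obtain ⟨h1, hh1, l, hl⟩ := exists_to_line h2 hQ hn hC heC hfC hQe hQf hef ha''.2 ha'.1 ha''.1 hQa
      (heC.map_fixG hg) (by rw [Q_app, hQe])
    have hfix := eGroup_le_fixG h2 hQ hn (C := C)
    obtain ⟨k, -, -, -, -, -, hk, hke, hkf, hl0⟩ := exists_clear h2 hQ hn heC hfC hQe hQf hef
      (mul_mem (hfix hh1) hg) (l := l) (by rw [app_mul, hl])
    -- two values with product `l`
    obtain ⟨x, y, hx, hy, hxy⟩ : ∃ x y, Perp Q (insert e (insert f C)) x ∧
        Perp Q (insert e (insert f C)) y ∧ Q x * Q y = l := by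
      rcases Nat.eq_zero_or_pos r with rfl | hr
      · obtain ⟨μ, hμ⟩ := isSquare_of_three h2 hQ hn2 hC heC hfC hQe hQf hef (by omega)
          (mul_mem (hfix hk) (mul_mem (hfix hh1) hg)) hl0 hke hkf
        refine ⟨a, (μ / Q a) • a, ha, ha.smul _, ?_⟩
        rw [QuadraticMap.map_smul, smul_eq_mul, hμ]
        field_simp
      · obtain ⟨b, hb0, hb, hab⟩ := exists_perp_extra (Q := Q) (C := insert e (insert f C)) (k := 1) ![a]
          (by omega)
        have hab' : B a b = 0 := hab 0
        by_cases hQb : Q b = 0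
        · obtain ⟨b', hb', hQb', hbb'⟩ := exists_partner_perp hC' hb hb0 hQb
          refine ⟨a, (l / Q a) • b + b', ha, (hb.smul _).add hb', ?_⟩
          rw [QuadraticMap.map_add (⇑Q), QuadraticMap.map_smul, hQb, hQb', polar_smul_left, hbb',
            smul_zero, smul_eq_mul, zero_add, zero_add, mul_one, mul_div_cancel₀ _ hQa]
        · obtain ⟨α, β, h⟩ := exists_value_of_orth h2 hQa hQb hab' (l / Q a)
          exact ⟨a, α • a + β • b, ha, (ha.smul _).add (hb.smul _), by rw [h, mul_div_cancel₀ _ hQa]⟩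
    have hx' := perp_insert.mp hx
    have hx'' := perp_insert.mp hx'.2
    have hy' := perp_insert.mp hy
    have hy'' := perp_insert.mp hy'.2
    have hQx : Q x ≠ 0 := left_ne_zero_of_mul (hxy ▸ hl0)
    have hQy : Q y ≠ 0 := right_ne_zero_of_mul (hxy ▸ hl0)
    obtain ⟨s1, hs1, hs1e⟩ := exists_swap h2 hQ hn heC hfC hQe hQf hef hx''.2 hx'.1 hx''.1 hQx
    obtain ⟨s2, hs2, hs2f⟩ := exists_swap h2 hQ hn hfC heC hQf hQe (by rw [polar_comm]; exact hef) hy''.2
      hy''.1 hy'.1 hQy
    set τ := s2 * s1 with hτ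
    have hτm : τ ∈ eGroup Q C := mul_mem hs2 hs1
    have hτe : app τ e = l • e := by
      rw [hτ, app_mul, hs1e, app_smul, hs2f, smul_smul, neg_mul_neg, hxy]
    have hg3e : app (τ⁻¹ * (k * (h1 * g))) e = e := by rw [app_mul, hke, ← hτe, app_inv_app]
    obtain ⟨k2, -, -, -, -, -, hk2, hk2e, hk2f, -⟩ := exists_clear h2 hQ hn heC hfC hQe hQf hef
      (g := τ⁻¹ * (k * (h1 * g))) (mul_mem (inv_mem (hfix hτm)) (mul_mem (hfix hk) (mul_mem (hfix hh1) hg)))
      (l := 1) (by rw [one_smul]; exact hg3e)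
    rw [one_smul] at hk2e
    rw [inv_one, one_smul] at hk2f
    have hmem := hle (ih _ hC' (by omega) (fixG_pair heC hfC hQe hQf hef
      (mul_mem (hfix hk2) (mul_mem (inv_mem (hfix hτm)) (mul_mem (hfix hk) (mul_mem (hfix hh1) hg))))
      hk2e hk2f))
    have := mul_mem (inv_mem hh1) (mul_mem (inv_mem hk) (mul_mem hτm (mul_mem (inv_mem hk2) hmem)))
    simpa [mul_assoc] using this

/-- An element fixing a singular vector is an Eichler transformation times one fixing the pair. -/
theorem exists_decomp (hn : 5 ≤ Fintype.card ι) {u f : V} (hu : Perp Q C u) (hf : Perp Q C f)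
    (hQu : Q u = 0) (hQf : Q f = 0) (huf : B u f = 1) {g : O} (hg : g ∈ fixG Q C) (hgu : app g u = u) :
    ∃ k h a, IsEic k u a ∧ B u a = 0 ∧ B f a = 0 ∧ Perp Q C a ∧ h ∈ fixG Q (insert u (insert f C)) ∧
      g = k * h := by
  obtain ⟨k, a, hk, hua, hfa, ha, hkm, hku, hkf, -⟩ := exists_clear h2 hQ hn hu hf hQu hQf huf hg (l := 1)
    (by rw [one_smul]; exact hgu)
  rw [one_smul] at hku
  rw [inv_one, one_smul] at hkf
  exact ⟨k⁻¹, k * g, -a, hk.inv hQu hua, by rw [polar_neg_right, hua, neg_zero],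
    by rw [polar_neg_right, hfa, neg_zero], ha.neg,
    fixG_pair hu hf hQu hQf huf (mul_mem (eGroup_le_fixG h2 hQ hn hkm) hg) hku hkf, by group⟩

/-- The stabiliser of a singular vector is generated by Eichler transformations. -/
theorem stab_le_eGroup (hn : 5 ≤ Fintype.card ι) (hC : Nd Q C) {r : ℕ}
    (hd : Module.finrank F (perpSub Q C) = 2 * r + 3) {u : V} (hu : Perp Q C u) (hu0 : u ≠ 0)
    (hQu : Q u = 0) {g : O} (hg : g ∈ fixG Q C) (hgu : app g u = u) : g ∈ eGroup Q (insert u C) := by
  obtain ⟨f, hf, hQf, huf⟩ := exists_partner_perp hC hu hu0 hQu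
  obtain ⟨k, h, a, hk, hua, -, ha, hh, rfl⟩ := exists_decomp h2 hQ hn hu hf hQu hQf huf hg hgu
  have hd' := finrank_insert_pair hu hf hQu hQf huf
  refine mul_mem (mem_eGroup hk hQu hua (perp_insert.mpr ⟨polar_self_zero hQu, hu⟩)
    (perp_insert.mpr ⟨hua, ha⟩)) ?_
  exact eGroup_mono (Set.insert_subset_insert (Set.subset_insert _ _))
    (fixG_le_eGroup h2 hQ hn r _ (nd_insert_pair hC hu hf hQu hQf huf) (by omega) hh)

/-- The stabiliser of two orthogonal singular vectors is generated by Eichler transformations. -/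
theorem stab_two_le_eGroup (hn : 5 ≤ Fintype.card ι) (hC : Nd Q C) {r : ℕ}
    (hd : Module.finrank F (perpSub Q C) = 2 * r + 5) {u e : V} (hu : Perp Q C u) (hQu : Q u = 0)
    (he : Perp Q C e) (hQe : Q e = 0) (hue : B u e = 0)
    (hind : ∀ k l : F, k • u + l • e = 0 → k = 0 ∧ l = 0)
    {g : O} (hg : g ∈ fixG Q C) (hgu : app g u = u) (hge : app g e = e) :
    g ∈ eGroup Q (insert e (insert u C)) := by
  have hu0 : u ≠ 0 := fun h => one_ne_zero (hind 1 0 (by rw [h, smul_zero, zero_smul, add_zero])).1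
  have he0 : e ≠ 0 := fun h => one_ne_zero (hind 0 1 (by rw [h, smul_zero, zero_smul, add_zero])).2
  obtain ⟨x, hx, hux, hex⟩ := exists_dual hC hu he hind
  set f := x - Q x • u with hfd
  have hf : Perp Q C f := hx.sub (hu.smul _)
  have huf : B u f = 1 := by
    rw [hfd, polar_sub_right, polar_smul_right, polar_self_zero hQu, hux, smul_zero, sub_zero]
  have hQf : Q f = 0 := by
    rw [hfd, sub_eq_add_neg, QuadraticMap.map_add (⇑Q), ← neg_smul, QuadraticMap.map_smul, hQu,
      polar_smul_right, polar_comm _ x u, hux, smul_zero, smul_eq_mul]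
    ring
  have hef : B e f = 0 := by
    rw [hfd, polar_sub_right, polar_smul_right, hex, polar_comm _ e u, hue, smul_zero, sub_zero]
  obtain ⟨k, h, a, hk, hua, hfa, ha, hh, rfl⟩ := exists_decomp h2 hQ hn hu hf hQu hQf huf hg hgu
  have heC' : Perp Q (insert u (insert f C)) e := by
    rw [perp_insert, perp_insert]; exact ⟨hue, by rw [polar_comm]; exact hef, he⟩
  have hz := perp_insert.mp (heC'.map_fixG hh)
  have hz2 := perp_insert.mp hz.2
  set z := app h e with hzd
  have hke : eichler Q u a z = e := by rw [← hk z, hzd, ← app_mul]; exact hge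
  rw [eichler, hz.1, zero_smul, add_zero, mul_zero, add_zero] at hke
  have haz : B a z = 0 := by
    have := congrArg (fun w => B f w) hke
    simp only [polar_sub_right, polar_smul_right, hz2.1, polar_comm (⇑Q) f u, huf, smul_eq_mul, mul_one,
      zero_sub, polar_comm (⇑Q) f e, hef, neg_eq_zero] at this
    exact this
  rw [haz, zero_smul, sub_zero] at hke
  have hae : B a e = 0 := hke ▸ haz
  refine mul_mem (mem_eGroup hk hQu hua (perp_insert.mpr ⟨by rw [polar_comm]; exact hue,
    perp_insert.mpr ⟨polar_self_zero hQu, hu⟩⟩) (perp_insert.mpr ⟨by rw [polar_comm]; exact hae,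
    perp_insert.mpr ⟨hua, ha⟩⟩)) ?_
  have hd' := finrank_insert_pair hu hf hQu hQf huf
  exact eGroup_mono (Set.insert_subset_insert (Set.insert_subset_insert (Set.subset_insert _ _)))
    (stab_le_eGroup h2 hQ hn (nd_insert_pair hC hu hf hQu hQf huf) (r := r) (by omega) heC' he0 hQe hh hke)

/-- Transitivity on non-zero singular vectors in dimension at least five. -/
theorem exists_trans (hn : 5 ≤ Fintype.card ι) (hC : Nd Q C) (hd : 5 ≤ Module.finrank F (perpSub Q C))
    {x y : V} (hx : Perp Q C x) (hy : Perp Q C y) (hx0 : x ≠ 0) (hy0 : y ≠ 0) (hQx : Q x = 0)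
    (hQy : Q y = 0) : ∃ g ∈ eGroup Q C, app g x = y := by
  have step : ∀ x y, Perp Q C x → Perp Q C y → Q x = 0 → Q y = 0 → B x y = 0 →
      (∀ k l : F, k • x + l • y = 0 → k = 0 ∧ l = 0) → ∃ g ∈ eGroup Q C, app g x = y := by
    intro x y hx hy hQx hQy hxy hind
    obtain ⟨z1, hz1, hx1, hy1⟩ := exists_dual hC hx hy hind
    obtain ⟨z2, hz2, hy2, hx2⟩ := exists_dual hC hy hx (fun k l h => (hind l k (by rwa [add_comm])).symm)
    set z := z1 + z2 with hzd
    have hxz : B x z = 1 := by rw [hzd, polar_add_right, hx1, hx2, add_zero]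
    have hyz : B y z = 1 := by rw [hzd, polar_add_right, hy1, hy2, zero_add]
    set f := z - Q z • x with hfd
    have hf : Perp Q C f := (hz1.add hz2).sub (hx.smul _)
    have hQf : Q f = 0 := by
      rw [hfd, sub_eq_add_neg, QuadraticMap.map_add (⇑Q), ← neg_smul, QuadraticMap.map_smul, hQx,
        polar_smul_right, polar_comm _ z x, hxz, smul_zero, smul_eq_mul]
      ring
    have hfx : B f x = 1 := by
      rw [hfd, polar_sub_left, polar_smul_left, polar_self_zero hQx, polar_comm _ z x, hxz, smul_zero,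
        sub_zero]
    have hfy : B f y = 1 := by
      rw [hfd, polar_sub_left, polar_smul_left, hxy, polar_comm _ z y, hyz, smul_zero, sub_zero]
    set a := y - x with had
    have hfa : B f a = 0 := by rw [had, polar_sub_right, hfx, hfy, sub_self]
    obtain ⟨g, -, hg⟩ := exists_eic h2 hQ hn hQf hfa
    refine ⟨g, mem_eGroup hg hQf hfa hf (hy.sub hx), ?_⟩
    have hax : B a x = 0 := by rw [had, polar_sub_left, polar_comm _ y x, hxy, polar_self_zero hQx, sub_zero]
    have hQa : Q a = 0 := by
      rw [had, sub_eq_add_neg, QuadraticMap.map_add (⇑Q), QuadraticMap.map_neg, hQx, hQy, polar_neg_right,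
        polar_comm _ y x, hxy, neg_zero, add_zero, add_zero]
    rw [hg, eichler, hfx, hax, hQa, zero_mul, add_zero, zero_smul, sub_zero, one_smul, had, add_sub_cancel]
  by_cases hind : B x y = 0 ∧ ∀ k l : F, k • x + l • y = 0 → k = 0 ∧ l = 0
  · exact step x y hx hy hQx hQy hind.1 hind.2
  obtain ⟨f, hf, -, hxf⟩ := exists_partner_perp hC hx hx0 hQx
  by_cases hxy : B x y = 0
  · -- `y` is a multiple of `x`
    obtain ⟨c, rfl⟩ : ∃ c : F, y = c • x := by
      push Not at hind
      obtain ⟨k, l, h, hkl⟩ := hind hxy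
      have hl : l ≠ 0 := fun hl => by
        rw [hl, zero_smul, add_zero, smul_eq_zero, or_iff_left hx0] at h
        exact hkl h hl
      refine ⟨-(l⁻¹ * k), ?_⟩
      have := congrArg (l⁻¹ • ·) h
      simp only [smul_add, smul_smul, inv_mul_cancel₀ hl, one_smul, smul_zero] at this
      rw [neg_smul]
      exact eq_neg_of_add_eq_zero_right this
    obtain ⟨z, hz0, hQz, hzC, hzv⟩ := exists_singular_extra h2 hQ (C := C) (k := 2) ![x, f] (by omega)
    have hxz : B x z = 0 := hzv 0
    have hfz : B f z = 0 := hzv 1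
    have hi : ∀ k l : F, k • x + l • z = 0 → k = 0 ∧ l = 0 := fun k l h => by
      have hk : k = 0 := by
        have := congrArg (fun w => B f w) h
        simp only [polar_add_right, polar_smul_right, hfz, polar_comm (⇑Q) f x, hxf, smul_eq_mul,
          mul_one, mul_zero, add_zero, polar_zero_right] at this
        exact this
      subst hk
      rw [zero_smul, zero_add, smul_eq_zero] at h
      exact ⟨rfl, h.resolve_right hz0⟩
    have hc : c ≠ 0 := fun h => hy0 (by rw [h, zero_smul])
    obtain ⟨g1, hg1, e1⟩ := step x z hx hzC hQx hQz hxz hi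
    obtain ⟨g2, hg2, e2⟩ := step z (c • x) hzC hy hQz hQy (by rw [polar_smul_right, polar_comm _ z x, hxz, smul_zero])
      fun k l h => by
        rw [smul_smul, add_comm] at h
        obtain ⟨a1, a2⟩ := hi _ _ h
        exact ⟨a2, (mul_eq_zero.mp a1).resolve_right hc⟩
    exact ⟨g2 * g1, mul_mem hg2 hg1, by rw [app_mul, e1, e2]⟩
  obtain ⟨z, hz0, hQz, hzC, hzv⟩ := exists_singular_extra h2 hQ (C := C) (k := 2) ![x, y] (by omega)
  have hxz : B x z = 0 := hzv 0
  have hyz : B y z = 0 := hzv 1
  obtain ⟨g1, hg1, e1⟩ := step x z hx hzC hQx hQz hxz fun k l h => by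
    have hk : k = 0 := by
      have := congrArg (fun w => B y w) h
      simp only [polar_add_right, polar_smul_right, hyz, polar_comm (⇑Q) y x, smul_eq_mul,
        mul_zero, add_zero, polar_zero_right, mul_eq_zero, hxy, or_false] at this
      exact this
    subst hk
    rw [zero_smul, zero_add, smul_eq_zero] at h
    exact ⟨rfl, h.resolve_right hz0⟩
  obtain ⟨g2, hg2, e2⟩ := step z y hzC hy hQz hQy (by rw [polar_comm, hyz]) fun k l h => by
    have hl : l = 0 := by
      have := congrArg (fun w => B x w) h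
      simp only [polar_add_right, polar_smul_right, hxz, smul_eq_mul,
        mul_zero, zero_add, polar_zero_right, mul_eq_zero, hxy, or_false] at this
      exact this
    subst hl
    rw [zero_smul, add_zero, smul_eq_zero] at h
    exact ⟨h.resolve_right hz0, rfl⟩
  exact ⟨g2 * g1, mul_mem hg2 hg1, by rw [app_mul, e1, e2]⟩

/-- The long root elements inside the complement of `C`. -/
def longSet (Q : QuadraticForm F (ι → F)) (C : Set (ι → F)) : Set ↥(Cfsg.isometryGroup F ⇑Q) :=
  {g | ∃ u w, IsEic g u w ∧ Q u = 0 ∧ Q w = 0 ∧ polar ⇑Q u w = 0 ∧ Perp Q C u ∧ Perp Q C w}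

/-- In dimension at least five the long root elements generate. -/
theorem eGroup_le_long (hn : 5 ≤ Fintype.card ι) (hC : Nd Q C) (hd : 5 ≤ Module.finrank F (perpSub Q C)) :
    eGroup Q C ≤ Subgroup.closure (longSet Q C) := by
  refine (Subgroup.closure_le _).mpr ?_
  rintro g ⟨e, a, hg, hQe, hea, he, ha⟩
  rcases eq_or_ne e 0 with rfl | he0
  · rw [show g = 1 from isometry_ext fun x => by rw [hg, eichler_zero_left, app_one]]
    exact one_mem _
  obtain ⟨f, hf, hQf, hef⟩ := exists_partner_perp hC he he0 hQe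
  have hC' := nd_insert_pair hC he hf hQe hQf hef
  have hd' := finrank_insert_pair he hf hQe hQf hef
  obtain ⟨r, hr0, hQr, hrC', -⟩ := exists_singular_extra h2 hQ (C := insert e (insert f C)) (k := 0) ![]
    (by omega)
  obtain ⟨s, hsC', hQs, hrs⟩ := exists_partner_perp hC' hrC' hr0 hQr
  rw [perp_insert, perp_insert] at hrC' hsC'
  have single : ∀ b, Perp Q C b → B e b = 0 → Q b = 0 → ∀ {g : O}, IsEic g e b →
      g ∈ Subgroup.closure (longSet Q C) := fun b hb heb hQb g hg =>
    Subgroup.subset_closure ⟨e, b, hg, hQe, hQb, heb, he, hb⟩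
  have key : ∀ b, Perp Q C b → B e b = 0 → B r b ≠ 0 → ∀ {g : O}, IsEic g e b →
      g ∈ Subgroup.closure (longSet Q C) := by
    intro b hb heb hrb g hg
    set k := Q b / B r b with hk
    have h1 : B e (k • r) = 0 := by rw [polar_smul_right, hrC'.1, smul_zero]
    have h3 : B e (b - k • r) = 0 := by rw [polar_sub_right, heb, h1, sub_zero]
    obtain ⟨g1, -, hg1⟩ := exists_eic h2 hQ hn hQe h3
    obtain ⟨g2, -, hg2⟩ := exists_eic h2 hQ hn hQe h1
    have h := hg1.mul hQe h3 h1 hg2
    rw [sub_add_cancel] at h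
    rw [hg.unique h]
    refine mul_mem (single _ (hb.sub (hrC'.2.2.smul _)) h3 ?_ hg1) (single _ (hrC'.2.2.smul _) h1 ?_ hg2)
    · rw [sub_eq_add_neg, QuadraticMap.map_add (⇑Q), ← neg_smul, QuadraticMap.map_smul, hQr,
        polar_smul_right, polar_comm _ b r, smul_zero, smul_eq_mul, hk, neg_mul,
        div_mul_cancel₀ _ hrb]
      ring
    · rw [QuadraticMap.map_smul, hQr, smul_zero]
  by_cases hra : B r a = 0
  · have h1 : B e (a + s) = 0 := by rw [polar_add_right, hea, hsC'.1, add_zero]
    have h3 : B e (-s) = 0 := by rw [polar_neg_right, hsC'.1, neg_zero]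
    obtain ⟨g1, -, hg1⟩ := exists_eic h2 hQ hn hQe h1
    obtain ⟨g2, -, hg2⟩ := exists_eic h2 hQ hn hQe h3
    have h := hg1.mul hQe h1 h3 hg2
    rw [add_neg_cancel_right] at h
    rw [hg.unique h]
    exact mul_mem (key _ (ha.add hsC'.2.2) h1 (by rw [polar_add_right, hra, hrs, zero_add]; exact one_ne_zero) hg1)
      (single _ hsC'.2.2.neg h3 (by rw [QuadraticMap.map_neg, hQs]) hg2)
  · exact key a ha hea hra hg

end Cfsg.Agent.Lib.Schur.OrthMult
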