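import Cfsg.Agent.Lib.Schur.OrthCover
import Cfsg.Agent.Lib.Orth.NegOne

/-!
Central extensions of `Ω(Q)` (odd dimension at least seven) with kernel of exponent `p`, the characteristic:
the unipotent radical of a hyperbolic pair has a lift meeting the kernel trivially and normalised by the
stabiliser of the pair.
-/

set_option autoImplicit false
set_option linter.unusedSectionVars false

namespace Cfsg.Agent.Lib.Schur.OrthMult

open QuadraticMap Cfsg.Agent.Lib.Orth Cfsg.Agent.Lib.Schur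
open scoped commutatorElement

variable {ι : Type} [Fintype ι] [DecidableEq ι] {F : Type*} [Field F] {Q : QuadraticForm F (ι → F)}
variable {Γ : Type*} [Group Γ] {p : ℕ}

set_option quotPrecheck false in
local notation "O" => ↥(Cfsg.isometryGroup F ⇑Q)
local notation "V" => (ι → F)
set_option quotPrecheck false in
local notation "B" => polar ⇑Q

/-! ### Vectors -/

/-- The complement of an anisotropic vector inside a non-degenerate complement. -/
theorem nd_insert_aniso (h2 : (2 : F) ≠ 0) {C : Set V} (hC : Nd Q C) {d : V} (hd : Perp Q C d)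
    (hQd : Q d ≠ 0) : Nd Q (insert d C) := by
  intro x hx hxy
  rw [perp_insert] at hx
  have hdd : B d d ≠ 0 := by rw [polar_self_eq]; exact mul_ne_zero h2 hQd
  refine hC x hx.2 fun y hy => ?_
  have h := hxy (y - (B d y / B d d) • d) (perp_insert.mpr
    ⟨by rw [polar_sub_right, polar_smul_right, smul_eq_mul, div_mul_cancel₀ _ hdd, sub_self],
      hy.sub (hd.smul _)⟩)
  rwa [polar_sub_right, polar_smul_right, polar_comm _ x d, hx.1, smul_zero, sub_zero] at h

theorem finrank_insert_le {C : Set V} (d : V) :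
    Module.finrank F (perpSub Q C) ≤ Module.finrank F (perpSub Q (insert d C)) + 1 := by
  let L : perpSub Q C →ₗ[F] F := (QuadraticMap.polarBilin Q d).comp (perpSub Q C).subtype
  have h := L.finrank_range_add_finrank_ker
  have h1 : Module.finrank F L.range ≤ 1 := (Submodule.finrank_le _).trans_eq (Module.finrank_self F)
  have e1 : (perpSub Q (insert d C)) ≃ₗ[F] L.ker :=
    { toFun := fun x => ⟨⟨x.1, (perp_insert.mp x.2).2⟩, (perp_insert.mp x.2).1⟩
      map_add' := fun x y => rfl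
      map_smul' := fun k x => rfl
      invFun := fun x => ⟨x.1.1, perp_insert.mpr ⟨x.2, x.1.2⟩⟩
      left_inv := fun x => rfl
      right_inv := fun x => rfl }
  rw [e1.finrank_eq]
  omega

section

variable [Finite F] (h2 : (2 : F) ≠ 0) (hQ : (QuadraticMap.polarBilin Q).Nondegenerate)
include h2 hQ

/-- A vector of given value in a complement of dimension at least five, orthogonal to one more vector. -/
theorem exists_value_perp {C : Set V} (hC : Nd Q C) (hd : 5 ≤ Module.finrank F (perpSub Q C)) (v : V) (δ : F) :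
    ∃ x, Perp Q C x ∧ B v x = 0 ∧ Q x = δ := by
  obtain ⟨v', hv'C, hv'⟩ : ∃ v', Perp Q C v' ∧ ∀ y, Perp Q C y → B v y * B v v' = B v y := by
    by_cases h : ∃ y, Perp Q C y ∧ B v y ≠ 0
    · obtain ⟨y, hy, hy0⟩ := h
      exact ⟨(B v y)⁻¹ • y, hy.smul _, fun z _ => by
        rw [polar_smul_right, smul_eq_mul, inv_mul_cancel₀ hy0, mul_one]⟩
    · push Not at h
      exact ⟨0, perp_zero C, fun z hz => by rw [h z hz, zero_mul]⟩
  obtain ⟨z, hz0, hQz, hzC, hzv⟩ := exists_singular_extra h2 hQ (C := C) (k := 2) ![v, v'] (by omega)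
  obtain ⟨y0, hy0C, -, hzy0⟩ := exists_partner_perp hC hzC hz0 hQz
  set y := y0 - B v y0 • v' with hy
  have hvy : B v y = 0 := by
    rw [hy, polar_sub_right, polar_smul_right, smul_eq_mul, hv' y0 hy0C, sub_self]
  have hzy : B z y = 1 := by
    rw [hy, polar_sub_right, polar_smul_right, hzy0, polar_comm _ z v', show B v' z = 0 from hzv 1, smul_zero,
      sub_zero]
  refine ⟨y + (δ - Q y) • z, (hy0C.sub (hv'C.smul _)).add (hzC.smul _), ?_, ?_⟩
  · rw [polar_add_right, polar_smul_right, hvy, show B v z = 0 from hzv 0, smul_zero, add_zero]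
  · rw [QuadraticMap.map_add (⇑Q), QuadraticMap.map_smul, hQz, polar_smul_right, polar_comm _ y z, hzy,
      smul_zero, smul_eq_mul, mul_one]
    ring

/-- The singular vectors span a complement of dimension at least three. -/
theorem singular_induction {C : Set V} (hC : Nd Q C) (hd : 3 ≤ Module.finrank F (perpSub Q C)) {P : V → Prop}
    (hadd : ∀ x y, Perp Q C x → Perp Q C y → P x → P y → P (x + y))
    (hsing : ∀ x, Perp Q C x → Q x = 0 → P x) {v : V} (hv : Perp Q C v) : P v := by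
  obtain ⟨u, hu0, hQu, huC, -⟩ := exists_singular_extra h2 hQ (C := C) (k := 0) ![] (by omega)
  obtain ⟨u', hu'C, hQu', huu⟩ := exists_partner_perp hC huC hu0 hQu
  set a := B u' v with ha
  set b := B u v with hb
  set v0 := v - a • u - b • u' with hv0d
  have hv0C : Perp Q C v0 := (hv.sub (huC.smul _)).sub (hu'C.smul _)
  have h1 : B u v0 = 0 := by
    rw [hv0d, polar_sub_right, polar_sub_right, polar_smul_right, polar_smul_right, polar_self_zero hQu, huu,
      smul_zero, smul_eq_mul, mul_one, sub_zero, hb, sub_self]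
  have h1' : B u' v0 = 0 := by
    rw [hv0d, polar_sub_right, polar_sub_right, polar_smul_right, polar_smul_right, polar_self_zero hQu',
      polar_comm _ u' u, huu, smul_zero, smul_eq_mul, mul_one, sub_zero, ha, sub_self]
  set w := v0 + u + (-Q v0) • u' with hw
  have hwC : Perp Q C w := (hv0C.add huC).add (hu'C.smul _)
  have hQw : Q w = 0 := by
    rw [hw, QuadraticMap.map_add (⇑Q), QuadraticMap.map_add (⇑Q) v0 u, QuadraticMap.map_smul, hQu, hQu',
      polar_smul_right, polar_add_left, polar_comm _ v0 u', h1', huu, polar_comm _ v0 u, h1, smul_eq_mul,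
      smul_eq_mul]
    ring
  have hs : ∀ (c : F) {x : V}, Perp Q C x → Q x = 0 → P (c • x) := fun c x hx h => hsing _ (hx.smul c) (by
    rw [QuadraticMap.map_smul, h, smul_zero])
  have e : v = w + ((a - 1) • u + (b + Q v0) • u') := by
    rw [hw, hv0d]; module
  rw [e]
  exact hadd _ _ hwC ((huC.smul _).add (hu'C.smul _)) (hsing w hwC hQw)
    (hadd _ _ (huC.smul _) (hu'C.smul _) (hs _ huC hQu) (hs _ hu'C hQu'))

end

/-- The pair `e, f` as a set. -/
def pairSet (e f : ι → F) : Set (ι → F) := insert e (insert f ∅)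

theorem perp_pairSet {e f a : V} : Perp Q (pairSet e f) a ↔ B e a = 0 ∧ B f a = 0 := by
  simp [pairSet, Perp]

theorem eichler_smul_left {e a : V} (c : F) (x : V) : eichler Q (c • e) a x = eichler Q e (c • a) x := by
  simp only [eichler, polar_smul_left, QuadraticMap.map_smul, smul_eq_mul]
  module

/-- `e, f` is a hyperbolic pair. -/
structure HPair (Q : QuadraticForm F (ι → F)) (e f : ι → F) : Prop where
  se : Q e = 0
  sf : Q f = 0
  ef : polar ⇑Q e f = 1

/-- The lifted radical: `σ x` is the Eichler transformation of `e` and `a`. -/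
def RadElt (σ : Γ →* ↥(Cfsg.isometryGroup F ⇑Q)) (e f : ι → F) (x : Γ) (a : ι → F) : Prop :=
  IsEic (σ x) e a ∧ Perp Q (pairSet e f) a

/-- The radical of the pair lifts, normalised by the lifts of the stabiliser of the pair. -/
def RadLift (σ : Γ →* ↥(Cfsg.isometryGroup F ⇑Q)) (e f : ι → F) : Prop :=
  ∃ Q0 : Subgroup Γ, (∀ x ∈ Q0, ∃ a, RadElt σ e f x a) ∧
    (∀ a, Perp Q (pairSet e f) a → ∃ x ∈ Q0, RadElt σ e f x a) ∧ Q0 ⊓ σ.ker = ⊥ ∧
    ∀ γ : Γ, app (σ γ) e = e → app (σ γ) f = f → ∀ x ∈ Q0, γ * x * γ⁻¹ ∈ Q0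

/-- In exponent `p` odd an element equal to its inverse is trivial. -/
theorem eq_one_of_pow_sq {G : Type*} [Group G] (hp2 : Odd p) {z : G} (h : z ^ p = 1) (hz : z * z = 1) :
    z = 1 := by
  obtain ⟨k, rfl⟩ := hp2
  rwa [pow_succ, pow_mul, pow_two, hz, one_pow, one_mul] at h

section

variable {σ : Γ →* ↥(Cfsg.isometryGroup F ⇑Q)} {e f : ι → F}

theorem radElt_one : RadElt σ e f (1 : Γ) 0 := ⟨by rw [map_one]; exact isEic_one e, perp_zero _⟩

theorem RadElt.mul (hP : HPair Q e f) {x y : Γ} {a b : V} (hx : RadElt σ e f x a) (hy : RadElt σ e f y b) :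
    RadElt σ e f (x * y) (a + b) :=
  ⟨by rw [map_mul]; exact hx.1.mul hP.se (perp_pairSet.mp hx.2).1 (perp_pairSet.mp hy.2).1 hy.1, hx.2.add hy.2⟩

theorem RadElt.inv (hP : HPair Q e f) {x : Γ} {a : V} (hx : RadElt σ e f x a) : RadElt σ e f x⁻¹ (-a) :=
  ⟨by rw [map_inv]; exact hx.1.inv hP.se (perp_pairSet.mp hx.2).1, hx.2.neg⟩

theorem RadElt.conj {x γ : Γ} {a : V} (hx : RadElt σ e f x a) (he : app (σ γ) e = e)
    (hf : app (σ γ) f = f) : RadElt σ e f (γ * x * γ⁻¹) (app (σ γ) a) := by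
  refine ⟨?_, perp_pairSet.mpr ⟨?_, ?_⟩⟩
  · have := hx.1.conj (σ γ)
    rwa [he, ← map_inv, ← map_mul, ← map_mul] at this
  · conv_lhs => rw [← he]
    rw [polar_app, (perp_pairSet.mp hx.2).1]
  · conv_lhs => rw [← hf]
    rw [polar_app, (perp_pairSet.mp hx.2).2]

theorem RadElt.mul_ker {x z : Γ} {a : V} (hx : RadElt σ e f x a) (hz : σ z = 1) :
    RadElt σ e f (x * z) a := ⟨by rw [map_mul, hz, mul_one]; exact hx.1, hx.2⟩

theorem RadElt.unique {x y : Γ} {a : V} (hx : RadElt σ e f x a) (hy : RadElt σ e f y a) : σ x = σ y :=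
  hx.1.unique hy.1

theorem RadElt.inj (hP : HPair Q e f) {x y : Γ} {a b : V} (hx : RadElt σ e f x a) (hy : RadElt σ e f y b)
    (h : σ x = σ y) : a = b := by
  have h1 := congrArg (fun g => app g f) h
  rw [show app (σ x) f = _ from hx.1 f, show app (σ y) f = _ from hy.1 f] at h1
  simp only [eichler, hP.ef, polar_comm (⇑Q) a f, (perp_pairSet.mp hx.2).2, polar_comm (⇑Q) b f,
    (perp_pairSet.mp hy.2).2, zero_add, mul_one, one_smul] at h1
  have h3 : a - Q a • e = b - Q b • e := by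
    rw [add_sub_assoc, add_sub_assoc] at h1
    exact add_left_cancel h1
  have h4 := congrArg (fun z => B f z) h3
  simp only [polar_sub_right, polar_smul_right, (perp_pairSet.mp hx.2).2, (perp_pairSet.mp hy.2).2,
    polar_comm (⇑Q) f e, hP.ef, smul_eq_mul, mul_one, zero_sub, neg_inj] at h4
  rwa [h4, sub_left_inj] at h3

theorem RadElt.eq_zero (hP : HPair Q e f) {x : Γ} {a : V} (hx : RadElt σ e f x a) (h : σ x = 1) : a = 0 :=
  hx.inj hP radElt_one (by rw [h, map_one])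

theorem RadElt.commute_image (hP : HPair Q e f) {x y : Γ} {a b : V} (hx : RadElt σ e f x a)
    (hy : RadElt σ e f y b) : σ (x * y) = σ (y * x) := by
  have h := hy.mul hP hx
  rw [add_comm] at h
  exact (hx.mul hP hy).unique h

variable [Finite F] (h2 : (2 : F) ≠ 0) (hQ : (QuadraticMap.polarBilin Q).Nondegenerate)
  (hn : 7 ≤ Fintype.card ι) (hr : σ.range = siegelGroup Q) (hc : σ.ker ≤ Subgroup.center Γ)
  (hP : HPair Q e f)

include h2 hQ hn hr in
theorem exists_preimage {g : O} (hg : g ∈ siegelGroup Q) : ∃ γ : Γ, σ γ = g := by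
  rw [← hr] at hg; exact hg

include h2 hQ hn hr hP in
theorem exists_radElt {a : V} (ha : Perp Q (pairSet e f) a) : ∃ x : Γ, RadElt σ e f x a := by
  obtain ⟨g, hg, hga⟩ := exists_eic h2 hQ (by omega) hP.se (perp_pairSet.mp ha).1
  obtain ⟨x, rfl⟩ := exists_preimage h2 hQ hn hr hg
  exact ⟨x, hga, ha⟩

include h2 hQ hn hr in
/-- The stabiliser of the pair moves a vector by a singular vector fixing an orthogonal one. -/
theorem exists_move {z y : V} (hz : Perp Q (pairSet e f) z) (hy : Perp Q (pairSet e f) y) (hQz : Q z = 0)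
    (hQy : Q y = 0) (hzy : B z y = 0) :
    ∃ γ : Γ, app (σ γ) e = e ∧ app (σ γ) f = f ∧ app (σ γ) y = y ∧
      ∀ x, B z x = 0 → B y x = 1 → app (σ γ) x = x - z := by
  obtain ⟨g, hg, hgz⟩ := exists_eic h2 hQ (by omega) hQz hzy
  obtain ⟨γ, rfl⟩ := exists_preimage h2 hQ hn hr hg
  obtain ⟨hze, hzf⟩ := perp_pairSet.mp hz
  obtain ⟨hye, hyf⟩ := perp_pairSet.mp hy
  refine ⟨γ, ?_, ?_, ?_, fun x hx1 hx2 => ?_⟩
  · rw [hgz, eichler_fix (by rw [polar_comm]; exact hze) (by rw [polar_comm]; exact hye)]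
  · rw [hgz, eichler_fix (by rw [polar_comm]; exact hzf) (by rw [polar_comm]; exact hyf)]
  · rw [hgz, eichler_fix hzy (polar_self_zero hQy)]
  · rw [hgz, eichler, hx1, hx2, zero_smul, mul_zero, add_zero, add_zero, one_smul]

variable (hn' : Odd (Fintype.card ι))

include h2 hQ hn hP in
theorem pair_facts : Nd Q (pairSet e f) ∧ Module.finrank F (perpSub Q (pairSet e f)) + 2 = Fintype.card ι := by
  have he : Perp Q (∅ : Set V) e := by simp [Perp]
  have hf : Perp Q (∅ : Set V) f := by simp [Perp]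
  refine ⟨nd_insert_pair (nd_empty hQ) he hf hP.se hP.sf hP.ef, ?_⟩
  rw [pairSet, finrank_insert_pair he hf hP.se hP.sf hP.ef, finrank_empty h2 hQ]

include h2 hQ hn hP in
/-- A singular vector orthogonal to a given one and independent of it. -/
theorem exists_indep {z : V} (hz : Perp Q (pairSet e f) z) (hz0 : z ≠ 0) (hQz : Q z = 0) :
    ∃ w, Perp Q (pairSet e f) w ∧ Q w = 0 ∧ B z w = 0 ∧ ∀ k l : F, k • z + l • w = 0 → k = 0 ∧ l = 0 := by
  obtain ⟨hC, hd⟩ := pair_facts h2 hQ hn hP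
  obtain ⟨z', hz', -, hzz⟩ := exists_partner_perp hC hz hz0 hQz
  obtain ⟨w, hw0, hQw, hwC, hwv⟩ := exists_singular_extra h2 hQ (C := pairSet e f) (k := 2) ![z, z'] (by omega)
  refine ⟨w, hwC, hQw, hwv 0, fun k l h => ?_⟩
  have h' := congrArg (fun t => B z' t) h
  simp only [polar_add_right, polar_smul_right, polar_comm (⇑Q) z' z, hzz, show B z' w = 0 from hwv 1,
    smul_eq_mul, mul_one, mul_zero, add_zero, QuadraticMap.polar_zero_right Q] at h'
  refine ⟨h', ?_⟩
  rw [h', zero_smul, zero_add, smul_eq_zero, or_iff_left hw0] at h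
  exact h

variable (hp : Odd p) (hK : ∀ z ∈ σ.ker, z ^ p = 1)

include h2 hQ hn hr hc hP hp hK in
theorem radical_commute {x y : Γ} {a b : V} (hx : RadElt σ e f x a) (hy : RadElt σ e f y b) :
    Commute x y := by
  classical
  obtain ⟨hC, hd⟩ := pair_facts h2 hQ hn hP
  set C := pairSet e f with hCd
  have hex : ∀ a, ∃ x : Γ, Perp Q C a → RadElt σ e f x a := fun a => by
    by_cases h : Perp Q C a
    · obtain ⟨x, hx⟩ := exists_radElt h2 hQ hn hr hP h; exact ⟨x, fun _ => hx⟩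
    · exact ⟨1, fun h' => absurd h' h⟩
  choose A hA using hex
  have hkc : ∀ {z : Γ}, σ z = 1 → ∀ y : Γ, y * z = z * y := fun hz y => Subgroup.mem_center_iff.mp (hc hz) y
  let c : V → V → Γ := fun a b => ⁅A a, A b⁆
  have hck : ∀ {a b}, Perp Q C a → Perp Q C b → σ (c a b) = 1 := fun {a b} ha hb => by
    show σ ⁅_, _⁆ = 1
    rw [map_commutatorElement, commutatorElement_eq_one_iff_mul_comm, ← map_mul, ← map_mul]
    exact (hA a ha).commute_image hP (hA b hb)
  -- independence of the choice of lifts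
  have hrep : ∀ {x y : Γ} {a b : V}, RadElt σ e f x a → RadElt σ e f y b → ⁅x, y⁆ = c a b := by
    intro x y a b hx hy
    obtain ⟨z, hz, rfl⟩ : ∃ z, σ z = 1 ∧ x = A a * z := ⟨(A a)⁻¹ * x, by
      rw [map_mul, map_inv, (hA a hx.2).unique hx, inv_mul_cancel], by group⟩
    obtain ⟨w, hw, rfl⟩ : ∃ w, σ w = 1 ∧ y = A b * w := ⟨(A b)⁻¹ * y, by
      rw [map_mul, map_inv, (hA b hy.2).unique hy, inv_mul_cancel], by group⟩
    have e1 : ∀ (u v : Γ) {z : Γ}, σ z = 1 → ⁅u * z, v⁆ = ⁅u, v⁆ := fun u v {z} hz => by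
      simp only [commutatorElement_def]
      rw [show u * z * v * (u * z)⁻¹ * v⁻¹ = u * (z * v) * z⁻¹ * u⁻¹ * v⁻¹ by group, ← hkc hz v]
      group
    rw [e1 _ _ hz, ← commutatorElement_inv, e1 _ _ hw, commutatorElement_inv]
  have hcl : ∀ {a b y : V}, Perp Q C a → Perp Q C b → Perp Q C y → c (a + b) y = c a y * c b y := by
    intro a b y ha hb hy
    rw [← hrep ((hA a ha).mul hP (hA b hb)) (hA y hy), show ⁅A a * A b, A y⁆ = A a * c b y * (A a)⁻¹ * c a y by
      simp only [c, commutatorElement_def]; group, hkc (hck hb hy), mul_inv_cancel_right, hkc (hck ha hy)]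
  have hcs : ∀ a b : V, c b a = (c a b)⁻¹ := fun a b => (commutatorElement_inv _ _).symm
  have hcr : ∀ {a b y : V}, Perp Q C a → Perp Q C b → Perp Q C y → c y (a + b) = c y a * c y b := by
    intro a b y ha hb hy
    rw [hcs (a + b) y, hcl ha hb hy, _root_.mul_inv_rev, ← hcs a y, ← hcs b y, hkc (hck hy ha)]
  have hinv : ∀ {γ : Γ}, app (σ γ) e = e → app (σ γ) f = f → ∀ {a b}, Perp Q C a → Perp Q C b →
      c (app (σ γ) a) (app (σ γ) b) = c a b := by
    intro γ he hf a b ha hb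
    rw [← hrep ((hA a ha).conj he hf) ((hA b hb).conj he hf)]
    have : ⁅γ * A a * γ⁻¹, γ * A b * γ⁻¹⁆ = γ * c a b * γ⁻¹ := by
      simp only [c, commutatorElement_def]; group
    rw [this, hkc (hck ha hb), mul_inv_cancel_right]
  -- orthogonal singular vectors
  have case1 : ∀ {z y : V}, Perp Q C z → Perp Q C y → Q z = 0 → Q y = 0 → B z y = 0 →
      (∀ k l : F, k • z + l • y = 0 → k = 0 ∧ l = 0) → c z y = 1 := by
    intro z y hz hy hQz hQy hzy hind
    obtain ⟨x, hx, hyx, hzx⟩ := exists_dual hC hy hz (fun k l h => (hind l k (by rwa [add_comm])).symm)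
    obtain ⟨γ, he, hf, hgy, hgx⟩ := exists_move h2 hQ hn hr hz hy hQz hQy hzy
    have h := hinv he hf hx hy
    have h' := hcl (hx.sub hz) hz hy
    rw [sub_add_cancel] at h'
    rwa [hgy, hgx x hzx hyx, h', left_eq_mul] at h
  have hzero : ∀ {b}, Perp Q C b → c 0 b = 1 := fun {b} hb => by
    have h := hcl (perp_zero C) (perp_zero C) hb
    rwa [add_zero, left_eq_mul] at h
  have case2 : ∀ {z y : V}, Perp Q C z → Perp Q C y → Q z = 0 → Q y = 0 → B z y = 0 → c z y = 1 := by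
    intro z y hz hy hQz hQy hzy
    by_cases hz0 : z = 0
    · rw [hz0]; exact hzero hy
    by_cases hind : ∀ k l : F, k • z + l • y = 0 → k = 0 ∧ l = 0
    · exact case1 hz hy hQz hQy hzy hind
    push Not at hind
    obtain ⟨k, l, hkl, hkl'⟩ := hind
    obtain ⟨s, rfl⟩ := eq_smul_of_dependent hz0 hkl hkl'
    obtain ⟨w, hw, hQw, hzw, hind'⟩ := exists_indep h2 hQ hn hP hz hz0 hQz
    have h1 : c z (s • z + w) = 1 := case1 hz ((hz.smul _).add hw) hQz
      (by rw [QuadraticMap.map_add (⇑Q), QuadraticMap.map_smul, hQz, hQw, polar_smul_left, hzw, smul_zero,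
        add_zero, smul_zero, add_zero])
      (by rw [polar_add_right, hzy, hzw, add_zero]) (fun a b h => by
        obtain ⟨h1, h3⟩ := hind' (a + b * s) b (by rw [← h]; module)
        rw [h3, zero_mul, add_zero] at h1
        exact ⟨h1, h3⟩)
    rwa [hcr (hz.smul _) hw hz, case1 hz hw hQz hQw hzw hind', mul_one] at h1
  -- hyperbolic pairs
  have trick : ∀ {z w r s : V}, Perp Q C z → Perp Q C w → Perp Q C r → Perp Q C s → Q z = 0 → Q w = 0 →
      Q r = 0 → Q s = 0 → B z r = 0 → B z s = 0 → B w r = 0 → B w s = 0 → B z w = B r s → c z w = c r s := by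
    intro z w r s hz hw hr' hs hQz hQw hQr hQs hzr hzs hwr hws hβ
    have h : c (z + r) (w + -s) = 1 := case2 (hz.add hr') (hw.add hs.neg)
      (by rw [QuadraticMap.map_add (⇑Q), hQz, hQr, hzr, add_zero, add_zero])
      (by rw [QuadraticMap.map_add (⇑Q), QuadraticMap.map_neg, hQw, hQs, polar_neg_right, hws, neg_zero,
        add_zero, add_zero])
      (by rw [polar_add_left, polar_add_right, polar_add_right, polar_neg_right, polar_neg_right, hzs,
        polar_comm _ r w, hwr, hβ, neg_zero, add_zero, zero_add, add_neg_cancel])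
    rw [hcl hz hr' (hw.add hs.neg), hcr hw hs.neg hz, hcr hw hs.neg hr',
      case2 hz hs.neg hQz (by rw [QuadraticMap.map_neg, hQs]) (by rw [polar_neg_right, hzs, neg_zero]),
      case2 hr' hw hQr hQw (by rw [polar_comm, hwr]), mul_one, one_mul] at h
    rw [mul_eq_one_iff_eq_inv] at h
    have hneg : c r (-s) = (c r s)⁻¹ := by
      refine eq_inv_of_mul_eq_one_left ?_
      rw [← hcr hs.neg hs hr', neg_add_cancel, hcs 0 r, hzero hr', inv_one]
    rw [h, hneg, inv_inv]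
  have sing : ∀ {z w : V}, Perp Q C z → Perp Q C w → Q z = 0 → Q w = 0 → c z w = 1 := by
    intro z w hz hw hQz hQw
    by_cases hzw : B z w = 0
    · exact case2 hz hw hQz hQw hzw
    obtain ⟨w', hw'⟩ : ∃ w', w' = (B z w)⁻¹ • w := ⟨_, rfl⟩
    have hQw' : Q w' = 0 := by rw [hw', QuadraticMap.map_smul, hQw, smul_zero]
    have hzw' : B z w' = 1 := by rw [hw', polar_smul_right, smul_eq_mul, inv_mul_cancel₀ hzw]
    have hd2 := finrank_insert_pair hz (show Perp Q C w' from hw' ▸ hw.smul _) hQz hQw' hzw'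
    obtain ⟨r, hr0, hQr, hrC, -⟩ := exists_singular_extra h2 hQ
      (C := insert z (insert w' C)) (k := 0) ![] (by omega)
    obtain ⟨s, hsC, hQs, hrs⟩ :=
      exists_partner_perp (nd_insert_pair hC hz (show Perp Q C w' from hw' ▸ hw.smul _) hQz hQw' hzw') hrC hr0 hQr
    rw [perp_insert, perp_insert] at hrC hsC
    have hwz : ∀ t, B w' t = 0 → B w t = 0 := fun t ht => by
      rw [hw', polar_smul_left, smul_eq_mul, mul_eq_zero] at ht
      exact ht.resolve_left (inv_ne_zero hzw)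
    set β := B z w with hβ
    have hQs' : Q (β • s) = 0 := by rw [QuadraticMap.map_smul, hQs, smul_zero]
    have h1 := trick (z := z) (w := w) (r := r) (s := β • s) hz hw hrC.2.2 (hsC.2.2.smul _) hQz hQw hQr hQs'
      hrC.1 (by rw [polar_smul_right, hsC.1, smul_zero]) (hwz r hrC.2.1)
      (by rw [polar_smul_right, hwz s hsC.2.1, smul_zero])
      (by rw [polar_smul_right, hrs, smul_eq_mul, mul_one])
    have h3 := trick (z := z) (w := w) (r := β • s) (s := r) hz hw (hsC.2.2.smul _) hrC.2.2 hQz hQw hQs' hQr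
      (by rw [polar_smul_right, hsC.1, smul_zero]) hrC.1 (by rw [polar_smul_right, hwz s hsC.2.1, smul_zero])
      (hwz r hrC.2.1) (by rw [polar_smul_left, polar_comm _ s r, hrs, smul_eq_mul, mul_one])
    rw [hcs r (β • s), ← h1] at h3
    exact eq_one_of_pow_sq hp (hK _ (hck hz hw)) (by nth_rw 2 [h3]; exact mul_inv_cancel _)
  have all : ∀ {a b : V}, Perp Q C a → Perp Q C b → c a b = 1 := by
    intro a b ha hb
    refine singular_induction h2 hQ hC (by omega) (P := fun v => c v b = 1)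
      (fun x y hx hy h1 h3 => by rw [hcl hx hy hb, h1, h3, mul_one]) (fun x hx hQx => ?_) ha
    exact singular_induction h2 hQ hC (by omega) (P := fun v => c x v = 1)
      (fun y y' hy hy' h1 h3 => by rw [hcr hy hy' hx, h1, h3, mul_one]) (fun y hy hQy => sing hx hy hQx hQy) hb
  exact commutatorElement_eq_one_iff_commute.mp ((hrep hx hy).trans (all hx.2 hy.2))

variable [CharP F p]

include h2 hQ hn hr hc hP hp hK in
theorem radical_pow {x : Γ} {a : V} (hx : RadElt σ e f x a) : x ^ p = 1 := by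
  obtain ⟨hC, hd⟩ := pair_facts h2 hQ hn hP
  have hker : ∀ {z : Γ}, σ z = 1 → ∀ y : Γ, Commute y z := fun hz y => Subgroup.mem_center_iff.mp (hc hz) y
  have hrep : ∀ {x y : Γ} {a : V}, RadElt σ e f x a → RadElt σ e f y a → x ^ p = y ^ p := by
    intro x y a hx hy
    obtain ⟨z, hz, rfl⟩ : ∃ z, σ z = 1 ∧ y = x * z := ⟨x⁻¹ * y, by
      rw [map_mul, map_inv, hx.unique hy, inv_mul_cancel], by group⟩
    rw [(hker hz x).mul_pow, hK z hz, mul_one]
  suffices h : ∀ a, Perp Q (pairSet e f) a → ∀ x, RadElt σ e f x a → x ^ p = 1 from h a hx.2 x hx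
  intro a ha
  refine singular_induction h2 hQ hC (by omega) (P := fun v => ∀ x, RadElt σ e f x v → x ^ p = 1)
    (fun u v hu hv h1 h3 x hx => ?_) (fun z hz hQz x hx => ?_) ha
  · obtain ⟨y, hy⟩ := exists_radElt h2 hQ hn hr hP hu
    obtain ⟨y', hy'⟩ := exists_radElt h2 hQ hn hr hP hv
    rw [hrep hx (hy.mul hP hy'), (radical_commute h2 hQ hn hr hc hP hp hK hy hy').mul_pow, h1 y hy, h3 y' hy',
      mul_one]
  · by_cases hz0 : z = 0
    · subst hz0; rw [hrep hx radElt_one, one_pow]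
    obtain ⟨y, hy, hQy, hzy, hind⟩ := exists_indep h2 hQ hn hP hz hz0 hQz
    obtain ⟨v, hv, hyv, hzv⟩ := exists_dual hC hy hz (fun k l h => (hind l k (by rwa [add_comm])).symm)
    obtain ⟨γ, he, hf, -, hgv⟩ := exists_move h2 hQ hn hr hz hy hQz hQy hzy
    obtain ⟨w, hw⟩ := exists_radElt h2 hQ hn hr hP hv
    have hwk : σ (w ^ p) = 1 := by
      rw [map_pow]
      have h := hw.1.pow hP.se (perp_pairSet.mp hw.2).1 p
      rw [CharP.cast_eq_zero, zero_smul] at h
      exact h.unique (isEic_one e)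
    have hg := hw.conj he hf
    rw [hgv v hzv hyv] at hg
    have hm := hg.mul hP hx
    rw [sub_add_cancel] at hm
    have h := hrep hw hm
    rw [(radical_commute h2 hQ hn hr hc hP hp hK hg hx).mul_pow, conj_pow, (hker hwk γ).eq,
      mul_inv_cancel_right, left_eq_mul] at h
    exact h

include h2 hQ hn hr hc hP hp hK in
/-- Conjugation by a lift of an element scaling `e` gives the complement. -/
theorem radLift_of_scale {τ : Γ} {l : F} (hl : l ≠ 1) (he : app (σ τ) e = l • e)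
    (hfix : ∀ x, Perp Q (pairSet e f) x → app (σ τ) x = x)
    (hcomm : ∀ γ : Γ, app (σ γ) e = e → app (σ γ) f = f → Commute (σ γ) (σ τ)) : RadLift σ e f := by
  have hkc : ∀ {z : Γ}, σ z = 1 → ∀ y : Γ, Commute y z := fun hz y => Subgroup.mem_center_iff.mp (hc hz) y
  have hτ : ∀ {x : Γ} {a : V}, RadElt σ e f x a → RadElt σ e f (τ * x * τ⁻¹) (l • a) := by
    intro x a hx
    refine ⟨?_, hx.2.smul l⟩
    have h := hx.1.conj (σ τ)
    rw [he, hfix a hx.2, ← map_inv, ← map_mul, ← map_mul] at h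
    exact fun y => (h y).trans (eichler_smul_left l y)
  have hbr : ∀ {x : Γ} {a : V}, RadElt σ e f x a → RadElt σ e f ⁅τ, x⁆ ((l - 1) • a) := by
    intro x a hx
    have h := (hτ hx).mul hP (hx.inv hP)
    rwa [show l • a + -a = (l - 1) • a by module, ← commutatorElement_def] at h
  have hmul : ∀ {x y : Γ} {a b : V}, RadElt σ e f x a → RadElt σ e f y b → ⁅τ, x * y⁆ = ⁅τ, x⁆ * ⁅τ, y⁆ := by
    intro x y a b hx hy
    rw [show ⁅τ, x * y⁆ = ⁅τ, x⁆ * (x * ⁅τ, y⁆ * x⁻¹) by simp only [commutatorElement_def]; group,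
      (radical_commute h2 hQ hn hr hc hP hp hK hx (hbr hy)).eq, mul_inv_cancel_right]
  let Q0 : Subgroup Γ :=
    { carrier := {y | ∃ x a, RadElt σ e f x a ∧ y = ⁅τ, x⁆}
      one_mem' := ⟨1, 0, radElt_one, (commutatorElement_one_right τ).symm⟩
      mul_mem' := fun {y y'} ⟨x, a, hx, hy⟩ ⟨x', a', hx', hy'⟩ =>
        ⟨x * x', a + a', hx.mul hP hx', by rw [hy, hy', hmul hx hx']⟩
      inv_mem' := fun {y} ⟨x, a, hx, hy⟩ => ⟨x⁻¹, -a, hx.inv hP, inv_eq_of_mul_eq_one_right (by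
        rw [hy, ← hmul hx (hx.inv hP), mul_inv_cancel, commutatorElement_one_right])⟩ }
  refine ⟨Q0, ?_, fun a ha => ?_, ?_, ?_⟩
  · rintro _ ⟨x, a, hx, rfl⟩
    exact ⟨_, hbr hx⟩
  · obtain ⟨x, hx⟩ := exists_radElt h2 hQ hn hr hP (ha.smul (l - 1)⁻¹)
    refine ⟨_, ⟨x, _, hx, rfl⟩, ?_⟩
    have h := hbr hx
    rwa [smul_smul, mul_inv_cancel₀ (sub_ne_zero.mpr hl), one_smul] at h
  · rw [eq_bot_iff]
    rintro _ ⟨⟨x, a, hx, rfl⟩, hk⟩
    have h := (hbr hx).eq_zero hP hk
    rw [smul_eq_zero, or_iff_right (sub_ne_zero.mpr hl)] at h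
    subst h
    have hx1 : σ x = 1 := hx.1.unique (isEic_one e)
    rw [Subgroup.mem_bot, commutatorElement_eq_one_iff_commute]
    exact hkc hx1 τ
  · rintro γ hγe hγf _ ⟨x, a, hx, rfl⟩
    refine ⟨γ * x * γ⁻¹, _, hx.conj hγe hγf, ?_⟩
    have hz : σ (τ⁻¹ * (γ * τ * γ⁻¹)) = 1 := by
      rw [map_mul, map_mul, map_mul, map_inv, map_inv, (hcomm γ hγe hγf).eq, mul_inv_cancel_right, inv_mul_cancel]
    have e1 : ∀ z : Γ, σ z = 1 → ⁅τ * z, γ * x * γ⁻¹⁆ = ⁅τ, γ * x * γ⁻¹⁆ := by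
      intro z hz
      simp only [commutatorElement_def]
      rw [show τ * z * (γ * x * γ⁻¹) * (τ * z)⁻¹ = τ * (z * (γ * x * γ⁻¹)) * z⁻¹ * τ⁻¹ by group,
        ← (hkc hz (γ * x * γ⁻¹)).eq]
      group
    rw [← e1 _ hz, mul_inv_cancel_left]
    simp only [commutatorElement_def]
    group

include h2 hQ hn hr hc hP hp hK in
/-- Some unit squares to something other than one. -/
theorem radLift_big (μ : F) (hμ0 : μ ≠ 0) (hμ : μ ^ 2 ≠ 1) : RadLift σ e f := by
  have h1 : Q (e - f) = -1 := by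
    rw [sub_eq_add_neg, QuadraticMap.map_add (⇑Q), QuadraticMap.map_neg, hP.se, hP.sf, polar_neg_right, hP.ef,
      zero_add, zero_add]
  have h3 : Q (e - μ ^ 2 • f) = -μ ^ 2 := by
    rw [sub_eq_add_neg, QuadraticMap.map_add (⇑Q), QuadraticMap.map_neg, QuadraticMap.map_smul, hP.se, hP.sf,
      polar_neg_right, polar_smul_right, hP.ef, smul_zero, zero_add, zero_add, smul_eq_mul, mul_one]
  have ha : Q (e - f) ≠ 0 := by rw [h1]; exact neg_ne_zero.mpr one_ne_zero
  have hb : Q (e - μ ^ 2 • f) ≠ 0 := by rw [h3]; exact neg_ne_zero.mpr (pow_ne_zero 2 hμ0)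
  set t := refl Q (e - f) ha * refl Q (e - μ ^ 2 • f) hb with ht
  have htΩ : t ∈ siegelGroup Q := by
    rw [← omega_eq_siegelGroup h2 hQ (by omega), mem_omega_iff h2 hQ (by omega), ht, map_mul, map_mul,
      detSign_refl h2 hQ, detSign_refl h2 hQ]
    refine ⟨by decide, ?_⟩
    by_cases hs : IsSquare (-1 : F)
    · rw [spinor_refl_of_isSquare h2 ha (h1 ▸ hs), spinor_refl_of_isSquare h2 hb
        (by rw [h3, ← neg_one_mul]; exact hs.mul ⟨μ, pow_two μ⟩)]
      decide
    · rw [spinor_refl_of_not_isSquare h2 ha (h1 ▸ hs), spinor_refl_of_not_isSquare h2 hb (fun h => hs ?_)]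
      · decide
      · rw [h3] at h
        have := h.mul (⟨μ⁻¹, pow_two _⟩ : IsSquare (μ⁻¹ ^ 2))
        rwa [neg_mul, ← mul_pow, mul_inv_cancel₀ hμ0, one_pow] at this
  obtain ⟨τ, hτ⟩ := exists_preimage h2 hQ hn hr htΩ
  refine radLift_of_scale h2 hQ hn hr hc hP hp hK (τ := τ) hμ ?_ (fun x hx => ?_) (fun γ he hf => ?_)
  · have i1 : B (e - μ ^ 2 • f) e = -μ ^ 2 := by
      rw [polar_sub_left, polar_smul_left, polar_self_zero hP.se, polar_comm _ f e, hP.ef, smul_eq_mul, mul_one,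
        zero_sub]
    have i2 : B (e - f) f = 1 := by rw [polar_sub_left, polar_self_zero hP.sf, hP.ef, sub_zero]
    have i3 : app (refl Q (e - μ ^ 2 • f) hb) e = μ ^ 2 • f := by
      rw [app_refl, i1, h3]
      rw [show (-μ ^ 2)⁻¹ * -μ ^ 2 = (1 : F) from inv_mul_cancel₀ (neg_ne_zero.mpr (pow_ne_zero 2 hμ0))]
      module
    rw [hτ, ht, app_mul, i3, app_smul, app_refl, i2, h1]
    norm_num
  · obtain ⟨hxe, hxf⟩ := perp_pairSet.mp hx
    rw [hτ, ht, app_mul, app_refl_of_polar_eq_zero hb (by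
      rw [polar_sub_left, polar_smul_left, hxe, hxf, smul_zero, sub_zero]),
      app_refl_of_polar_eq_zero ha (by rw [polar_sub_left, hxe, hxf, sub_zero])]
  · have hg : σ γ * t * (σ γ)⁻¹ = t := by
      rw [ht, show σ γ * (refl Q (e - f) ha * refl Q (e - μ ^ 2 • f) hb) * (σ γ)⁻¹ =
        σ γ * refl Q (e - f) ha * (σ γ)⁻¹ * (σ γ * refl Q (e - μ ^ 2 • f) hb * (σ γ)⁻¹) by group,
        conj_refl, conj_refl]
      congr 1 <;> exact refl_congr _ _ (by simp only [app_sub, app_smul, he, hf])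
    rw [hτ]
    exact mul_inv_eq_iff_eq_mul.mp hg

/-- `-1` on the common complement of `d` and the pair. -/
noncomputable def flipElt (hP : HPair Q e f) (d : V) (hd : Q d ≠ 0) : O :=
  negOne Q * refl Q (e + f) (by rw [QuadraticMap.map_add (⇑Q), hP.se, hP.sf, hP.ef]; simp) *
    refl Q (e - f) (by
      rw [sub_eq_add_neg, QuadraticMap.map_add (⇑Q), QuadraticMap.map_neg, hP.se, hP.sf, polar_neg_right, hP.ef]
      simp) * refl Q d hd

theorem app_flipElt {d : V} (hdC : Perp Q (pairSet e f) d) (hd : Q d ≠ 0) (x : V) :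
    app (flipElt hP d hd) x = -x + (2 * B f x) • e + (2 * B e x) • f + (B d x / Q d) • d := by
  obtain ⟨hde, hdf⟩ := perp_pairSet.mp hdC
  have h1 : Q (e - f) = -1 := by
    rw [sub_eq_add_neg, QuadraticMap.map_add (⇑Q), QuadraticMap.map_neg, hP.se, hP.sf, polar_neg_right, hP.ef,
      zero_add, zero_add]
  have h3 : Q (e + f) = 1 := by rw [QuadraticMap.map_add (⇑Q), hP.se, hP.sf, hP.ef, zero_add, zero_add]
  rw [flipElt, app_mul, app_mul, app_mul, app_negOne, app_refl, app_refl, app_refl, h1, h3]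
  simp only [polar_add_left, polar_sub_left, polar_sub_right, polar_smul_right, smul_eq_mul, hde, hdf,
    polar_self_zero hP.se, polar_self_zero hP.sf, hP.ef, polar_comm (⇑Q) f e, div_eq_mul_inv]
  norm_num
  module

include h2 hQ hn hn' hP in
/-- Some class of anisotropic vectors has its flips in `Ω`. -/
theorem exists_flip_class : ∃ δ : F, δ ≠ 0 ∧ ∀ (d : V) (hd : Q d ≠ 0), Q d = δ →
    flipElt hP d hd ∈ siegelGroup Q := by
  have h1 : Q (e + f) ≠ 0 := by rw [QuadraticMap.map_add (⇑Q), hP.se, hP.sf, hP.ef]; simp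
  have h3 : Q (e - f) ≠ 0 := by
    rw [sub_eq_add_neg, QuadraticMap.map_add (⇑Q), QuadraticMap.map_neg, hP.se, hP.sf, polar_neg_right, hP.ef]
    simp
  have hdet : detSign Q h2 hQ (negOne Q) = -1 := by
    have hne : (-1 : F) ≠ 1 := fun h => h2 (by linear_combination -h)
    have hm : (((negOne Q : O) : Matrix.GeneralLinearGroup ι F) : Matrix ι ι F) = -1 :=
      mat_eq fun v => by rw [app_negOne, Matrix.neg_mulVec, Matrix.one_mulVec]
    simp [detSign, hm, Matrix.det_neg, hn'.neg_one_pow, hne]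
  have main : ∀ (d : V) (hd : Q d ≠ 0),
      spinor Q (negOne Q * refl Q (e + f) h1 * refl Q (e - f) h3) * spinor Q (refl Q d hd) = 1 →
      flipElt hP d hd ∈ siegelGroup Q := by
    intro d hd hs
    rw [← omega_eq_siegelGroup h2 hQ (by omega), mem_omega_iff h2 hQ (by omega)]
    refine ⟨?_, by rw [flipElt, map_mul]; exact hs⟩
    rw [flipElt, map_mul, map_mul, map_mul, hdet, detSign_refl h2 hQ, detSign_refl h2 hQ, detSign_refl h2 hQ]
    decide
  rcases Int.units_eq_one_or (spinor Q (negOne Q * refl Q (e + f) h1 * refl Q (e - f) h3)) with hs | hs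
  · obtain ⟨δ, hδ⟩ := FiniteField.exists_nonsquare (F := F) (by
      intro hch
      have := CharP.cast_eq_zero (R := F) (p := ringChar F)
      rw [hch] at this
      exact h2 (by exact_mod_cast this))
    refine ⟨δ, fun h => hδ (h ▸ IsSquare.zero), fun d hd hdd => main d hd ?_⟩
    rw [hs, spinor_refl_of_not_isSquare h2 hd (hdd ▸ hδ), mul_one]
  · refine ⟨1, one_ne_zero, fun d hd hdd => main d hd ?_⟩
    rw [hs, spinor_refl_of_isSquare h2 hd (hdd ▸ IsSquare.one)]
    decide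

/-- An element of the radical inverted by every lift of the flip at `d`. -/
def Inverted (σ : Γ →* ↥(Cfsg.isometryGroup F ⇑Q)) (hP : HPair Q e f) (d : V) (hd : Q d ≠ 0) (x : Γ) : Prop :=
  (∃ a, RadElt σ e f x a) ∧ ∀ τ : Γ, σ τ = flipElt hP d hd → τ * x * τ⁻¹ = x⁻¹

include h2 hQ hn hn' hr hc hP hp hK in
/-- Dimension at least nine. -/
theorem radLift_flip (h9 : 9 ≤ Fintype.card ι) : RadLift σ e f := by
  classical
  obtain ⟨hC, hdim⟩ := pair_facts h2 hQ hn hP
  set C := pairSet e f with hCd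
  obtain ⟨δ, hδ, hflip⟩ := exists_flip_class h2 hQ hn hP hn'
  have hkc : ∀ {z : Γ}, σ z = 1 → ∀ y : Γ, Commute y z := fun hz y => Subgroup.mem_center_iff.mp (hc hz) y
  have hcm : ∀ {x y : Γ} {a b : V}, RadElt σ e f x a → RadElt σ e f y b → Commute x y :=
    fun hx hy => radical_commute h2 hQ hn hr hc hP hp hK hx hy
  let Good : V → Prop := fun d => Perp Q C d ∧ Q d = δ
  have gne : ∀ {d}, Good d → Q d ≠ 0 := fun {d} h => h.2.symm ▸ hδ
  have h2δ : 2 * δ ≠ 0 := mul_ne_zero h2 hδ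
  have hlift : ∀ {d} (h : Good d), ∃ τ, σ τ = flipElt hP d (gne h) := fun {d} h =>
    exists_preimage h2 hQ hn hr (hflip d (gne h) h.2)
  let In : V → Γ → Prop := fun d x => ∃ h : Good d, Inverted σ hP d (gne h) x
  have hflipfix : ∀ {d} (h : Good d), app (flipElt hP d (gne h)) e = e ∧ app (flipElt hP d (gne h)) f = f := by
    intro d h
    obtain ⟨hde, hdf⟩ := perp_pairSet.mp h.1
    constructor
    · rw [app_flipElt hP h.1 (gne h), polar_comm _ f e, hP.ef, polar_self_zero hP.se, polar_comm _ d e, hde,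
        zero_div]
      module
    · rw [app_flipElt hP h.1 (gne h), hP.ef, polar_self_zero hP.sf, polar_comm _ d f, hdf, zero_div]
      module
  have hflipperp : ∀ {d} (h : Good d) {a}, Perp Q C a →
      app (flipElt hP d (gne h)) a = -a + (B d a / δ) • d := by
    intro d h a ha
    obtain ⟨hae, haf⟩ := perp_pairSet.mp ha
    rw [app_flipElt hP h.1 (gne h), hae, haf, h.2]
    module
  have hτconj : ∀ {d} (h : Good d) {τ : Γ}, σ τ = flipElt hP d (gne h) → ∀ {x : Γ} {a : V},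
      RadElt σ e f x a → RadElt σ e f (τ * x * τ⁻¹) (-a + (B d a / δ) • d) := by
    intro d h τ hτ x a hx
    obtain ⟨he, hf⟩ := hflipfix h
    have := hx.conj (γ := τ) (by rw [hτ, he]) (by rw [hτ, hf])
    rwa [hτ, hflipperp h hx.2] at this
  have in_perp : ∀ {d x a}, In d x → RadElt σ e f x a → B d a = 0 := by
    rintro d x a ⟨h, -, hi⟩ hx
    obtain ⟨τ, hτ⟩ := hlift h
    have e1 := (hτconj h hτ hx).inj hP (hx.inv hP) (by rw [hi τ hτ])
    rw [add_eq_left, smul_eq_zero, div_eq_zero_iff, or_iff_left hδ] at e1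
    exact e1.resolve_right fun h0 => gne h (by rw [h0, QuadraticMap.map_zero])
  have in_mul : ∀ {d x y}, In d x → In d y → In d (x * y) := by
    rintro d x y ⟨h, ⟨a, hx⟩, hix⟩ ⟨_, ⟨b, hy⟩, hiy⟩
    refine ⟨h, ⟨_, hx.mul hP hy⟩, fun τ hτ => ?_⟩
    rw [show τ * (x * y) * τ⁻¹ = (τ * x * τ⁻¹) * (τ * y * τ⁻¹) by group, hix τ hτ, hiy τ hτ,
      ← _root_.mul_inv_rev, (hcm hy hx).eq]
  have in_one : ∀ {d}, Good d → In d 1 := fun {d} h =>
    ⟨h, ⟨0, radElt_one⟩, fun τ _ => by rw [mul_one, mul_inv_cancel, inv_one]⟩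
  have in_inv : ∀ {d x}, In d x → In d x⁻¹ := by
    rintro d x ⟨h, ⟨a, hx⟩, hix⟩
    refine ⟨h, ⟨_, hx.inv hP⟩, fun τ hτ => ?_⟩
    rw [← conj_inv, hix τ hτ]
  have in_uniq : ∀ {d x y}, In d x → In d y → σ x = σ y → x = y := by
    intro d x y hx hy hxy
    obtain ⟨h, -, hi⟩ := in_mul (in_inv hx) hy
    have hz : σ (x⁻¹ * y) = 1 := by rw [map_mul, map_inv, hxy, inv_mul_cancel]
    obtain ⟨τ, hτ⟩ := hlift h
    have e1 := hi τ hτ
    rw [(hkc hz τ).eq, mul_inv_cancel_right, ← mul_eq_one_iff_eq_inv] at e1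
    exact inv_mul_eq_one.mp (eq_one_of_pow_sq hp (hK _ hz) e1)
  have in_ex : ∀ {d a}, Good d → Perp Q C a → B d a = 0 → ∃ x, In d x ∧ RadElt σ e f x a := by
    intro d a h ha hda
    obtain ⟨x, hx⟩ := exists_radElt h2 hQ hn hr hP ha
    obtain ⟨τ, hτ⟩ := hlift h
    have hx' := hτconj h hτ hx
    rw [hda, zero_div, zero_smul, add_zero] at hx'
    set w := τ * x * τ⁻¹ * x with hw
    have hwk : σ w = 1 := by
      have := (hx'.mul hP hx).1
      rw [neg_add_cancel] at this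
      exact this.unique (isEic_one e)
    obtain ⟨k, hk⟩ := hp
    have hwk' : σ (w ^ k) = 1 := by rw [map_pow, hwk, one_pow]
    refine ⟨x * w ^ k, ⟨h, ⟨a, hx.mul_ker hwk'⟩, fun τ' hτ' => ?_⟩, hx.mul_ker hwk'⟩
    have hzz : σ (τ⁻¹ * τ') = 1 := by rw [map_mul, map_inv, hτ, hτ', inv_mul_cancel]
    have e1 : τ' * (x * w ^ k) * τ'⁻¹ = τ * (x * w ^ k) * τ⁻¹ := by
      rw [show τ' * (x * w ^ k) * τ'⁻¹ = τ * ((τ⁻¹ * τ') * (x * w ^ k)) * (τ⁻¹ * τ')⁻¹ * τ⁻¹ by group,
        ← (hkc hzz (x * w ^ k)).eq]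
      group
    rw [e1]
    refine eq_inv_of_mul_eq_one_left ?_
    rw [show τ * (x * w ^ k) * τ⁻¹ = (τ * x * τ⁻¹) * (τ * w ^ k * τ⁻¹) by group, (hkc hwk' τ).eq,
      mul_inv_cancel_right,
      show τ * x * τ⁻¹ * w ^ k * (x * w ^ k) = τ * x * τ⁻¹ * (w ^ k * x) * w ^ k by group, ← (hkc hwk' x).eq,
      show τ * x * τ⁻¹ * (x * w ^ k) * w ^ k = w * (w ^ k * w ^ k) by rw [hw]; group, ← pow_add, ← pow_succ',
      show k + k + 1 = 2 * k + 1 by omega, ← hk, hK w hwk]
  have in_inter : ∀ {d d' x a}, Good d' → B d d' = 0 → In d x → RadElt σ e f x a → B d' a = 0 → In d' x := by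
    rintro d d' x a h' hdd ⟨h, hxa, hi⟩ hx hd'a
    refine ⟨h', hxa, fun τ' hτ' => ?_⟩
    obtain ⟨τ, hτ⟩ := hlift h
    obtain ⟨he, hf⟩ := hflipfix h
    obtain ⟨he', hf'⟩ := hflipfix h'
    have hx' := hτconj h' hτ' hx
    rw [hd'a, zero_div, zero_smul, add_zero] at hx'
    set z := τ' * x * τ'⁻¹ * x with hz
    have hzk : σ z = 1 := by
      have := (hx'.mul hP hx).1
      rw [neg_add_cancel] at this
      exact this.unique (isEic_one e)
    have hT : σ (τ * τ') = σ (τ' * τ) := by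
      refine isometry_ext fun v => ?_
      rw [map_mul, map_mul, hτ, hτ', app_mul, app_mul, app_flipElt hP h.1 (gne h), app_flipElt hP h'.1 (gne h'),
        app_flipElt hP h'.1 (gne h'), app_flipElt hP h.1 (gne h)]
      simp only [polar_add_right, polar_neg_right, polar_smul_right, smul_eq_mul, (perp_pairSet.mp h.1).1,
        (perp_pairSet.mp h.1).2, (perp_pairSet.mp h'.1).1, (perp_pairSet.mp h'.1).2, polar_self_zero hP.se,
        polar_self_zero hP.sf, polar_comm (⇑Q) f e, hP.ef, polar_comm (⇑Q) d e, polar_comm (⇑Q) d f,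
        polar_comm (⇑Q) d' e, polar_comm (⇑Q) d' f, hdd, polar_comm (⇑Q) d' d]
      module
    set u := (τ' * τ)⁻¹ * (τ * τ') with hu
    have huk : σ u = 1 := by rw [hu, map_mul, map_inv, hT, inv_mul_cancel]
    -- `τ` sends `z` both to itself and to its inverse
    have e1 : τ * (τ' * x * τ'⁻¹) * τ⁻¹ = τ' * x⁻¹ * τ'⁻¹ := by
      rw [← hi τ hτ, show τ * (τ' * x * τ'⁻¹) * τ⁻¹ = τ' * τ * (u * x) * u⁻¹ * τ⁻¹ * τ'⁻¹ by rw [hu]; group,
        ← (hkc huk x).eq]
      group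
    have e3 : τ' * x * τ'⁻¹ = z * x⁻¹ := by rw [hz, mul_inv_cancel_right]
    have e5 : z⁻¹ = z := by
      have h1 : τ * (τ' * x * τ'⁻¹) * τ⁻¹ = z * x := by
        rw [e3, show τ * (z * x⁻¹) * τ⁻¹ = τ * z * τ⁻¹ * (τ * x * τ⁻¹)⁻¹ by group, (hkc hzk τ).eq,
          mul_inv_cancel_right, hi τ hτ, inv_inv]
      rw [e1, ← conj_inv, e3, _root_.mul_inv_rev, inv_inv, (hkc (show σ z⁻¹ = 1 by
        rw [map_inv, hzk, inv_one]) x).eq, mul_left_inj] at h1
      exact h1
    have hz1 : z = 1 := eq_one_of_pow_sq hp (hK z hzk) (by nth_rw 2 [← e5]; exact mul_inv_cancel z)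
    rw [e3, hz1, one_mul]
  let A : V → V → Γ → Prop := fun d d' x => ∃ s s', In d s ∧ In d' s' ∧ x = s * s'
  have split : ∀ {d d'}, Good d → Good d' → B d d' = 0 → ∀ {a}, Perp Q C a → ∃ a1 a2, Perp Q C a1 ∧
      Perp Q C a2 ∧ B d a1 = 0 ∧ B d' a2 = 0 ∧ a1 + a2 = a ∧
      ∀ d'', B d'' d = 0 → B d'' a = 0 → B d'' a1 = 0 ∧ B d'' a2 = 0 := by
    intro d d' h h' hdd a ha
    refine ⟨a - (B d a / (2 * δ)) • d, (B d a / (2 * δ)) • d, ha.sub (h.1.smul _), h.1.smul _, ?_, ?_,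
      sub_add_cancel _ _, fun d'' h1 h3 => ⟨?_, ?_⟩⟩
    · rw [polar_sub_right, polar_smul_right, polar_self_eq, h.2, smul_eq_mul, div_mul_cancel₀ _ h2δ, sub_self]
    · rw [polar_smul_right, polar_comm _ d' d, hdd, smul_zero]
    · rw [polar_sub_right, polar_smul_right, h1, h3, smul_zero, sub_zero]
    · rw [polar_smul_right, h1, smul_zero]
  have triple : ∀ {d d' d''}, Good d → Good d' → Good d'' → B d d' = 0 → B d d'' = 0 → B d' d'' = 0 →
      ∀ {x}, A d d'' x → A d d' x := by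
    intro d d' d'' h h' h'' hdd' hdd'' hd'd'' x hx
    obtain ⟨s, s', hs, hs', rfl⟩ := hx
    obtain ⟨a, hs'a⟩ := hs'.2.1
    obtain ⟨a1, a2, ha1, ha2, hda1, hd'a2, rfl, hall⟩ := split h h' hdd' hs'a.2
    obtain ⟨h1, h3⟩ := hall d'' (by rw [polar_comm]; exact hdd'') (in_perp hs' hs'a)
    obtain ⟨u1, hu1, hu1a⟩ := in_ex h ha1 hda1
    obtain ⟨u2, hu2, hu2a⟩ := in_ex h' ha2 hd'a2
    have hu : s' = u1 * u2 := in_uniq hs'
      (in_mul (in_inter h'' hdd'' hu1 hu1a h1) (in_inter h'' hd'd'' hu2 hu2a h3))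
      (hs'a.unique (hu1a.mul hP hu2a))
    exact ⟨s * u1, u2, in_mul hs hu1, hu2, by rw [hu, mul_assoc]⟩
  have hswap : ∀ {d d' x}, A d d' x → A d' d x := fun {d d' x} hx => by
    obtain ⟨s, s', hs, hs', rfl⟩ := hx
    obtain ⟨a, ha⟩ := hs.2.1
    obtain ⟨b, hb⟩ := hs'.2.1
    exact ⟨s', s, hs', hs, (hcm ha hb).eq⟩
  have key : ∀ {d d' d''}, Good d → Good d' → Good d'' → B d d' = 0 → B d d'' = 0 →
      ∀ {x}, A d d' x → A d d'' x := by
    intro d d' d'' h h' h'' hdd' hdd'' x hx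
    have hC1 := nd_insert_aniso h2 hC h.1 (gne h)
    have h'1 : Perp Q (insert d C) d' := perp_insert.mpr ⟨hdd', h'.1⟩
    have hC2 := nd_insert_aniso h2 hC1 h'1 (gne h')
    have l1 := finrank_insert_le (Q := Q) (C := C) d
    have l3 := finrank_insert_le (Q := Q) (C := insert d C) d'
    obtain ⟨y, hy, hd''y, hQy⟩ := exists_value_perp h2 hQ hC2 (by omega) d'' δ
    rw [perp_insert, perp_insert] at hy
    have hg : Good y := ⟨hy.2.2, hQy⟩
    exact triple h h'' hg hdd'' hy.2.1 hd''y (triple h hg h' hy.2.1 hdd' (by rw [polar_comm]; exact hy.1) hx)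
  have connect : ∀ {d d' c c'}, Good d → Good d' → Good c → Good c' → B d d' = 0 → B c c' = 0 →
      ∀ {x}, A d d' x → A c c' x := by
    intro d d' c c' h h' hc' hc'' hdd hcc x hx
    have hC1 := nd_insert_aniso h2 hC h.1 (gne h)
    have l1 := finrank_insert_le (Q := Q) (C := C) d
    obtain ⟨y, hy, hcy, hQy⟩ := exists_value_perp h2 hQ hC1 (by omega) c δ
    rw [perp_insert] at hy
    have hg : Good y := ⟨hy.2, hQy⟩
    have hyd : B y d = 0 := by rw [polar_comm]; exact hy.1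
    have hyc : B y c = 0 := by rw [polar_comm]; exact hcy
    exact key hc' hg hc'' hcy hcc (hswap (key hg h hc' hyd hyc (hswap (key h h' hg hdd hy.1 hx))))
  obtain ⟨d0, hd0C, -, hQd0⟩ := exists_value_perp h2 hQ hC (by omega) 0 δ
  have g0 : Good d0 := ⟨hd0C, hQd0⟩
  obtain ⟨d1, hd1C, hd01, hQd1⟩ := exists_value_perp h2 hQ hC (by omega) d0 δ
  have g1 : Good d1 := ⟨hd1C, hQd1⟩
  let Q0 : Subgroup Γ :=
    { carrier := {x | A d0 d1 x}
      one_mem' := ⟨1, 1, in_one g0, in_one g1, (mul_one 1).symm⟩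
      mul_mem' := by
        rintro _ _ ⟨s, s', hs, hs', rfl⟩ ⟨t, t', ht, ht', rfl⟩
        refine ⟨s * t, s' * t', in_mul hs ht, in_mul hs' ht', ?_⟩
        obtain ⟨a, ha⟩ := hs'.2.1
        obtain ⟨b, hb⟩ := ht.2.1
        rw [mul_assoc, ← mul_assoc s', (hcm ha hb).eq, mul_assoc t, ← mul_assoc]
      inv_mem' := by
        rintro _ ⟨s, s', hs, hs', rfl⟩
        refine ⟨s⁻¹, s'⁻¹, in_inv hs, in_inv hs', ?_⟩
        obtain ⟨a, ha⟩ := hs.2.1
        obtain ⟨b, hb⟩ := hs'.2.1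
        rw [(hcm ha hb).eq, _root_.mul_inv_rev] }
  refine ⟨Q0, ?_, fun a ha => ?_, ?_, ?_⟩
  · rintro _ ⟨s, s', hs, hs', rfl⟩
    obtain ⟨a, hsa⟩ := hs.2.1
    obtain ⟨b, hsb⟩ := hs'.2.1
    exact ⟨_, hsa.mul hP hsb⟩
  · obtain ⟨a1, a2, ha1, ha2, h1, h3, rfl, -⟩ := split g0 g1 hd01 ha
    obtain ⟨u1, hu1, hu1a⟩ := in_ex g0 ha1 h1
    obtain ⟨u2, hu2, hu2a⟩ := in_ex g1 ha2 h3
    exact ⟨_, ⟨u1, u2, hu1, hu2, rfl⟩, hu1a.mul hP hu2a⟩
  · rw [eq_bot_iff]
    rintro _ ⟨⟨s, s', hs, hs', rfl⟩, hk⟩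
    obtain ⟨a, hsa⟩ := hs.2.1
    obtain ⟨b, hsb⟩ := hs'.2.1
    have hab : a = -b := eq_neg_of_add_eq_zero_left ((hsa.mul hP hsb).eq_zero hP hk)
    have hd1a : B d1 a = 0 := by rw [hab, polar_neg_right, in_perp hs' hsb, neg_zero]
    have he := in_uniq (in_inter g1 hd01 hs hsa hd1a) (in_inv hs') (hsa.unique (hab ▸ hsb.inv hP))
    rw [Subgroup.mem_bot, he, inv_mul_cancel]
  · rintro γ he hf _ ⟨s, s', hs, hs', rfl⟩
    have moved : ∀ {d x}, In d x → In (app (σ γ) d) (γ * x * γ⁻¹) ∧ Good (app (σ γ) d) := by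
      rintro d x ⟨h, ⟨a, hx⟩, hi⟩
      have hg : Good (app (σ γ) d) := ⟨perp_pairSet.mpr
        ⟨by conv_lhs => rw [← he]
            rw [polar_app, (perp_pairSet.mp h.1).1],
          by conv_lhs => rw [← hf]
             rw [polar_app, (perp_pairSet.mp h.1).2]⟩, by rw [Q_app, h.2]⟩
      refine ⟨⟨hg, ⟨_, hx.conj he hf⟩, fun τ hτ => ?_⟩, hg⟩
      have hconj : σ (γ⁻¹ * τ * γ) = flipElt hP d (gne h) := by
        refine isometry_ext fun v => ?_
        rw [map_mul, map_mul, map_inv, hτ, app_mul, app_mul, app_flipElt hP hg.1 (gne hg),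
          app_flipElt hP h.1 (gne h), polar_app, Q_app]
        have i1 : B e (app (σ γ) v) = B e v := by
          conv_lhs => rw [← he]
          rw [polar_app]
        have i2 : B f (app (σ γ) v) = B f v := by
          conv_lhs => rw [← hf]
          rw [polar_app]
        rw [i1, i2]
        apply app_injective (σ γ)
        simp only [app_app_inv, app_add, app_neg, app_smul, he, hf]
      calc τ * (γ * x * γ⁻¹) * τ⁻¹ = γ * ((γ⁻¹ * τ * γ) * x * (γ⁻¹ * τ * γ)⁻¹) * γ⁻¹ := by group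
        _ = γ * x⁻¹ * γ⁻¹ := by rw [hi _ hconj]
        _ = (γ * x * γ⁻¹)⁻¹ := by group
    obtain ⟨m1, k1⟩ := moved hs
    obtain ⟨m2, k2⟩ := moved hs'
    refine connect k1 k2 g0 g1 (by rw [polar_app]; exact hd01) hd01 ⟨_, _, m1, m2, ?_⟩
    group

include h2 hQ hn hn' hr hc hP hp hK in
/-- Radicals lift. -/
theorem radLift (h : (∃ μ : F, μ ≠ 0 ∧ μ ^ 2 ≠ 1) ∨ 9 ≤ Fintype.card ι) : RadLift σ e f := by
  rcases h with ⟨μ, h1, h3⟩ | h
  · exact radLift_big h2 hQ hn hr hc hP hp hK μ h1 h3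
  · exact radLift_flip h2 hQ hn hr hc hP hn' hp hK h

end

end Cfsg.Agent.Lib.Schur.OrthMult
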