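import Cfsg.Agent.Lib.Schur.OrthSylow
import Cfsg.Agent.Lib.Schur.OrthFive
import Cfsg.Agent.Lib.Schur.OrthSpin

/-!
The Schur multiplier of `Ω_{2m+1}(q)`, `q` odd, has order two (`m ≥ 3`, `(m, q) ≠ (3, 3)`).
-/

set_option autoImplicit false
set_option linter.unusedSectionVars false

namespace Cfsg.Agent.Lib.Schur.OrthMult

open QuadraticMap Cfsg.Agent.Lib.Orth Cfsg.Agent.Lib.Schur
open scoped commutatorElement

universe u w

variable {ι : Type} [Fintype ι] [DecidableEq ι] {F : Type u} [Field F] {Q : QuadraticForm F (ι → F)}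
variable {p : ℕ}

set_option quotPrecheck false in
local notation "O" => ↥(Cfsg.isometryGroup F ⇑Q)
local notation "V" => (ι → F)
set_option quotPrecheck false in
local notation "B" => polar ⇑Q

section

variable [Fintype F] [Fact p.Prime] [CharP F p] (h2 : (2 : F) ≠ 0)
  (hQ : (QuadraticMap.polarBilin Q).Nondegenerate) (hn : 5 ≤ Fintype.card ι)
include h2 hQ hn

/-- Five dimensions: the lifted group meets the kernel in at most two elements. -/
theorem base_card {Γ : Type w} [Group Γ] [Finite Γ] {σ : Γ →* O} (hr : σ.range = siegelGroup Q)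
    (hc : σ.ker ≤ Subgroup.center Γ) (hA : ¬ p ∣ Nat.card σ.ker) {C : Set V} (hC : Nd Q C)
    (hd : Module.finrank F (perpSub Q C) = 5) :
    Nat.card (pGen σ p (eGroup Q C : Set O) ⊓ σ.ker : Subgroup Γ) ≤ 2 := by
  classical
  obtain ⟨e⟩ := nonempty_fixG_five_PSp h2 hQ hn hC hd
  set K := pGen σ p (eGroup Q C : Set O) with hK
  let r : K →* ↥(fixG Q C) := (σ.comp K.subtype).codRestrict _ fun x =>
    (eGroup_le_fixG h2 hQ hn (sigma_mem_of_mem_pGen (σ := σ) (p := p) x.2) : σ x.1 ∈ _)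
  let τ : K →* Cfsg.PSp 2 F := e.toMonoidHom.comp r
  have hτker : ∀ x : K, τ x = 1 ↔ σ x = 1 := fun x => by
    show e (r x) = 1 ↔ _
    rw [map_eq_one_iff _ e.injective]
    exact Subtype.ext_iff
  have hτs : Function.Surjective τ := by
    refine e.surjective.comp ?_
    rintro ⟨g, hg⟩
    obtain ⟨γ, hγ, rfl⟩ := exists_lift (p := p) h2 hQ hn hr (fixG_le_eGroup h2 hQ hn 2 C hC (by omega) hg)
    exact ⟨⟨γ, hγ⟩, rfl⟩
  have hcen : τ.ker ≤ Subgroup.center K := fun z hz => Subgroup.mem_center_iff.mpr fun y =>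
    Subtype.ext (Subgroup.mem_center_iff.mp (hc ((hτker z).mp hz)) y)
  have hcomm : τ.ker ≤ commutator K := by
    intro z hz
    refine mem_commutator_of_coprime (p := p) _ (Subgroup.closure_closure_coe_preimage :
      Subgroup.closure ((↑) ⁻¹' {x : Γ | IsPElt p x ∧ σ x ∈ (eGroup Q C : Set O)} : Set K) = ⊤) ?_ ?_
    · rintro s ⟨⟨k, hk⟩, -⟩
      exact ⟨k, Subtype.ext (by rw [Subgroup.coe_pow, hk]; rfl)⟩
    · intro hdv
      have hzo : orderOf (z : Γ) = orderOf z := orderOf_injective K.subtype K.subtype_injective z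
      replace hdv : p ∣ orderOf (z : Γ) := hzo.symm ▸ hdv
      exact hA (hdv.trans (Subgroup.orderOf_coe (⟨(z : Γ), (hτker z).mp hz⟩ : σ.ker) ▸ orderOf_dvd_natCard _))
  have h3 : 3 ≤ Fintype.card F := by
    by_contra h
    have h1 := Fintype.one_lt_card (α := F)
    have hev : Even (Fintype.card F) := ⟨1, by omega⟩
    exact h2 (Cfsg.Agent.Lib.Classical.two_eq_zero_iff_even_card.2 hev)
  obtain ⟨g, hg⟩ := exists_surjection_of_hasSchurMultiplier
    (Symp.hasCyclicSchurMultiplier_PSp (F := F) le_rfl (fun _ => h3) (by omega)) τ hτs hcen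
  have h1 : Nat.card (K ⊓ σ.ker : Subgroup Γ) = Nat.card (τ.ker ⊓ commutator K : Subgroup K) := by
    rw [inf_eq_left.mpr hcomm]
    exact Nat.card_congr
      { toFun := fun x => ⟨⟨x.1, x.2.1⟩, (hτker _).mpr x.2.2⟩
        invFun := fun x => ⟨x.1.1, x.1.2, (hτker _).mp x.2⟩
        left_inv := fun _ => rfl
        right_inv := fun _ => rfl }
  rw [h1]
  haveI : NeZero (Nat.gcd 2 (Fintype.card F - 1)) := ⟨Nat.gcd_ne_zero_left (by omega)⟩
  refine (Nat.card_le_card_of_surjective g hg).trans ?_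
  rw [Nat.card_congr Multiplicative.toAdd, Nat.card_zmod]
  exact Nat.le_of_dvd (by omega) (Nat.gcd_dvd_left _ _)

/-- A five-dimensional subspace carrying the induction. -/
theorem exists_base (r : ℕ) : ∀ C : Set V, Nd Q C → Module.finrank F (perpSub Q C) = 2 * r + 5 →
    ∃ C0 : Set V, Nd Q C0 ∧ Module.finrank F (perpSub Q C0) = 5 ∧
      ∀ (Γ : Type w) [Group Γ] [Finite Γ] (σ : Γ →* O), σ.range = siegelGroup Q →
        σ.ker ≤ Subgroup.center Γ → ¬ p ∣ Nat.card σ.ker → Meets σ p C0 → Meets σ p C := by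
  induction r with
  | zero => exact fun C hC hd => ⟨C, hC, hd, fun _ _ _ _ _ _ _ h => h⟩
  | succ r ih =>
    intro C hC hd
    obtain ⟨e, he0, hQe, he, -⟩ := exists_singular_extra h2 hQ (C := C) (k := 0) ![] (by omega)
    obtain ⟨f, hf, hQf, hef⟩ := exists_partner_perp hC he he0 hQe
    have hd' := finrank_insert_pair he hf hQe hQf hef
    obtain ⟨C0, h0, h5, h⟩ := ih _ (nd_insert_pair hC he hf hQe hQf hef) (by omega)
    exact ⟨C0, h0, h5, fun Γ _ _ σ hr hc hA hm =>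
      step h2 hQ hn hr hc hA hC (r := r) (by omega) he hf hQe hQf hef (h Γ σ hr hc hA hm)⟩

/-- Kernel prime to the characteristic: at most two elements. -/
theorem card_ker_le_two_of_prime {m : ℕ} (hm : 2 ≤ m) (hι : Fintype.card ι = 2 * m + 1) {Γ : Type w} [Group Γ]
    [Finite Γ] {σ : Γ →* O} (hr : σ.range = siegelGroup Q) (hc : σ.ker ≤ Subgroup.center Γ)
    (hd : σ.ker ≤ commutator Γ) (hA : ¬ p ∣ Nat.card σ.ker) : Nat.card σ.ker ≤ 2 := by
  classical
  obtain ⟨r, rfl⟩ : ∃ r, m = r + 2 := ⟨m - 2, by omega⟩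
  obtain ⟨C0, hC0, hd0, hup⟩ := exists_base.{u, w} (p := p) h2 hQ hn r ∅ (nd_empty hQ)
    (by rw [finrank_empty h2 hQ]; omega)
  set K := pGen σ p (eGroup Q C0 : Set O) with hK
  set N : Subgroup Γ := K ⊓ σ.ker with hN
  have hNk : N ≤ σ.ker := inf_le_right
  haveI hNn : N.Normal :=
    ⟨fun x hx g => by rwa [Subgroup.mem_center_iff.mp (hc (hNk hx)) g, mul_inv_cancel_right]⟩
  set σ' := QuotientGroup.lift N σ hNk with hσ'
  have hr' : σ'.range = siegelGroup Q := by
    rw [← hr]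
    ext g
    constructor
    · rintro ⟨x, rfl⟩
      obtain ⟨x, rfl⟩ := QuotientGroup.mk'_surjective N x
      exact ⟨x, rfl⟩
    · rintro ⟨x, rfl⟩
      exact ⟨QuotientGroup.mk' N x, rfl⟩
  have hc' : σ'.ker ≤ Subgroup.center (Γ ⧸ N) := by
    intro x hx
    obtain ⟨x, rfl⟩ := QuotientGroup.mk'_surjective N x
    rw [Subgroup.mem_center_iff]
    intro g
    obtain ⟨g, rfl⟩ := QuotientGroup.mk'_surjective N g
    rw [← map_mul, ← map_mul, Subgroup.mem_center_iff.mp (hc (show x ∈ σ.ker from hx)) g]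
  have hker : σ'.ker = σ.ker.map (QuotientGroup.mk' N) := QuotientGroup.ker_lift N σ hNk
  have hA' : ¬ p ∣ Nat.card σ'.ker := fun h => hA (h.trans (hker ▸ Subgroup.card_map_dvd _ _))
  have h0 : Meets σ' p C0 := by
    show _ = ⊥
    rw [eq_bot_iff]
    have hle : pGen σ' p (eGroup Q C0 : Set O) ≤ K.map (QuotientGroup.mk' N) := by
      rw [pGen, Subgroup.closure_le]
      rintro x ⟨hx, hxm⟩
      obtain ⟨x0, rfl⟩ := QuotientGroup.mk'_surjective N x
      obtain ⟨y, -, hy, hyx⟩ :=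
        exists_isPElt_preimage (σ := QuotientGroup.mk' N) (p := p) ⊤ (Subgroup.mem_top x0) hx
      refine ⟨y, mem_pGen hy ?_, hyx⟩
      have h := congrArg σ' hyx
      change σ y = σ' (QuotientGroup.mk' N x0) at h
      exact h ▸ hxm
    rintro _ ⟨hx, hxk⟩
    obtain ⟨k, hk, rfl⟩ := hle hx
    rw [Subgroup.mem_bot]
    exact (QuotientGroup.eq_one_iff k).mpr ⟨hk, hxk⟩
  have hfull := hup (Γ ⧸ N) σ' hr' hc' hA' h0
  set K' := pGen σ' p (eGroup Q (∅ : Set V) : Set O) with hK'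
  have htop : ∀ x : Γ ⧸ N, ∃ γ ∈ K', σ' γ = σ' x := fun x => by
    refine exists_lift (p := p) h2 hQ hn hr' (fixG_le_eGroup h2 hQ hn (r + 2) ∅ (nd_empty hQ)
      (by rw [finrank_empty h2 hQ]; omega) ⟨?_, fun y hy => ?_⟩)
    · rw [← hr']; exact ⟨x, rfl⟩
    · rw [show y = 0 from hQ.1 y fun z => by
        show B y z = 0
        rw [polar_comm]; exact hy z (by simp [Perp]), app_zero]
  have hcomm : commutator (Γ ⧸ N) ≤ K' := by
    rw [commutator_def, Subgroup.commutator_le]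
    intro a _ b _
    obtain ⟨a', ha', hae⟩ := htop a
    obtain ⟨b', hb', hbe⟩ := htop b
    have h := commutatorElement_mul_central a' b'
      (hc' (show σ' (a'⁻¹ * a) = 1 by simp [hae]))
      (hc' (show σ' (b'⁻¹ * b) = 1 by simp [hbe]))
    rw [mul_inv_cancel_left, mul_inv_cancel_left] at h
    rw [h, commutatorElement_def]
    exact mul_mem (mul_mem (mul_mem ha' hb') (inv_mem ha')) (inv_mem hb')
  have hle : σ.ker ≤ N := by
    intro x hx
    have h1 : QuotientGroup.mk' N x ∈ (commutator Γ).map (QuotientGroup.mk' N) := ⟨x, hd hx, rfl⟩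
    rw [commutator_def, Subgroup.map_commutator] at h1
    have h3 : QuotientGroup.mk' N x ∈ commutator (Γ ⧸ N) := Subgroup.commutator_mono le_top le_top h1
    have h4 := hfull.le ⟨hcomm h3, show σ' (QuotientGroup.mk' N x) = 1 from hx⟩
    exact (QuotientGroup.eq_one_iff x).mp (Subgroup.mem_bot.mp h4)
  rw [le_antisymm hle hNk]
  exact base_card (p := p) h2 hQ hn hr hc hA hC0 hd0

end

/-- Every finite stem extension of `Ω` has kernel of order at most two. -/
theorem card_ker_le_two [Fintype F] (h2 : (2 : F) ≠ 0) (hQ : (QuadraticMap.polarBilin Q).Nondegenerate) {m : ℕ}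
    (hm : 3 ≤ m) (hι : Fintype.card ι = 2 * m + 1) (hexc : ¬ (m = 3 ∧ Fintype.card F = 3))
    (p : ℕ) [Fact p.Prime] [CharP F p]
    (hcard : p ^ (Nat.card (siegelGroup Q)).factorization p = Nat.card F ^ (m ^ 2))
    {Γ : Type w} [Group Γ] [Finite Γ] {σ : Γ →* ↥(siegelGroup Q)} (hσ : Cfsg.IsStemExtension σ) :
    Nat.card σ.ker ≤ 2 := by
  classical
  have hsub : ∀ {Δ : Type w} [Group Δ] {τ : Δ →* ↥(siegelGroup Q)}, Cfsg.IsStemExtension τ →
      ((siegelGroup Q).subtype.comp τ).range = siegelGroup Q ∧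
        ((siegelGroup Q).subtype.comp τ).ker = τ.ker := by
    intro Δ _ τ hτ
    refine ⟨?_, MonoidHom.ker_comp_of_injective τ _ (Subgroup.subtype_injective _)⟩
    rw [MonoidHom.range_comp, MonoidHom.range_eq_top.mpr hτ.1, ← MonoidHom.range_eq_map, Subgroup.range_subtype]
  have hp2 : p ≠ 2 := by
    rintro rfl
    exact h2 (by exact_mod_cast CharP.cast_eq_zero F 2)
  have hA : ¬ p ∣ Nat.card σ.ker := by
    intro hdv
    obtain ⟨N, _, hN, hexp, hdv'⟩ := Symp.exists_stem_exponent hσ hdv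
    have hσ' := Symp.isStemExtension_lift hσ hN
    obtain ⟨hr, hk⟩ := hsub hσ'
    rw [← hk] at hdv'
    refine not_dvd_card_ker_of_radLift h2 hQ (by omega) hι p hcard hr (hk ▸ hσ'.2.1) (hk ▸ hσ'.2.2)
      (fun e f hP => ?_) hdv'
    refine radLift h2 hQ (by omega) hr (hk ▸ hσ'.2.1) hP ⟨m, hι⟩
      ((Fact.out : p.Prime).odd_of_ne_two hp2) (fun z hz => hexp z (by rwa [hk] at hz)) ?_
    by_cases h : ∃ μ : F, μ ≠ 0 ∧ μ ^ 2 ≠ 1
    · exact Or.inl h
    right
    push Not at h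
    have hle : Fintype.card F ≤ 3 := by
      calc Fintype.card F = (Finset.univ : Finset F).card := rfl
        _ ≤ ({0, 1, -1} : Finset F).card := Finset.card_le_card fun a _ => by
          rcases eq_or_ne a 0 with ha | ha
          · simp [ha]
          · rcases sq_eq_one_iff.mp (h a ha) with h1 | h1 <;> simp [h1]
        _ ≤ 3 := Finset.card_le_three
    have h1 := Fintype.one_lt_card (α := F)
    have h3 : Fintype.card F ≠ 2 := fun e => h2 (Cfsg.Agent.Lib.Classical.two_eq_zero_iff_even_card.2 ⟨1, e⟩)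
    have hm3 : m ≠ 3 := fun e => hexc ⟨e, by omega⟩
    omega
  obtain ⟨hr, hk⟩ := hsub hσ
  rw [← hk] at hA ⊢
  exact card_ker_le_two_of_prime h2 hQ (by omega) (by omega) hι hr (hk ▸ hσ.2.1) (hk ▸ hσ.2.2) hA

/-- The multiplier of `Ω` is cyclic of order two. -/
theorem hasCyclicSchurMultiplier_omega [Fintype F] (h2 : (2 : F) ≠ 0)
    (hQ : (QuadraticMap.polarBilin Q).Nondegenerate) {m : ℕ} (hm : 3 ≤ m) (hι : Fintype.card ι = 2 * m + 1)
    (hexc : ¬ (m = 3 ∧ Fintype.card F = 3)) (p : ℕ) [Fact p.Prime] [CharP F p]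
    (hcard : p ^ (Nat.card (siegelGroup Q)).factorization p = Nat.card F ^ (m ^ 2)) :
    Cfsg.HasCyclicSchurMultiplier ↥(Cfsg.Omega F ⇑Q) 2 := by
  classical
  have hn : 5 ≤ Fintype.card ι := by omega
  let es : ↥(Cfsg.Omega F ⇑Q) ≃* ↥(siegelGroup Q) := MulEquiv.subgroupCongr (omega_eq_siegelGroup h2 hQ hn)
  obtain ⟨A, _, _, hA⟩ := exists_hasSchurMultiplier ↥(Cfsg.Omega F ⇑Q)
  obtain ⟨⟨Γ, _, _, σ, hσ, ⟨f⟩⟩, -⟩ := id hA
  have hAcard : Nat.card A ≤ 2 := by
    rw [← Nat.card_congr f.toEquiv]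
    have hk : (es.toMonoidHom.comp σ).ker = σ.ker := MonoidHom.ker_comp_of_injective σ _ es.injective
    rw [← hk]
    exact card_ker_le_two h2 hQ hm hι hexc p hcard
      ⟨es.surjective.comp hσ.1, hk ▸ hσ.2.1, hk ▸ hσ.2.2⟩
  have hbound : ∀ (Y : Type u) [Group Y] (τ : Y →* ↥(Cfsg.Omega F ⇑Q)), Function.Surjective τ →
      τ.ker ≤ Subgroup.center Y → Finite (τ.ker ⊓ commutator Y : Subgroup Y) ∧
        Nat.card (τ.ker ⊓ commutator Y : Subgroup Y) ≤ 2 := by
    intro Y _ τ hτ hc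
    obtain ⟨g, hg⟩ := exists_surjection_of_hasSchurMultiplier hA τ hτ hc
    exact ⟨Finite.of_surjective g hg, (Nat.card_le_card_of_surjective g hg).trans hAcard⟩
  obtain ⟨X, _, ρ, hρ, hρc, z, hz, hz1⟩ := exists_double h2 hQ hn
  obtain ⟨hfin, hle⟩ := hbound X ρ hρ hρc
  haveI := hfin
  haveI : Nontrivial (ρ.ker ⊓ commutator X : Subgroup X) :=
    ⟨⟨⟨z, hz⟩, 1, fun h => hz1 (congrArg Subtype.val h)⟩⟩
  have hD : Nat.card (ρ.ker ⊓ commutator X : Subgroup X) = 2 := le_antisymm hle Finite.one_lt_card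
  haveI : Fact (Nat.Prime 2) := ⟨Nat.prime_two⟩
  let e : (ρ.ker ⊓ commutator X : Subgroup X) ≃* Multiplicative (ZMod 2) :=
    mulEquivOfPrimeCardEq hD (by simp)
  refine hasSchurMultiplier_of_bound ρ hρ hρc e.toMonoidHom e.surjective fun Y _ τ hτ hc => ?_
  exact ((hbound Y τ hτ hc).2).trans (le_of_eq (by simp))

end Cfsg.Agent.Lib.Schur.OrthMult
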