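import Cfsg.Agent.Lib.Schur.OrthLift
import Cfsg.Agent.Lib.Schur.Sylow

/-!
If the radicals of hyperbolic pairs lift, a Sylow `p`-subgroup of `Ω(Q)` (odd dimension) lifts, so a central
extension inside the derived group has no kernel of exponent the characteristic `p`.
-/

set_option autoImplicit false
set_option linter.unusedSectionVars false

namespace Cfsg.Agent.Lib.Schur.OrthMult

open QuadraticMap Cfsg.Agent.Lib.Orth Cfsg.Agent.Lib.Schur
open scoped Pointwise commutatorElement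

variable {ι : Type} [Fintype ι] [DecidableEq ι] {F : Type*} [Field F] {Q : QuadraticForm F (ι → F)}
variable {Γ : Type*} [Group Γ] {σ : Γ →* ↥(Cfsg.isometryGroup F ⇑Q)}

set_option quotPrecheck false in
local notation "O" => ↥(Cfsg.isometryGroup F ⇑Q)
local notation "V" => (ι → F)
set_option quotPrecheck false in
local notation "B" => polar ⇑Q

section

variable [Finite F] (h2 : (2 : F) ≠ 0) (hQ : (QuadraticMap.polarBilin Q).Nondegenerate)
  (hn : 5 ≤ Fintype.card ι)
include h2 hQ hn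

theorem exists_unipotent_lift [Finite Γ] (hQ0 : ∀ e f : V, HPair Q e f → RadLift σ e f) (r : ℕ) :
    ∀ C : Set V, Nd Q C → Module.finrank F (perpSub Q C) = 2 * r + 1 →
      ∃ R : Subgroup Γ, (∀ x ∈ R, σ x ∈ fixG Q C) ∧ R ⊓ σ.ker = ⊥ ∧ Nat.card R = Nat.card F ^ (r ^ 2) := by
  classical
  induction r with
  | zero =>
    exact fun C _ _ => ⟨⊥, fun x hx => by rw [Subgroup.mem_bot.mp hx, map_one]; exact one_mem _, bot_inf_eq _,
      by simp⟩
  | succ r ih =>
    intro C hC hd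
    obtain ⟨e, he0, hQe, he, -⟩ := exists_singular_extra h2 hQ (C := C) (k := 0) ![] (by omega)
    obtain ⟨f, hf, hQf, hef⟩ := exists_partner_perp hC he he0 hQe
    have hP : HPair Q e f := ⟨hQe, hQf, hef⟩
    have hd' := finrank_insert_pair he hf hQe hQf hef
    set C' : Set V := insert e (insert f C) with hC'
    obtain ⟨R, hR1, hR2, hR3⟩ := ih C' (nd_insert_pair hC he hf hQe hQf hef) (by omega)
    obtain ⟨Q0, hQ1, hQ2, hQ3, hQ4⟩ := hQ0 e f hP
    set U := Q0 ⊓ (fixG Q C).comap σ with hU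
    have hUinj : ∀ x ∈ U, σ x = 1 → x = 1 := fun x hx h => by
      have : x ∈ Q0 ⊓ σ.ker := ⟨hx.1, h⟩
      rwa [hQ3, Subgroup.mem_bot] at this
    have hperp : ∀ {a : V}, Perp Q C' a ↔ Perp Q (pairSet e f) a ∧ Perp Q C a := fun {a} => by
      rw [hC', perp_insert, perp_insert, perp_pairSet]
      exact ⟨fun h => ⟨⟨h.1, h.2.1⟩, h.2.2⟩, fun h => ⟨h.1.1, h.1.2, h.2⟩⟩
    have hUa : ∀ x : U, ∃ a : perpSub Q C', RadElt σ e f x.1 a.1 := by
      rintro ⟨x, hx, hxC⟩
      obtain ⟨a, ha⟩ := hQ1 x hx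
      refine ⟨⟨a, hperp.mpr ⟨ha.2, fun c hc => ?_⟩⟩, ha⟩
      have h1 : app (σ x) c = c := hxC.2 c fun y hy => by rw [polar_comm]; exact hy c hc
      rw [ha.1, eichler, show B e c = 0 by rw [polar_comm]; exact he c hc, zero_smul, mul_zero, add_zero,
        add_zero, sub_eq_self, smul_eq_zero, or_iff_left he0] at h1
      rw [polar_comm]; exact h1
    choose av hav using hUa
    have hUcard : Nat.card U = Nat.card F ^ (2 * r + 1) := by
      rw [show 2 * r + 1 = Module.finrank F (perpSub Q C') by omega, ← Module.natCard_eq_pow_finrank]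
      refine Nat.card_eq_of_bijective av ⟨fun x y h => ?_, fun a => ?_⟩
      · have h1 := (hav x).unique (h ▸ hav y)
        refine Subtype.ext (inv_mul_eq_one.mp (hUinj _ (mul_mem (inv_mem x.2) y.2) ?_))
        rw [map_mul, map_inv, h1, inv_mul_cancel]
      · obtain ⟨a, ha⟩ := a
        obtain ⟨ha1, ha3⟩ := hperp.mp ha
        obtain ⟨x, hx, hxa⟩ := hQ2 a ha1
        have hxC : σ x ∈ fixG Q C :=
          eGroup_le_fixG h2 hQ hn (mem_eGroup hxa.1 hQe (perp_pairSet.mp ha1).1 he ha3)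
        exact ⟨⟨x, hx, hxC⟩, Subtype.ext ((hav ⟨x, hx, hxC⟩).inj hP hxa rfl)⟩
    have hfixp : ∀ g ∈ fixG Q C', app g e = e ∧ app g f = f := fun g hg =>
      ⟨hg.2 e fun x hx => by rw [polar_comm]; exact (perp_insert.mp hx).1,
       hg.2 f fun x hx => by rw [polar_comm]; exact (perp_insert.mp (perp_insert.mp hx).2).1⟩
    have hnorm : R ≤ Subgroup.normalizer (U : Set Γ) := by
      have hone : ∀ r ∈ R, ∀ x ∈ U, r * x * r⁻¹ ∈ U := by
        intro r hr x hx
        refine ⟨hQ4 r (hfixp _ (hR1 r hr)).1 (hfixp _ (hR1 r hr)).2 x hx.1, ?_⟩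
        show σ (r * x * r⁻¹) ∈ fixG Q C
        rw [map_mul, map_mul, map_inv]
        exact mul_mem (mul_mem (fixG_le_of_pair (hR1 r hr)) hx.2) (inv_mem (fixG_le_of_pair (hR1 r hr)))
      intro r hr
      rw [Subgroup.mem_normalizer_iff]
      refine fun x => ⟨fun hx => hone r hr x hx, fun hx => ?_⟩
      have := hone r⁻¹ (inv_mem hr) _ hx
      simpa [mul_assoc] using this
    have hdisj : ∀ r ∈ R, ∀ x ∈ U, σ (r * x) = 1 → r = 1 ∧ x = 1 := by
      intro r hr x hx h
      rw [map_mul] at h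
      obtain ⟨a, ha⟩ := hQ1 x hx.1
      have hxf : app (σ x) f = f := by
        rw [eq_inv_of_mul_eq_one_right h]; exact (hfixp _ (inv_mem (hR1 r hr))).2
      have hfa := (perp_pairSet.mp ha.2).2
      rw [ha.1, eichler, hef, one_smul, mul_one, polar_comm _ a f, hfa, zero_add, add_sub_assoc, add_eq_left,
        sub_eq_zero] at hxf
      have hQa : Q a = 0 := by
        have h' := congrArg (fun z => B f z) hxf
        simp only [polar_smul_right, hfa, polar_comm (⇑Q) f e, hef, smul_eq_mul, mul_one] at h'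
        exact h'.symm
      rw [hQa, zero_smul] at hxf
      subst hxf
      have hx1 : σ x = 1 := ha.1.unique (isEic_one e)
      refine ⟨?_, hUinj x hx hx1⟩
      have : r ∈ R ⊓ σ.ker := ⟨hr, show σ r = 1 by rwa [hx1, mul_one] at h⟩
      rwa [hR2, Subgroup.mem_bot] at this
    have hcoe : ((R ⊔ U : Subgroup Γ) : Set Γ) = (R : Set Γ) * (U : Set Γ) :=
      Subgroup.coe_mul_of_left_le_normalizer_right R U hnorm
    refine ⟨R ⊔ U, ?_, ?_, ?_⟩
    · intro x hx
      exact (sup_le (c := (fixG Q C).comap σ) (fun r hr => fixG_le_of_pair (hR1 r hr)) inf_le_right) hx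
    · rw [eq_bot_iff]
      rintro g ⟨hg, hgk⟩
      have hg' : g ∈ ((R ⊔ U : Subgroup Γ) : Set Γ) := hg
      rw [hcoe] at hg'
      obtain ⟨r, hr, x, hx, rfl⟩ := hg'
      obtain ⟨rfl, rfl⟩ := hdisj r hr x hx hgk
      simp
    · have e : Function.Bijective (fun x : R × U =>
          (⟨x.1.1 * x.2.1, Subgroup.mul_mem_sup x.1.2 x.2.2⟩ : (R ⊔ U : Subgroup Γ))) := by
        constructor
        · rintro ⟨⟨h, hh⟩, ⟨c, hc'⟩⟩ ⟨⟨h', hh'⟩, ⟨c', hc''⟩⟩ e
          have e' : h * c = h' * c' := congrArg Subtype.val e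
          have e2 : (h'⁻¹ * h) * (c * c'⁻¹) = 1 := by
            rw [show (h'⁻¹ * h) * (c * c'⁻¹) = h'⁻¹ * (h * c) * c'⁻¹ by group, e']; group
          obtain ⟨a1, a2⟩ := hdisj _ (mul_mem (inv_mem hh') hh) _ (mul_mem hc' (inv_mem hc''))
            (by rw [e2, map_one])
          rw [inv_mul_eq_one] at a1
          rw [mul_inv_eq_one] at a2
          subst a1; subst a2; rfl
        · rintro ⟨x, hx⟩
          have hx' : x ∈ ((R ⊔ U : Subgroup Γ) : Set Γ) := hx
          rw [hcoe] at hx'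
          obtain ⟨h, hh, c, hc', rfl⟩ := hx'
          exact ⟨⟨⟨h, hh⟩, ⟨c, hc'⟩⟩, rfl⟩
      rw [← Nat.card_eq_of_bijective _ e, Nat.card_prod, hR3, hUcard, ← pow_add]
      congr 1
      ring

end

/-- If the radicals lift, the kernel has no part at the characteristic. -/
theorem not_dvd_card_ker_of_radLift [Finite F] [Finite Γ] (h2 : (2 : F) ≠ 0)
    (hQ : (QuadraticMap.polarBilin Q).Nondegenerate) {m : ℕ} (hm : 2 ≤ m) (hι : Fintype.card ι = 2 * m + 1)
    (p : ℕ) [Fact p.Prime]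
    (hcard : p ^ (Nat.card (siegelGroup Q)).factorization p = Nat.card F ^ (m ^ 2))
    (hr : σ.range = siegelGroup Q) (hc : σ.ker ≤ Subgroup.center Γ) (hd : σ.ker ≤ commutator Γ)
    (hQ0 : ∀ e f : V, HPair Q e f → RadLift σ e f) : ¬ p ∣ Nat.card σ.ker := by
  classical
  obtain ⟨U, -, hU2, hU3⟩ := exists_unipotent_lift h2 hQ (by omega) hQ0 m ∅ (nd_empty hQ)
    (by rw [finrank_empty h2 hQ, hι])
  set ρ := σ.rangeRestrict with hρd
  have hρ : Cfsg.IsStemExtension ρ := by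
    refine ⟨σ.rangeRestrict_surjective, ?_, ?_⟩ <;> rw [hρd, σ.ker_rangeRestrict] <;> assumption
  rw [← σ.ker_rangeRestrict]
  have hinj : ∀ u ∈ U, ρ u = 1 → u = 1 := fun u hu h => by
    have : u ∈ U ⊓ σ.ker := ⟨hu, congrArg Subtype.val h⟩
    rwa [hU2, Subgroup.mem_bot] at this
  have hUcard : Nat.card (U.map ρ) = p ^ (Nat.card σ.range).factorization p := by
    rw [Nat.card_congr (MulEquiv.ofBijective (ρ.subgroupMap U)
      ⟨(injective_iff_map_eq_one _).mpr fun x hx => Subtype.ext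
        (hinj x x.2 (congrArg Subtype.val hx)), ρ.subgroupMap_surjective U⟩).toEquiv.symm, hU3, ← hcard, hr]
  obtain ⟨S⟩ : Nonempty (Sylow p Γ) := inferInstance
  let P : Sylow p σ.range := Sylow.ofCard (U.map ρ) hUcard
  obtain ⟨g, hg'⟩ := MulAction.exists_smul_eq σ.range P (S.mapSurjective hρ.1)
  obtain ⟨g', rfl⟩ := hρ.1 g
  refine not_dvd_card_ker hρ S fun a ha ha1 => ?_
  have hmem : ∀ x ∈ (S : Subgroup Γ), ∃ u ∈ U, ∃ z ∈ ρ.ker, x = g' * u * g'⁻¹ * z := by
    intro x hx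
    have h1 : ρ x ∈ ((S.mapSurjective hρ.1 : Sylow p σ.range) : Subgroup σ.range) := ⟨x, hx, rfl⟩
    rw [← hg', Sylow.coe_subgroup_smul] at h1
    obtain ⟨_, ⟨u, hu, rfl⟩, hu'⟩ := h1
    refine ⟨u, hu, (g' * u * g'⁻¹)⁻¹ * x, ?_, by group⟩
    have hu'' : ρ g' * ρ u * (ρ g')⁻¹ = ρ x := hu'
    rw [MonoidHom.mem_ker, map_mul, map_inv, map_mul, map_mul, map_inv, hu'', inv_mul_cancel]
  have hle : ⁅(S : Subgroup Γ), (S : Subgroup Γ)⁆ ≤ U.map (MulAut.conj g').toMonoidHom := by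
    rw [Subgroup.commutator_le]
    intro x hx y hy
    obtain ⟨u, hu, z, hz, rfl⟩ := hmem x hx
    obtain ⟨v, hv, w, hw, rfl⟩ := hmem y hy
    rw [commutatorElement_mul_central _ _ (hρ.2.1 hz) (hρ.2.1 hw)]
    refine ⟨⁅u, v⁆, ?_, by simp [map_commutatorElement]⟩
    exact mul_mem (mul_mem (mul_mem hu hv) (inv_mem hu)) (inv_mem hv)
  have haS : (a : Γ) ∈ ⁅(S : Subgroup Γ), (S : Subgroup Γ)⁆ := by
    have h := Subgroup.mem_map_of_mem (S : Subgroup Γ).subtype ha
    rwa [commutator_def, Subgroup.map_commutator, ← MonoidHom.range_eq_map,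
      Subgroup.range_subtype] at h
  obtain ⟨u, hu, hua⟩ := hle haS
  have hua' : g' * u * g'⁻¹ = (a : Γ) := hua
  have hu1 : u = 1 := hinj u hu (by
    rw [← hua', map_mul, map_mul, map_inv, mul_inv_eq_one, mul_eq_left] at ha1
    exact ha1)
  apply Subtype.ext
  rw [← hua', hu1]; simp

end Cfsg.Agent.Lib.Schur.OrthMult
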