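import Cfsg.Agent.Lib.Schur.Cover
import Mathlib

/-!
The multiplier of a direct product: `M(Q₁ × Q₂) ≅ M(Q₁) × M(Q₂) × (Q₁ᵃᵇ ⊗ Q₂ᵃᵇ)`.
-/

universe u v w

namespace Cfsg.Agent.Lib.Schur

open Subgroup TensorProduct
open scoped commutatorElement

/-- The tensor product of the commutator quotients. -/
abbrev AbTensor (Q₁ : Type u) (Q₂ : Type v) [Group Q₁] [Group Q₂] : Type (max u v) :=
  TensorProduct ℤ (Additive (Abelianization Q₁)) (Additive (Abelianization Q₂))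

variable {Q₁ : Type u} {Q₂ : Type v} [Group Q₁] [Group Q₂]

/-- The class of `q` in the commutator quotient, written additively. -/
abbrev abClass {Q : Type u} [Group Q] (q : Q) : Additive (Abelianization Q) :=
  Additive.ofMul (Abelianization.of q)

theorem abClass_mul {Q : Type u} [Group Q] (p q : Q) : abClass (p * q) = abClass p + abClass q := by
  simp [abClass]

theorem abClass_one {Q : Type u} [Group Q] : abClass (1 : Q) = 0 := by
  simp [abClass]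

theorem abClass_inv {Q : Type u} [Group Q] (p : Q) : abClass p⁻¹ = - abClass p := by
  simp [abClass]

theorem abClass_surjective {Q : Type u} [Group Q] (m : Additive (Abelianization Q)) :
    ∃ q : Q, abClass q = m := by
  obtain ⟨q, hq⟩ := QuotientGroup.mk_surjective (Additive.toMul m)
  exact ⟨q, Additive.toMul.injective hq⟩

theorem finite_abTensor [Finite Q₁] [Finite Q₂] : Finite (AbTensor Q₁ Q₂) := by
  haveI : AddGroup.FG (AbTensor Q₁ Q₂) := by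
    refine AddGroup.fg_iff.mpr ⟨Set.range fun p : Additive (Abelianization Q₁) ×
      Additive (Abelianization Q₂) => p.1 ⊗ₜ[ℤ] p.2, ?_, Set.finite_range _⟩
    rw [eq_top_iff]
    rintro t -
    induction t using TensorProduct.induction_on with
    | zero => exact zero_mem _
    | tmul m n => exact AddSubgroup.subset_closure ⟨(m, n), rfl⟩
    | add s t hs ht => exact add_mem hs ht
  refine AddCommGroup.finite_of_fg_isAddTorsion _ fun t => ?_
  rw [isOfFinAddOrder_iff_nsmul_eq_zero]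
  refine ⟨Nat.card (Additive (Abelianization Q₁)), Nat.card_pos, ?_⟩
  induction t using TensorProduct.induction_on with
  | zero => simp
  | tmul m n => rw [TensorProduct.smul_tmul', card_nsmul_eq_zero', TensorProduct.zero_tmul]
  | add s t hs ht => rw [nsmul_add, hs, ht, add_zero]

/-! ### The extension realising the product -/

variable {Γ₁ : Type*} {Γ₂ : Type*} [Group Γ₁] [Group Γ₂]

/-- `Γ₁ × Γ₂ × T` twisted by the bilinear cocycle `((a,b),(a',b')) ↦ ā ⊗ b̄'`. -/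
@[ext]
structure Twist (σ₁ : Γ₁ →* Q₁) (σ₂ : Γ₂ →* Q₂) where
  /-- first component -/
  fs : Γ₁
  /-- second component -/
  sn : Γ₂
  /-- tensor component -/
  tn : AbTensor Q₁ Q₂

variable {σ₁ : Γ₁ →* Q₁} {σ₂ : Γ₂ →* Q₂}

namespace Twist

/-- The cocycle. -/
def coc (σ₁ : Γ₁ →* Q₁) (σ₂ : Γ₂ →* Q₂) (a : Γ₁) (b : Γ₂) : AbTensor Q₁ Q₂ :=
  abClass (σ₁ a) ⊗ₜ[ℤ] abClass (σ₂ b)

theorem coc_mul_left (a a' : Γ₁) (b : Γ₂) :
    coc σ₁ σ₂ (a * a') b = coc σ₁ σ₂ a b + coc σ₁ σ₂ a' b := by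
  rw [coc, map_mul, abClass_mul, TensorProduct.add_tmul]; rfl

theorem coc_mul_right (a : Γ₁) (b b' : Γ₂) :
    coc σ₁ σ₂ a (b * b') = coc σ₁ σ₂ a b + coc σ₁ σ₂ a b' := by
  rw [coc, map_mul, abClass_mul, TensorProduct.tmul_add]; rfl

theorem coc_eq_zero_left {a : Γ₁} (ha : σ₁ a = 1) (b : Γ₂) : coc σ₁ σ₂ a b = 0 := by
  rw [coc, ha, abClass_one, TensorProduct.zero_tmul]

theorem coc_eq_zero_right (a : Γ₁) {b : Γ₂} (hb : σ₂ b = 1) : coc σ₁ σ₂ a b = 0 := by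
  rw [coc, hb, abClass_one, TensorProduct.tmul_zero]

instance : Mul (Twist σ₁ σ₂) :=
  ⟨fun x y => ⟨x.fs * y.fs, x.sn * y.sn, x.tn + y.tn + coc σ₁ σ₂ x.fs y.sn⟩⟩
instance : One (Twist σ₁ σ₂) := ⟨⟨1, 1, 0⟩⟩
instance : Inv (Twist σ₁ σ₂) :=
  ⟨fun x => ⟨x.fs⁻¹, x.sn⁻¹, -x.tn + coc σ₁ σ₂ x.fs x.sn⟩⟩

@[simp] theorem mul_fs (x y : Twist σ₁ σ₂) : (x * y).fs = x.fs * y.fs := rfl
@[simp] theorem mul_sn (x y : Twist σ₁ σ₂) : (x * y).sn = x.sn * y.sn := rfl
@[simp] theorem mul_tn (x y : Twist σ₁ σ₂) :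
    (x * y).tn = x.tn + y.tn + coc σ₁ σ₂ x.fs y.sn := rfl
@[simp] theorem one_fs : (1 : Twist σ₁ σ₂).fs = 1 := rfl
@[simp] theorem one_sn : (1 : Twist σ₁ σ₂).sn = 1 := rfl
@[simp] theorem one_tn : (1 : Twist σ₁ σ₂).tn = 0 := rfl

instance : Group (Twist σ₁ σ₂) where
  mul_assoc x y z := by
    ext <;> simp only [mul_fs, mul_sn, mul_tn, mul_assoc, coc_mul_left, coc_mul_right]
    abel
  one_mul x := by ext <;> simp [coc_eq_zero_left (map_one σ₁)]
  mul_one x := by ext <;> simp [coc_eq_zero_right x.fs (map_one σ₂)]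
  inv_mul_cancel x := by
    have h : coc σ₁ σ₂ x.fs⁻¹ x.sn + coc σ₁ σ₂ x.fs x.sn = 0 := by
      rw [← coc_mul_left, inv_mul_cancel, coc_eq_zero_left (map_one σ₁)]
    refine Twist.ext (inv_mul_cancel _) (inv_mul_cancel _) ?_
    show (-x.tn + coc σ₁ σ₂ x.fs x.sn) + x.tn + coc σ₁ σ₂ x.fs⁻¹ x.sn = 0
    rw [show (-x.tn + coc σ₁ σ₂ x.fs x.sn) + x.tn + coc σ₁ σ₂ x.fs⁻¹ x.sn =
      coc σ₁ σ₂ x.fs⁻¹ x.sn + coc σ₁ σ₂ x.fs x.sn from by abel, h]

/-- The projection to `Q₁ × Q₂`. -/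
def proj (σ₁ : Γ₁ →* Q₁) (σ₂ : Γ₂ →* Q₂) : Twist σ₁ σ₂ →* Q₁ × Q₂ :=
  MonoidHom.mk' (fun x => (σ₁ x.fs, σ₂ x.sn)) fun x y => by simp

/-- The first factor. -/
def inl : Γ₁ →* Twist σ₁ σ₂ :=
  MonoidHom.mk' (fun a => ⟨a, 1, 0⟩) fun a a' => by
    ext <;> simp [coc_eq_zero_right a (map_one σ₂)]

/-- The second factor. -/
def inr : Γ₂ →* Twist σ₁ σ₂ :=
  MonoidHom.mk' (fun b => ⟨1, b, 0⟩) fun b b' => by
    ext <;> simp [coc_eq_zero_left (map_one σ₁)]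

/-- The tensor factor. -/
def inT : Multiplicative (AbTensor Q₁ Q₂) →* Twist σ₁ σ₂ :=
  MonoidHom.mk' (fun t => ⟨1, 1, Multiplicative.toAdd t⟩) fun s t => by
    ext <;> simp [coc_eq_zero_left (map_one σ₁)]

theorem commutator_inl_inr (a : Γ₁) (b : Γ₂) :
    ⁅(inl a : Twist σ₁ σ₂), (inr b : Twist σ₁ σ₂)⁆ =
      (inT (Multiplicative.ofAdd (coc σ₁ σ₂ a b)) : Twist σ₁ σ₂) := by
  rw [commutatorElement_def, mul_inv_eq_iff_eq_mul, mul_inv_eq_iff_eq_mul]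
  ext <;>
    simp [inl, inr, inT, coc_eq_zero_left (map_one σ₁), coc_eq_zero_right _ (map_one σ₂)]

end Twist

theorem commutator_map_le {H X : Type*} [Group H] [Group X] (f : H →* X) :
    (_root_.commutator H).map f ≤ _root_.commutator X := by
  rw [_root_.commutator_def, _root_.commutator_def, Subgroup.map_commutator]
  exact Subgroup.commutator_mono le_top le_top

open Twist in
/-- The witness: `A × B × T` occurs as central commutator part. -/
theorem exists_product_witness {A : Type w} {B : Type w} [CommGroup A] [CommGroup B]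
    (h₁ : Cfsg.IsStemExtension σ₁) (h₂ : Cfsg.IsStemExtension σ₂)
    (e₁ : σ₁.ker ≃* A) (e₂ : σ₂.ker ≃* B) :
    Function.Surjective (proj σ₁ σ₂) ∧ (proj σ₁ σ₂).ker ≤ center (Twist σ₁ σ₂) ∧
    ∃ g : ((proj σ₁ σ₂).ker ⊓ commutator (Twist σ₁ σ₂) : Subgroup (Twist σ₁ σ₂)) →*
        A × B × Multiplicative (AbTensor Q₁ Q₂), Function.Surjective g := by
  have hk : ∀ x : Twist σ₁ σ₂, x ∈ (proj σ₁ σ₂).ker → σ₁ x.fs = 1 ∧ σ₂ x.sn = 1 := fun x hx => by
    simpa [proj, Prod.ext_iff] using hx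
  refine ⟨fun q => ?_, fun x hx => ?_, ?_⟩
  · obtain ⟨a, ha⟩ := h₁.1 q.1
    obtain ⟨b, hb⟩ := h₂.1 q.2
    exact ⟨⟨a, b, 0⟩, by simp [proj, ha, hb]⟩
  · obtain ⟨hx1, hx2⟩ := hk x hx
    rw [Subgroup.mem_center_iff]
    intro y
    refine Twist.ext (Subgroup.mem_center_iff.mp (h₁.2.1 hx1) _)
      (Subgroup.mem_center_iff.mp (h₂.2.1 hx2) _) ?_
    simp [coc_eq_zero_left hx1, coc_eq_zero_right _ hx2, add_comm]
  set K : Subgroup (Twist σ₁ σ₂) := (proj σ₁ σ₂).ker ⊓ commutator (Twist σ₁ σ₂)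
  let g : K →* A × B × Multiplicative (AbTensor Q₁ Q₂) := MonoidHom.mk'
    (fun x => (e₁ ⟨x.1.fs, (hk x x.2.1).1⟩, e₂ ⟨x.1.sn, (hk x x.2.1).2⟩,
      Multiplicative.ofAdd x.1.tn)) fun x y => by
    refine Prod.ext ?_ (Prod.ext ?_ ?_)
    · show e₁ _ = e₁ _ * e₁ _
      rw [← map_mul]; rfl
    · show e₂ _ = e₂ _ * e₂ _
      rw [← map_mul]; rfl
    · simp [coc_eq_zero_left (hk x x.2.1).1]
  refine ⟨g, fun ⟨a, b, t⟩ => ?_⟩
  have hcl : ∀ x ∈ commutator Γ₁, (inl x : Twist σ₁ σ₂) ∈ commutator (Twist σ₁ σ₂) := fun x hx =>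
    commutator_map_le inl ⟨x, hx, rfl⟩
  have hcr : ∀ x ∈ commutator Γ₂, (inr x : Twist σ₁ σ₂) ∈ commutator (Twist σ₁ σ₂) := fun x hx =>
    commutator_map_le inr ⟨x, hx, rfl⟩
  have ha : inl (e₁.symm a).1 ∈ K :=
    ⟨by simp [proj, inl, MonoidHom.mem_ker, MonoidHom.mem_ker.mp (e₁.symm a).2],
      hcl _ (h₁.2.2 (e₁.symm a).2)⟩
  have hb : inr (e₂.symm b).1 ∈ K :=
    ⟨by simp [proj, inr, MonoidHom.mem_ker, MonoidHom.mem_ker.mp (e₂.symm b).2],
      hcr _ (h₂.2.2 (e₂.symm b).2)⟩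
  have ht : ∀ s : AbTensor Q₁ Q₂, inT (Multiplicative.ofAdd s) ∈ K := by
    intro s
    refine ⟨by simp [proj, inT, MonoidHom.mem_ker], ?_⟩
    induction s using TensorProduct.induction_on with
    | zero => rw [ofAdd_zero, map_one]; exact one_mem _
    | tmul m n =>
      obtain ⟨p, rfl⟩ := abClass_surjective m
      obtain ⟨q, rfl⟩ := abClass_surjective n
      obtain ⟨a, rfl⟩ := h₁.1 p
      obtain ⟨b, rfl⟩ := h₂.1 q
      show inT (Multiplicative.ofAdd (coc σ₁ σ₂ a b)) ∈ _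
      rw [← commutator_inl_inr]
      exact Subgroup.commutator_mem_commutator (mem_top _) (mem_top _)
    | add s t hs ht => rw [ofAdd_add, map_mul]; exact mul_mem hs ht
  refine ⟨⟨_, ha⟩ * ⟨_, hb⟩ * ⟨_, ht (Multiplicative.toAdd t)⟩, ?_⟩
  have ga : g ⟨_, ha⟩ = (a, 1, 1) :=
    Prod.ext (e₁.apply_symm_apply a) (Prod.ext (map_one e₂) rfl)
  have gb : g ⟨_, hb⟩ = (1, b, 1) :=
    Prod.ext (map_one e₁) (Prod.ext (e₂.apply_symm_apply b) rfl)
  have gt : g ⟨_, ht (Multiplicative.toAdd t)⟩ = (1, 1, t) :=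
    Prod.ext (map_one e₁) (Prod.ext (map_one e₂) rfl)
  rw [map_mul, map_mul, ga, gb, gt]
  simp

/-! ### The bound -/

/-- In a central extension of `Q₁ × Q₂` the central part of the derived subgroup is covered by
`A × B × T`. -/
theorem exists_product_cover {A : Type w} {B : Type w} [CommGroup A] [CommGroup B]
    (hA : Cfsg.HasSchurMultiplier Q₁ A) (hB : Cfsg.HasSchurMultiplier Q₂ B)
    {X : Type*} [Group X] (τ : X →* Q₁ × Q₂) (hτ : Function.Surjective τ)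
    (hc : τ.ker ≤ center X) :
    ∃ F : A × B × Multiplicative (AbTensor Q₁ Q₂) → (τ.ker ⊓ commutator X : Subgroup X),
      Function.Surjective F := by
  classical
  letI : CommGroup (center X) :=
    { (inferInstance : Group (center X)) with
      mul_comm := fun a b => Subtype.ext (Subgroup.mem_center_iff.mp b.2 a) }
  set X₁ : Subgroup X := ((MonoidHom.snd Q₁ Q₂).comp τ).ker with hX₁
  set X₂ : Subgroup X := ((MonoidHom.fst Q₁ Q₂).comp τ).ker with hX₂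
  have hmem₁ : ∀ x, x ∈ X₁ ↔ (τ x).2 = 1 := fun x => Iff.rfl
  have hmem₂ : ∀ x, x ∈ X₂ ↔ (τ x).1 = 1 := fun x => Iff.rfl
  let s : Q₁ × Q₂ → X := Function.surjInv hτ
  have hs : ∀ q, τ (s q) = q := Function.surjInv_eq hτ
  let c₀ : Q₁ → Q₂ → X := fun q q' => ⁅s (q, 1), s (1, q')⁆
  have hker : ∀ q q', τ (c₀ q q') = 1 := fun q q' => by
    simp [c₀, map_commutatorElement, hs, commutatorElement_eq_one_iff_mul_comm]
  have hlift : ∀ x y q q', τ x = (q, 1) → τ y = (1, q') → ⁅x, y⁆ = c₀ q q' := by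
    intro x y q q' hx hy
    have h1 : (s (q, 1))⁻¹ * x ∈ center X := hc (by simp [MonoidHom.mem_ker, hs, hx])
    have h2 : (s (1, q'))⁻¹ * y ∈ center X := hc (by simp [MonoidHom.mem_ker, hs, hy])
    have := commutatorElement_mul_central (s (q, 1)) (s (1, q')) h1 h2
    rwa [mul_inv_cancel_left, mul_inv_cancel_left] at this
  let c : Q₁ → Q₂ → center X := fun q q' => ⟨c₀ q q', hc (hker q q')⟩
  have hc_right : ∀ q a b, c q (a * b) = c q a * c q b := by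
    intro q a b
    refine Subtype.ext ?_
    show c₀ q (a * b) = c₀ q a * c₀ q b
    rw [← hlift (s (q, 1)) (s (1, a) * s (1, b)) q (a * b) (hs _) (by simp [hs])]
    have h2 : c₀ q b ∈ center X := hc (hker _ _)
    calc ⁅s (q, 1), s (1, a) * s (1, b)⁆
        = ⁅s (q, 1), s (1, a)⁆ * (s (1, a) * ⁅s (q, 1), s (1, b)⁆ * (s (1, a))⁻¹) := by
          simp only [commutatorElement_def]; group
      _ = c₀ q a * c₀ q b := by rw [Subgroup.mem_center_iff.mp h2 (s (1, a)), mul_inv_cancel_right]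
  have hc_left : ∀ a b q', c (a * b) q' = c a q' * c b q' := by
    intro a b q'
    refine Subtype.ext ?_
    show c₀ (a * b) q' = c₀ a q' * c₀ b q'
    rw [← hlift (s (a, 1) * s (b, 1)) (s (1, q')) (a * b) q' (by simp [hs]) (hs _)]
    have h2 : c₀ b q' ∈ center X := hc (hker _ _)
    calc ⁅s (a, 1) * s (b, 1), s (1, q')⁆
        = (s (a, 1) * ⁅s (b, 1), s (1, q')⁆ * (s (a, 1))⁻¹) * ⁅s (a, 1), s (1, q')⁆ := by
          simp only [commutatorElement_def]; group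
      _ = c₀ a q' * c₀ b q' := by
          rw [Subgroup.mem_center_iff.mp h2 (s (a, 1)), mul_inv_cancel_right,
            Subgroup.mem_center_iff.mp h2 (c₀ a q')]
  let φ₁ : Q₁ →* (Abelianization Q₂ →* center X) :=
    MonoidHom.mk' (fun q => Abelianization.lift (MonoidHom.mk' (c q) (hc_right q))) fun a b => by
      refine Abelianization.hom_ext _ _ (MonoidHom.ext fun q' => ?_)
      simpa using hc_left a b q'
  let φ : Abelianization Q₁ →* (Abelianization Q₂ →* center X) := Abelianization.lift φ₁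
  let Φ : Additive (Abelianization Q₁) →+ Additive (Abelianization Q₂) →+ Additive (center X) :=
    AddMonoidHom.mk' (fun m => MonoidHom.toAdditive (φ (Additive.toMul m))) fun m m' => by
      ext n
      simp
  let Θ : AbTensor Q₁ Q₂ →+ Additive (center X) := TensorProduct.liftAddHom Φ fun r m n => by
    rw [map_zsmul, map_zsmul, AddMonoidHom.smul_apply]
  let θ : Multiplicative (AbTensor Q₁ Q₂) →* center X := AddMonoidHom.toMultiplicativeLeft Θ
  have hθ : ∀ q q', θ (Multiplicative.ofAdd (abClass q ⊗ₜ[ℤ] abClass q')) = c q q' := fun q q' => by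
    simp [θ, Θ, Φ, φ, φ₁, abClass]
  set W : Subgroup X := ((center X).subtype.comp θ).range with hW
  have hWc : W ≤ center X := by
    rintro _ ⟨t, rfl⟩; exact (θ t).2
  have hWk : W ≤ τ.ker := by
    rintro _ ⟨t, rfl⟩
    obtain ⟨t, rfl⟩ := Multiplicative.ofAdd.surjective t
    induction t using TensorProduct.induction_on with
    | zero => simp
    | tmul m n =>
      obtain ⟨p, rfl⟩ := abClass_surjective m
      obtain ⟨q, rfl⟩ := abClass_surjective n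
      rw [MonoidHom.comp_apply, hθ]
      exact hker p q
    | add s t hs ht => rw [ofAdd_add, map_mul]; exact mul_mem hs ht
  have hWn : W.Normal := ⟨fun z hz g => by
    rw [Subgroup.mem_center_iff.mp (hWc hz) g, mul_inv_cancel_right]; exact hz⟩
  -- the derived subgroup
  set K : Subgroup X := (⁅X₁, X₁⁆ ⊔ ⁅X₂, X₂⁆) ⊔ W with hK
  haveI : X₁.Normal := MonoidHom.normal_ker _
  haveI : X₂.Normal := MonoidHom.normal_ker _
  haveI hKn : K.Normal := inferInstance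
  have hdec : ∀ x : X, ∃ a ∈ X₁, ∃ b ∈ X₂, x = a * b := fun x =>
    ⟨s ((τ x).1, 1), by simp [hmem₁, hs], (s ((τ x).1, 1))⁻¹ * x, by simp [hmem₂, hs], by group⟩
  have h12 : ∀ a ∈ X₁, ∀ b ∈ X₂, ⁅a, b⁆ ∈ K := fun a ha b hb => by
    refine Subgroup.mem_sup_right ⟨Multiplicative.ofAdd (abClass (τ a).1 ⊗ₜ[ℤ] abClass (τ b).2), ?_⟩
    rw [MonoidHom.comp_apply, hθ]
    exact (hlift a b _ _ (Prod.ext rfl ((hmem₁ a).mp ha)) (Prod.ext ((hmem₂ b).mp hb) rfl)).symm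
  have h11 : ∀ a ∈ X₁, ∀ b ∈ X₁, ⁅a, b⁆ ∈ K := fun a ha b hb =>
    Subgroup.mem_sup_left (Subgroup.mem_sup_left (Subgroup.commutator_mem_commutator ha hb))
  have h22 : ∀ a ∈ X₂, ∀ b ∈ X₂, ⁅a, b⁆ ∈ K := fun a ha b hb =>
    Subgroup.mem_sup_left (Subgroup.mem_sup_right (Subgroup.commutator_mem_commutator ha hb))
  have h21 : ∀ a ∈ X₂, ∀ b ∈ X₁, ⁅a, b⁆ ∈ K := fun a ha b hb => by
    rw [← commutatorElement_inv]; exact inv_mem (h12 b hb a ha)
  have hright : ∀ (a u v : X), ⁅a, u⁆ ∈ K → ⁅a, v⁆ ∈ K → ⁅a, u * v⁆ ∈ K := fun a u v hu hv => by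
    have e : ⁅a, u * v⁆ = ⁅a, u⁆ * (u * ⁅a, v⁆ * u⁻¹) := by
      simp only [commutatorElement_def]; group
    rw [e]; exact mul_mem hu (hKn.conj_mem _ hv u)
  have hle : commutator X ≤ K := by
    rw [_root_.commutator_def, Subgroup.commutator_le]
    intro x _ y _
    obtain ⟨a, ha, b, hb, rfl⟩ := hdec x
    obtain ⟨a', ha', b', hb', rfl⟩ := hdec y
    have e : ⁅a * b, a' * b'⁆ = (a * ⁅b, a' * b'⁆ * a⁻¹) * ⁅a, a' * b'⁆ := by
      simp only [commutatorElement_def]; group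
    rw [e]
    exact mul_mem (hKn.conj_mem _ (hright _ _ _ (h21 b hb a' ha') (h22 b hb b' hb')) a)
      (hright _ _ _ (h11 a ha a' ha') (h12 a ha b' hb'))
  -- the two smaller extensions
  let τ₁ : X₁ →* Q₁ := ((MonoidHom.fst Q₁ Q₂).comp τ).comp X₁.subtype
  let τ₂ : X₂ →* Q₂ := ((MonoidHom.snd Q₁ Q₂).comp τ).comp X₂.subtype
  have hτ₁ : Function.Surjective τ₁ := fun q => ⟨⟨s (q, 1), by simp [hmem₁, hs]⟩, by simp [τ₁, hs]⟩
  have hτ₂ : Function.Surjective τ₂ := fun q => ⟨⟨s (1, q), by simp [hmem₂, hs]⟩, by simp [τ₂, hs]⟩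
  have hk₁ : τ₁.ker ≤ center X₁ := fun a ha => Subgroup.mem_center_iff.mpr fun b => Subtype.ext
    (Subgroup.mem_center_iff.mp (hc (Prod.ext ha ((hmem₁ _).mp a.2))) b.1)
  have hk₂ : τ₂.ker ≤ center X₂ := fun a ha => Subgroup.mem_center_iff.mpr fun b => Subtype.ext
    (Subgroup.mem_center_iff.mp (hc (Prod.ext ((hmem₂ _).mp a.2) ha)) b.1)
  obtain ⟨g₁, hg₁⟩ := exists_surjection_of_hasSchurMultiplier hA τ₁ hτ₁ hk₁
  obtain ⟨g₂, hg₂⟩ := exists_surjection_of_hasSchurMultiplier hB τ₂ hτ₂ hk₂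
  have hsub : ∀ (H : Subgroup X) (z : H), z ∈ commutator H → (z : X) ∈ ⁅H, H⁆ := fun H z hz => by
    rw [← Subgroup.map_subtype_commutator]; exact ⟨z, hz, rfl⟩
  have hG₁ : ∀ a, ((g₁ a).1 : X) ∈ τ.ker ⊓ commutator X := fun a =>
    ⟨Prod.ext (g₁ a).2.1 ((hmem₁ _).mp (g₁ a).1.2),
      Subgroup.commutator_mono le_top le_top (hsub X₁ _ (g₁ a).2.2)⟩
  have hG₂ : ∀ a, ((g₂ a).1 : X) ∈ τ.ker ⊓ commutator X := fun a =>
    ⟨Prod.ext ((hmem₂ _).mp (g₂ a).1.2) (g₂ a).2.1,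
      Subgroup.commutator_mono le_top le_top (hsub X₂ _ (g₂ a).2.2)⟩
  have hWcomm : ∀ t, ((center X).subtype.comp θ) t ∈ τ.ker ⊓ commutator X := fun t => by
    refine ⟨hWk ⟨t, rfl⟩, ?_⟩
    obtain ⟨t, rfl⟩ := Multiplicative.ofAdd.surjective t
    induction t using TensorProduct.induction_on with
    | zero => simp
    | tmul m n =>
      obtain ⟨p, rfl⟩ := abClass_surjective m
      obtain ⟨q, rfl⟩ := abClass_surjective n
      rw [MonoidHom.comp_apply, hθ]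
      exact Subgroup.commutator_mem_commutator (mem_top _) (mem_top _)
    | add s t hs ht => rw [ofAdd_add, map_mul]; exact mul_mem hs ht
  refine ⟨fun abt => ⟨_, mul_mem (mul_mem (hG₁ abt.1) (hG₂ abt.2.1)) (hWcomm abt.2.2)⟩, ?_⟩
  rintro ⟨z, hzk, hzc⟩
  obtain ⟨cd, hcd, w, hw, rfl⟩ := Subgroup.mem_sup_of_normal_right.mp (hle hzc)
  obtain ⟨d₁, hd₁, d₂, hd₂, rfl⟩ := Subgroup.mem_sup_of_normal_right.mp hcd
  have hd₁' : d₁ ∈ X₁ := Subgroup.commutator_le_self X₁ hd₁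
  have hd₂' : d₂ ∈ X₂ := Subgroup.commutator_le_self X₂ hd₂
  have hw1 : τ w = 1 := hWk hw
  have hprod : τ d₁ * τ d₂ = 1 := by
    have := MonoidHom.mem_ker.mp hzk
    rwa [map_mul, map_mul, hw1, mul_one] at this
  have hp1 : (τ d₁).1 = 1 := by
    have := congrArg Prod.fst hprod
    simpa [(hmem₂ d₂).mp hd₂'] using this
  have hp2 : (τ d₂).2 = 1 := by
    have := congrArg Prod.snd hprod
    simpa [(hmem₁ d₁).mp hd₁'] using this
  have hd₁c : (⟨d₁, hd₁'⟩ : X₁) ∈ commutator X₁ := by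
    rw [← Subgroup.map_subtype_commutator] at hd₁
    obtain ⟨z, hz, hz'⟩ := hd₁
    rwa [show (⟨d₁, hd₁'⟩ : X₁) = z from Subtype.ext hz'.symm]
  have hd₂c : (⟨d₂, hd₂'⟩ : X₂) ∈ commutator X₂ := by
    rw [← Subgroup.map_subtype_commutator] at hd₂
    obtain ⟨z, hz, hz'⟩ := hd₂
    rwa [show (⟨d₂, hd₂'⟩ : X₂) = z from Subtype.ext hz'.symm]
  obtain ⟨a, ha⟩ := hg₁ ⟨⟨d₁, hd₁'⟩, hp1, hd₁c⟩
  obtain ⟨b, hb⟩ := hg₂ ⟨⟨d₂, hd₂'⟩, hp2, hd₂c⟩
  obtain ⟨t, rfl⟩ := hw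
  refine ⟨(a, b, t), Subtype.ext ?_⟩
  simp only [ha, hb]

/-- The multiplier of a direct product. -/
theorem hasSchurMultiplier_prod [Finite Q₁] [Finite Q₂] {A B : Type w} [CommGroup A] [CommGroup B]
    (hA : Cfsg.HasSchurMultiplier Q₁ A) (hB : Cfsg.HasSchurMultiplier Q₂ B) :
    Cfsg.HasSchurMultiplier (Q₁ × Q₂) (A × B × Multiplicative (AbTensor Q₁ Q₂)) := by
  haveI := (finite_of_hasSchurMultiplier hA).2
  haveI := (finite_of_hasSchurMultiplier hB).2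
  haveI := finite_abTensor (Q₁ := Q₁) (Q₂ := Q₂)
  haveI : Finite (Multiplicative (AbTensor Q₁ Q₂)) := Finite.of_equiv _ Multiplicative.ofAdd
  obtain ⟨⟨Γ₁, _, _, σ₁, h₁, ⟨e₁⟩⟩, -⟩ := id hA
  obtain ⟨⟨Γ₂, _, _, σ₂, h₂, ⟨e₂⟩⟩, -⟩ := id hB
  obtain ⟨hs, hcen, g, hg⟩ := exists_product_witness h₁ h₂ e₁ e₂
  refine hasSchurMultiplier_of_bound _ hs hcen g hg fun Y _ τ hτ hc => ?_
  obtain ⟨F, hF⟩ := exists_product_cover hA hB τ hτ hc
  exact Nat.card_le_card_of_surjective F hF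

end Cfsg.Agent.Lib.Schur
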