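import Cfsg.Agent.Lib.Schur.TwistBN
import Cfsg.Agent.Lib.Twisted.Aut.Decomp
import Cfsg.Agent.Lib.Chev.SL2Hom

/-!
The rank one subgroups of the orbits of a graph-times-field twisted group.
-/

set_option autoImplicit false
set_option maxHeartbeats 400000

namespace Cfsg.Agent.Lib.Schur.TwistLift

open Cfsg.Lie Cfsg.Agent.Lib.Chev Cfsg.Agent.Lib.Twisted Cfsg.Agent.Lib.Twisted.Core Cfsg.Agent.Lib.Twisted.Aut
open scoped Matrix MatrixGroups
open RankOneData (upper lower wElt)

variable {D : ChevalleyDatum} {C : Cert} {F : Type*} [Field F]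

theorem upper_map {R : Type*} [Field R] (e : R →+* F) (a : R) :
    Matrix.SpecialLinearGroup.map e (upper a) = upper (e a) := by
  ext i j
  show e ((upper a : Matrix (Fin 2) (Fin 2) R) i j) = _
  fin_cases i <;> fin_cases j <;> simp [RankOneData.upper]

theorem lower_map {R : Type*} [Field R] (e : R →+* F) (a : R) :
    Matrix.SpecialLinearGroup.map e (lower a) = lower (e a) := by
  ext i j
  show e ((lower a : Matrix (Fin 2) (Fin 2) R) i j) = _
  fin_cases i <;> fin_cases j <;> simp [RankOneData.lower]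

/-- The product of the `SL₂`'s of mutually orthogonal fundamental roots. -/
theorem exists_orbSL2 (hh : Rooted D C) (hs : Twisted.chkEtaSigns D C = true) {R : Type*} [Field R]
    (e : ℕ → R →+* F) : ∀ {L : List ℕ} (hL : IsWord D L),
    L.Pairwise (fun i j => chkOrth D C j i = true ∧ chkOrth D C i j = true) →
    ∃ Φ : SL(2, R) →* GL D.Idx F, ∀ a, Φ (upper a) = orbElt hh.toChecked F L hL (fun i => e i a) ∧
      Φ (lower a) = orbEltNeg hh.toChecked F L hL (fun i => e i a)
  | [], _, _ => ⟨1, fun _ => ⟨rfl, rfl⟩⟩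
  | i :: L, hL, ho => by
    rw [List.pairwise_cons] at ho
    have h := hh.toChecked
    have hi := hL.cons.1
    have o' : ∀ j ∈ L, chkOrth D C i j = true := fun j hj => (ho.1 j hj).2
    obtain ⟨Φ, hΦ⟩ := exists_orbSL2 hh hs e hL.cons.2 ho.2
    obtain ⟨φi, -, hφ⟩ := hh.hasSL2_simple (F := F) hs hi (h.simple_lt hi)
    set f := φi.comp (Matrix.SpecialLinearGroup.map (e i)) with hfdef
    have hf : ∀ a, f (upper a) = xGL h F (h.simple_lt hi) (e i a) ∧
        f (lower a) = xGL h F (Checked.ng_lt (h.simple_lt hi)) (e i a) := fun a => by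
      simp only [hfdef, MonoidHom.comp_apply, upper_map, lower_map]
      exact hφ (e i a)
    have h1 : ∀ (g : SL(2, R)) (a : F), Commute (xGL h F (h.simple_lt hi) a) (Φ g) ∧
        Commute (xGL h F (Checked.ng_lt (h.simple_lt hi)) a) (Φ g) := by
      intro g a
      have hp : Φ g ∈ Subgroup.centralizer ({xGL h F (h.simple_lt hi) a} : Set (GL D.Idx F)) := by
        refine range_le_SL2 Φ _ (fun b => ?_) (fun b => ?_) ⟨g, rfl⟩ <;>
          rw [Subgroup.mem_centralizer_singleton_iff]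
        · rw [(hΦ b).1]; exact (commute_orbElt _ hi hL.cons.2 o' a _).1.eq.symm
        · rw [(hΦ b).2]; exact (commute_orbEltNeg _ hi hL.cons.2 o' a _).1.eq.symm
      have hm : Φ g ∈ Subgroup.centralizer ({xGL h F (Checked.ng_lt (h.simple_lt hi)) a} : Set (GL D.Idx F)) := by
        refine range_le_SL2 Φ _ (fun b => ?_) (fun b => ?_) ⟨g, rfl⟩ <;>
          rw [Subgroup.mem_centralizer_singleton_iff]
        · rw [(hΦ b).1]; exact (commute_orbElt _ hi hL.cons.2 o' a _).2.eq.symm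
        · rw [(hΦ b).2]; exact (commute_orbEltNeg _ hi hL.cons.2 o' a _).2.eq.symm
      exact ⟨(Subgroup.mem_centralizer_singleton_iff.1 hp).symm, (Subgroup.mem_centralizer_singleton_iff.1 hm).symm⟩
    have hcomm : ∀ m n, Commute (f m) (Φ n) := by
      intro m n
      have : f m ∈ Subgroup.centralizer ({Φ n} : Set (GL D.Idx F)) := by
        refine range_le_SL2 f _ (fun b => ?_) (fun b => ?_) ⟨m, rfl⟩ <;>
          rw [Subgroup.mem_centralizer_singleton_iff]
        · rw [(hf b).1]; exact (h1 n _).1.eq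
        · rw [(hf b).2]; exact (h1 n _).2.eq
      exact Subgroup.mem_centralizer_singleton_iff.1 this
    refine ⟨{ toFun := fun g => f g * Φ g, map_one' := by simp, map_mul' := fun a b => ?_ }, fun a => ⟨?_, ?_⟩⟩
    · rw [map_mul, map_mul, mul_assoc, ← mul_assoc (f b), (hcomm b a).eq]; group
    · show f (upper a) * Φ (upper a) = _
      rw [(hf a).1, (hΦ a).1]; rfl
    · show f (lower a) * Φ (lower a) = _
      rw [(hf a).2, (hΦ a).2]; rfl

theorem dHom_eq_word {R : Type*} [Field R] (a : Rˣ) :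
    (dHom a : SL(2, R)) = upper (a : R) * lower (-(a : R)⁻¹) * upper (a : R) * (upper (-1) * lower 1 * upper (-1)) := by
  obtain ⟨h00, h01, h10, h11⟩ := dHom_entries a
  ext i l
  simp only [Matrix.SpecialLinearGroup.coe_mul]
  fin_cases i <;> fin_cases l <;>
    simp [h00, h01, h10, h11, RankOneData.upper, RankOneData.lower, Matrix.mul_apply, Fin.sum_univ_two]

/-- The image of a root sequence: a change of sign. -/
theorem exists_sign_change {α ι : Type*} (P : α → Prop) (act : ι → α → α) : ∀ (M : List ι) (x : α),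
    ¬ P x → P (M.foldr act x) → ∃ A k B, M = A ++ k :: B ∧ ¬ P (B.foldr act x) ∧ P (act k (B.foldr act x))
  | [], x, h0, h1 => absurd h1 h0
  | m :: M, x, h0, h1 => by
    by_cases hM : P (M.foldr act x)
    · obtain ⟨A, k, B, e, h2, h3⟩ := exists_sign_change P act M x h0 hM
      exact ⟨m :: A, k, B, by rw [e]; rfl, h2, h3⟩
    · exact ⟨[], m, M, rfl, hM, h1⟩

variable {hh : Rooted D C} {P : GraphData} {hP : GraphData.Facts D P} {hc : chkGraph D C P = true}
  {φ : F ≃+* F} {k : ℕ} (O : Orbits hh hP hc φ k) (hs : Twisted.chkEtaSigns D C = true)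

include hs in
theorem exists_orbHom (j : Fin k) :
    ∃ Φ : SL(2, ↥(Fj O j)) →* ↥O.system.G, ∀ a, Φ (upper a) = xo O j a ∧ Φ (lower a) = yo O j a := by
  let e : ℕ → ↥(Fj O j) →+* F := fun i =>
    ((φ ^ (O.orb j).idxOf i : F ≃+* F).toRingHom).comp (Fj O j).subtype
  obtain ⟨Φ, hΦ⟩ := exists_orbSL2 hh hs e (O.isWordOrb j) (O.facts j).2.2.2.2.2.1
  have he : ∀ (a : ↥(Fj O j)) (i : ℕ), e i a = par O j a i := fun a i => by
    simp [e, par, RingAut.coe_pow]
  have hu : ∀ a, Φ (upper a) = (xo O j a : GL D.Idx F) ∧ Φ (lower a) = (yo O j a : GL D.Idx F) := fun a => by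
    rw [(hΦ a).1, (hΦ a).2, coe_xo, coe_yo]
    exact ⟨orbElt_congr _ _ fun i _ => he a i, orbEltNeg_congr _ _ fun i _ => he a i⟩
  have hmem : ∀ g, Φ g ∈ O.system.G := fun g =>
    range_le_SL2 Φ _ (fun a => by rw [(hu a).1]; exact (xo O j a).2) (fun a => by rw [(hu a).2]; exact (yo O j a).2)
      ⟨g, rfl⟩
  exact ⟨Φ.codRestrict _ hmem, fun a => ⟨Subtype.ext (hu a).1, Subtype.ext (hu a).2⟩⟩

/-- The homomorphism of `SL₂` onto the rank one subgroup of an orbit. -/
noncomputable def psi (j : Fin k) : SL(2, ↥(Fj O j)) →* ↥O.system.G := (exists_orbHom O hs j).choose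

theorem psi_upper (j : Fin k) (a : ↥(Fj O j)) : psi O hs j (upper a) = xo O j a :=
  ((exists_orbHom O hs j).choose_spec a).1

theorem psi_lower (j : Fin k) (a : ↥(Fj O j)) : psi O hs j (lower a) = yo O j a :=
  ((exists_orbHom O hs j).choose_spec a).2

theorem nEl_psi (j : Fin k) : nEl (psi O hs) j = sJ O j := by
  rw [nEl, wElt_eq, map_mul, map_mul, psi_upper, psi_lower, sJ, nel, inv_one]

/-- The coordinates of a family of torus parameters. -/
noncomputable def cfun : (∀ j, (↥(Fj O j))ˣ) →* (ℕ → Fˣ) := by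
  classical
  exact ∏ j : Fin k,
    ({ toFun := fun a i => if i ∈ O.orb j then Units.mk0 (par O j (a : ↥(Fj O j)) i) (par_ne_zero O j
          (fun e => a.ne_zero (Subtype.ext e)) i) else 1
       map_one' := funext fun i => by
        split_ifs <;> [exact Units.ext (by simpa using par_one O j i); rfl]
       map_mul' := fun a b => funext fun i => by
        simp only [Pi.mul_apply]
        split_ifs <;> [exact Units.ext (by simpa using par_mul O j (a : ↥(Fj O j)) (b : ↥(Fj O j)) i);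
          exact (one_mul _).symm] } : (↥(Fj O j))ˣ →* (ℕ → Fˣ)).comp (Pi.evalMonoidHom _ j)

theorem cfun_apply (x : ∀ j, (↥(Fj O j))ˣ) {j : Fin k} {i : ℕ} (hi : i ∈ O.orb j) :
    (cfun O x i : F) = par O j (x j : ↥(Fj O j)) i := by
  classical
  simp only [cfun, MonoidHom.finsetProd_apply, Finset.prod_apply]
  rw [Finset.prod_eq_single j (fun b _ hb => ?_) (fun h => absurd (Finset.mem_univ j) h)]
  · simp [hi]
  · simp [show i ∉ O.orb b from fun h => hb (O.orb_inj h hi)]

theorem cfun_out (x : ∀ j, (↥(Fj O j))ˣ) {i : ℕ} (hi : ∀ j, i ∉ O.orb j) : cfun O x i = 1 := by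
  classical
  simp [cfun, MonoidHom.finsetProd_apply, Finset.prod_apply, hi]

theorem cfun_eqv (x : ∀ j, (↥(Fj O j))ˣ) {i : ℕ} (hi : i < D.rank) :
    (cfun O x (P.node i) : F) = φ (cfun O x i : F) := by
  obtain ⟨j, hj⟩ := O.cover hi
  rw [cfun_apply O x hj, cfun_apply O x (O.node_mem hj)]
  exact par_eqv O j _ i hj

/-- The torus of the rank one subgroups. -/
noncomputable def thetaHom : (∀ j, (↥(Fj O j))ˣ) →* ↥O.system.G :=
  ((torusHom D F).comp (cfun O)).codRestrict _ fun x => O.torus_mem fun _ hi => cfun_eqv O x hi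

theorem coe_thetaHom (x : ∀ j, (↥(Fj O j))ˣ) : (thetaHom O x : GL D.Idx F) = torusHom D F (cfun O x) := rfl

theorem psi_dHom [DecidableEq (Fin k)] (j : Fin k) (a : (↥(Fj O j))ˣ) :
    psi O hs j (dHom a) = thetaHom O (Pi.mulSingle j a) := by
  have e := dHom_eq_word (a : (↥(Fj O j))ˣ)
  have e' : psi O hs j (dHom a) = nel O j (a : ↥(Fj O j)) * nel O j (-1) := by
    rw [e]; simp only [map_mul, psi_upper, psi_lower, nel]; simp
  refine Subtype.ext ?_
  rw [e', Subgroup.coe_mul, coe_nel, coe_nel, coe_thetaHom,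
    ← orbN_congr hh.toChecked (O.isWordOrb j) (t := fun _ => (-1 : F)) (u := par O j ((-1 : ↥(Fj O j)) : F))
      (fun i _ => by simp [par_neg, par_one])]
  set c := cfun O (Pi.mulSingle j a) with hc'
  rw [orbN_congr hh.toChecked (O.isWordOrb j) (t := par O j ((a : ↥(Fj O j)) : F)) (u := fun i => (c i : F))
      (fun i hi => by rw [hc', cfun_apply O _ hi, Pi.mulSingle_eq_same]),
    orbN_mul_orbN (graphTwist hh hP hc φ) (O.isWordOrb j) (O.facts j).2.2.2.2.1 (O.facts j).2.2.2.2.2.1 c]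
  refine Twist.torusHom_congr fun i hi => ?_
  by_cases hij : i ∈ O.orb j
  · rw [if_pos hij]
  · rw [if_neg hij]
    obtain ⟨l, hl⟩ := O.cover hi
    refine (Units.ext ?_).symm
    rw [hc', cfun_apply O _ hl, Pi.mulSingle_eq_of_ne (fun e => hij (by subst e; exact hl))]
    simpa using par_one O l i

theorem card_ker_thetaHom [Fintype F] :
    Nat.card (thetaHom O).ker ≤
      Nat.card ↥(Orbits.eqvHom (hh := hh) (hP := hP) (hc := hc) (φ := φ)).ker := by
  let r : (∀ j, (↥(Fj O j))ˣ) → (Fin D.rank → Fˣ) := fun x i => cfun O x i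
  have hr : ∀ x, r x ∈ Orbits.eqvTorus (hh := hh) (hP := hP) (hc := hc) (φ := φ) := fun x i => cfun_eqv O x i.2
  have hker : ∀ x : (thetaHom O).ker, (⟨r x.1, hr x.1⟩ : ↥(Orbits.eqvTorus (hh := hh) (hP := hP) (hc := hc) (φ := φ))) ∈
      (Orbits.eqvHom (hh := hh) (hP := hP) (hc := hc) (φ := φ)).ker := fun x => by
    rw [MonoidHom.mem_ker]
    refine Eq.trans ?_ (congrArg Subtype.val (MonoidHom.mem_ker.1 x.2))
    show torusHom D F (Orbits.extTorus D F (r x.1)) = torusHom D F (cfun O x.1)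
    exact Twist.torusHom_congr fun i hi => by simp [r, Orbits.extTorus, hi]
  refine Nat.card_le_card_of_injective (fun x => ⟨_, hker x⟩) fun x y e => Subtype.ext (funext fun j => ?_)
  have h1 := congrArg (fun z => ((z.1.1 ⟨hd O j, O.isWordOrb j _ (hd_mem O j)⟩ : Fˣ) : F)) e
  simp only [r] at h1
  rw [cfun_apply O _ (hd_mem O j), cfun_apply O _ (hd_mem O j), par_hd, par_hd] at h1
  exact Units.ext (Subtype.ext h1)

theorem conj_orbEltNeg (h : Checked D C) (c : ℕ → Fˣ) : ∀ {L : List ℕ} (hL : IsWord D L) (t : ℕ → F),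
    torusHom D F c * orbEltNeg h F L hL t * (torusHom D F c)⁻¹ =
      orbEltNeg h F L hL (fun i => (torusFun D c (ng D (D.simple i)) : F) * t i)
  | [], _, _ => by simp [orbEltNeg]
  | i :: L, hL, t => by
    simp only [orbEltNeg]
    rw [← conj_orbEltNeg h c hL.cons.2 t, ← h.conj_x (Checked.ng_lt (h.simple_lt hL.cons.1))]
    group

/-- The diagonal elements scale the orbit root groups. -/
theorem exists_scale (j : Fin k) {g : ↥O.system.G} (hg : g ∈ Ht O.system) :
    ∃ χ : (↥(Fj O j))ˣ, ∀ t, g * xo O j t * g⁻¹ = xo O j ((χ : ↥(Fj O j)) * t) ∧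
      g * yo O j t * g⁻¹ = yo O j (((χ⁻¹ : (↥(Fj O j))ˣ) : ↥(Fj O j)) * t) := by
  have h := hh.toChecked
  have hg' : (g : GL D.Idx F) ∈ (D.diagonalSubgroup F : Set (GL D.Idx F)) := hg
  rw [SetLike.mem_coe, hh.diagonalSubgroup_eq] at hg'
  obtain ⟨c, ec⟩ := hg'
  have hχ : ∀ i < D.rank, (torusFun D c (ng D (D.simple i)) : F) = (torusFun D c (D.simple i) : F)⁻¹ := fun i hi => by
    rw [← Units.val_inv_eq_inv_val, ← h.chiOf_torus c (Checked.ng_lt (h.simple_lt hi)),
      h.chiOf_ng _ (h.simple_lt hi), h.chiOf_torus c (h.simple_lt hi)]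
  have hconj : ∀ t : ℕ → F, (g : GL D.Idx F) * orbElt hh.toChecked F (O.orb j) (O.isWordOrb j) t * (g : GL D.Idx F)⁻¹ =
      orbElt hh.toChecked F (O.orb j) (O.isWordOrb j) (fun i => (torusFun D c (D.simple i) : F) * t i) := fun t => by
    rw [← ec, conj_orbElt]
  have hm : ((g * xo O j 1 * g⁻¹ : ↥O.system.G) : GL D.Idx F) ∈ Twist.uGrp D F (O.system.wJ j) := by
    show (g : GL D.Idx F) * (xo O j 1 : GL D.Idx F) * (g : GL D.Idx F)⁻¹ ∈ Twist.uGrp D F (wperm hh.toChecked (O.orb j))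
    rw [coe_xo, hconj, Twist.uGrp, image_invs_orbit hh.toChecked (O.isWordOrb j) (O.facts j).2.2.1]
    exact orbElt_mem _ _ _ fun i hi => List.mem_map.2 ⟨i, hi, rfl⟩
  obtain ⟨b, hb⟩ := exists_xo O j hm
  have hb' : ∀ i ∈ O.orb j, (torusFun D c (D.simple i) : F) = par O j b i := by
    have e := congrArg Subtype.val hb
    simp only [Subgroup.coe_mul, Subgroup.coe_inv, coe_xo, hconj] at e
    intro i hi
    have := orbElt_inj hh (O.isWordOrb j) (O.facts j).2.2.2.2.1 e i hi
    rw [show par O j ((1 : ↥(Fj O j)) : F) i = 1 from par_one O j i, mul_one] at this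
    exact this
  have hb0 : b ≠ 0 := by
    intro e
    have := hb' _ (hd_mem O j)
    rw [par_hd, e] at this
    exact Units.ne_zero _ this
  refine ⟨Units.mk0 b hb0, fun t => ⟨Subtype.ext ?_, Subtype.ext ?_⟩⟩
  · simp only [Subgroup.coe_mul, Subgroup.coe_inv, coe_xo, hconj]
    exact orbElt_congr _ _ fun i hi => by simp [hb' i hi, par_mul]
  · simp only [Subgroup.coe_mul, Subgroup.coe_inv, coe_yo]
    rw [← ec, conj_orbEltNeg]
    exact orbEltNeg_congr _ _ fun i hi => by
      simp [hχ i (O.isWordOrb j i hi), hb' i hi, par_mul, par_inv]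

variable (dt : Data O)
include dt

/-- The orbits are moved onto one another when a word is trivial. -/
theorem exists_exchange [Fintype F] (l : List (Fin k)) (hne : l ≠ [])
    (hl : (l.map (sJ O)).prod ∈ Ht O.system) :
    ∃ A a B s E, l = A ++ a :: (B ++ s :: E) ∧ ∀ t,
      (∃ b, (B.map (sJ O)).prod * xo O s t * (B.map (sJ O)).prod⁻¹ = xo O a b) ∧
      (∃ b, (B.map (sJ O)).prod * yo O s t * (B.map (sJ O)).prod⁻¹ = yo O a b) := by
  have h := hh.toChecked
  set S := O.system with hS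
  let w : List (Fin k) → Equiv.Perm (Fin D.nroots) := fun l => (l.map S.wJ).prod
  have hcls : ∀ l : List (Fin k), Cls hh (w l) ((l.map (sJ O)).prod : GL D.Idx F) ∧
      (graphTwist hh hP hc φ).FixW (w l) := by
    intro l
    induction l with
    | nil => exact ⟨by simpa [w] using (Cls.one (hh := hh) (F := F)), Twist.FixW.one _⟩
    | cons m l ih =>
      simp only [w, List.map_cons, List.prod_cons, Subgroup.coe_mul]
      exact ⟨(cls_sJ O m).mul ih.1, (S.wJ_fixW m).mul ih.2⟩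
  set M := l.dropLast with hM
  set s := l.getLast hne with hs'
  have hls : l = M ++ [s] := (List.dropLast_append_getLast hne).symm
  have hw1 : w l = 1 := (hcls l).1.unique (diag_cls hl)
  have hwM : w M * S.wJ s = 1 := by
    rw [← hw1, hls]; simp [w]
  let pos : Fin D.nroots → Prop := fun r => D.nroots / 2 ≤ r.val
  have hi0 := O.isWordOrb s _ (hd_mem O s)
  have hα : h.sroot hi0 ∈ invs (S.wJ s) :=
    (S.mem_invs_wJ s).2 ⟨h.sroot_pos _, h.supp_simple hi0 (List.mem_toFinset.2 (hd_mem O s))⟩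
  set r0 := S.wJ s (h.sroot hi0) with hr0
  have hneg : ¬ pos r0 := (h.mem_invs.1 hα).2
  have hfold : ∀ (B : List (Fin k)) (r : Fin D.nroots), B.foldr (fun m x => S.wJ m x) r = w B r := by
    intro B r
    induction B with
    | nil => simp [w]
    | cons m B ih => simp [w, ih] 
  have hfin : pos (M.foldr (fun m x => S.wJ m x) r0) := by
    rw [hfold, hr0, ← Equiv.Perm.mul_apply, hwM, Equiv.Perm.one_apply]
    exact h.sroot_pos _
  obtain ⟨A, a, B, hMB, hB1, hB2⟩ := exists_sign_change pos (fun m x => S.wJ m x) M r0 hneg hfin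
  rw [hfold] at hB1 hB2
  refine ⟨A, a, B, s, [], by rw [hls, hMB]; simp, ?_⟩
  obtain ⟨hnB, hfB⟩ := hcls B
  set v := w B
  have hng : ∀ {u : Equiv.Perm (Fin D.nroots)}, u ∈ weyl h (Finset.range D.rank) → ∀ r, u (ngFin r) = ngFin (u r) :=
    fun hu r => h.weyl_ng hu r
  -- the roots of `s` go to roots of `a`
  have hε : v (ngFin r0) ∈ invs (S.wJ a) := by
    rw [h.mem_invs, hng hfB.1, hng (S.wJ_mem a), h.ngFin_pos, h.ngFin_pos]
    exact ⟨hB1, not_not.2 hB2⟩
  have hsimp : ∀ x ∈ invs (S.wJ s), ∃ i ∈ O.orb s, ∃ hi : i < D.rank, x = h.sroot hi := by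
    intro x hx
    have : x.val ∈ Fin.val '' (invs (wperm hh.toChecked (O.orb s)) : Set (Fin D.nroots)) := ⟨x, hx, rfl⟩
    rw [image_invs_orbit hh.toChecked (O.isWordOrb s) (O.facts s).2.2.1] at this
    obtain ⟨i, hi, e⟩ := List.mem_map.1 this
    exact ⟨i, hi, O.isWordOrb s i hi, Fin.ext e.symm⟩
  have hε0 : ngFin r0 ∈ invs (S.wJ s) := by
    rw [h.mem_invs, hng (S.wJ_mem s), h.ngFin_pos, h.ngFin_pos]
    exact ⟨hneg, not_not.2 (by rw [hr0, S.wJ_wJ]; exact h.sroot_pos _)⟩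
  obtain ⟨i0, hi0', hlt0, e0⟩ := hsimp _ hε0
  have hmaps : ∀ x ∈ invs (S.wJ s), v x ∈ invs (S.wJ a) := by
    intro x hx
    obtain ⟨i, hi, hlt, rfl⟩ := hsimp x hx
    obtain ⟨m, hm⟩ := S.J_trans s i0 (List.mem_toFinset.2 hi0') i (List.mem_toFinset.2 hi)
    subst hm
    clear hi hx
    induction m with
    | zero => exact e0 ▸ hε
    | succ m ih =>
      have hm' := (OrbitSys.asc_iterate (Twist.FixW.one (graphTwist hh hP hc φ)) hlt0 m).1
      rw [show h.sroot hlt = (graphTwist hh hP hc φ).rho (h.sroot hm') from by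
        rw [Twist.sroot_rho _ hm']; exact Fin.ext (by simp [Checked.sroot, Function.iterate_succ_apply']),
        hfB.apply, (S.wJ_fixW a).mem_invs]
      exact ih hm'
  intro t
  set n := (B.map (sJ O)).prod
  constructor
  · refine exists_xo O a ?_
    rw [Subgroup.coe_mul, Subgroup.coe_mul, Subgroup.coe_inv]
    refine hnB.conj_rootGen (S := Fin.val '' (invs (S.wJ s) : Set (Fin D.nroots))) (image_val_lt _) ?_
      (xo_mem_uGrp O s t)
    rintro r ⟨r', hr', er⟩
    obtain rfl : r' = r := Fin.ext er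
    exact ⟨_, hmaps r' hr', rfl⟩
  · set m := (sJ O a)⁻¹ * n * sJ O s with hm
    have hmc : Cls hh (S.wJ a * v * S.wJ s) (m : GL D.Idx F) := by
      simp only [hm, Subgroup.coe_mul, Subgroup.coe_inv]
      exact ((S.cls_inv (cls_sJ O a)).mul hnB).mul (cls_sJ O s)
    have hmem : ((m * xo O s (-t) * m⁻¹ : ↥O.system.G) : GL D.Idx F) ∈ Twist.uGrp D F (S.wJ a) := by
      rw [Subgroup.coe_mul, Subgroup.coe_mul, Subgroup.coe_inv]
      refine hmc.conj_rootGen (S := Fin.val '' (invs (S.wJ s) : Set (Fin D.nroots))) (image_val_lt _) ?_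
        (xo_mem_uGrp O s (-t))
      rintro r ⟨r', hr', er⟩
      obtain rfl : r' = r := Fin.ext er
      refine ⟨_, ?_, rfl⟩
      rw [Finset.mem_coe, Equiv.Perm.mul_apply, Equiv.Perm.mul_apply]
      have hy : ngFin (S.wJ s r') ∈ invs (S.wJ s) := by
        obtain ⟨h1, h2⟩ := h.mem_invs.1 hr'
        rw [h.mem_invs, hng (S.wJ_mem s), h.ngFin_pos, h.ngFin_pos, S.wJ_wJ]
        exact ⟨h2, not_not.2 h1⟩
      obtain ⟨h1, h2⟩ := h.mem_invs.1 (hmaps _ hy)
      rw [show v (S.wJ s r') = ngFin (v (ngFin (S.wJ s r'))) by rw [← hng hfB.1, ngFin_ngFin], hng (S.wJ_mem a),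
        h.mem_invs, hng (S.wJ_mem a), h.ngFin_pos, h.ngFin_pos, S.wJ_wJ]
      exact ⟨h2, not_not.2 h1⟩
    obtain ⟨b, hb⟩ := exists_xo O a hmem
    refine ⟨-b, ?_⟩
    rw [yo_eq_conj O dt.eta_neg s, yo_eq_conj O dt.eta_neg a, neg_neg, ← hb, hm]
    group

/-- **The rank one subgroups of a twisted group.** -/
theorem rankOnes [Fintype F] (p : ℕ) [Fact p.Prime] [CharP F p] :
    RankOnes p (Ut O.system) (Ht O.system) (psi O hs) := by
  have h := hh.toChecked
  have hη := dt.eta_neg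
  set S := O.system with hS
  have hsJB : ∀ j, sJ O j ∉ Bt S := sJ_not_mem_B O hη
  have hmon : monGrp (Ht S) (psi O hs) ≤ (D.monomialSubgroup F).subgroupOf S.G := by
    refine sup_le (fun g hg => ?_) ((Subgroup.closure_le _).2 ?_)
    · exact (diag_cls (hh := hh) hg).mem_monomial
    · rintro _ ⟨j, rfl⟩
      rw [nEl_psi]
      exact (cls_sJ O j).mem_monomial
  have hfix : ∀ {m : ↥S.G}, m ∈ monGrp (Ht S) (psi O hs) →
      ∃ w, Cls hh w (m : GL D.Idx F) ∧ (graphTwist hh hP hc φ).FixW w := fun {m} hm => by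
    obtain ⟨w, hw⟩ := exists_cls_of_monomial (hh := hh) (hmon hm)
    exact ⟨w, hw, hw.mem_weyl, hw.fixed _ (S.G_le m.2)⟩
  refine
    { pgroup := by
        obtain ⟨Q, hQ⟩ := exists_sylow S p
        exact hQ ▸ Q.isPGroup'
      upper_mem := fun j t => by rw [psi_upper]; exact xo_mem_U O j t
      diag_mem := fun j a => by
        classical
        rw [psi_dHom]
        show (thetaHom O _ : GL D.Idx F) ∈ D.diagonalSubgroup F
        rw [coe_thetaHom, hh.diagonalSubgroup_eq]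
        exact ⟨_, rfl⟩
      upper_inj := fun j t e => by rw [psi_upper, ← xo_zero O j] at e; exact xo_inj O j e
      H_conj_U := fun g hg u hu => (borel_normalizes_U S (H_le_B S hg) u).2 hu
      n_conj_H := fun j g hg => by
        rw [nEl_psi]
        exact OrbitSys.borel_le_normalizer_diag_conj (graphTwist hh hP hc φ) (cls_sJ O j).mem_monomial hg
      U_inf_N := eq_bot_iff.2 fun g ⟨hg, hg'⟩ => ?_
      n_not := fun j u hu g hg e => hsJB j (by
        rw [nEl_psi] at e
        rw [e]; exact mul_mem (U_le_B S hu) (H_le_B S hg))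
      scale := fun j g hg => by
        obtain ⟨χ, hχ⟩ := exists_scale O j hg
        exact ⟨χ, fun t => by simp only [psi_upper, psi_lower]; exact hχ t⟩
      gen := ?_
      split := fun j u hu => ?_
      sign := fun j m hm => ?_
      rankN := fun j g hg hgN => ?_
      exchange := fun l hne hl => ?_ }
  · exact Subgroup.mem_bot.2 (Subtype.ext (Subgroup.mem_bot.1 (hh.posUnipotent_inf_diagonal.le
      (Subgroup.mem_inf.2 ⟨hg, hh.borel_inf_monomial.le
        (Subgroup.mem_inf.2 ⟨Subgroup.mem_sup_left hg, hmon hg'⟩)⟩))))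
  · rw [eq_top_iff]
    rintro ⟨g, hg⟩ -
    set K := Ut S ⊔ Subgroup.closure (Set.range (nEl (psi O hs))) with hK
    suffices g ∈ K.map S.G.subtype by
      obtain ⟨x, hx, e⟩ := this
      exact (Subtype.ext e : x = ⟨g, hg⟩) ▸ hx
    refine (Subgroup.closure_le _).2 ?_ (dt.gen hg)
    rintro x ⟨j, t, ht, rfl | rfl⟩ <;> obtain ⟨hm, hp⟩ := eqv_eq_par O j ht
    · exact ⟨xo O j ⟨_, hm⟩, Subgroup.mem_sup_left (xo_mem_U O j _),
        (orbElt_congr _ _ hp).symm⟩
    · refine ⟨yo O j ⟨_, hm⟩, ?_, (orbEltNeg_congr _ _ hp).symm⟩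
      have hsK : sJ O j ∈ K := Subgroup.mem_sup_right (Subgroup.subset_closure ⟨j, nEl_psi O hs j⟩)
      rw [SetLike.mem_coe, yo_eq_conj O hη]
      exact mul_mem (mul_mem hsK (Subgroup.mem_sup_left (xo_mem_U O j _))) (inv_mem hsK)
  · obtain ⟨w0, hw0, eU, -, hneg⟩ := exists_top_fixW (graphTwist hh hP hc φ)
    have hd0 : ∀ i ∈ S.J j, ¬ Asc w0 i := fun i hi hA => by
      have hr := Finset.mem_range.1 (S.J_lt j hi)
      rw [h.asc_iff hr, hneg] at hA
      exact hA (h.sroot_pos hr)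
    obtain ⟨⟨a, c⟩, e⟩ := (S.split_bijective hw0 hd0).2 ⟨u, show (u : GL D.Idx F) ∈ _ by rw [eU]; exact hu⟩
    have e1 : (a : GL D.Idx F) * c = u := congrArg Subtype.val e
    have hcg : (c : GL D.Idx F) ∈ D.group F := uGrp_le_group hh _ c.2
    have hag : (a : GL D.Idx F) ∈ D.group F := S.outGrp_le_group _ _ a.2
    have e2 := (S.split_bijective hw0 hd0).1
      (a₁ := (⟨_, S.sig_outGrp hw0 a.2⟩, ⟨_, OrbitSys.sig_uGrp_fix (S.wJ_fixW j) c.2⟩)) (a₂ := (a, c))
      (Subtype.ext (by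
        show (graphTwist hh hP hc φ).sig (a : GL D.Idx F) * (graphTwist hh hP hc φ).sig c = a * c
        rw [← Twist.sig_mul _ hag hcg, e1, Twist.sig_fixed _ (S.G_le u.2)]))
    simp only [Prod.mk.injEq, Subtype.ext_iff] at e2
    have hcG : (c : GL D.Idx F) ∈ S.G := S.unip j ⟨c.2, (Twist.mem_fixedGroup _).2 ⟨hcg, e2.2⟩⟩
    obtain ⟨b, hb⟩ := exists_xo O j (g := ⟨c, hcG⟩) c.2
    refine ⟨-b, ?_⟩
    rw [psi_upper, nEl_psi, ← xo_inv, ← hb]
    show (sJ O j : GL D.Idx F) * ((u : GL D.Idx F) * (c : GL D.Idx F)⁻¹) * (sJ O j : GL D.Idx F)⁻¹ ∈ D.posUnipotent F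
    rw [← e1, mul_inv_cancel_right]
    exact uGrp_le_pos h _ (S.conj_outGrp (cls_sJ O j) hw0 hd0 a.2)
  · obtain ⟨w, hwc, hw⟩ := hfix hm
    have key : ∀ (n : ↥S.G) (v : Equiv.Perm (Fin D.nroots)), Cls hh v (n : GL D.Idx F) →
        (∀ i ∈ S.J j, Asc v⁻¹ i) → ∀ t, n⁻¹ * psi O hs j (upper t) * n ∈ Ut S := by
      intro n v hv hasc t
      have := hv.inv.conj_rootGen (S := Fin.val '' (invs (S.wJ j) : Set (Fin D.nroots))) (S' := posSet D)
        (image_val_lt _) ?_ (xo_mem_uGrp O j t)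
      · rw [inv_inv, ← h.posUnipotent_eq] at this
        rw [psi_upper]
        exact this
      rintro r ⟨r', hr', er⟩
      obtain rfl : r' = r := Fin.ext er
      obtain ⟨h1, h2⟩ := (S.mem_invs_wJ j).1 hr'
      exact ⟨h.pos_of_supp (inv_mem hv.mem_weyl) hasc h1 h2, Fin.isLt _⟩
    by_cases hasc : ∀ i ∈ S.J j, Asc w⁻¹ i
    · exact Or.inl (key m w hwc hasc)
    right
    simp only [not_forall] at hasc
    obtain ⟨i, hi, hd⟩ := hasc
    have hall : ∀ i' ∈ S.J j, ¬ Asc w⁻¹ i' := fun i' hi' hA => hd ((S.asc_orbit hw.inv hi hi').1 hA)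
    refine key _ (S.wJ j * w) ?_ ?_
    · rw [Subgroup.coe_mul, nEl_psi]; exact (cls_sJ O j).mul hwc
    · rw [mul_inv_rev, inv_eq_of_mul_eq_one_left (show S.wJ j * S.wJ j = 1 from S.word_sq j)]
      exact S.asc_mul_wJ hw.inv hall
  · obtain ⟨w, hwc, hw⟩ := hfix hgN
    have hP' : g ∈ Po O j := by
      refine range_le_SL2 (psi O hs j) _ (fun a => ?_) (fun a => ?_) hg
      · rw [psi_upper]; exact B_le_Po O j (U_le_B S (xo_mem_U O j a))
      · rw [psi_lower]; exact yo_mem_Po O hη j a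
    obtain ⟨v, hv, hvc⟩ := hh.exists_weyl_of_mem_parabolic (show (g : GL D.Idx F) ∈ _ from hP')
    have hwb : (g : GL D.Idx F) ∈ bcell hh.toChecked F w := by
      obtain ⟨L, hL, eL, t, ht, en⟩ := hwc
      rw [en, ← eL]
      exact bcell_mul_right (hh.nProd_mem_bcell hL) (Subgroup.mem_sup_right ht)
    rcases S.fixW_orbit hw (hh.bcell_unique hwb hvc ▸ hv) with e | e
    · exact Or.inl (Cls.diag_of_one (hh := hh) (e ▸ hwc))
    · refine Or.inr ?_
      rw [nEl_psi]
      have hd : (sJ O j)⁻¹ * g ∈ Ht S := (cls_sJ O j).diff (e ▸ hwc)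
      have h1 := OrbitSys.borel_le_normalizer_diag_conj (graphTwist hh hP hc φ) (cls_sJ O j).mem_monomial hd
      show ((g * (sJ O j)⁻¹ : ↥S.G) : GL D.Idx F) ∈ D.diagonalSubgroup F
      rw [show g * (sJ O j)⁻¹ = sJ O j * ((sJ O j)⁻¹ * g) * (sJ O j)⁻¹ by group]
      simpa using h1
  · have e : nEl (psi O hs) = sJ O := funext (nEl_psi O hs)
    rw [e] at hl ⊢
    obtain ⟨A, a, B, s, E, el, hB⟩ := exists_exchange O dt l hne hl
    refine ⟨A, a, B, s, E, el, fun t => ?_⟩
    obtain ⟨⟨b, hb⟩, ⟨b', hb'⟩⟩ := hB t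
    rw [psi_upper, psi_lower, hb, hb']
    exact ⟨⟨_, psi_upper O hs a b⟩, ⟨_, psi_lower O hs a b'⟩⟩

/-- **The bound on the multiplier of a twisted group.** -/
theorem orbits_card_ker_le [Fintype F] (p : ℕ) [Fact p.Prime] [CharP F p] {Γ : Type*} [Group Γ] [Finite Γ]
    {σ : Γ →* ↥O.system.G} (hσ : Cfsg.IsStemExtension σ) (hA : ¬ p ∣ Nat.card σ.ker)
    (hs : Twisted.chkEtaSigns D C = true) :
    Nat.card σ.ker ≤ Nat.card ↥(Orbits.eqvHom (hh := hh) (hP := hP) (hc := hc) (φ := φ)).ker := by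
  haveI : ∀ j, Fintype ↥(Fj O j) := fun j => Fintype.ofFinite _
  haveI : ∀ j, CharP ↥(Fj O j) p := fun j => (RingHom.charP_iff_charP (Fj O j).subtype p).2 inferInstance
  refine ((rankOnes O hs dt p).card_ker_le hσ hA (thetaHom O) ?_).trans (card_ker_thetaHom O)
  intro _ j a
  convert (psi_dHom O hs j a).symm

end Cfsg.Agent.Lib.Schur.TwistLift
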