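import Cfsg.Agent.Lib.Schur.ReeF4Ones
import Cfsg.Agent.Lib.Schur.TwistOrbRank
import Cfsg.Agent.Lib.Suzuki.Centralizers

/-!
The two rank one subgroups of the large Ree group lift through central extensions with kernel of odd order.
-/

set_option autoImplicit false
set_option maxHeartbeats 400000

namespace Cfsg.Agent.Lib.Schur.ReeF4

open Cfsg.Lie Cfsg.Agent.Lib.Chev Cfsg.Agent.Lib.Twisted Cfsg.Agent.Lib.Twisted.Core Cfsg.Agent.Lib.Twisted.ReeF
open Cfsg.Agent.Lib.Schur.TwistAbs Cfsg.Agent.Lib.Schur.TwistLift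
open scoped Matrix MatrixGroups
open RankOneData (upper lower wElt)

/-- A subgroup with cyclic Sylow subgroups at the odd primes, generated by 2-elements, lifts. -/
theorem pGen_two_inj {Γ G T : Type*} [Group Γ] [Finite Γ] [Group G] [Finite G] [Group T] [Finite T] {σ : Γ →* G}
    (hs : Function.Surjective σ) (hc : σ.ker ≤ Subgroup.center Γ) (hA : ¬ 2 ∣ Nat.card σ.ker) {L : Subgroup G}
    (S : Set G) (hS : L ≤ Subgroup.closure S) (hSL : ∀ a ∈ S, a ∈ L) (hS2 : ∀ a ∈ S, IsPElt 2 a) (f : ↥L →* T)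
    (hf : Function.Injective f) (hT : ∀ (r : ℕ) [Fact r.Prime], r ≠ 2 → ∀ P : Sylow r T, IsCyclic P) :
    ∀ x ∈ pGen σ 2 (L : Set G), σ x = 1 → x = 1 := by
  have : Fact (Nat.Prime 2) := ⟨Nat.prime_two⟩
  let M : Subgroup Γ := pGen σ 2 (L : Set G)
  let τ : ↥M →* ↥L := (σ.comp M.subtype).codRestrict L fun x =>
    show σ x.1 ∈ L from sigma_mem_of_mem_pGen (σ := σ) x.2
  have hτs : Function.Surjective τ := fun a => by
    obtain ⟨x, hx, e⟩ := le_map_pGen hs S hS hSL hS2 a.2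
    exact ⟨⟨x, hx⟩, Subtype.ext e⟩
  have hcard : Nat.card τ.ker ∣ Nat.card σ.ker := by
    let g : τ.ker →* σ.ker := (M.subtype.comp τ.ker.subtype).codRestrict _ fun x => congrArg Subtype.val x.2
    exact Subgroup.card_dvd_of_injective g fun a b h =>
      Subtype.ext (Subtype.ext (congrArg (fun y : σ.ker => (y : Γ)) h))
  have hstem : Cfsg.IsStemExtension τ := by
    refine ⟨hτs, fun x hx => Subgroup.mem_center_iff.2 fun y => Subtype.ext
      (Subgroup.mem_center_iff.1 (hc (congrArg Subtype.val hx : σ x.1 = 1)) y.1), fun x hx => ?_⟩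
    refine mem_commutator_of_coprime (p := 2) {s : M | IsPElt 2 s} ?_ (fun s hs => hs) ?_
    · rw [eq_top_iff]
      rintro ⟨y, hy⟩ -
      have hmap : M ≤ (Subgroup.closure {s : M | IsPElt 2 s}).map M.subtype := by
        rw [MonoidHom.map_closure]
        refine (Subgroup.closure_le _).2 fun z hz => Subgroup.subset_closure
          ⟨⟨z, Subgroup.subset_closure hz⟩, ?_, rfl⟩
        obtain ⟨k, hk⟩ := hz.1
        exact ⟨k, Subtype.ext hk⟩
      obtain ⟨w, hw, e⟩ := hmap hy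
      obtain rfl : w = ⟨y, hy⟩ := Subtype.ext e
      exact hw
    · exact fun h => hA ((h.trans (Subgroup.orderOf_coe (⟨x, hx⟩ : τ.ker) ▸ orderOf_dvd_natCard _)).trans hcard)
  have hone : Nat.card τ.ker = 1 := by
    by_contra hne
    obtain ⟨r, hr, hrd⟩ := Nat.exists_prime_and_dvd hne
    haveI : Fact r.Prime := ⟨hr⟩
    rcases eq_or_ne r 2 with rfl | hr2
    · exact hA (hrd.trans hcard)
    · obtain ⟨P⟩ : Nonempty (Sylow r ↥L) := inferInstance
      have := cyclic_image_pgroup f hf hT r hr2 P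
      exact not_dvd_card_ker_of_isCyclic hstem P hrd
  intro x hx h1
  have h2 : (⟨x, hx⟩ : M) ∈ τ.ker := Subtype.ext h1
  rw [Subgroup.card_eq_one.1 hone, Subgroup.mem_bot] at h2
  exact congrArg Subtype.val h2

variable {K : Type*} [Field K] {m : ℕ}

/-- The grading of the coordinates. -/
noncomputable def gradQ : chevF4.Idx → ℤ := wgt chevF4 fun r =>
  ∑ j ∈ Finset.range chevF4.rank, (if j = 0 then (10 : ℤ) else if j = 3 then 1 else 0) * coef chevF4 F4.cert j r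

/-- The four coordinates of the block. -/
def idxQ : Fin 4 → chevF4.Idx := fun i => Sum.inr (![⟨37, by decide⟩, ⟨35, by decide⟩, ⟨34, by decide⟩, ⟨33, by decide⟩] i)

theorem idxQ_spec : ∀ y : chevF4.Idx,
    (gradQ y = 10 ↔ ∃ i, idxQ i = y) ∧ ∀ i j, idxQ i = idxQ j → i = j := by
  decide +kernel

theorem gradQ_root : ∀ r ∈ [25, 27, 28, 30, 20, 22, 19, 17],
    (∑ j ∈ Finset.range chevF4.rank, (if j = 0 then (10 : ℤ) else if j = 3 then 1 else 0) * coef chevF4 F4.cert j r)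
      = 0 := by decide +kernel

/-- The block of a graded element. -/
noncomputable def blk : ↥(gradedGroup chevF4 K gradQ) →* Matrix (Fin 4) (Fin 4) K where
  toFun g := ((g : GL chevF4.Idx K) : Matrix chevF4.Idx chevF4.Idx K).submatrix idxQ idxQ
  map_one' := by
    simp only [Subgroup.coe_one, Units.val_one]
    exact Matrix.submatrix_one idxQ fun i j h => (idxQ_spec (idxQ i)).2 i j h
  map_mul' g h := by
    classical
    ext i j
    simp only [Subgroup.coe_mul, Units.val_mul, Matrix.submatrix_apply, Matrix.mul_apply]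
    rw [← Finset.sum_subset (Finset.subset_univ (Finset.univ.image idxQ)) fun l _ hl => ?_,
      Finset.sum_image fun a _ b _ e => (idxQ_spec (idxQ a)).2 a b e]
    by_contra hne
    have h1 := mem_gradedGroup_iff.1 g.2 _ _ (left_ne_zero_of_mul hne)
    obtain ⟨k, hk⟩ := (idxQ_spec l).1.1 (h1 ▸ (idxQ_spec (idxQ i)).1.2 ⟨i, rfl⟩)
    exact hl (Finset.mem_image.2 ⟨k, Finset.mem_univ _, hk⟩)

theorem x_graded {r : ℕ} (hr : r ∈ [25, 27, 28, 30, 20, 22, 19, 17]) (t : K) :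
    (xG checked_F4 r t : GL chevF4.Idx K) ∈ gradedGroup chevF4 K gradQ := by
  have hlt : r < chevF4.nroots := (by decide : ∀ r ∈ [25, 27, 28, 30, 20, 22, 19, 17], r < chevF4.nroots) r hr
  refine mem_gradedGroup_iff.2 fun y x hne => ?_
  rw [coe_xG] at hne
  rcases checked_F4.x_entry hlt t hne with e | ⟨k, -, hk⟩
  · rw [e]
  · rw [gradQ, hk _ (checked_F4.isAdd_sum _), gradQ_root r hr, mul_zero, add_zero]

theorem wordG_graded (w : List (ℕ × K)) (hw : ∀ p ∈ w, p.1 ∈ [25, 27, 28, 30, 20, 22, 19, 17]) :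
    (wordG checked_F4 w : GL chevF4.Idx K) ∈ gradedGroup chevF4 K gradQ := by
  induction w with
  | nil => simpa [wordG] using one_mem (gradedGroup chevF4 K gradQ)
  | cons p w ih =>
    simp only [List.forall_mem_cons] at hw
    have e : wordG checked_F4 (p :: w) = xG checked_F4 p.1 p.2 * wordG checked_F4 w := by simp [wordG]
    rw [e, Subgroup.coe_mul]
    exact mul_mem (x_graded hw.1 p.2) (ih hw.2)

theorem x_chain {r : ℕ} (hr : r < chevF4.nroots) (t : K) (u s : Fin chevF4.nroots) (h1 : s.val ≠ r)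
    (h2 : s.val ≠ chevF4.negIdx.getD r 0) :
    chevF4.x K r t (Sum.inr u) (Sum.inr s) = (if u = s then 1 else 0) +
      ((chevF4.chainCoeff r s.val u.val).map fun km => ((km.2 : ℤ) : K) * t ^ km.1).sum := by
  rw [ChevalleyDatum.x, dif_pos hr, ChevalleyDatum.xMat, Matrix.of_apply]
  simp only [show s ≠ ⟨r, hr⟩ from fun e => h1 (congrArg Fin.val e), h2, if_false]

/-- The chain coefficients in the block. -/
def blkTab (r : ℕ) : List (List (List (ℕ × ℤ))) :=
  (List.finRange 4).map fun i => (List.finRange 4).map fun j =>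
    chevF4.chainCoeff r ([37, 35, 34, 33].getD j.val 0) ([37, 35, 34, 33].getD i.val 0)

theorem blk_x {r : ℕ} (hr : r < chevF4.nroots)
    (hne : ∀ j : Fin 4, [37, 35, 34, 33].getD j.val 0 ≠ r ∧ [37, 35, 34, 33].getD j.val 0 ≠ chevF4.negIdx.getD r 0)
    (t : K) (i j : Fin 4) : chevF4.x K r t (idxQ i) (idxQ j) = (if i = j then 1 else 0) +
      ((((blkTab r).getD i.val []).getD j.val []).map fun km => ((km.2 : ℤ) : K) * t ^ km.1).sum := by
  have hv : ∀ j : Fin 4,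
      ((![⟨37, by decide⟩, ⟨35, by decide⟩, ⟨34, by decide⟩, ⟨33, by decide⟩] j : Fin chevF4.nroots)).val =
        [37, 35, 34, 33].getD j.val 0 := by decide
  rw [idxQ, idxQ, x_chain hr t _ _ (by rw [hv]; exact (hne j).1) (by rw [hv]; exact (hne j).2), hv, hv]
  congr 1
  · exact if_congr ⟨fun e => (idxQ_spec (idxQ i)).2 i j (congrArg Sum.inr e), fun e => by rw [e]⟩ rfl rfl
  · congr 2
    revert i j
    simp [blkTab, Fin.forall_fin_succ]

variable [CharP K 2]

theorem blk_word (p q r s : K) :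
    (((srtQ p q r s : ↥(chevF4.group K)) : GL chevF4.Idx K) : Matrix chevF4.Idx chevF4.Idx K).submatrix idxQ idxQ =
      !![1, q, r, q * r + s; 0, 1, p, r + p * q; 0, 0, 1, q; 0, 0, 0, 1] := by
  have hg : ∀ {a : ℕ}, a ∈ [25, 27, 28, 30, 20, 22, 19, 17] → ∀ t : K,
      (xG checked_F4 a t : GL chevF4.Idx K) ∈ gradedGroup chevF4 K gradQ := fun ha t => x_graded ha t
  have e : (⟨(srtQ p q r s : ↥(chevF4.group K)), wordG_graded _ (by simp)⟩ : ↥(gradedGroup chevF4 K gradQ)) =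
      ⟨_, hg (a := 25) (by decide) p⟩ * (⟨_, hg (a := 27) (by decide) q⟩ *
        (⟨_, hg (a := 28) (by decide) r⟩ * ⟨_, hg (a := 30) (by decide) s⟩)) := by
    refine Subtype.ext ?_
    simp [srtQ, wordG]
  have h := congrArg blk e
  rw [map_mul, map_mul, map_mul] at h
  refine Eq.trans h ?_
  have t25 : blkTab 25 = [[[], [], [], []], [[], [], [(1, 1)], []], [[], [], [], []], [[], [], [], []]] := by
    decide +kernel
  have t27 : blkTab 27 = [[[], [(1, 1)], [], []], [[], [], [], []], [[], [], [], [(1, 1)]], [[], [], [], []]] := by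
    decide +kernel
  have t28 : blkTab 28 = [[[], [], [(1, -1)], []], [[], [], [], [(1, 1)]], [[], [], [], []], [[], [], [], []]] := by
    decide +kernel
  have t30 : blkTab 30 = [[[], [], [], [(1, 1)]], [[], [], [], []], [[], [], [], []], [[], [], [], []]] := by
    decide +kernel
  ext i j
  simp only [blk, MonoidHom.coe_mk, OneHom.coe_mk, Matrix.mul_apply, Fin.sum_univ_four, Matrix.submatrix_apply,
    coe_xG, blk_x (r := 25) (by decide) (by decide +kernel), blk_x (r := 27) (by decide) (by decide +kernel),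
    blk_x (r := 28) (by decide) (by decide +kernel), blk_x (r := 30) (by decide) (by decide +kernel), t25, t27, t28,
    t30]
  fin_cases i <;> fin_cases j <;> simp [ReeF.neg_eq] <;> ring

theorem blk_classV (e : ℕ) (he : e ≠ 0) :
    (((classV e (0 : K) 1 : ↥(chevF4.group K)) : GL chevF4.Idx K) : Matrix chevF4.Idx chevF4.Idx K).submatrix idxQ
      idxQ = !![1, 0, 0, 0; 0, 1, 0, 0; 1, 0, 1, 0; 1, 1, 0, 1] := by
  have hg : ∀ {a : ℕ}, a ∈ [25, 27, 28, 30, 20, 22, 19, 17] → ∀ t : K,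
      (xG checked_F4 a t : GL chevF4.Idx K) ∈ gradedGroup chevF4 K gradQ := fun ha t => x_graded ha t
  have e1 : classV e (0 : K) 1 = xG checked_F4 19 1 * xG checked_F4 17 1 := by
    simp [classV, wordG, b2ClassWord, f4ma, f4mb, f4mab, f4maab, zero_pow he,
      xG_zero checked_F4 (show 20 < chevF4.nroots by decide), xG_zero checked_F4 (show 22 < chevF4.nroots by decide)]
  have e2 : (⟨(classV e (0 : K) 1 : ↥(chevF4.group K)),
      wordG_graded _ (by simp [b2ClassWord, f4ma, f4mb, f4mab, f4maab])⟩ : ↥(gradedGroup chevF4 K gradQ)) =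
      ⟨_, hg (a := 19) (by decide) 1⟩ * ⟨_, hg (a := 17) (by decide) 1⟩ := Subtype.ext (by simp [e1])
  have h := congrArg blk e2
  rw [map_mul] at h
  refine Eq.trans h ?_
  have t19 : blkTab 19 = [[[], [], [], []], [[], [], [], []], [[(1, -1)], [], [], []], [[], [(1, 1)], [], []]] := by
    decide +kernel
  have t17 : blkTab 17 = [[[], [], [], []], [[], [], [], []], [[], [], [], []], [[(1, 1)], [], [], []]] := by
    decide +kernel
  ext i j
  simp only [blk, MonoidHom.coe_mk, OneHom.coe_mk, Matrix.mul_apply, Fin.sum_univ_four, Matrix.submatrix_apply,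
    coe_xG, blk_x (r := 19) (by decide) (by decide +kernel), blk_x (r := 17) (by decide) (by decide +kernel), t19, t17]
  fin_cases i <;> fin_cases j <;> simp [ReeF.neg_eq]

theorem gB_graded (t u : K) : ((gB m t u : GT K m) : GL chevF4.Idx K) ∈ gradedGroup chevF4 K gradQ :=
  wordG_graded _ (by simp [b2ClassWord, f4a, f4b, f4ab, f4aab])

theorem gQ_graded : ((gQ m : GT K m) : GL chevF4.Idx K) ∈ gradedGroup chevF4 K gradQ := by
  have h : classU (2 ^ m) (1 : K) 0 * classV (2 ^ m) (0 : K) 1 * classU (2 ^ m) (1 : K) 1 = nQ :=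
    (nQ_eq (two_pow_ne m)).symm
  rw [show ((gQ m : GT K m) : GL chevF4.Idx K) = ((nQ (K := K) : ↥(chevF4.group K)) : GL chevF4.Idx K) from rfl,
    ← h, Subgroup.coe_mul, Subgroup.coe_mul]
  exact mul_mem (mul_mem (gB_graded (m := m) 1 0)
    (wordG_graded _ (by simp [b2ClassWord, f4ma, f4mb, f4mab, f4maab]))) (gB_graded (m := m) 1 1)

/-- The graded elements of the large Ree group. -/
noncomputable def grQ (K : Type*) [Field K] (m : ℕ) : Subgroup (GT K m) :=
  (gradedGroup chevF4 K gradQ).comap (twistedF4 K (2 ^ m)).subtype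

/-- The inclusion of the graded elements. -/
noncomputable def grIncl (K : Type*) [Field K] (m : ℕ) : ↥(grQ K m) →* ↥(gradedGroup chevF4 K gradQ) :=
  ((twistedF4 K (2 ^ m)).subtype.comp (grQ K m).subtype).codRestrict _ fun g => Subgroup.mem_comap.1 g.2

/-- The block on the graded elements of the large Ree group. -/
noncomputable def blkT (K : Type*) [Field K] (m : ℕ) : ↥(grQ K m) →* Matrix (Fin 4) (Fin 4) K :=
  blk.comp (grIncl K m)

theorem blkT_apply (g : ↥(grQ K m)) : blkT K m g =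
    (((g : GT K m) : GL chevF4.Idx K) : Matrix chevF4.Idx chevF4.Idx K).submatrix idxQ idxQ := rfl

variable [Fintype K]

theorem blk_gB (hm : 1 ≤ m) (hK : Fintype.card K = 2 ^ (2 * m + 1)) (t u : K) :
    blkT K m ⟨gB m t u, gB_graded t u⟩ =
      (Suzuki.slT m (t ^ 2 ^ m) (u + t ^ 2 ^ m * t) : Matrix (Fin 4) (Fin 4) K) := by
  have h : Suzuki.Hyp K m := ⟨hm, hK⟩
  have he := pow_theta hK
  refine (blkT_apply _).trans ?_
  show (((classU (2 ^ m) t u : ↥(chevF4.group K)) : GL chevF4.Idx K) : Matrix chevF4.Idx chevF4.Idx K).submatrix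
    idxQ idxQ = _
  rw [classU_eq, blk_word]
  set q := t ^ 2 ^ m
  have h2 : (2 : K) = 0 := CharTwo.two_eq_zero
  have hq : Suzuki.theta m q = t := by
    rw [Suzuki.theta, pow_succ]; exact (pow_e_mul he t).1
  have ht : Suzuki.theta m t = q ^ 2 := by rw [Suzuki.theta, pow_succ, pow_mul]
  have hu : u ^ (2 * 2 ^ m) = Suzuki.theta m u := by rw [Suzuki.theta, pow_succ, mul_comm]
  have hf : Suzuki.ovFun m q (u + q * t) = q * u + (u ^ (2 * 2 ^ m) + t * q ^ 2) := by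
    rw [Suzuki.ovFun_eq, h.theta_add, Suzuki.theta_mul, hq, ht, hu]
    linear_combination (q ^ 2 * t) * h2
  simp only [Suzuki.slT, hq, hf]
  ext i j
  fin_cases i <;> fin_cases j <;> simp
  · linear_combination -(q * t) * h2
  · ring

theorem blk_gQ (hm : 1 ≤ m) (hK : Fintype.card K = 2 ^ (2 * m + 1)) :
    blkT K m ⟨gQ m, gQ_graded (m := m)⟩ = (Suzuki.slW K : Matrix (Fin 4) (Fin 4) K) := by
  have h : Suzuki.Hyp K m := ⟨hm, hK⟩
  have hV : ((classV (2 ^ m) (0 : K) 1 : ↥(chevF4.group K)) : GL chevF4.Idx K) ∈ gradedGroup chevF4 K gradQ :=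
    wordG_graded _ (by simp [b2ClassWord, f4ma, f4mb, f4mab, f4maab])
  have e : (⟨gQ m, (gQ_graded (m := m))⟩ : ↥(grQ K m)) = ⟨gB m 1 0, gB_graded 1 0⟩ *
      ⟨⟨_, classV_mem (m := m) 0 1⟩, hV⟩ * ⟨gB m 1 1, gB_graded 1 1⟩ :=
    Subtype.ext (Subtype.ext (congrArg (Subtype.val : ↥(chevF4.group K) → GL chevF4.Idx K)
      (nQ_eq (K := K) (two_pow_ne m))))
  rw [e, map_mul, map_mul, blk_gB hm hK, blk_gB hm hK]
  have hblk : blkT K m ⟨⟨_, classV_mem (m := m) 0 1⟩, hV⟩ =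
      !![1, 0, 0, 0; 0, 1, 0, 0; 1, 0, 1, 0; 1, 1, 0, 1] :=
    (blkT_apply _).trans (blk_classV (2 ^ m) (two_pow_ne m))
  rw [hblk]
  have h1 : Suzuki.theta m (1 : K) = 1 := Suzuki.theta_one
  have h0 : Suzuki.theta m (0 : K) = 0 := Suzuki.theta_zero
  ext i j
  fin_cases i <;> fin_cases j <;>
    simp [Suzuki.slT, Suzuki.slW, Suzuki.ovFun_eq, h0, h1, Matrix.mul_apply, Fin.sum_univ_four,
      CharTwo.add_self_eq_zero]

variable {σ : ↥(chevF4.group K) →* ↥(chevF4.group K)} (hσ : IsReeSigma (2 ^ m) σ)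
  (he : ∀ x : K, x ^ (2 * (2 ^ m * 2 ^ m)) = x)
include hσ he

theorem LT_one_le : LT K m 1 ≤ grQ K m := by
  refine (Subgroup.closure_le _).2 ?_
  rintro x (hx | ⟨y, hy, rfl⟩)
  · obtain ⟨t, u, rfl⟩ := (mem_XT_one hσ he).1 hx
    exact gB_graded t u
  · obtain ⟨t, u, rfl⟩ := (mem_XT_one hσ he).1 hy
    exact mul_mem (mul_mem (gQ_graded (m := m) : gQ m ∈ grQ K m) (gB_graded t u : gB m t u ∈ grQ K m))
      (inv_mem (gQ_graded (m := m) : gQ m ∈ grQ K m))

omit hσ he in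
theorem HT_graded {h : GT K m} (hh : h ∈ HT K m) :
    h ∈ grQ K m ∧ ∀ y x, y ≠ x → ((h : GL chevF4.Idx K) : Matrix chevF4.Idx chevF4.Idx K) y x = 0 := by
  have hd : (h : GL chevF4.Idx K) ∈ chevF4.diagonalSubgroup K := hh
  rw [rooted_F4.diagonalSubgroup_eq] at hd
  obtain ⟨c, e⟩ := hd
  have h0 : ∀ y x, y ≠ x → ((h : GL chevF4.Idx K) : Matrix chevF4.Idx chevF4.Idx K) y x = 0 := fun y x hne => by
    rw [← e, coe_torusHom]; exact isDiag_charDiag _ hne
  refine ⟨mem_gradedGroup_iff.2 fun y x hne => ?_, h0⟩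
  by_contra e'
  exact hne (h0 y x fun e'' => e' (by rw [e'']))

/-- The two cells of the rank one subgroup. -/
def cellsQ (K : Type*) [Field K] [CharP K 2] (m : ℕ) : Set (GT K m) :=
  {g | ∃ x ∈ XT K m 1, ∃ h ∈ HT K m, g = x * h ∨ ∃ y ∈ XT K m 1, g = x * h * gQ m * y}

theorem LT_one_cells {g : GT K m} (hg : g ∈ LT K m 1) : g ∈ cellsQ K m := by
  set n : GT K m := gQ m with hn
  have hH : ∀ h ∈ HT K m, n * h * n⁻¹ ∈ HT K m ∧ n⁻¹ * h * n ∈ HT K m := fun h hh => nT_conj_HT hh 1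
  have hsq : n * n ∈ HT K m := nT_sq hσ he 1
  have hX : ∀ h ∈ HT K m, ∀ x ∈ XT K m 1, h * x * h⁻¹ ∈ XT K m 1 := fun h hh x hx => HT_conj_XT hh 1 hx
  have mulH : ∀ k ∈ HT K m, ∀ z ∈ cellsQ K m, k * z ∈ cellsQ K m := by
    rintro k hk z ⟨x, hx, h, hh, e⟩
    refine ⟨k * x * k⁻¹, hX k hk x hx, k * h, mul_mem hk hh, ?_⟩
    rcases e with rfl | ⟨y, hy, rfl⟩
    · exact Or.inl (by group)
    · exact Or.inr ⟨y, hy, by group⟩
  have mulN : ∀ z ∈ cellsQ K m, n * z ∈ cellsQ K m := by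
    rintro z ⟨x, hx, h, hh, e⟩
    rcases e with rfl | ⟨y, hy, rfl⟩
    · refine ⟨1, one_mem _, n * h * n⁻¹, (hH h hh).1, Or.inr ⟨h⁻¹ * x * h, ?_, by rw [← hn]; group⟩⟩
      have := hX h⁻¹ (inv_mem hh) x hx
      rwa [inv_inv] at this
    rcases eq_or_ne x 1 with rfl | hx1
    · set h2 := n * h * n⁻¹ * (n * n)
      have hh2 : h2 ∈ HT K m := mul_mem (hH h hh).1 hsq
      exact ⟨h2 * y * h2⁻¹, hX h2 hh2 y hy, h2, hh2, Or.inl (by simp only [h2, ← hn]; group)⟩
    obtain ⟨b, hb, c, hc, h1, hh1, ec⟩ := cell_XT hσ he 1 hx hx1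
    change n * x * n⁻¹ = b * (h1 * n) * c at ec
    set h3 := n * h * n⁻¹ * (n * n)
    have hh3 : h3 ∈ HT K m := mul_mem (hH h hh).1 hsq
    refine ⟨b, hb, h1 * (n * h3 * n⁻¹), mul_mem hh1 (hH h3 hh3).1, Or.inr ⟨h3⁻¹ * c * h3 * y, mul_mem ?_ hy, ?_⟩⟩
    · have := hX h3⁻¹ (inv_mem hh3) c hc
      rwa [inv_inv] at this
    · calc n * (x * h * n * y) = (n * x * n⁻¹) * h3 * y := by simp only [h3]; group
        _ = _ := by rw [ec, ← hn]; group
  have mulX : ∀ a ∈ XT K m 1, ∀ z ∈ cellsQ K m, a * z ∈ cellsQ K m := by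
    rintro a ha z ⟨x, hx, h, hh, e⟩
    refine ⟨a * x, mul_mem ha hx, h, hh, ?_⟩
    rcases e with rfl | ⟨y, hy, rfl⟩
    · exact Or.inl (by group)
    · exact Or.inr ⟨y, hy, by group⟩
  have mulN' : ∀ z ∈ cellsQ K m, n⁻¹ * z ∈ cellsQ K m := fun z hz => by
    have := mulH _ (inv_mem hsq) _ (mulN z hz)
    rwa [show (n * n)⁻¹ * (n * z) = n⁻¹ * z by group] at this
  have key : ∀ g ∈ LT K m 1, ∀ z ∈ cellsQ K m, g * z ∈ cellsQ K m ∧ g⁻¹ * z ∈ cellsQ K m := by
    intro g hg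
    induction hg using Subgroup.closure_induction with
    | mem a ha =>
      intro z hz
      rcases ha with ha | ⟨x, hx, rfl⟩
      · exact ⟨mulX a ha z hz, mulX _ (inv_mem ha) z hz⟩
      · show n * x * n⁻¹ * z ∈ _ ∧ (n * x * n⁻¹)⁻¹ * z ∈ _
        refine ⟨?_, ?_⟩
        · have := mulN _ (mulX x hx _ (mulN' z hz))
          rwa [← mul_assoc, ← mul_assoc] at this
        · have := mulN _ (mulX x⁻¹ (inv_mem hx) _ (mulN' z hz))
          rwa [← mul_assoc, ← mul_assoc, show n * x⁻¹ * n⁻¹ = (n * x * n⁻¹)⁻¹ by group] at this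
    | one => intro z hz; simpa using hz
    | mul a b _ _ ha hb =>
      intro z hz
      exact ⟨by rw [mul_assoc]; exact (ha _ (hb z hz).1).1,
        by rw [mul_inv_rev, mul_assoc]; exact (hb _ (ha z hz).2).2⟩
    | inv a _ ha => intro z hz; exact ⟨(ha z hz).2, by rw [inv_inv]; exact (ha z hz).1⟩
  have h1 : (1 : GT K m) ∈ cellsQ K m := ⟨1, one_mem _, 1, one_mem _, Or.inl (mul_one 1).symm⟩
  simpa using (key g hg 1 h1).1

/-- The block is faithful on the rank one subgroup. -/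
theorem blkT_faithful (hm : 1 ≤ m) (hK : Fintype.card K = 2 ^ (2 * m + 1)) {g : GT K m} (hg : g ∈ LT K m 1)
    (h1 : blkT K m ⟨g, LT_one_le hσ he hg⟩ = 1) : g = 1 := by
  have hup : ∀ t u : K, ∀ i j : Fin 4, j < i → blkT K m ⟨gB m t u, gB_graded t u⟩ i j = 0 := by
    intro t u i j hij
    rw [blk_gB hm hK, Suzuki.slT]
    fin_cases i <;> fin_cases j <;> first | (exact absurd hij (by decide)) | simp
  have hdiag : ∀ (h : GT K m) (hh : h ∈ HT K m) (i j : Fin 4), i ≠ j →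
      blkT K m ⟨h, (HT_graded hh).1⟩ i j = 0 := fun h hh i j hij =>
    (HT_graded hh).2 _ _ fun e => hij ((idxQ_spec (idxQ i)).2 i j e)
  have hXm : ∀ x ∈ XT K m 1, x ∈ LT K m 1 := fun x hx => Subgroup.subset_closure (Or.inl hx)
  obtain ⟨x, hx, h, hh, e⟩ := LT_one_cells hσ he hg
  obtain ⟨t, u, rfl⟩ := (mem_XT_one hσ he).1 hx
  rcases e with rfl | ⟨y, hy, rfl⟩
  · have hh' : h ∈ LT K m 1 := by
      have := mul_mem (inv_mem (hXm _ hx)) hg
      rwa [inv_mul_cancel_left] at this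
    have e1 : blkT K m ⟨gB m t u, gB_graded t u⟩ * blkT K m ⟨h, (HT_graded hh).1⟩ = 1 := by
      rw [← map_mul]; exact h1
    set D := blkT K m ⟨h, (HT_graded hh).1⟩ with hD
    rw [blk_gB hm hK] at e1
    have key : ∀ i j, (Suzuki.slT m (t ^ 2 ^ m) (u + t ^ 2 ^ m * t) : Matrix (Fin 4) (Fin 4) K) i j * D j j =
        (1 : Matrix (Fin 4) (Fin 4) K) i j := fun i j => by
      rw [← e1, Matrix.mul_apply, Finset.sum_eq_single j]
      · intro k _ hk
        rw [hD, hdiag h hh k j hk, mul_zero]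
      · simp
    have d0 : D 0 0 = 1 := by simpa [Suzuki.slT] using key 0 0
    have d1 : D 1 1 = 1 := by simpa [Suzuki.slT] using key 1 1
    have d2 : D 2 2 = 1 := by simpa [Suzuki.slT] using key 2 2
    have d3 : D 3 3 = 1 := by simpa [Suzuki.slT] using key 3 3
    have ht : t = 0 := by simpa [Suzuki.slT, d1] using key 0 1
    have hu : u = 0 := by simpa [Suzuki.slT, d3, ht] using key 1 3
    subst ht hu
    rw [gB_zero he, one_mul]
    obtain ⟨s, r, rfl⟩ := exists_gH hσ he hh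
    have hD1 : D = 1 := by
      ext i j
      by_cases hij : i = j
      · subst hij; fin_cases i <;> simp [d0, d1, d2, d3]
      · rw [Matrix.one_apply_ne hij]; exact hdiag _ hh i j hij
    have c47 : chevF4.cartan 0 47 = 0 ∧ chevF4.cartan 1 47 = 0 ∧ chevF4.cartan 2 47 = 0 ∧
        chevF4.cartan 3 47 = 1 := by decide +kernel
    have hcomm := LT_centralizes hσ he 1 (r := 47) (by decide) (by decide +kernel) (by decide +kernel) hh'
    have e47 : ct (2 ^ m) s r * xG checked_F4 47 1 * (ct (2 ^ m) s r)⁻¹ = xG checked_F4 47 1 := by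
      refine Subtype.ext ?_
      simp only [Subgroup.coe_mul, Subgroup.coe_inv, xG, dif_pos (show 47 < chevF4.nroots by decide)]
      exact mul_inv_eq_iff_eq_mul.2 hcomm.eq.symm
    rw [ct_conj_X _ _ _ (by decide), mul_one] at e47
    have hs : s = 1 := by
      have e' := Units.ext (u := torChi (2 ^ m) s r 47) (v := 1) (xG_injective (r := 47) ⟨by decide, by decide⟩ e47)
      rw [torChi, c47.1, c47.2.1, c47.2.2.1, c47.2.2.2] at e'
      simpa using e'
    subst hs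
    have e25 : blkT K m ⟨gH hσ he 1 r * gB m 1 0 * (gH hσ he 1 r)⁻¹,
        mul_mem (mul_mem (HT_graded hh).1 (gB_graded 1 0)) (inv_mem (HT_graded hh).1)⟩ =
        blkT K m ⟨gB m 1 0, gB_graded 1 0⟩ := by
      have hi : blkT K m ⟨(gH hσ he 1 r)⁻¹, inv_mem (HT_graded hh).1⟩ = 1 := by
        have : blkT K m ⟨gH hσ he 1 r, (HT_graded hh).1⟩ * blkT K m ⟨(gH hσ he 1 r)⁻¹, inv_mem (HT_graded hh).1⟩ =
            1 := by rw [← map_mul]; exact (congrArg (blkT K m) (Subtype.ext (mul_inv_cancel _))).trans (map_one _)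
        rwa [← hD, hD1, one_mul] at this
      rw [show (⟨_, mul_mem (mul_mem (HT_graded hh).1 (gB_graded (K := K) (m := m) 1 0)) (inv_mem (HT_graded hh).1)⟩ :
          ↥(grQ K m)) = ⟨gH hσ he 1 r, (HT_graded hh).1⟩ * ⟨gB m 1 0, gB_graded 1 0⟩ *
          ⟨(gH hσ he 1 r)⁻¹, inv_mem (HT_graded hh).1⟩ from rfl, map_mul, map_mul, ← hD, hD1, hi, one_mul, mul_one]
    simp only [gH_gB he hσ, mul_one, mul_zero] at e25
    rw [blk_gB hm hK, blk_gB hm hK] at e25
    have e01 := congrFun (congrFun e25 0) 1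
    simp [Suzuki.slT] at e01
    have hc : torChi (2 ^ m) (1 : Kˣ) r 25 = 1 := by
      refine Units.ext ?_
      have h3 := (pow_e_mul he ((torChi (2 ^ m) (1 : Kˣ) r 25 : Kˣ) : K)).1
      rw [e01, one_pow] at h3
      exact h3.symm
    rw [chi_25, one_zpow, one_mul] at hc
    have hr : r = 1 := eq_one_of_zpow he _ _ (twoTwo_bezout (2 ^ m)) hc
    subst hr
    exact Subtype.ext (congrArg Subtype.val (ct_one (K := K) (2 ^ m)) : _)
  · exfalso
    obtain ⟨t', u', rfl⟩ := (mem_XT_one hσ he).1 hy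
    have hn : blkT K m ⟨gQ m, (gQ_graded (m := m))⟩ =
        blkT K m ⟨h⁻¹, inv_mem (HT_graded hh).1⟩ * blkT K m ⟨(gB m t u)⁻¹, inv_mem (gB_graded t u)⟩ *
          blkT K m ⟨(gB m t' u')⁻¹, inv_mem (gB_graded t' u')⟩ := by
      have e2 : (⟨gQ m, (gQ_graded (m := m))⟩ : ↥(grQ K m)) = ⟨h⁻¹, inv_mem (HT_graded hh).1⟩ *
          ⟨(gB m t u)⁻¹, inv_mem (gB_graded t u)⟩ * ⟨gB m t u * h * gQ m * gB m t' u', LT_one_le hσ he hg⟩ *
            ⟨(gB m t' u')⁻¹, inv_mem (gB_graded t' u')⟩ := by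
        refine Subtype.ext ?_
        show gQ m = h⁻¹ * (gB m t u)⁻¹ * (gB m t u * h * gQ m * gB m t' u') * (gB m t' u')⁻¹
        group
      rw [e2, map_mul, map_mul, map_mul, h1, mul_one]
    have hup' : ∀ t u : K, ∀ i j : Fin 4, j < i →
        blkT K m ⟨(gB m t u)⁻¹, inv_mem (gB_graded t u)⟩ i j = 0 := by
      intro t u
      obtain ⟨t1, u1, e3⟩ := (mem_XT_one hσ he).1 (inv_mem ((mem_XT_one hσ he).2 ⟨t, u, rfl⟩))
      rw [show (⟨(gB m t u)⁻¹, inv_mem (gB_graded t u)⟩ : ↥(grQ K m)) = ⟨gB m t1 u1, gB_graded t1 u1⟩ from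
        Subtype.ext e3]
      exact hup t1 u1
    have e30 := congrFun (congrFun hn 3) 0
    rw [blk_gQ hm hK] at e30
    simp [Suzuki.slW, Matrix.mul_apply, Fin.sum_univ_four, hdiag _ (inv_mem hh) 3 0 (by decide),
      hdiag _ (inv_mem hh) 3 1 (by decide), hdiag _ (inv_mem hh) 3 2 (by decide),
      hup' t u 3 0 (by decide), hup' t u 3 1 (by decide), hup' t u 3 2 (by decide),
      hup' t' u' 3 0 (by decide)] at e30

theorem inj_LT_one (hm : 1 ≤ m) (hK : Fintype.card K = 2 ^ (2 * m + 1)) {Γ : Type*} [Group Γ] [Finite Γ]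
    {π : Γ →* GT K m} (hπ : Cfsg.IsStemExtension π) (hA : ¬ 2 ∣ Nat.card π.ker) :
    ∀ x ∈ pGen π 2 (LT K m 1 : Set (GT K m)), π x = 1 → x = 1 := by
  have : Fact (Nat.Prime 2) := ⟨Nat.prime_two⟩
  have h : Suzuki.Hyp K m := ⟨hm, hK⟩
  have hex : ∀ g : ↥(LT K m 1), ∃ s : ↥(Cfsg.Sz K m),
      ((s : Matrix.SpecialLinearGroup (Fin 4) K) : Matrix (Fin 4) (Fin 4) K) =
        blkT K m ⟨g, LT_one_le hσ he g.2⟩ := by
    have hgen : LT K m 1 ≤ Subgroup.closure
        ((XT K m 1 : Set (GT K m)) ∪ (fun x => gQ m * x * (gQ m)⁻¹) '' (XT K m 1 : Set (GT K m))) := le_rfl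
    have hsX : ∀ x ∈ XT K m 1, ∃ s : ↥(Cfsg.Sz K m), ∃ hx : x ∈ grQ K m,
        ((s : Matrix.SpecialLinearGroup (Fin 4) K) : Matrix (Fin 4) (Fin 4) K) = blkT K m ⟨x, hx⟩ := by
      intro x hx
      obtain ⟨t, u, rfl⟩ := (mem_XT_one hσ he).1 hx
      exact ⟨⟨_, Suzuki.slT_mem h _ _⟩, gB_graded t u, (blk_gB hm hK t u).symm⟩
    rintro ⟨g, hg⟩
    suffices ∃ s : ↥(Cfsg.Sz K m), ∃ hx : g ∈ grQ K m,
        ((s : Matrix.SpecialLinearGroup (Fin 4) K) : Matrix (Fin 4) (Fin 4) K) = blkT K m ⟨g, hx⟩ by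
      obtain ⟨s, _, e⟩ := this; exact ⟨s, e⟩
    have hinv : ∀ (a : GT K m), (∃ s : ↥(Cfsg.Sz K m), ∃ hx : a ∈ grQ K m,
        ((s : Matrix.SpecialLinearGroup (Fin 4) K) : Matrix (Fin 4) (Fin 4) K) = blkT K m ⟨a, hx⟩) →
        ∃ s : ↥(Cfsg.Sz K m), ∃ hx : a⁻¹ ∈ grQ K m,
          ((s : Matrix.SpecialLinearGroup (Fin 4) K) : Matrix (Fin 4) (Fin 4) K) = blkT K m ⟨a⁻¹, hx⟩ := by
      rintro a ⟨s, ha, e⟩
      refine ⟨s⁻¹, inv_mem ha, ?_⟩
      have e1 : blkT K m ⟨a, ha⟩ * blkT K m ⟨a⁻¹, inv_mem ha⟩ = 1 := by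
        rw [← map_mul]; exact (congrArg (blkT K m) (Subtype.ext (mul_inv_cancel a))).trans (map_one _)
      rw [← e] at e1
      calc (((s⁻¹ : ↥(Cfsg.Sz K m)) : Matrix.SpecialLinearGroup (Fin 4) K) : Matrix (Fin 4) (Fin 4) K)
          = (((s⁻¹ : ↥(Cfsg.Sz K m)) : Matrix.SpecialLinearGroup (Fin 4) K) : Matrix (Fin 4) (Fin 4) K) *
            (((s : Matrix.SpecialLinearGroup (Fin 4) K) : Matrix (Fin 4) (Fin 4) K) *
              blkT K m ⟨a⁻¹, inv_mem ha⟩) := by rw [e1, mul_one]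
        _ = _ := by
          rw [← mul_assoc, ← Matrix.SpecialLinearGroup.coe_mul, ← Subgroup.coe_mul, inv_mul_cancel,
            Subgroup.coe_one, Matrix.SpecialLinearGroup.coe_one, one_mul]
    have hmul : ∀ (a b : GT K m), (∃ s : ↥(Cfsg.Sz K m), ∃ hx : a ∈ grQ K m,
        ((s : Matrix.SpecialLinearGroup (Fin 4) K) : Matrix (Fin 4) (Fin 4) K) = blkT K m ⟨a, hx⟩) →
        (∃ s : ↥(Cfsg.Sz K m), ∃ hx : b ∈ grQ K m,
          ((s : Matrix.SpecialLinearGroup (Fin 4) K) : Matrix (Fin 4) (Fin 4) K) = blkT K m ⟨b, hx⟩) →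
        ∃ s : ↥(Cfsg.Sz K m), ∃ hx : a * b ∈ grQ K m,
          ((s : Matrix.SpecialLinearGroup (Fin 4) K) : Matrix (Fin 4) (Fin 4) K) = blkT K m ⟨a * b, hx⟩ := by
      rintro a b ⟨s, ha, e⟩ ⟨s', hb, e'⟩
      refine ⟨s * s', mul_mem ha hb, ?_⟩
      rw [Subgroup.coe_mul, Matrix.SpecialLinearGroup.coe_mul, e, e', ← map_mul]
      rfl
    have hQ : ∃ s : ↥(Cfsg.Sz K m), ∃ hx : (gQ m : GT K m) ∈ grQ K m,
        ((s : Matrix.SpecialLinearGroup (Fin 4) K) : Matrix (Fin 4) (Fin 4) K) = blkT K m ⟨gQ m, hx⟩ :=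
      ⟨⟨_, Suzuki.slW_mem h⟩, (gQ_graded (m := m)), (blk_gQ hm hK).symm⟩
    have hg' := hgen hg
    induction hg' using Subgroup.closure_induction with
    | mem a ha =>
      rcases ha with ha | ⟨x, hx, rfl⟩
      · exact hsX a ha
      · exact hmul _ _ (hmul _ _ hQ (hsX x hx)) (hinv _ hQ)
    | one => exact ⟨1, one_mem _, (map_one (blkT K m)).symm⟩
    | mul a b ha hb iha ihb => exact hmul a b (iha ha) (ihb hb)
    | inv a ha iha => exact hinv a (iha ha)
  choose f hf using hex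
  have hval : Function.Injective fun s : ↥(Cfsg.Sz K m) =>
      ((s : Matrix.SpecialLinearGroup (Fin 4) K) : Matrix (Fin 4) (Fin 4) K) :=
    fun a b e => Subtype.ext (Subtype.ext e)
  let F : ↥(LT K m 1) →* ↥(Cfsg.Sz K m) := MonoidHom.mk' f fun a b => hval (by
    simp only
    rw [Subgroup.coe_mul, Matrix.SpecialLinearGroup.coe_mul, hf, hf, hf, ← map_mul]
    rfl)
  have hF : Function.Injective F := by
    rw [injective_iff_map_eq_one]
    intro a ha
    refine Subtype.ext (blkT_faithful hσ he hm hK a.2 ?_)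
    rw [← hf a, show f a = 1 from ha]
    simp
  obtain ⟨S, hS, hSL, hS2⟩ := (absOnes hσ he hK).closure_pElt_L 1
  exact pGen_two_inj hπ.1 hπ.2.1 hA S hS hSL hS2 F hF fun r _ hr P => Suzuki.sylow_isCyclic h hr P

theorem inj_LT_zero (hK : Fintype.card K = 2 ^ (2 * m + 1)) {Γ : Type*} [Group Γ] [Finite Γ]
    {π : Γ →* GT K m} (hπ : Cfsg.IsStemExtension π) (hA : ¬ 2 ∣ Nat.card π.ker) :
    ∀ x ∈ pGen π 2 (LT K m 0 : Set (GT K m)), π x = 1 → x = 1 := by
  have : Fact (Nat.Prime 2) := ⟨Nat.prime_two⟩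
  let e : ℕ → K →+* K := fun i => if i = 0 then iterateFrobenius K 2 m else RingHom.id K
  have hchk : Twisted.chkEtaSigns chevF4 F4.cert = true := by decide +kernel
  obtain ⟨Φ, hΦ⟩ := exists_orbSL2 (F := K) rooted_F4 hchk e isWord_LP (by decide +kernel)
  have hu : ∀ a : K, Φ (upper a) = ((gA m a : GT K m) : GL chevF4.Idx K) ∧
      Φ (lower a) = (pairV (2 ^ m) a : GL chevF4.Idx K) := by
    intro a
    have h0 : chevF4.simple 0 = 33 ∧ chevF4.simple 3 = 24 ∧ ng chevF4 33 = 14 ∧ ng chevF4 24 = 23 := by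
      decide +kernel
    rw [(hΦ a).1, (hΦ a).2]
    constructor <;>
      simp [gA, pairU, pairV, wordG, f4PairWord, f4p1, f4p4, f4m1, f4m4, LP, Core.orbElt, Core.orbEltNeg, xG,
        h0, e, iterateFrobenius_def, show (24 : ℕ) < chevF4.nroots by decide, show (33 : ℕ) < chevF4.nroots by decide,
        show (14 : ℕ) < chevF4.nroots by decide, show (23 : ℕ) < chevF4.nroots by decide]
  have hPV : ∀ a : K, (pairV (2 ^ m) a : GL chevF4.Idx K) =
      ((nT m 0 * gA m a * (nT m 0)⁻¹ : GT K m) : GL chevF4.Idx K) := fun a =>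
    congrArg Subtype.val (pairV_eq_conj (2 ^ m) a)
  let ψ : SL(2, K) →* GT K m := Φ.codRestrict _ fun g =>
    range_le_SL2 Φ _ (fun a => by rw [(hu a).1]; exact (gA m a).2)
      (fun a => by rw [(hu a).2]; exact pairV_mem a) ⟨g, rfl⟩
  have hψu : ∀ a : K, ψ (upper a) = gA m a := fun a => Subtype.ext (hu a).1
  have hψl : ∀ a : K, ψ (lower a) = nT m 0 * gA m a * (nT m 0)⁻¹ := fun a =>
    Subtype.ext ((hu a).2.trans (hPV a))
  have hψw : ψ wElt = gP m := by
    rw [wElt_eq, map_mul, map_mul, hψu, hψl, CharTwo.neg_eq]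
    exact gP_eq.symm
  have hinj : Function.Injective ψ := by
    rw [injective_iff_map_eq_one]
    intro g hg
    have hsq : ∀ (a : Kˣ) (c : K), ψ (dHom a) = gA m c → a = 1 := by
      intro a c h
      have h1 := congrArg ψ (dHom_conj_upper a (1 : K))
      rw [map_mul, map_mul, map_inv, hψu, hψu, h, gA_mul, add_comm c, ← gA_mul, mul_inv_cancel_right,
        mul_one] at h1
      have h2 : ((a * a : Kˣ) : K) = 1 := (gA_inj h1).symm
      exact Units.ext (frobenius_inj K 2 (by simpa [frobenius_def, pow_two] using h2))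
    by_cases h10 : g 1 0 = 0
    · obtain ⟨a, c, rfl⟩ := exists_small_cell g h10
      rw [map_mul, hψu] at hg
      have h1 : ψ (dHom a) = gA m c := by
        rw [eq_inv_of_mul_eq_one_left hg]
        exact inv_eq_of_mul_eq_one_right (by rw [gA_mul, CharTwo.add_self_eq_zero, gA_zero])
      have ha := hsq a c h1
      subst ha
      rw [map_one, map_one, ← gA_zero (K := K) (m := m)] at h1
      rw [map_one, one_mul, ← gA_inj h1, upper_zero]
    · exfalso
      obtain ⟨b, a, c, rfl⟩ := exists_big_cell g h10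
      simp only [map_mul, hψu, hψw] at hg
      set d := ψ (dHom a) with hd
      have hn : (gP m : GT K m) = d⁻¹ * gA m (b + c) := by
        calc (gP m : GT K m) = d⁻¹ * (gA m b)⁻¹ * (gA m b * (d * gP m) * gA m c) * (gA m c)⁻¹ := by group
          _ = d⁻¹ * ((gA m c * gA m b)⁻¹) := by rw [hg]; group
          _ = _ := by
            rw [gA_mul, inv_eq_of_mul_eq_one_right (a := gA m (c + b)) (b := gA m (c + b))
              (by rw [gA_mul, CharTwo.add_self_eq_zero, gA_zero]), add_comm c]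
      have h2 : gP m * gA m 1 * (gP m)⁻¹ = gA m (((a⁻¹ : Kˣ) : K) * (a⁻¹ : Kˣ) * (1 : K)) := by
        rw [hn, show d⁻¹ * gA m (b + c) * gA m 1 * (d⁻¹ * gA m (b + c))⁻¹ =
          d⁻¹ * (gA m (b + c) * gA m 1 * (gA m (b + c))⁻¹) * d⁻¹⁻¹ by group, gA_mul, add_comm (b + c),
          ← gA_mul, mul_inv_cancel_right, hd, ← map_inv, ← map_inv, ← hψu, ← map_inv, ← map_mul, ← map_mul,
          dHom_conj_upper, hψu]
      have hneg := cls_conj_neg (cls_nT (K := K) (m := m) 0) (c := ((gA m (1 : K) : GT K m) : GL chevF4.Idx K))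
        ((mem_XT_zero hσ he).2 ⟨1, rfl⟩)
      have hpos : ((gP m * gA m 1 * (gP m)⁻¹ : GT K m) : GL chevF4.Idx K) ∈ chevF4.posUnipotent K := by
        rw [h2]; exact XT_le 0 ((mem_XT_zero hσ he).2 ⟨_, rfl⟩)
      have h3 : gP m * gA m 1 * (gP m)⁻¹ = (1 : GT K m) := Subtype.ext (pos_neg_eq_one hpos hneg)
      rw [conj_eq_one_iff, ← gA_zero (K := K) (m := m)] at h3
      exact one_ne_zero (gA_inj h3)
  obtain ⟨Ψ, hΨ⟩ := exists_lift_SL2 2 hπ.1 hπ.2.1 hA ψ
  have hle : pGen π 2 (LT K m 0 : Set (GT K m)) ≤ Ψ.range := by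
    have hLle : LT K m 0 ≤ ψ.range := by
      refine (Subgroup.closure_le _).2 ?_
      rintro x (hx | ⟨y, hy, rfl⟩)
      · obtain ⟨a, rfl⟩ := (mem_XT_zero hσ he).1 hx
        exact ⟨_, hψu a⟩
      · obtain ⟨a, rfl⟩ := (mem_XT_zero hσ he).1 hy
        exact ⟨_, hψl a⟩
    refine pGen_le hπ.2.1 hA _ fun x hx => ?_
    obtain ⟨g, rfl⟩ := hLle hx
    exact ⟨Ψ g, ⟨g, rfl⟩, DFunLike.congr_fun hΨ g⟩
  intro x hx h1
  obtain ⟨g, rfl⟩ := hle hx
  rw [hinj ((DFunLike.congr_fun hΨ g).symm.trans h1 |>.trans (map_one ψ).symm), map_one]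

/-- **Stem extensions of odd degree are trivial.** -/
theorem ker_eq_bot_of_odd (hm : 1 ≤ m) (hK : Fintype.card K = 2 ^ (2 * m + 1)) {Γ : Type*} [Group Γ] [Finite Γ]
    {π : Γ →* GT K m} (hπ : Cfsg.IsStemExtension π) (hA : ¬ 2 ∣ Nat.card π.ker) : π.ker = ⊥ := by
  have : Fact (Nat.Prime 2) := ⟨Nat.prime_two⟩
  refine (absOnes hσ he hK).ker_eq_bot hπ hA fun j => ?_
  fin_cases j
  exacts [inj_LT_zero hσ he hK hπ hA, inj_LT_one hσ he hm hK hπ hA]

end Cfsg.Agent.Lib.Schur.ReeF4
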