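import Cfsg.Agent.Lib.Schur.PLift
import Cfsg.Agent.Lib.Schur.Sylow

/-!
A stem extension, with kernel of order prime to `p`, of a group generated by two rank one subgroups with a Bruhat
decomposition: if the rank one subgroups lift, the extension is trivial. No structure of the rank one subgroups is used.
-/

set_option autoImplicit false
set_option maxHeartbeats 400000

namespace Cfsg.Agent.Lib.Schur.TwistAbs

open Subgroup
open scoped commutatorElement

variable {G : Type*} [Group G]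

/-- The monomial subgroup. -/
def monAbs (H : Subgroup G) (n : Fin 2 → G) : Subgroup G := H ⊔ Subgroup.closure (Set.range n)

/-- A group with a unipotent subgroup, a torus and two rank one subgroups with given root groups and
representatives. -/
structure AbsOnes (p : ℕ) (U H : Subgroup G) (X L : Fin 2 → Subgroup G) (n : Fin 2 → G) : Prop where
  pgroup : IsPGroup p U
  X_le : ∀ j, X j ≤ U
  X_le_L : ∀ j, X j ≤ L j
  L_gen : ∀ j, L j ≤ Subgroup.closure ((X j : Set G) ∪ (fun x => n j * x * (n j)⁻¹) '' (X j : Set G))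
  L_conj : ∀ j, ∀ x ∈ X j, n j * x * (n j)⁻¹ ∈ L j
  n_mem : ∀ j, n j ∈ L j
  n_sq : ∀ j, n j * n j ∈ H
  H_comm : ∀ a ∈ H, ∀ b ∈ H, Commute a b
  H_conj_U : ∀ h ∈ H, ∀ u ∈ U, h * u * h⁻¹ ∈ U
  H_conj_L : ∀ j, ∀ h ∈ H, ∀ x ∈ L j, h * x * h⁻¹ ∈ L j
  n_conj_H : ∀ j, ∀ h ∈ H, n j * h * (n j)⁻¹ ∈ H
  U_inf_N : U ⊓ monAbs H n = ⊥
  gen : U ⊔ Subgroup.closure (Set.range n) = ⊤
  split : ∀ j, ∀ u ∈ U, ∃ x ∈ X j, n j * (u * x) * (n j)⁻¹ ∈ U
  cell : ∀ j, ∀ x ∈ X j, x ≠ 1 → ∃ b ∈ X j, ∃ c ∈ X j, ∃ h ∈ H, n j * x * (n j)⁻¹ = b * (h * n j) * c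
  sign : ∀ j, ∀ m ∈ monAbs H n, (∀ x ∈ X j, m⁻¹ * x * m ∈ U) ∨ ∀ x ∈ X j, (n j * m)⁻¹ * x * (n j * m) ∈ U
  exchange : ∀ l : List (Fin 2), l ≠ [] → (l.map n).prod ∈ H → ∃ A k B s E, l = A ++ k :: (B ++ s :: E) ∧
    (∀ x ∈ L s, (B.map n).prod * x * (B.map n).prod⁻¹ ∈ L k) ∧
    (B.map n).prod * n s * (B.map n).prod⁻¹ * (n k)⁻¹ ∈ H
  indep : ∀ x ∈ L 0, x ∈ H → x ∈ L 1 → x = 1

variable {p : ℕ} [hp : Fact p.Prime] {U H : Subgroup G} {X L : Fin 2 → Subgroup G} {n : Fin 2 → G}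

theorem isPElt_of_mem {A : Subgroup G} (hA : IsPGroup p A) {u : G} (hu : u ∈ A) : IsPElt p u := by
  obtain ⟨k, hk⟩ := hA ⟨u, hu⟩
  exact ⟨k, by simpa using congrArg Subtype.val hk⟩

namespace AbsOnes

variable (D : AbsOnes p U H X L n)
include D

theorem pElt_X (j : Fin 2) {x : G} (hx : x ∈ X j) :
    IsPElt p x ∧ IsPElt p (n j * x * (n j)⁻¹) :=
  ⟨isPElt_of_mem D.pgroup (D.X_le j hx), (isPElt_of_mem D.pgroup (D.X_le j hx)).conj _⟩

/-- The rank one subgroups are generated by `p`-elements. -/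
theorem closure_pElt_L (j : Fin 2) : ∃ T : Set G, L j ≤ Subgroup.closure T ∧ (∀ t ∈ T, t ∈ L j) ∧
    ∀ t ∈ T, IsPElt p t := by
  refine ⟨_, D.L_gen j, ?_, ?_⟩
  · rintro t (ht | ⟨x, hx, rfl⟩)
    exacts [D.X_le_L j ht, D.L_conj j x hx]
  · rintro t (ht | ⟨x, hx, rfl⟩)
    exacts [(D.pElt_X j ht).1, (D.pElt_X j hx).2]

/-- The group is generated by `p`-elements. -/
theorem closure_pElt : (⊤ : Subgroup G) ≤ Subgroup.closure {g | IsPElt p g} := by
  rw [← D.gen, sup_le_iff, Subgroup.closure_le]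
  refine ⟨fun u hu => Subgroup.subset_closure (isPElt_of_mem D.pgroup hu), ?_⟩
  rintro _ ⟨j, rfl⟩
  obtain ⟨T, hT, -, hTp⟩ := D.closure_pElt_L j
  exact Subgroup.closure_mono hTp (hT (D.n_mem j))

variable {Γ : Type*} [Group Γ] [Finite Γ] {σ : Γ →* G}

/-- **Triviality.** -/
theorem ker_eq_bot [Finite G] (hσ : Cfsg.IsStemExtension σ) (hA : ¬ p ∣ Nat.card σ.ker)
    (hM : ∀ j, ∀ x ∈ pGen σ p (L j : Set G), σ x = 1 → x = 1) : σ.ker = ⊥ := by
  classical
  have hs := hσ.1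
  have hc := hσ.2.1
  have huniq : ∀ {x y : Γ}, IsPElt p x → IsPElt p y → σ x = σ y → x = y := fun hx hy h =>
    eq_of_isPElt hc hA hx hy h
  set Û := pGen σ p (U : Set G) with hÛ
  let M : Fin 2 → Subgroup Γ := fun j => pGen σ p (L j : Set G)
  have hMinj : ∀ j {x y : Γ}, x ∈ M j → y ∈ M j → σ x = σ y → x = y := fun j {x y} hx hy h =>
    inv_mul_eq_one.1 (hM j _ (mul_mem (inv_mem hx) hy) (by rw [map_mul, map_inv, h, inv_mul_cancel]))
  have hMmap : ∀ j, ∀ a ∈ L j, ∃ x ∈ M j, σ x = a := fun j a ha => by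
    obtain ⟨T, hT, hTL, hTp⟩ := D.closure_pElt_L j
    exact le_map_pGen hs T hT hTL hTp ha
  have hMconj : ∀ (g : Γ) (j k : Fin 2), (∀ a ∈ L j, σ g * a * (σ g)⁻¹ ∈ L k) → ∀ x ∈ M j,
      g * x * g⁻¹ ∈ M k := fun g j k h x hx => conj_mem_pGen g h hx
  -- lifts of `U`
  have hUelt : ∀ x ∈ Û, IsPElt p x := by
    obtain ⟨Q⟩ : Nonempty (Sylow p ↥(U.comap σ)) := inferInstance
    let τ := σ.subgroupComap U
    have hτ : Function.Surjective τ := fun u => by
      obtain ⟨x, hx⟩ := hs u.1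
      exact ⟨⟨x, by rw [Subgroup.mem_comap, hx]; exact u.2⟩, Subtype.ext hx⟩
    have htop : ((Q : Subgroup ↥(U.comap σ)).map τ) = ⊤ := by
      have := (Q.mapSurjective hτ).is_maximal' (D.pgroup.to_subgroup ⊤) le_top
      exact this.symm
    have hle : Û ≤ (Q : Subgroup ↥(U.comap σ)).map (U.comap σ).subtype := by
      refine pGen_le hc hA _ fun a ha => ?_
      obtain ⟨y, hy, e⟩ : (⟨a, ha⟩ : U) ∈ (Q : Subgroup ↥(U.comap σ)).map τ := htop ▸ Subgroup.mem_top _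
      exact ⟨y, Subgroup.mem_map_of_mem _ hy, congrArg Subtype.val e⟩
    intro x hx
    obtain ⟨y, hy, rfl⟩ := hle hx
    obtain ⟨k, hk⟩ := Q.isPGroup' ⟨y, hy⟩
    exact ⟨k, by simpa using congrArg (fun z : (Q : Subgroup ↥(U.comap σ)) => ((z : ↥(U.comap σ)) : Γ)) hk⟩
  have hÛmap : ∀ x ∈ Û, σ x ∈ U := fun x hx => sigma_mem_of_mem_pGen hx
  have hÛker : ∀ x ∈ Û, σ x = 1 → x = 1 := fun x hx h =>
    huniq (hUelt x hx) (isPElt_one p) (h.trans (map_one σ).symm)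
  have hconj : ∀ (g : Γ), ∀ x ∈ Û, σ g * σ x * (σ g)⁻¹ ∈ U → g * x * g⁻¹ ∈ Û := fun g x hx h =>
    mem_pGen ((hUelt x hx).conj g) (by rw [map_mul, map_mul, map_inv]; exact h)
  have hXlift : ∀ j, ∀ a ∈ X j, ∃ x, x ∈ Û ∧ x ∈ M j ∧ σ x = a := fun j a ha => by
    obtain ⟨x, rfl⟩ := hs a
    obtain ⟨y, -, hy, e⟩ := exists_isPElt_preimage (σ := σ) (p := p) (⊤ : Subgroup Γ) (Subgroup.mem_top x)
      (isPElt_of_mem D.pgroup (D.X_le j ha))
    exact ⟨y, mem_pGen hy (e ▸ D.X_le j ha), mem_pGen hy (e ▸ D.X_le_L j ha), e⟩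
  choose s hsM hsn using fun j => hMmap j _ (D.n_mem j)
  have hsl : ∀ l : List (Fin 2), σ (l.map s).prod = (l.map n).prod := fun l => by
    rw [map_list_prod, List.map_map]; exact congrArg List.prod (List.map_congr_left fun j _ => hsn j)
  set Ĥ : Subgroup Γ := ⨆ j, M j ⊓ H.comap σ with hĤ
  have hdĤ : ∀ j x, x ∈ M j → σ x ∈ H → x ∈ Ĥ := fun j x h1 h2 =>
    le_iSup (fun j => M j ⊓ H.comap σ) j ⟨h1, h2⟩
  have hĤH : ∀ x ∈ Ĥ, σ x ∈ H := by
    have : Ĥ ≤ H.comap σ := iSup_le fun j => inf_le_right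
    exact this
  have hfixd : ∀ x, σ x ∈ H → ∀ y ∈ Ĥ, Commute x y := by
    intro x hx
    have hle : Ĥ ≤ Subgroup.centralizer {x} := iSup_le fun j => by
      rintro y ⟨hy, hyH⟩
      rw [Subgroup.mem_centralizer_singleton_iff]
      have h1 : x * y * x⁻¹ = y := hMinj j (hMconj x j j (D.H_conj_L j _ hx) y hy) hy (by
        rw [map_mul, map_mul, map_inv, (D.H_comm _ hx _ hyH).eq, mul_inv_cancel_right])
      exact (mul_inv_eq_iff_eq_mul.1 h1).symm
    exact fun y hy => (Subgroup.mem_centralizer_singleton_iff.1 (hle hy)).symm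
  have hs_conj : ∀ j, ∀ x ∈ Ĥ, s j * x * (s j)⁻¹ ∈ Ĥ := by
    intro j x hx
    have h1 : x * s j * x⁻¹ * (s j)⁻¹ ∈ Ĥ := hdĤ j _
      (mul_mem (hMconj x j j (D.H_conj_L j _ (hĤH x hx)) _ (hsM j)) (inv_mem (hsM j))) (by
      rw [map_mul, map_mul, map_mul, map_inv, map_inv, hsn,
        show σ x * n j * (σ x)⁻¹ * (n j)⁻¹ = σ x * (n j * (σ x)⁻¹ * (n j)⁻¹) by group]
      exact mul_mem (hĤH x hx) (D.n_conj_H j _ (inv_mem (hĤH x hx))))
    have h2 := mul_mem (inv_mem h1) hx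
    rwa [show (x * s j * x⁻¹ * (s j)⁻¹)⁻¹ * x = s j * x * (s j)⁻¹ by group] at h2
  have hs_sq : ∀ j, s j * s j ∈ Ĥ := fun j => hdĤ j _ (mul_mem (hsM j) (hsM j)) (by
    rw [map_mul, hsn]; exact D.n_sq j)
  have hlist_conj : ∀ l : List (Fin 2), ∀ x ∈ Ĥ, (l.map s).prod * x * (l.map s).prod⁻¹ ∈ Ĥ := by
    intro l
    induction l with
    | nil => intro x hx; simpa using hx
    | cons j l ih =>
      intro x hx
      have := hs_conj j _ (ih x hx)
      rw [List.map_cons, List.prod_cons]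
      rwa [show s j * (l.map s).prod * x * (s j * (l.map s).prod)⁻¹ =
        s j * ((l.map s).prod * x * (l.map s).prod⁻¹) * (s j)⁻¹ by group]
  -- words over the torus
  have hshort : ∀ (N : ℕ) (l : List (Fin 2)), l.length = N → σ (l.map s).prod ∈ H → (l.map s).prod ∈ Ĥ := by
    intro N
    induction N using Nat.strong_induction_on with
    | _ N ih =>
      intro l hl hlH
      rcases eq_or_ne l [] with rfl | hne
      · simp
      rw [hsl] at hlH
      obtain ⟨A, k, B, j, E, rfl, hB, hBn⟩ := D.exchange l hne hlH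
      set PA := (A.map s).prod with hPA
      set PB := (B.map s).prod with hPB
      set PE := (E.map s).prod with hPE
      have hg : PB * s j * PB⁻¹ ∈ M k := hMconj PB j k (by rw [hPB, hsl]; exact hB) _ (hsM j)
      have hd : PB * s j * PB⁻¹ * (s k)⁻¹ ∈ Ĥ := hdĤ k _ (mul_mem hg (inv_mem (hsM k))) (by
        rw [map_mul, map_mul, map_mul, map_inv, map_inv, hsn, hsn, hPB, hsl]; exact hBn)
      have hin : s k * (PB * s j * PB⁻¹) ∈ Ĥ := by
        have := mul_mem (hs_conj k _ hd) (hs_sq k)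
        rwa [show s k * (PB * s j * PB⁻¹ * (s k)⁻¹) * (s k)⁻¹ * (s k * s k) = s k * (PB * s j * PB⁻¹) by group]
          at this
      have e : ((A ++ k :: (B ++ j :: E)).map s).prod =
          PA * (s k * (PB * s j * PB⁻¹)) * PA⁻¹ * ((A ++ (B ++ E)).map s).prod := by
        simp only [List.map_append, List.map_cons, List.prod_append, List.prod_cons, ← hPA, ← hPB, ← hPE]
        group
      rw [e]
      refine mul_mem (hlist_conj A _ hin) (ih (A ++ (B ++ E)).length (by rw [← hl]; simp) _ rfl ?_)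
      have h1 : σ (PA * (s k * (PB * s j * PB⁻¹)) * PA⁻¹ * ((A ++ (B ++ E)).map s).prod) ∈ H := by
        rw [← e, hsl]; exact hlH
      rw [map_mul] at h1
      have := mul_mem (inv_mem (hĤH _ (hlist_conj A _ hin))) h1
      rwa [inv_mul_cancel_left] at this
  -- the cells
  let Nset : Set Γ := {x | ∃ h ∈ Ĥ, ∃ l : List (Fin 2), x = h * (l.map s).prod}
  let C : Set Γ := {g | ∃ u ∈ Û, ∃ m ∈ Nset, ∃ u' ∈ Û, g = u * m * u'}
  have hNs : ∀ j, ∀ m ∈ Nset, s j * m ∈ Nset := by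
    rintro j _ ⟨h, hh, l, rfl⟩
    exact ⟨s j * h * (s j)⁻¹, hs_conj j h hh, j :: l, by simp [mul_assoc]⟩
  have hNh : ∀ x ∈ Ĥ, ∀ m ∈ Nset, x * m ∈ Nset := by
    rintro x hx _ ⟨h, hh, l, rfl⟩
    exact ⟨x * h, mul_mem hx hh, l, (mul_assoc _ _ _).symm⟩
  have hNmon : ∀ m ∈ Nset, σ m ∈ monAbs H n := by
    rintro _ ⟨h, hh, l, rfl⟩
    rw [map_mul, hsl]
    refine mul_mem (Subgroup.mem_sup_left (hĤH h hh)) (list_prod_mem fun x hx => ?_)
    obtain ⟨i, -, rfl⟩ := List.mem_map.1 hx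
    exact Subgroup.mem_sup_right (Subgroup.subset_closure ⟨i, rfl⟩)
  have hCh : ∀ x ∈ Ĥ, ∀ g ∈ C, x * g ∈ C := by
    rintro x hx _ ⟨u, hu, m, hm, u', hu', rfl⟩
    exact ⟨x * u * x⁻¹, hconj x u hu (D.H_conj_U _ (hĤH x hx) _ (hÛmap u hu)), x * m, hNh x hx m hm, u', hu',
      by group⟩
  have hCs : ∀ j, ∀ g ∈ C, s j * g ∈ C := by
    rintro j _ ⟨u, hu, m, hm, u', hu', rfl⟩
    obtain ⟨a, ha, ht⟩ := D.split j _ (hÛmap u hu)
    obtain ⟨t, htU, htM, hta⟩ := hXlift j a ha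
    set u₀ := u * t with hu₀
    have hu₀Û : u₀ ∈ Û := mul_mem hu htU
    have hu₁ : s j * u₀ * (s j)⁻¹ ∈ Û := hconj (s j) u₀ hu₀Û (by rw [hsn, hu₀, map_mul, hta]; exact ht)
    have e0 : s j * (u * m * u') = (s j * u₀ * (s j)⁻¹) * (s j * t⁻¹ * m) * u' := by
      rw [hu₀]; group
    rw [e0]
    suffices h : ∀ y, y ∈ Û → y ∈ M j → σ y ∈ X j →
        ∃ v ∈ Û, ∃ m' ∈ Nset, ∃ v' ∈ Û, s j * y * m = v * m' * v' by
      obtain ⟨v, hv, m', hm', v', hv', e⟩ := h t⁻¹ (inv_mem htU) (inv_mem htM)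
        (by rw [map_inv, hta]; exact inv_mem ha)
      exact ⟨_, mul_mem hu₁ hv, m', hm', _, mul_mem hv' hu', by rw [e]; group⟩
    intro y hyU hyM hyX
    rcases D.sign j _ (hNmon m hm) with hpos | hpos
    · refine ⟨1, one_mem _, s j * m, hNs j m hm, m⁻¹ * y * m, ?_, by group⟩
      have := hconj m⁻¹ y hyU (by rw [map_inv, inv_inv]; exact hpos _ hyX)
      rwa [inv_inv] at this
    rcases eq_or_ne (σ y) 1 with hy1 | hy1
    · obtain rfl := hÛker y hyU hy1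
      exact ⟨1, one_mem _, s j * m, hNs j m hm, 1, one_mem _, by simp⟩
    obtain ⟨b, hb, c, hc', h, hh, e⟩ := D.cell j _ hyX hy1
    obtain ⟨bl, hblU, hblM, hbl⟩ := hXlift j b hb
    obtain ⟨cl, hclU, hclM, hcl⟩ := hXlift j c hc'
    set hl := bl⁻¹ * (s j * y * (s j)⁻¹) * cl⁻¹ * (s j)⁻¹ with hhl
    have hlĤ : hl ∈ Ĥ := hdĤ j _
      (mul_mem (mul_mem (mul_mem (inv_mem hblM) (mul_mem (mul_mem (hsM j) hyM) (inv_mem (hsM j)))) (inv_mem hclM))
        (inv_mem (hsM j))) (by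
      rw [map_mul, map_mul, map_mul, map_mul, map_mul, map_inv, map_inv, map_inv, hsn, hbl, hcl, e,
        show b⁻¹ * (b * (h * n j) * c) * c⁻¹ * (n j)⁻¹ = h by group]
      exact hh)
    refine ⟨bl, hblU, hl * (s j * (s j * m)), hNh _ hlĤ _ (hNs j _ (hNs j m hm)),
      (s j * m)⁻¹ * cl * (s j * m), ?_, by rw [hhl]; group⟩
    have := hconj (s j * m)⁻¹ cl hclU (by
      rw [map_inv, inv_inv, map_mul, hsn, hcl]; exact hpos c hc')
    rwa [inv_inv] at this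
  have hCu : ∀ v ∈ Û, ∀ g ∈ C, v * g ∈ C := by
    rintro v hv _ ⟨u, hu, m, hm, u', hu', rfl⟩
    exact ⟨v * u, mul_mem hv hu, m, hm, u', hu', by group⟩
  -- generation
  set M₀ : Subgroup Γ := Û ⊔ Subgroup.closure (Set.range s) with hM₀
  have hMtop : M₀ = ⊤ := by
    have hMG : ∀ a : G, a ∈ M₀.map σ := by
      intro a
      have hle : U ⊔ Subgroup.closure (Set.range n) ≤ M₀.map σ := by
        refine sup_le (fun u hu => ?_) ((Subgroup.closure_le _).2 ?_)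
        · obtain ⟨x, rfl⟩ := hs u
          obtain ⟨y, -, hy, e⟩ := exists_isPElt_preimage (σ := σ) (p := p) (⊤ : Subgroup Γ) (Subgroup.mem_top x)
            (isPElt_of_mem D.pgroup hu)
          exact ⟨y, Subgroup.mem_sup_left (mem_pGen hy (e ▸ hu)), e⟩
        · rintro _ ⟨j, rfl⟩
          exact ⟨s j, Subgroup.mem_sup_right (Subgroup.subset_closure ⟨j, rfl⟩), hsn j⟩
      exact hle (D.gen ▸ Subgroup.mem_top a)
    set Γ₀ := pGen σ p ((⊤ : Subgroup G) : Set G)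
    have h0 : Γ₀ ≤ M₀ := pGen_le hc hA M₀ fun a _ => hMG a
    have hsur : ∀ g : Γ, ∃ y ∈ Γ₀, ∃ z ∈ center Γ, g = y * z := by
      intro g
      obtain ⟨y, hy, e⟩ : σ g ∈ Γ₀.map σ := le_map_pGen hs {g | IsPElt p g} D.closure_pElt
        (fun _ _ => Subgroup.mem_top _) (fun t ht => ht) (Subgroup.mem_top _)
      exact ⟨y, hy, y⁻¹ * g, hc (by rw [MonoidHom.mem_ker, map_mul, map_inv, e, inv_mul_cancel]), by group⟩
    have hder : _root_.commutator Γ ≤ Γ₀ := by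
      rw [_root_.commutator_def, Subgroup.commutator_le]
      intro a _ b _
      obtain ⟨y, hy, z, hz, rfl⟩ := hsur a
      obtain ⟨y', hy', z', hz', rfl⟩ := hsur b
      have c1 := Subgroup.mem_center_iff.1 hz
      have c2 := Subgroup.mem_center_iff.1 hz'
      have e : ⁅y * z, y' * z'⁆ = ⁅y, y'⁆ := by
        simp only [commutatorElement_def, mul_inv_rev]
        calc y * z * (y' * z') * (z⁻¹ * y⁻¹) * (z'⁻¹ * y'⁻¹)
            = y * (z * (y' * z') * z⁻¹) * y⁻¹ * (z'⁻¹ * y'⁻¹) := by group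
          _ = y * y' * (z' * y⁻¹ * z'⁻¹) * y'⁻¹ := by rw [← c1 (y' * z')]; group
          _ = _ := by rw [← c2 y⁻¹]; group
      rw [e, commutatorElement_def]
      exact mul_mem (mul_mem (mul_mem hy hy') (inv_mem hy)) (inv_mem hy')
    refine eq_top_iff.2 fun g _ => h0 ?_
    obtain ⟨y, hy, e⟩ : σ g ∈ Γ₀.map σ := le_map_pGen hs {g | IsPElt p g} D.closure_pElt
      (fun _ _ => Subgroup.mem_top _) (fun t ht => ht) (Subgroup.mem_top _)
    rw [← mul_inv_cancel_left y g]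
    exact mul_mem hy (hder (hσ.2.2 (by rw [MonoidHom.mem_ker, map_mul, map_inv, e, inv_mul_cancel])))
  have hC : ∀ g : Γ, g ∈ C := by
    have hsinv : ∀ j, ∀ g ∈ C, (s j)⁻¹ * g ∈ C := by
      intro j g hg
      have := hCh _ (inv_mem (hs_sq j)) _ (hCs j g hg)
      rwa [show (s j * s j)⁻¹ * (s j * g) = (s j)⁻¹ * g by group] at this
    have key : ∀ g ∈ M₀, ∀ c ∈ C, g * c ∈ C ∧ g⁻¹ * c ∈ C := by
      intro g hg
      rw [hM₀, ← Subgroup.closure_eq Û, ← Subgroup.closure_union] at hg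
      induction hg using Subgroup.closure_induction with
      | mem x hx =>
        intro c hc'
        rcases hx with hx | ⟨j, rfl⟩
        · exact ⟨hCu x hx c hc', hCu _ (inv_mem hx) c hc'⟩
        · exact ⟨hCs j c hc', hsinv j c hc'⟩
      | one => intro c hc'; simpa using hc'
      | mul a b _ _ ha hb =>
        intro c hc'
        refine ⟨?_, ?_⟩
        · rw [mul_assoc]; exact (ha _ (hb c hc').1).1
        · rw [mul_inv_rev, mul_assoc]; exact (hb _ (ha c hc').2).2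
      | inv a _ ha => intro c hc'; exact ⟨(ha c hc').2, by rw [inv_inv]; exact (ha c hc').1⟩
    intro g
    have h1 : (1 : Γ) ∈ C := ⟨1, one_mem _, 1, ⟨1, one_mem _, [], by simp⟩, 1, one_mem _, by simp⟩
    have := (key g (hMtop ▸ Subgroup.mem_top g) 1 h1).1
    rwa [mul_one] at this
  -- the kernel lies in the torus, hence is trivial
  rw [eq_bot_iff]
  intro z hz
  have hzĤ : z ∈ Ĥ := by
    obtain ⟨u, hu, m, hm, u', hu', e⟩ := hC z
    have hm1 : σ m = 1 := by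
      have h1 : σ m ∈ U ⊓ monAbs H n := by
        refine ⟨?_, hNmon m hm⟩
        have h2 : σ m = (σ u)⁻¹ * (σ u')⁻¹ := by
          have : σ u * σ m * σ u' = 1 := by rw [← map_mul, ← map_mul, ← e]; exact hz
          calc σ m = (σ u)⁻¹ * (σ u * σ m * σ u') * (σ u')⁻¹ := by group
            _ = _ := by rw [this, mul_one]
        show σ m ∈ U
        rw [h2]
        exact mul_mem (inv_mem (hÛmap u hu)) (inv_mem (hÛmap u' hu'))
      rwa [D.U_inf_N, Subgroup.mem_bot] at h1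
    have hmc : ∀ g, g * m = m * g := fun g => Subgroup.mem_center_iff.1 (hc hm1) g
    have h3 : z = m * (u * u') := by rw [e, hmc u, mul_assoc]
    have h4 : u * u' = 1 := hÛker _ (mul_mem hu hu') (by
      have := congrArg σ h3
      rwa [map_mul σ m, hm1, one_mul, MonoidHom.mem_ker.1 hz, eq_comm] at this)
    rw [h3, h4, mul_one]
    obtain ⟨h, hh, l, rfl⟩ := hm
    refine mul_mem hh (hshort l.length l rfl ?_)
    rw [map_mul] at hm1
    rw [eq_inv_of_mul_eq_one_right hm1]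
    exact inv_mem (hĤH h hh)
  have hdec : ∀ x ∈ Ĥ, ∃ a ∈ M 0 ⊓ H.comap σ, ∃ b ∈ M 1 ⊓ H.comap σ, x = a * b := by
    have hle : Ĥ ≤ (M 0 ⊓ H.comap σ) ⊔ (M 1 ⊓ H.comap σ) := iSup_le fun j => by
      fin_cases j
      exacts [le_sup_left, le_sup_right]
    intro x hx
    have hn : M 1 ⊓ H.comap σ ≤ Subgroup.normalizer ((M 0 ⊓ H.comap σ : Subgroup Γ) : Set Γ) := by
      intro b hb
      refine Subgroup.mem_normalizer_iff.2 fun a => ?_
      constructor
      · intro ha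
        rwa [(hfixd b hb.2 a (hdĤ 0 a ha.1 ha.2)).eq, mul_inv_cancel_right]
      · intro ha
        have h1 := hfixd b hb.2 _ (hdĤ 0 _ ha.1 ha.2)
        have e : b * (b * a * b⁻¹) = b * a := by rw [h1.eq]; group
        rwa [mul_left_cancel e] at ha
    have hx' : x ∈ (((M 0 ⊓ H.comap σ) ⊔ (M 1 ⊓ H.comap σ) : Subgroup Γ) : Set Γ) := hle hx
    rw [Subgroup.coe_mul_of_right_le_normalizer_left _ _ hn] at hx'
    obtain ⟨a, ha, b, hb, e⟩ := Set.mem_mul.1 hx'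
    exact ⟨a, ha, b, hb, e.symm⟩
  obtain ⟨a, ha, b, hb, rfl⟩ := hdec z hzĤ
  have hab : σ a * σ b = 1 := by rw [← map_mul]; exact hz
  have ha1 : σ a = 1 := D.indep _ (sigma_mem_of_mem_pGen ha.1) ha.2 (by
    rw [eq_inv_of_mul_eq_one_left hab]; exact inv_mem (sigma_mem_of_mem_pGen hb.1))
  rw [ha1, one_mul] at hab
  rw [hM 0 a ha.1 ha1, hM 1 b hb.1 hab, one_mul]
  exact one_mem _

end AbsOnes

/-- Lifting a subgroup with cyclic Sylow subgroups at the odd primes. -/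
theorem cyclic_image_pgroup {L T : Type*} [Group L] [Group T] [Finite T] (f : L →* T) (hf : Function.Injective f)
    (hT : ∀ (r : ℕ) [Fact r.Prime], r ≠ 2 → ∀ P : Sylow r T, IsCyclic P) (r : ℕ) [Fact r.Prime] (hr : r ≠ 2)
    (P : Sylow r L) : IsCyclic P := by
  obtain ⟨Q, hQ⟩ := (P.isPGroup'.map f).exists_le_sylow
  have := hT r hr Q
  exact isCyclic_of_injective ((Subgroup.inclusion hQ).comp (f.subgroupMap (P : Subgroup L)))
    ((Subgroup.inclusion_injective hQ).comp fun a b h =>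
      Subtype.ext (hf (congrArg Subtype.val h)))

end Cfsg.Agent.Lib.Schur.TwistAbs
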