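import Cfsg.Agent.Lib.Schur.TwistUnip

/-!
The preimage of a layer is commutative: its elements are commutators of root elements killed by the torus.
-/

set_option autoImplicit false
set_option maxHeartbeats 400000

namespace Cfsg.Agent.Lib.Schur.TwistLift

open Cfsg.Lie Cfsg.Agent.Lib.Chev Cfsg.Agent.Lib.Twisted Cfsg.Agent.Lib.Twisted.Core
open scoped Matrix commutatorElement

section Groups

variable {Γ G : Type*} [Group Γ] [Group G] {σ : Γ →* G}

/-- A preimage commutes with the preimages of what a commuting fixed element moves. -/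
theorem commute_of_moved (hs : Function.Surjective σ) (hc : σ.ker ≤ Subgroup.center Γ) {a b t v : G}
    (hab : Commute a b) (hfix : Commute t a) (hv : t * b * t⁻¹ * b⁻¹ = v) {x y : Γ} (hx : σ x = a)
    (hy : σ y = v) : Commute x y := by
  obtain ⟨β, rfl⟩ := hs b
  obtain ⟨τ, rfl⟩ := hs t
  subst hx
  have key : ∀ g, Commute (σ x) (σ g) → ⁅x, g⁆ ∈ Subgroup.center Γ := fun g h => hc (by
    rw [MonoidHom.mem_ker, map_commutatorElement, commutatorElement_eq_one_iff_mul_comm]; exact h.eq)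
  have hzc : ∀ {z}, z ∈ Subgroup.center Γ → ∀ g, g * z * g⁻¹ = z := fun {z} hz g => by
    rw [Subgroup.mem_center_iff.1 hz g, mul_inv_cancel_right]
  set u := τ * β * τ⁻¹ * β⁻¹ with hu
  have h1 := key β hab
  have h2 := key τ hfix.symm
  have e1 : x * β * x⁻¹ = ⁅x, β⁆ * β := by simp only [commutatorElement_def]; group
  have e2 : x * τ * x⁻¹ = ⁅x, τ⁆ * τ := by simp only [commutatorElement_def]; group
  have hxu : x * u * x⁻¹ = u := by
    calc x * u * x⁻¹ = (x * τ * x⁻¹) * (x * β * x⁻¹) * (x * τ * x⁻¹)⁻¹ * (x * β * x⁻¹)⁻¹ := by rw [hu]; group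
      _ = ⁅x, τ⁆ * τ * (⁅x, β⁆ * β) * (⁅x, τ⁆ * τ)⁻¹ * (⁅x, β⁆ * β)⁻¹ := by rw [e1, e2]
      _ = ⁅x, τ⁆ * (τ * ⁅x, β⁆ * τ⁻¹) * (τ * β * τ⁻¹) * ⁅x, τ⁆⁻¹ * β⁻¹ * ⁅x, β⁆⁻¹ := by group
      _ = ⁅x, τ⁆ * ⁅x, β⁆ * ((τ * β * τ⁻¹) * ⁅x, τ⁆⁻¹ * (τ * β * τ⁻¹)⁻¹) * u * ⁅x, β⁆⁻¹ := by
        rw [hzc h1, hu]; group
      _ = ⁅x, τ⁆ * (⁅x, β⁆ * ⁅x, τ⁆⁻¹ * ⁅x, β⁆⁻¹) * (⁅x, β⁆ * u * ⁅x, β⁆⁻¹) := by
        rw [hzc (inv_mem h2)]; group
      _ = _ := by
        rw [hzc (inv_mem h2), mul_inv_cancel, one_mul, ← Subgroup.mem_center_iff.1 h1 u, mul_inv_cancel_right]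
  have hk : y * u⁻¹ ∈ Subgroup.center Γ := hc (by
    rw [MonoidHom.mem_ker, hu, map_mul, map_inv, hy, map_mul, map_mul, map_mul, map_inv, map_inv, hv, mul_inv_cancel])
  rw [show y = y * u⁻¹ * u by group]
  exact Commute.mul_right (Subgroup.mem_center_iff.1 hk x) (mul_inv_eq_iff_eq_mul.1 hxu)

/-- A subgroup generated by commutators of elements centralized by its preimage has commutative preimage. -/
theorem commute_of_gen (hs : Function.Surjective σ) (hc : σ.ker ≤ Subgroup.center Γ) (V : Subgroup G)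
    (hgen : ∀ g ∈ V, ∃ v w, g = ⁅v, w⁆ ∧ (∀ x y, σ x ∈ V → σ y = v → Commute x y) ∧
      ∀ x y, σ x ∈ V → σ y = w → Commute x y) :
    ∀ x y, σ x ∈ V → σ y ∈ V → Commute x y := by
  intro x y hx hy
  obtain ⟨v, w, e, hv, hw⟩ := hgen _ hy
  obtain ⟨v', hv'⟩ := hs v
  obtain ⟨w', hw'⟩ := hs w
  have h1 := hv x v' hx hv'
  have h2 := hw x w' hx hw'
  have hz : y * ⁅v', w'⁆⁻¹ ∈ Subgroup.center Γ := hc (by
    rw [MonoidHom.mem_ker, map_mul, map_inv, map_commutatorElement, hv', hw', e, mul_inv_cancel])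
  rw [show y = y * ⁅v', w'⁆⁻¹ * ⁅v', w'⁆ by group]
  refine Commute.mul_right (Subgroup.mem_center_iff.1 hz x) ?_
  rw [commutatorElement_def]
  exact ((h1.mul_right h2).mul_right h1.inv_right).mul_right h2.inv_right

end Groups

variable {D : ChevalleyDatum} {C : Cert} {F : Type*} [Field F]

/-- Two roots whose root groups commute. -/
def chkCom (D : ChevalleyDatum) (C : Cert) (r s : ℕ) : Bool :=
  Nat.beq r s || (!Nat.beq s (ng D r) && (cTerms C r s).isEmpty)

theorem xGL_zero_eq (h : Checked D C) {r : ℕ} (hr : r < D.nroots) : xGL h F hr (0 : F) = 1 :=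
  Units.ext (by rw [coe_xGL, h.x_zero hr]; rfl)

theorem commute_xGL (h : Checked D C) {r s : ℕ} (hr : r < D.nroots) (hs : s < D.nroots)
    (hc : chkCom D C r s = true) (t u : F) : Commute (xGL h F hr t) (xGL h F hs u) := by
  by_cases e : r = s
  · subst e
    rw [Commute, SemiconjBy, h.xGL_add, h.xGL_add, add_comm]
  simp only [chkCom, Bool.or_eq_true, natBeq_iff, Bool.and_eq_true, Bool.not_eq_true', List.isEmpty_iff] at hc
  obtain ⟨h2, h3⟩ := hc.resolve_left e
  have h2' : s ≠ ng D r := fun e' => by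
    rw [natBeq_iff.2 e'] at h2; exact Bool.noConfusion h2
  refine Units.ext ?_
  have := h.commutator_formula (F := F) hr hs (Ne.symm e) h2' t u
  rw [h.commWord_eq hr hs, h3] at this
  simp only [Units.val_mul, coe_xGL, this]
  simp [ChevalleyDatum.wordMat]

theorem commute_rootGen (h : Checked D C) {S S' : Set ℕ} (hS : ∀ r ∈ S, r < D.nroots)
    (hS' : ∀ r ∈ S', r < D.nroots) (hc : ∀ r ∈ S, ∀ s ∈ S', chkCom D C r s = true) {g g' : GL D.Idx F}
    (hg : g ∈ rootGen D F S) (hg' : g' ∈ rootGen D F S') : Commute g g' := by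
  induction hg using Subgroup.closure_induction with
  | mem a ha =>
    obtain ⟨r, t, hr, ea⟩ := ha
    induction hg' using Subgroup.closure_induction with
    | mem b hb =>
      obtain ⟨s, u, hs, eb⟩ := hb
      rw [show a = xGL h F (hS r hr) t from Units.ext ea, show b = xGL h F (hS' s hs) u from Units.ext eb]
      exact commute_xGL h _ _ (hc r hr s hs) t u
    | one => exact Commute.one_right _
    | mul x y _ _ hx hy => exact hx.mul_right hy
    | inv x _ hx => exact hx.inv_right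
  | one => exact Commute.one_left _
  | mul x y _ _ hx hy => exact hx.mul_left hy
  | inv x _ hx => exact hx.inv_left

/-- An orbit of one or two roots with fixed elements. -/
def chkOrb (D : ChevalleyDatum) (C : Cert) (P : GraphData) (a : ℕ) : Bool :=
  Nat.blt a D.nroots && (Nat.beq (P.root a) a ||
    (Nat.beq (P.root (P.root a)) a && decide (P.sign a * P.sign (P.root a) = 1) && chkCom D C a (P.root a)))

/-- The layer of `r` consists of commutators of the orbits of `a` and `b`. -/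
def chkGen (D : ChevalleyDatum) (C : Cert) (P : GraphData) (os : List (List ℕ)) (k a b r : ℕ) : Bool :=
  chkOrb D C P a && chkOrb D C P b && chkOrb D C P r && !Nat.beq b a && !Nat.beq b (ng D a) &&
  (match cTerms C a b with
    | [(r', k0, 1, 1)] => Nat.beq r' r && decide (k0 * k0 = 1)
    | _ => false) &&
  ((os.getD k []).all fun x => chkCom D C x a && chkCom D C x (P.root a) && chkCom D C x b &&
    chkCom D C x (P.root b)) &&
  (if Nat.beq (P.root r) r then decide (os.getD k [] = [r]) && Nat.beq (P.root a) a && Nat.beq (P.root b) b &&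
      decide (P.sign a = P.sign r) && decide (P.sign b = 1)
    else decide (os.getD k [] = [r, P.root r]) && !Nat.beq (P.root a) a && !Nat.beq (P.root b) b &&
      chkCom D C a (P.root b) && chkCom D C b (P.root a))

section Orbits

variable {hh : Rooted D C} {P : GraphData} {hP : GraphData.Facts D P} {hc : chkGraph D C P = true}
  {φ : F ≃+* F} {k : ℕ} (O : Orbits hh hP hc φ k)

/-- The fixed element of the orbit of `a` with coordinate `s`. -/
noncomputable def orbTerm (_O : Orbits hh hP hc φ k) {a : ℕ} (ha : a < D.nroots) (s : F) : GL D.Idx F :=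
  if P.root a = a then xGL hh.toChecked F ha s
  else xGL hh.toChecked F ha s * (graphTwist hh hP hc φ).sig (xGL hh.toChecked F ha s)

/-- The coordinates of fixed elements. -/
def OkVal (P : GraphData) (φ : F ≃+* F) (a : ℕ) (s : F) : Prop := P.root a = a → (P.sign a : F) * φ s = s

omit O in
theorem sig_xGL {a : ℕ} (ha : a < D.nroots) (ha' : P.root a < D.nroots) (s : F) :
    (graphTwist hh hP hc φ).sig (xGL hh.toChecked F ha s) = xGL hh.toChecked F ha' ((P.sign a : F) * φ s) := by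
  rw [(graphTwist hh hP hc φ).sig_x ha, graphTwist_f]
  exact hh.toChecked.xGL_congr rfl _ _ _

theorem orbTerm_mem_rootGen {a : ℕ} (ha : a < D.nroots) (s : F) :
    orbTerm O ha s ∈ rootGen D F {a, P.root a} := by
  rw [orbTerm]
  split_ifs
  · exact mem_rootGen (Set.mem_insert _ _) rfl
  · rw [sig_xGL ha (hP.root_lt a ha)]
    exact mul_mem (mem_rootGen (Set.mem_insert _ _) rfl) (mem_rootGen (Set.mem_insert_of_mem _ rfl) rfl)

variable (h2 : ∀ t, φ (φ t) = t) [Fintype F]

include h2 in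
theorem orbTerm_mem {a : ℕ} (ha : a < D.nroots) (hok : chkOrb D C P a = true) {s : F} (hs : OkVal P φ a s) :
    orbTerm O ha s ∈ O.G := by
  have h := hh.toChecked
  have ha' := hP.root_lt a ha
  rw [show O.G = (graphTwist hh hP hc φ).fixedGroup from O.system.eq_fixedGroup, orbTerm]
  split_ifs with e
  · refine (Twist.mem_fixedGroup _).2 ⟨h.xGL_mem_group _ _, ?_⟩
    rw [sig_xGL ha ha', hs e]
    exact h.xGL_congr e _ _ _
  · simp only [chkOrb, Bool.and_eq_true, Nat.blt_eq, Bool.or_eq_true, natBeq_iff, decide_eq_true_eq] at hok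
    obtain ⟨⟨h1, h3⟩, h4⟩ := hok.2.resolve_left e
    refine (Twist.mem_fixedGroup _).2 ⟨mul_mem (h.xGL_mem_group _ _) (Twist.sig_mem _ (h.xGL_mem_group _ _)), ?_⟩
    rw [Twist.sig_mul _ (h.xGL_mem_group _ _) (Twist.sig_mem _ (h.xGL_mem_group _ _)), sig_xGL ha ha',
      sig_xGL ha' (hP.root_lt _ ha'), map_mul, map_intCast, h2, ← mul_assoc, ← Int.cast_mul,
      show P.sign (P.root a) * P.sign a = 1 by rw [mul_comm]; exact h3, Int.cast_one, one_mul,
      h.xGL_congr h1 (hP.root_lt _ ha') ha]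
    exact (commute_xGL h ha ha' h4 _ _).eq.symm

theorem orbTerm_add {a : ℕ} (ha : a < D.nroots) (hok : chkOrb D C P a = true) (s u : F) :
    orbTerm O ha s * orbTerm O ha u = orbTerm O ha (s + u) := by
  have h := hh.toChecked
  have ha' := hP.root_lt a ha
  simp only [orbTerm]
  split_ifs with e
  · exact h.xGL_add ha s u
  · simp only [chkOrb, Bool.and_eq_true, Nat.blt_eq, Bool.or_eq_true, natBeq_iff, decide_eq_true_eq] at hok
    rw [← h.xGL_add, Twist.sig_mul _ (h.xGL_mem_group _ _) (h.xGL_mem_group _ _), sig_xGL ha ha', sig_xGL ha ha']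
    have c := commute_xGL h ha ha' (hok.2.resolve_left e).2 u ((P.sign a : F) * φ s)
    calc _ = xGL hh.toChecked F ha s * (xGL hh.toChecked F ha' ((P.sign a : F) * φ s) * xGL hh.toChecked F ha u) *
          xGL hh.toChecked F ha' ((P.sign a : F) * φ u) := by group
      _ = _ := by rw [← c.eq]; group

theorem orbTerm_inv {a : ℕ} (ha : a < D.nroots) (hok : chkOrb D C P a = true) (s : F) :
    (orbTerm O ha s)⁻¹ = orbTerm O ha (-s) := by
  refine inv_eq_of_mul_eq_one_right ?_
  have h0 : orbTerm O ha (0 : F) * orbTerm O ha 0 = orbTerm O ha 0 := by rw [orbTerm_add O ha hok, add_zero]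
  rw [orbTerm_add O ha hok, add_neg_cancel]
  exact mul_eq_left.1 h0

theorem conj_orbTerm {c : ℕ → Fˣ} (hcc : ∀ i < D.rank, (c (P.node i) : F) = φ (c i : F)) {a : ℕ}
    (ha : a < D.nroots) (s : F) :
    torusHom D F c * orbTerm O ha s * (torusHom D F c)⁻¹ = orbTerm O ha ((torusFun D c a : F) * s) := by
  have h := hh.toChecked
  set T := graphTwist hh hP hc φ
  simp only [orbTerm]
  split_ifs with e
  · exact h.conj_x ha s
  · have hf := O.G_le (O.torus_mem hcc)
    have htG := T.fixedGroup_le_group hf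
    rw [← h.conj_x ha s, Twist.sig_mul _ (mul_mem htG (h.xGL_mem_group _ _)) (inv_mem htG),
      Twist.sig_mul _ htG (h.xGL_mem_group _ _), Twist.sig_inv _ htG, T.sig_fixed hf]
    group

include O in
/-- A scalar of a fixed root lies in the fixed field. -/
theorem phi_torusFun {c : ℕ → Fˣ} (hcc : ∀ i < D.rank, (c (P.node i) : F) = φ (c i : F)) {a : ℕ}
    (ha : a < D.nroots) (e : P.root a = a) : φ (torusFun D c a : F) = (torusFun D c a : F) := by
  have h := hh.toChecked
  set T := graphTwist hh hP hc φ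
  have hf := O.G_le (O.torus_mem hcc)
  have htG := T.fixedGroup_le_group hf
  have e1 := congrArg T.sig (h.conj_x (F := F) (c := c) ha 1)
  rw [Twist.sig_mul _ (mul_mem htG (h.xGL_mem_group _ _)) (inv_mem htG),
    Twist.sig_mul _ htG (h.xGL_mem_group _ _), Twist.sig_inv _ htG, T.sig_fixed hf, sig_xGL ha (hP.root_lt a ha),
    sig_xGL ha (hP.root_lt a ha), h.xGL_congr e (hP.root_lt a ha) ha, h.xGL_congr e (hP.root_lt a ha) ha,
    h.conj_x ha, map_mul, map_one, mul_one, mul_one] at e1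
  have e2 : xGL hh.toChecked F ha ((torusFun D c a : F) * (P.sign a : F) - (P.sign a : F) * φ (torusFun D c a : F)) = 1 := by
    rw [sub_eq_add_neg, ← h.xGL_add, ← h.xGL_inv, mul_inv_eq_one]; exact e1
  have e3 : (torusFun D c a : F) * (P.sign a : F) - (P.sign a : F) * φ (torusFun D c a : F) = 0 :=
    (h.x_eq_one_iff ha _).1 (congrArg Units.val e2)
  have hs : (P.sign a : F) * (P.sign a : F) = 1 := by rw [← Int.cast_mul, hP.sign_sq a ha, Int.cast_one]
  linear_combination (-(P.sign a : F)) * e3 + ((torusFun D c a : F) - φ (torusFun D c a : F)) * hs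

variable {os : List (List ℕ)} (L : RootLayers D C P.root os) {Γ : Type*} [Group Γ] {σ : Γ →* ↥O.G}
  (hs : Function.Surjective σ) (hker : σ.ker ≤ Subgroup.center Γ)
include L hs hker h2

/-- The preimages of an orbit killed against a layer commute with its preimage. -/
theorem orbTerm_central {j : ℕ} (hj : j < os.length) {a : ℕ} (ha : a < D.nroots) (hok : chkOrb D C P a = true)
    (hcom : ∀ x ∈ oSet os j, chkCom D C x a = true ∧ chkCom D C x (P.root a) = true)
    {c : ℕ → Fˣ} (hcc : ∀ i < D.rank, (c (P.node i) : F) = φ (c i : F))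
    (hcase : ((torusFun D c a : F) = 1 ∧ (torusFun D c (P.root a) : F) = 1 ∧
        ∀ r ∈ oSet os j, (torusFun D c r : F) ≠ 1) ∨
      ((∀ r ∈ oSet os j, (torusFun D c r : F) = 1) ∧ (torusFun D c a : F) ≠ 1))
    {s : F} (hsok : OkVal P φ a s) :
    ∀ x y, σ x ∈ vGrp O (oSet os j) → σ y = ⟨orbTerm O ha s, orbTerm_mem O h2 ha hok hsok⟩ → Commute x y := by
  have h := hh.toChecked
  intro x y hx hy
  let t : ↥O.G := ⟨torusHom D F c, O.torus_mem hcc⟩
  have hlt : ∀ r ∈ oSet os j, r < D.nroots := fun r hr => (L.pos j hj hr).2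
  have hA : ∀ r ∈ ({a, P.root a} : Set ℕ), r < D.nroots := by
    rintro r (rfl | rfl); exacts [ha, hP.root_lt a ha]
  have hcomm : ∀ {v : ↥O.G}, v ∈ vGrp O (oSet os j) → ∀ u : F, Commute (v : GL D.Idx F) (orbTerm O ha u) :=
    fun {v} hv u => commute_rootGen h hlt hA (by
      rintro r hr r' (rfl | rfl); exacts [(hcom r hr).1, (hcom r hr).2]) hv (orbTerm_mem_rootGen O ha u)
  rcases hcase with ⟨h1, h1', hmove⟩ | ⟨hfixV, hmove⟩
  · have hfix : Commute t ⟨orbTerm O ha s, orbTerm_mem O h2 ha hok hsok⟩ := by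
      refine Subtype.ext ?_
      have := commute_torus h (c := c) hA (by rintro r (rfl | rfl) <;> assumption) (orbTerm_mem_rootGen O ha s)
      rw [mul_inv_eq_iff_eq_mul] at this
      exact this
    have ht : (t : GL D.Idx F) ∈ D.diagonalSubgroup F := by
      rw [hh.diagonalSubgroup_eq]; exact ⟨c, rfl⟩
    have hnorm : ∀ w ∈ vGrp O (oSet os j), t * w * t⁻¹ ∈ vGrp O (oSet os j) := fun w hw =>
      (Subgroup.mem_normalizer_iff.1 (hh.diagonal_le_normalizer hlt ht) _).1 hw
    let f : ↥(vGrp O (oSet os j)) → ↥(vGrp O (oSet os j)) := fun w =>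
      ⟨t * w * t⁻¹ * (w : ↥O.G)⁻¹, mul_mem (hnorm w w.2) (inv_mem w.2)⟩
    have hinj : Function.Injective f := by
      intro p q e
      have e' : t * p * t⁻¹ * (p : ↥O.G)⁻¹ = t * q * t⁻¹ * (q : ↥O.G)⁻¹ := congrArg Subtype.val e
      have h3 : (q : ↥O.G)⁻¹ * p = 1 := by
        refine Subtype.ext (L.fpf_of_torus hh hj hmove (mul_mem (inv_mem q.2) p.2) ?_)
        refine congrArg Subtype.val (show t * ((q : ↥O.G)⁻¹ * p) * t⁻¹ = (q : ↥O.G)⁻¹ * p from ?_)
        calc _ = (t * (q : ↥O.G) * t⁻¹)⁻¹ * (t * p * t⁻¹ * (p : ↥O.G)⁻¹) * p := by group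
          _ = _ := by rw [e']; group
      exact Subtype.ext (inv_mul_eq_one.1 h3).symm
    obtain ⟨b, hb⟩ := (Finite.injective_iff_surjective.1 hinj) ⟨σ x, hx⟩
    refine (commute_of_moved hs hker (b := (b : ↥O.G)) ?_ hfix (congrArg Subtype.val hb) hy rfl).symm
    exact Subtype.ext (hcomm b.2 s).eq.symm
  · set χ : F := (torusFun D c a : F)
    have hu : OkVal P φ a (s / (χ - 1)) := fun e => by
      rw [map_div₀, map_sub, map_one, phi_torusFun O hcc ha e, mul_div_assoc', hsok e]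
    have hfix : Commute t (σ x) := by
      refine Subtype.ext ?_
      have := commute_torus h (c := c) hlt hfixV hx
      rw [mul_inv_eq_iff_eq_mul] at this
      exact this
    refine commute_of_moved hs hker (t := t) (b := ⟨orbTerm O ha (s / (χ - 1)), orbTerm_mem O h2 ha hok hu⟩)
      (v := ⟨orbTerm O ha s, orbTerm_mem O h2 ha hok hsok⟩) ?_ hfix (Subtype.ext ?_) rfl hy
    · exact Subtype.ext (hcomm hx _).eq
    · show torusHom D F c * orbTerm O ha (s / (χ - 1)) * (torusHom D F c)⁻¹ * (orbTerm O ha (s / (χ - 1)))⁻¹ = _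
      rw [conj_orbTerm O hcc, orbTerm_inv O ha hok, orbTerm_add O ha hok]
      refine congrArg (orbTerm O ha) ?_
      rw [← sub_eq_add_neg, ← sub_one_mul, mul_div_cancel₀ _ (sub_ne_zero.2 hmove)]

/-- **The preimage of a layer is commutative.** -/
theorem layer_commute {j : ℕ} (hj : j < os.length) {a b r : ℕ} (hg : chkGen D C P os j a b r = true)
    (hka : ∃ c : ℕ → Fˣ, (∀ i < D.rank, (c (P.node i) : F) = φ (c i : F)) ∧
      (((torusFun D c a : F) = 1 ∧ (torusFun D c (P.root a) : F) = 1 ∧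
        ∀ r ∈ oSet os j, (torusFun D c r : F) ≠ 1) ∨
      ((∀ r ∈ oSet os j, (torusFun D c r : F) = 1) ∧ (torusFun D c a : F) ≠ 1)))
    (hkb : ∃ c : ℕ → Fˣ, (∀ i < D.rank, (c (P.node i) : F) = φ (c i : F)) ∧
      (((torusFun D c b : F) = 1 ∧ (torusFun D c (P.root b) : F) = 1 ∧
        ∀ r ∈ oSet os j, (torusFun D c r : F) ≠ 1) ∨
      ((∀ r ∈ oSet os j, (torusFun D c r : F) = 1) ∧ (torusFun D c b : F) ≠ 1))) :
    ∀ x y, σ x ∈ vGrp O (oSet os j) → σ y ∈ vGrp O (oSet os j) → Commute x y := by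
  have h := hh.toChecked
  set T := graphTwist hh hP hc φ with hT
  simp only [chkGen, Bool.and_eq_true] at hg
  obtain ⟨⟨⟨⟨⟨⟨⟨oka, okb⟩, okr⟩, hba⟩, hbn⟩, hterm⟩, hcom⟩, hsplit⟩ := hg
  have hlta : a < D.nroots := by
    simp only [chkOrb, Bool.and_eq_true, Nat.blt_eq] at oka; exact oka.1
  have hltb : b < D.nroots := by
    simp only [chkOrb, Bool.and_eq_true, Nat.blt_eq] at okb; exact okb.1
  have hltr : r < D.nroots := by
    simp only [chkOrb, Bool.and_eq_true, Nat.blt_eq] at okr; exact okr.1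
  have hba' : b ≠ a := fun e => by rw [natBeq_iff.2 e] at hba; exact Bool.noConfusion hba
  have hbn' : b ≠ ng D a := fun e => by rw [natBeq_iff.2 e] at hbn; exact Bool.noConfusion hbn
  obtain ⟨k0, hk0, hl⟩ : ∃ k0 : ℤ, k0 * k0 = 1 ∧ cTerms C a b = [(r, k0, 1, 1)] := by
    revert hterm
    split
    · next r' k0 e =>
      intro hterm
      simp only [Bool.and_eq_true, natBeq_iff, decide_eq_true_eq] at hterm
      exact ⟨k0, hterm.2, by rw [e, hterm.1]⟩
    · intro hterm; exact Bool.noConfusion hterm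
  have hk0F : (k0 : F) * (k0 : F) = 1 := by rw [← Int.cast_mul, hk0, Int.cast_one]
  simp only [List.all_eq_true, Bool.and_eq_true] at hcom
  have hword : ∀ u : F, (xGL h F hltb (1 : F))⁻¹ * (xGL h F hlta (-(k0 : F) * u))⁻¹ * xGL h F hltb 1 *
      xGL h F hlta (-(k0 : F) * u) = xGL h F hltr u := by
    intro u
    have e := h.commutator_formula (F := F) hlta hltb hba' hbn' (-(k0 : F) * u) 1
    rw [h.commWord_eq hlta hltb, hl] at e
    have e' : xGL h F hltb 1 * xGL h F hlta (-(k0 : F) * u) =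
        xGL h F hlta (-(k0 : F) * u) * xGL h F hltb 1 * xGL h F hltr u := by
      refine Units.ext ?_
      simp only [Units.val_mul, coe_xGL]
      rw [e]
      simp only [ChevalleyDatum.wordMat, List.map_cons, List.map_nil, List.prod_cons, List.prod_nil, mul_one,
        pow_one]
      rw [show (k0 : F) * -(-(k0 : F) * u) = u by linear_combination u * hk0F]
    rw [mul_assoc _ (xGL h F hltb 1), e']; group
  refine commute_of_gen hs hker _ fun g hg => ?_
  obtain ⟨ca, hca, hcasea⟩ := hka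
  obtain ⟨cb, hcb, hcaseb⟩ := hkb
  have hgf : T.sig (g : GL D.Idx F) = g := T.sig_fixed (O.G_le g.2)
  suffices ∃ u : F, OkVal P φ b (-1) ∧ OkVal P φ a (-(-(k0 : F) * u)) ∧ (g : GL D.Idx F) =
      ⁅orbTerm O hltb (-1 : F), orbTerm O hlta (-(-(k0 : F) * u))⁆ by
    obtain ⟨u, okvb, okva, e⟩ := this
    exact ⟨⟨_, orbTerm_mem O h2 hltb okb okvb⟩, ⟨_, orbTerm_mem O h2 hlta oka okva⟩,
      Subtype.ext (by simp only [commutatorElement_def, Subgroup.coe_mul, Subgroup.coe_inv] at e ⊢; exact e),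
      orbTerm_central O h2 L hs hker hj hltb okb (fun x hx => ⟨(hcom x hx).1.2, (hcom x hx).2⟩) hcb hcaseb okvb,
      orbTerm_central O h2 L hs hker hj hlta oka (fun x hx => ⟨(hcom x hx).1.1.1, (hcom x hx).1.1.2⟩) hca hcasea okva⟩
  have hg' : (g : GL D.Idx F) ∈ rootGen D F (oSet os j) := hg
  by_cases hr : P.root r = r
  · rw [if_pos (natBeq_iff.2 hr)] at hsplit
    simp only [Bool.and_eq_true, natBeq_iff, decide_eq_true_eq] at hsplit
    obtain ⟨⟨⟨⟨hos, hra⟩, hrb⟩, hsa⟩, hsb⟩ := hsplit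
    obtain ⟨u, hu⟩ : ∃ u, (g : GL D.Idx F) = xGL h F hltr u := by
      generalize (g : GL D.Idx F) = z at hg' ⊢
      induction hg' using Subgroup.closure_induction with
      | mem x hx =>
        obtain ⟨r', t, hr', e⟩ := hx
        simp only [oSet, hos, List.mem_singleton, Set.mem_setOf_eq] at hr'
        subst hr'
        exact ⟨t, Units.ext e⟩
      | one => exact ⟨0, (xGL_zero_eq h hltr).symm⟩
      | mul x y _ _ hx hy =>
        obtain ⟨u, rfl⟩ := hx
        obtain ⟨v, rfl⟩ := hy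
        exact ⟨u + v, h.xGL_add _ _ _⟩
      | inv x _ hx =>
        obtain ⟨u, rfl⟩ := hx
        exact ⟨-u, h.xGL_inv _ _⟩
    rw [hu, hT, sig_xGL hltr (hP.root_lt r hltr), h.xGL_congr hr (hP.root_lt r hltr) hltr] at hgf
    have e2 : xGL hh.toChecked F hltr ((P.sign r : F) * φ u - u) = 1 := by
      rw [sub_eq_add_neg, ← h.xGL_add, ← h.xGL_inv, mul_inv_eq_one]; exact hgf
    have hur : (P.sign r : F) * φ u = u := sub_eq_zero.1 ((h.x_eq_one_iff hltr _).1 (congrArg Units.val e2))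
    refine ⟨u, fun _ => by rw [hsb, map_neg, map_one, Int.cast_one, one_mul],
      fun _ => by rw [hsa]; simp only [map_neg, map_mul, map_intCast]; linear_combination (k0 : F) * hur, ?_⟩
    simp only [orbTerm, if_pos hra, if_pos hrb, commutatorElement_def, ← h.xGL_inv, inv_inv, hu]
    exact (hword u).symm
  · rw [if_neg (fun e => hr (natBeq_iff.1 e))] at hsplit
    simp only [Bool.and_eq_true, natBeq_iff, decide_eq_true_eq, Bool.not_eq_true'] at hsplit
    obtain ⟨⟨⟨⟨hos, hra⟩, hrb⟩, hab⟩, hba2⟩ := hsplit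
    have hra' : P.root a ≠ a := fun e => by rw [natBeq_iff.2 e] at hra; exact Bool.noConfusion hra
    have hrb' : P.root b ≠ b := fun e => by rw [natBeq_iff.2 e] at hrb; exact Bool.noConfusion hrb
    simp only [chkOrb, Bool.and_eq_true, Nat.blt_eq, Bool.or_eq_true, natBeq_iff, decide_eq_true_eq] at oka okb okr
    have hltr' := hP.root_lt r hltr
    have crr := (okr.2.resolve_left hr).2
    obtain ⟨u, u', hu⟩ : ∃ u u', (g : GL D.Idx F) = xGL h F hltr u * xGL h F hltr' u' := by
      generalize (g : GL D.Idx F) = z at hg' ⊢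
      induction hg' using Subgroup.closure_induction with
      | mem x hx =>
        obtain ⟨r', t, hr', e⟩ := hx
        simp only [oSet, hos, List.mem_cons, List.not_mem_nil, or_false, Set.mem_setOf_eq] at hr'
        rcases hr' with rfl | rfl
        · exact ⟨t, 0, by rw [xGL_zero_eq h, mul_one]; exact Units.ext e⟩
        · exact ⟨0, t, by rw [xGL_zero_eq h, one_mul]; exact Units.ext e⟩
      | one => exact ⟨0, 0, by rw [xGL_zero_eq h, xGL_zero_eq h, one_mul]⟩
      | mul x y _ _ hx hy =>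
        obtain ⟨u, u', rfl⟩ := hx
        obtain ⟨v, v', rfl⟩ := hy
        refine ⟨u + v, u' + v', ?_⟩
        rw [← h.xGL_add, ← h.xGL_add, mul_assoc (xGL h F hltr u),
          ← mul_assoc (xGL h F hltr' u'), ← (commute_xGL h hltr hltr' crr v u').eq]
        group
      | inv x _ hx =>
        obtain ⟨u, u', rfl⟩ := hx
        exact ⟨-u, -u', by rw [mul_inv_rev, h.xGL_inv, h.xGL_inv, (commute_xGL h hltr hltr' crr _ _).eq]⟩
    have hu' : xGL h F hltr' u' = T.sig (xGL h F hltr u) := by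
      rw [hu, Twist.sig_mul _ (h.xGL_mem_group _ _) (h.xGL_mem_group _ _), hT, sig_xGL hltr hltr',
        sig_xGL hltr' (hP.root_lt _ hltr'),
        h.xGL_congr (okr.2.resolve_left hr).1.1 (hP.root_lt _ hltr') hltr] at hgf
      set A := (P.sign r : F) * φ u
      set B := (P.sign (P.root r) : F) * φ u'
      rw [(commute_xGL h hltr hltr' crr B A).eq.symm] at hgf
      have e3 : xGL h F hltr (-u + B) = xGL h F hltr' (u' + -A) := by
        rw [← h.xGL_add, ← h.xGL_inv, ← h.xGL_add, ← h.xGL_inv]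
        calc _ = (xGL h F hltr u)⁻¹ * (xGL h F hltr B * xGL h F hltr' A) * (xGL h F hltr' A)⁻¹ := by group
          _ = _ := by rw [hgf]; group
      have hpos : r ∈ posSet D ∧ P.root r ∈ posSet D :=
        ⟨L.pos j hj (show r ∈ os.getD j [] by rw [hos]; simp), L.pos j hj (show P.root r ∈ os.getD j [] by rw [hos]; simp)⟩
      have h4 : xGL h F hltr' (u' + -A) = 1 := RootLayers.rootGen_disjoint hh (S := {P.root r}) (S' := {r})
        (Set.singleton_subset_iff.2 hpos.2) (Set.singleton_subset_iff.2 hpos.1)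
        (fun x hx y hy h1 => absurd ((Set.mem_singleton_iff.1 hy).trans (Set.mem_singleton_iff.1 hx).symm) h1)
        (fun x hx y hy h1 => absurd ((Set.mem_singleton_iff.1 hy).trans (Set.mem_singleton_iff.1 hx).symm) h1)
        (fun x hx hx' => hr ((Set.mem_singleton_iff.1 hx).symm.trans (Set.mem_singleton_iff.1 hx')))
        (mem_rootGen rfl rfl) (e3 ▸ mem_rootGen rfl rfl)
      have h5 : u' + -A = 0 := (h.x_eq_one_iff hltr' _).1 (congrArg Units.val h4)
      rw [hT, sig_xGL hltr hltr', show u' = A by linear_combination h5]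
    refine ⟨u, fun e => absurd e hrb', fun e => absurd e hra', ?_⟩
    simp only [orbTerm, if_neg hra', if_neg hrb', commutatorElement_def]
    set P1 := xGL h F hlta (-(k0 : F) * u) with hP1
    set Q1 := xGL h F hltb (1 : F) with hQ1
    have hlta' := hP.root_lt a hlta
    have hltb' := hP.root_lt b hltb
    rw [show xGL hh.toChecked F hltb (-1 : F) = Q1⁻¹ from (h.xGL_inv _ _).symm,
      show xGL hh.toChecked F hlta (-(-(k0 : F) * u)) = P1⁻¹ from (h.xGL_inv _ _).symm,
      Twist.sig_inv _ (h.xGL_mem_group _ _), Twist.sig_inv _ (h.xGL_mem_group _ _), hu, hu', ← hword u]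
    simp only [← hP1, ← hQ1]
    rw [Twist.sig_mul _ (mul_mem (mul_mem (inv_mem (h.xGL_mem_group _ _)) (inv_mem (h.xGL_mem_group _ _)))
        (h.xGL_mem_group _ _)) (h.xGL_mem_group _ _),
      Twist.sig_mul _ (mul_mem (inv_mem (h.xGL_mem_group _ _)) (inv_mem (h.xGL_mem_group _ _))) (h.xGL_mem_group _ _),
      Twist.sig_mul _ (inv_mem (h.xGL_mem_group _ _)) (inv_mem (h.xGL_mem_group _ _)),
      Twist.sig_inv _ (h.xGL_mem_group _ _), Twist.sig_inv _ (h.xGL_mem_group _ _)]
    set P2 := T.sig P1 with hP2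
    set Q2 := T.sig Q1 with hQ2
    have c1 : Commute P1 Q2 := by
      rw [hQ2, hT, hQ1, sig_xGL hltb hltb']; exact commute_xGL h hlta hltb' hab _ _
    have c2 : Commute Q1 P2 := by
      rw [hP2, hT, hP1, sig_xGL hlta hlta']; exact commute_xGL h hltb hlta' hba2 _ _
    have c3 : Commute P1 P2 := by
      rw [hP2, hT, hP1, sig_xGL hlta hlta']; exact commute_xGL h hlta hlta' (oka.2.resolve_left hra').2 _ _
    have c4 : Commute Q1 Q2 := by
      rw [hQ2, hT, hQ1, sig_xGL hltb hltb']; exact commute_xGL h hltb hltb' (okb.2.resolve_left hrb').2 _ _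
    have d : ∀ {p q : GL D.Idx F}, Commute p q → p⁻¹ * q = q * p⁻¹ := fun hpq => hpq.inv_left.eq
    calc Q1⁻¹ * P1⁻¹ * Q1 * P1 * (Q2⁻¹ * P2⁻¹ * Q2 * P2)
        = Q1⁻¹ * P1⁻¹ * Q1 * (P1 * Q2⁻¹) * P2⁻¹ * Q2 * P2 := by group
      _ = Q1⁻¹ * P1⁻¹ * (Q1 * Q2⁻¹) * (P1 * P2⁻¹) * Q2 * P2 := by rw [c1.inv_right.eq]; group
      _ = Q1⁻¹ * (P1⁻¹ * Q2⁻¹) * (Q1 * P2⁻¹) * (P1 * Q2) * P2 := by rw [c4.inv_right.eq, c3.inv_right.eq]; group
      _ = Q1⁻¹ * Q2⁻¹ * (P1⁻¹ * P2⁻¹) * Q1 * Q2 * (P1 * P2) := by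
        rw [c1.inv_left.inv_right.eq, c2.inv_right.eq, c1.eq]; group
      _ = _ := by rw [c3.inv_left.inv_right.eq]; group; rw [mul_assoc _ Q1 Q2, c4.eq]; group

end Orbits

end Cfsg.Agent.Lib.Schur.TwistLift
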