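import Cfsg.Agent.Lib.Twisted.ReeAut.Main
import Cfsg.Agent.Lib.Schur.TwistBNAbs
import Cfsg.Agent.Lib.Schur.TwistPair
import Cfsg.Agent.Lib.Chev.Levi

/-!
The large Ree group as a group with two rank one subgroups: the hypotheses of the lifting argument.
-/

set_option autoImplicit false
set_option maxHeartbeats 400000

namespace Cfsg.Agent.Lib.Schur.ReeF4

open Cfsg.Lie Cfsg.Agent.Lib.Chev Cfsg.Agent.Lib.Twisted Cfsg.Agent.Lib.Twisted.Core Cfsg.Agent.Lib.Twisted.ReeF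
open Cfsg.Agent.Lib.Schur.TwistAbs Cfsg.Agent.Lib.Schur.TwistLift

variable {K : Type*} [Field K] {m : ℕ}

/-- The Weyl element of an orbit. -/
noncomputable def wOrb (j : Fin 2) : Equiv.Perm (Fin chevF4.nroots) := wperm checked_F4 (orbs j)

/-- The root subgroup of an orbit. -/
noncomputable def XT (K : Type*) [Field K] (m : ℕ) (j : Fin 2) : Subgroup (GT K m) :=
  (Twist.uGrp chevF4 K (wOrb j)).subgroupOf (twistedF4 K (2 ^ m))

/-- The representatives. -/
def nT [CharP K 2] (m : ℕ) : Fin 2 → GT K m := ![gP m, gQ m]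

/-- The rank one subgroup of an orbit. -/
noncomputable def LT (K : Type*) [Field K] [CharP K 2] (m : ℕ) (j : Fin 2) : Subgroup (GT K m) :=
  Subgroup.closure ((XT K m j : Set (GT K m)) ∪ (fun x => nT m j * x * (nT m j)⁻¹) '' (XT K m j : Set (GT K m)))

/-- The alternating word of length `k` starting with `a`. -/
def altL : Fin 2 → ℕ → List (Fin 2)
  | _, 0 => []
  | a, k + 1 => a :: altL (a + 1) k

theorem altL_add : ∀ (n : ℕ) (a : Fin 2) (r : ℕ), ∃ E, altL a (n + r) = altL a n ++ E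
  | 0, a, r => ⟨altL a r, by simp [altL]⟩
  | n + 1, a, r => by
    obtain ⟨E, h⟩ := altL_add n (a + 1) r
    exact ⟨E, by rw [show n + 1 + r = (n + r) + 1 by omega, altL, altL, h]; rfl⟩

theorem alt_or_dbl : ∀ (l : List (Fin 2)) (a : Fin 2),
    (∃ A k E, a :: l = A ++ k :: k :: E) ∨ a :: l = altL a (l.length + 1)
  | [], a => Or.inr rfl
  | b :: l, a => by
    rcases alt_or_dbl l b with ⟨A, k, E, h⟩ | h
    · exact Or.inl ⟨a :: A, k, E, by rw [h]; rfl⟩
    by_cases e : b = a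
    · exact Or.inl ⟨[], a, l, by rw [e]; rfl⟩
    · obtain rfl : b = a + 1 := (by decide : ∀ a b : Fin 2, b ≠ a → b = a + 1) a b e
      refine Or.inr ?_
      rw [List.length_cons, altL, ← h]

/-- The word of fundamental reflections of an orbit word. -/
def flatW (l : List (Fin 2)) : List ℕ := (l.map orbs).flatten

theorem isWord_flatW (l : List (Fin 2)) : IsWord chevF4 (flatW l) := by
  have h : ∀ j, ∀ i ∈ orbs j, i < chevF4.rank := by decide
  intro i hi
  simp only [flatW, List.mem_flatten, List.mem_map] at hi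
  obtain ⟨_, ⟨j, -, rfl⟩, hi⟩ := hi
  exact h j i hi

theorem wperm_flatW (l : List (Fin 2)) : wperm checked_F4 (flatW l) = (l.map wOrb).prod := by
  induction l with
  | nil => exact wperm_nil checked_F4
  | cons j l ih =>
    rw [show flatW (j :: l) = orbs j ++ flatW l from rfl, wperm_append, ih]
    rfl

theorem alt_ne_one : ∀ a : Fin 2, ∀ k : Fin 8, ∃ r : Fin 48,
    perm F4.cert (flatW (altL a (k.val + 1))) r.val ≠ r.val := by decide +kernel

theorem alt_exchange : ∀ a : Fin 2, ∀ r : Fin 48,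
    perm F4.cert (flatW (altL (a + 1) 7 ++ [a] ++ (altL (a + 1) 7).reverse ++ [a])) r.val = r.val ∧
    (24 ≤ r.val ∧ perm F4.cert (orbs a) r.val < 24 →
      24 ≤ perm F4.cert (flatW (altL (a + 1) 7)) r.val ∧
        perm F4.cert (orbs a) (perm F4.cert (flatW (altL (a + 1) 7)) r.val) < 24) := by decide +kernel

variable [CharP K 2]

theorem cls_nT (j : Fin 2) : Cls (F := K) rooted_F4 (wOrb j) ((nT m j : GT K m) : GL chevF4.Idx K) := by
  fin_cases j
  exacts [cls_nP, cls_nQ]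

theorem cls_prod (l : List (Fin 2)) :
    Cls (F := K) rooted_F4 (l.map wOrb).prod (((l.map (nT (K := K) m)).prod : GT K m) : GL chevF4.Idx K) := by
  induction l with
  | nil => simpa using Cls.one (hh := rooted_F4) (F := K)
  | cons j l ih =>
    rw [List.map_cons, List.map_cons, List.prod_cons, List.prod_cons, Subgroup.coe_mul]
    exact (cls_nT j).mul ih

theorem prod_eq_one_of_mem_HT {l : List (Fin 2)} (h : (l.map (nT (K := K) m)).prod ∈ HT K m) :
    (l.map wOrb).prod = 1 :=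
  (cls_prod l).unique (diag_cls h)

theorem mem_HT_of_prod {l : List (Fin 2)} (h : (l.map wOrb).prod = 1) : (l.map (nT (K := K) m)).prod ∈ HT K m := by
  have := cls_prod (K := K) (m := m) l
  rw [h] at this
  exact this.diag_of_one

variable [Fintype K] {σ : ↥(chevF4.group K) →* ↥(chevF4.group K)} (hσ : IsReeSigma (2 ^ m) σ)
  (he : ∀ x : K, x ^ (2 * (2 ^ m * 2 ^ m)) = x)
include hσ he

omit [Fintype K] in
theorem fixW_orb (j : Fin 2) : (twist hσ).FixW (wOrb j) := (orbitSys hσ he).wJ_fixW j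

theorem mem_XT_zero {x : GT K m} : x ∈ XT K m 0 ↔ ∃ a, x = gA m a := by
  rw [← mem_invT_gP he hσ, invT_eq hσ he (fixW_P hσ he).1 cls_nP]
  rfl

theorem mem_XT_one {x : GT K m} : x ∈ XT K m 1 ↔ ∃ t u, x = gB m t u := by
  rw [← mem_invT_gQ he hσ, invT_eq hσ he (fixW_P hσ he).2 cls_nQ]
  rfl

omit hσ he in
theorem XT_le (j : Fin 2) : XT K m j ≤ UT K m := fun _ hx => uGrp_le_pos checked_F4 _ hx

omit hσ he [CharP K 2] in
theorem HT_conj_XT {h : GT K m} (hh : h ∈ HT K m) (j : Fin 2) {x : GT K m} (hx : x ∈ XT K m j) :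
    h * x * h⁻¹ ∈ XT K m j :=
  (Subgroup.mem_normalizer_iff.1 (rooted_F4.diagonal_le_normalizer (image_val_lt _) hh) _).1 hx

omit hσ he in
theorem nT_conj_HT {h : GT K m} (hh : h ∈ HT K m) (j : Fin 2) :
    nT m j * h * (nT m j)⁻¹ ∈ HT K m ∧ (nT m j)⁻¹ * h * nT m j ∈ HT K m := by
  have h1 := rooted_F4.diagonal_normal_monomial (F := K) (cls_nT (m := m) j).mem_monomial
  refine ⟨(Subgroup.mem_normalizer_iff.1 h1 _).1 hh, ?_⟩
  have h2 : ((nT m j : GT K m) : GL chevF4.Idx K)⁻¹ * h * (((nT m j : GT K m) : GL chevF4.Idx K)⁻¹)⁻¹ ∈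
      chevF4.diagonalSubgroup K := (Subgroup.mem_normalizer_iff.1 (inv_mem h1) _).1 hh
  rw [inv_inv] at h2
  exact h2

omit hσ he in
theorem HT_conj_LT {h : GT K m} (hh : h ∈ HT K m) (j : Fin 2) {x : GT K m} (hx : x ∈ LT K m j) :
    h * x * h⁻¹ ∈ LT K m j := by
  have hle : LT K m j ≤ (LT K m j).comap (MulAut.conj h).toMonoidHom := by
    refine (Subgroup.closure_le _).2 ?_
    rintro y (hy | ⟨z, hz, rfl⟩) <;> show h * _ * h⁻¹ ∈ LT K m j
    · exact Subgroup.subset_closure (Or.inl (HT_conj_XT hh j hy))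
    · have h1 := (nT_conj_HT hh j).2
      exact Subgroup.subset_closure (Or.inr ⟨_, HT_conj_XT h1 j hz, by group⟩)
  exact hle hx

theorem nT_mem_LT (j : Fin 2) : nT (K := K) m j ∈ LT K m j := by
  have key : ∀ y ∈ XT K m j, y ∈ LT K m j ∧ nT m j * y * (nT m j)⁻¹ ∈ LT K m j := fun y hy =>
    ⟨Subgroup.subset_closure (Or.inl hy), Subgroup.subset_closure (Or.inr ⟨y, hy, rfl⟩)⟩
  fin_cases j
  · show (gP m : GT K m) ∈ LT K m 0
    rw [gP_eq]
    have h1 := key _ ((mem_XT_zero hσ he).2 ⟨1, rfl⟩)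
    exact mul_mem (mul_mem h1.1 h1.2) h1.1
  · show (gQ m : GT K m) ∈ LT K m 1
    rw [gQ_eq]
    exact mul_mem (mul_mem (key _ ((mem_XT_one hσ he).2 ⟨1, 0, rfl⟩)).1
      (key _ ((mem_XT_one hσ he).2 ⟨0, 1, rfl⟩)).2) (key _ ((mem_XT_one hσ he).2 ⟨1, 1, rfl⟩)).1

theorem nT_sq (j : Fin 2) : nT (K := K) m j * nT m j ∈ HT K m := by
  have h : Cls rooted_F4 (wOrb j * wOrb j) ((nT (K := K) m j * nT m j : GT K m) : GL chevF4.Idx K) :=
    (cls_nT j).mul (cls_nT j)
  rw [show wOrb j * wOrb j = 1 from (orbitSys hσ he).word_sq j] at h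
  exact h.diag_of_one

omit hσ he in
theorem U_inf_N : UT K m ⊓ monAbs (HT K m) (nT m) = ⊥ := by
  rw [eq_bot_iff]
  rintro x ⟨hu, hn⟩
  have hle : monAbs (HT K m) (nT m) ≤ (chevF4.monomialSubgroup K).subgroupOf (twistedF4 K (2 ^ m)) := by
    refine sup_le (fun h hh => (diag_cls (hh := rooted_F4) hh).mem_monomial) ((Subgroup.closure_le _).2 ?_)
    rintro _ ⟨j, rfl⟩
    exact (cls_nT j).mem_monomial
  have h1 := rooted_F4.borel_inf_monomial.le
    (Subgroup.mem_inf.2 ⟨Subgroup.mem_sup_left (show (x : GL chevF4.Idx K) ∈ _ from hu), hle hn⟩)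
  exact Subgroup.mem_bot.2 (Subtype.ext (Subgroup.mem_bot.1
    (rooted_F4.posUnipotent_inf_diagonal.le (Subgroup.mem_inf.2 ⟨hu, h1⟩))))

theorem gen_top : UT K m ⊔ Subgroup.closure (Set.range (nT (K := K) m)) = ⊤ := by
  set M := UT K m ⊔ Subgroup.closure (Set.range (nT (K := K) m)) with hM
  refine eq_top_iff.2 fun x _ => ?_
  have hle : twistedF4 K (2 ^ m) ≤ M.map (twistedF4 K (2 ^ m)).subtype := by
    refine (Subgroup.closure_le _).2 ?_
    have hgA : ∀ a : K, gA m a ∈ UT K m := fun a => XT_le 0 ((mem_XT_zero hσ he).2 ⟨a, rfl⟩)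
    have hgB : ∀ t u : K, gB m t u ∈ UT K m := fun t u => XT_le 1 ((mem_XT_one hσ he).2 ⟨t, u, rfl⟩)
    have hn : ∀ j, nT (K := K) m j ∈ M := fun j => Subgroup.mem_sup_right (Subgroup.subset_closure ⟨j, rfl⟩)
    rintro y ⟨w, (⟨t, rfl | rfl⟩ | ⟨t, u, rfl | rfl⟩), ey⟩ <;> rw [exists_wordG checked_F4 ey]
    · exact ⟨gA m t, Subgroup.mem_sup_left (hgA t), rfl⟩
    · refine ⟨nT m 0 * gA m t * (nT m 0)⁻¹,
        mul_mem (mul_mem (hn 0) (Subgroup.mem_sup_left (hgA t))) (inv_mem (hn 0)), ?_⟩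
      exact (congrArg Subtype.val (pairV_eq_conj (K := K) (2 ^ m) t)).symm
    · exact ⟨gB m t u, Subgroup.mem_sup_left (hgB t u), rfl⟩
    · refine ⟨nT m 1 * gB m t u * (nT m 1)⁻¹,
        mul_mem (mul_mem (hn 1) (Subgroup.mem_sup_left (hgB t u))) (inv_mem (hn 1)), ?_⟩
      exact (congrArg Subtype.val (classV_eq_conj (K := K) (2 ^ m) t u)).symm
  obtain ⟨y, hy, e⟩ := hle x.2
  rwa [← (Subtype.ext e : y = x)]

theorem split_XT (j : Fin 2) {u : GT K m} (hu : u ∈ UT K m) :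
    ∃ x ∈ XT K m j, nT m j * (u * x) * (nT m j)⁻¹ ∈ UT K m := by
  obtain ⟨w0, h0, eU, -, hneg, hinv⟩ := exists_w0 hσ he
  obtain ⟨a, ha, hap, c, hc, e⟩ := split_posF hσ he (fixW_orb hσ he j) h0 eU hneg (hinv _) (cls_nT (m := m) j)
    (x := (u : GL chevF4.Idx K)) ⟨hu, u.2⟩
  refine ⟨⟨c, hc.2⟩⁻¹, inv_mem (show (⟨c, hc.2⟩ : GT K m) ∈ XT K m j from hc.1), ?_⟩
  have e' : u * (⟨c, hc.2⟩ : GT K m)⁻¹ = ⟨a, ha.2⟩ := by
    rw [mul_inv_eq_iff_eq_mul]; exact Subtype.ext e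
  rw [e']
  exact hap

theorem sign_XT (j : Fin 2) {x₀ : GT K m} (hx₀ : x₀ ∈ monAbs (HT K m) (nT m)) :
    (∀ x ∈ XT K m j, x₀⁻¹ * x * x₀ ∈ UT K m) ∨
      ∀ x ∈ XT K m j, (nT m j * x₀)⁻¹ * x * (nT m j * x₀) ∈ UT K m := by
  set S := orbitSys hσ he
  have hmon : monAbs (HT K m) (nT m) ≤ (chevF4.monomialSubgroup K).subgroupOf (twistedF4 K (2 ^ m)) := by
    refine sup_le (fun h hh => (diag_cls (hh := rooted_F4) hh).mem_monomial) ((Subgroup.closure_le _).2 ?_)
    rintro _ ⟨i, rfl⟩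
    exact (cls_nT i).mem_monomial
  obtain ⟨w, hwc⟩ := exists_cls_of_monomial (hh := rooted_F4) (hmon hx₀)
  have hw : (twist hσ).FixW w := ⟨hwc.mem_weyl, hwc.fixed (twist hσ) (S.G_le x₀.2)⟩
  have key : ∀ (y : GT K m) (v : Equiv.Perm (Fin chevF4.nroots)), Cls rooted_F4 v (y : GL chevF4.Idx K) →
      (∀ i ∈ S.J j, Asc v⁻¹ i) → ∀ x ∈ XT K m j, y⁻¹ * x * y ∈ UT K m := by
    intro y v hy hasc x hx
    have := hy.inv.conj_rootGen (S := Fin.val '' _) (S' := posSet chevF4) (image_val_lt _) ?_ hx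
    · rw [inv_inv, ← checked_F4.posUnipotent_eq] at this; exact this
    rintro r ⟨r', hr', er⟩
    obtain rfl : r' = r := Fin.ext er
    obtain ⟨h1, h2⟩ := (S.mem_invs_wJ j).1 hr'
    exact ⟨checked_F4.pos_of_supp (inv_mem hy.mem_weyl) hasc h1 h2, Fin.isLt _⟩
  by_cases hasc : ∀ i ∈ S.J j, Asc w⁻¹ i
  · exact Or.inl (key x₀ w hwc hasc)
  simp only [not_forall] at hasc
  obtain ⟨i, hi, hd⟩ := hasc
  have hall : ∀ i' ∈ S.J j, ¬ Asc w⁻¹ i' := fun i' hi' hA => hd ((S.asc_orbit hw.inv hi hi').1 hA)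
  refine Or.inr (key (nT m j * x₀) (S.wJ j * w) ((cls_nT j).mul hwc) ?_)
  rw [mul_inv_rev, inv_eq_of_mul_eq_one_left (show S.wJ j * S.wJ j = 1 from S.word_sq j)]
  exact S.asc_mul_wJ hw.inv hall

theorem cell_XT (j : Fin 2) {x : GT K m} (hx : x ∈ XT K m j) (hx1 : x ≠ 1) :
    ∃ b ∈ XT K m j, ∃ c ∈ XT K m j, ∃ h ∈ HT K m,
      nT m j * x * (nT m j)⁻¹ = b * (h * nT m j) * c := by
  classical
  set S := orbitSys hσ he with hS
  have hfix : twistedF4 K (2 ^ m) = (twist hσ).fixedGroup := S.eq_fixedGroup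
  set n : GL chevF4.Idx K := ((nT m j : GT K m) : GL chevF4.Idx K) with hn
  have hnG : n ∈ twistedF4 K (2 ^ m) := (nT m j).2
  have hnc : Cls rooted_F4 (wOrb j) n := cls_nT j
  set s := S.sEl j with hs
  have hsG : s ∈ twistedF4 K (2 ^ m) := S.sEl_mem j
  have hd : s⁻¹ * n ∈ chevF4.diagonalSubgroup K := (S.sEl_cls j).diff hnc
  have hc0 : (s⁻¹ * n) * (x : GL chevF4.Idx K) * (s⁻¹ * n)⁻¹ ∈
      Twist.uGrp chevF4 K (wOrb j) ⊓ twistedF4 K (2 ^ m) :=
    Subgroup.mem_inf.2 ⟨(Subgroup.mem_normalizer_iff.1 (rooted_F4.diagonal_le_normalizer (image_val_lt _) hd) _).1 hx,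
      mul_mem (mul_mem (mul_mem (inv_mem hsG) hnG) x.2) (inv_mem (mul_mem (inv_mem hsG) hnG))⟩
  obtain ⟨q, hq, q', hq', hqq⟩ := S.sEl_conj_mem j hc0
  rw [← hs] at hqq
  have hss : (s * s)⁻¹ ∈ chevF4.borelSubgroup K :=
    inv_mem (Subgroup.mem_sup_right (S.sEl_sq j))
  have eg : n * x * n⁻¹ = s * ((s⁻¹ * n) * x * (s⁻¹ * n)⁻¹) * s * (s * s)⁻¹ := by group
  rcases hqq with hqq | hqq
  · exfalso
    have hb : n * (x : GL chevF4.Idx K) * n⁻¹ ∈ chevF4.borelSubgroup K := by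
      rw [eg, hqq]; exact mul_mem (mul_mem hq.1 hq'.1) hss
    have h1 := conj_eq_one_iff.1 (Subgroup.mem_bot.1 (rooted_F4.borel_inf_negUnipotent.le
      ⟨hb, cls_conj_neg hnc hx⟩))
    exact hx1 (Subtype.ext h1)
  obtain ⟨w0, h0, eU, -, hneg, hinv⟩ := exists_w0 hσ he
  set O : Subgroup (GL chevF4.Idx K) := rootGen chevF4 K (outSet chevF4 F4.cert (S.J j)) with hO
  have hsplit : ∀ b ∈ chevF4.borelSubgroup K ⊓ twistedF4 K (2 ^ m), ∃ a ∈ O, ∃ c : GT K m, c ∈ XT K m j ∧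
      ∃ h : GT K m, h ∈ HT K m ∧ b = a * (c : GL chevF4.Idx K) * (h : GL chevF4.Idx K) := by
    intro b hb
    obtain ⟨u, hu, t, ht, rfl⟩ := OrbitSys.borel_fixed_split hb.1 (hfix ▸ hb.2)
    obtain ⟨a, ha, -, c, hc, rfl⟩ := split_posF hσ he (fixW_orb hσ he j) h0 eU hneg (hinv _) hnc
      (x := u) ⟨hu.1, hfix ▸ hu.2⟩
    refine ⟨a, ?_, ⟨c, hc.2⟩, hc.1, ⟨t, hfix ▸ ht.2⟩, ht.1, rfl⟩
    have hsub : (Fin.val '' (invs (w0 * wOrb j) : Set (Fin chevF4.nroots))) ⊆ outSet chevF4 F4.cert (S.J j) := by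
      rintro _ ⟨r, hr, rfl⟩
      rw [Finset.mem_coe, (hinv _).1, Finset.mem_sdiff] at hr
      have hp := (checked_F4.mem_invs.1 hr.1).1
      exact ⟨⟨hp, r.2⟩, fun hsupp => hr.2 ((S.mem_invs_wJ j).2 ⟨hp, hsupp⟩)⟩
    exact rootGen_mono hsub ha.1
  -- the Levi subgroup
  set Lv : Subgroup (GL chevF4.Idx K) :=
    chevF4.diagonalSubgroup K ⊔ rootGen chevF4 K (subSet chevF4 F4.cert (S.J j)) with hLv
  obtain ⟨hdec, hbot⟩ := rooted_F4.levi_decomposition (F := K) (S.J_lt j)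
  have hXLv : ∀ c : GT K m, c ∈ XT K m j → (c : GL chevF4.Idx K) ∈ Lv := by
    intro c hc
    refine Subgroup.mem_sup_right (rootGen_mono ?_ hc)
    rintro _ ⟨r, hr, rfl⟩
    exact ⟨r.2, ((S.mem_invs_wJ j).1 hr).2⟩
  have hnP : ∀ L : List ℕ, (∀ i ∈ L, i ∈ S.J j) → nProd checked_F4 K L ∈ Lv := by
    intro L
    induction L with
    | nil => intro _; simpa [nProd] using one_mem Lv
    | cons i L ih =>
      intro hL
      rw [nProd_cons]
      obtain ⟨h1, h2⟩ := checked_F4.supp_simple_mem (Finset.mem_range.1 (S.J_lt j (hL i List.mem_cons_self)))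
        (hL i List.mem_cons_self)
      exact mul_mem (Subgroup.mem_sup_right (checked_F4.nS_mem_rootGen
          (Finset.mem_range.1 (S.J_lt j (hL i List.mem_cons_self))) h1 h2))
        (ih fun k hk => hL k (List.mem_cons_of_mem _ hk))
  have hnLv : n ∈ Lv := by
    have h2 := (Cls.of_word (hh := rooted_F4) (F := K) (S.isWord j)).diff
      (show Cls rooted_F4 (wperm checked_F4 (S.word j)) n from hnc)
    have := mul_mem (hnP (S.word j) (S.word_mem j)) (Subgroup.mem_sup_left h2 : _ ∈ Lv)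
    rwa [mul_inv_cancel_left] at this
  have hxLv := mul_mem (mul_mem hnLv (hXLv x hx)) (inv_mem hnLv)
  set b'' := (s⁻¹ * n)⁻¹ * q' * (s * s)⁻¹ with hb''
  have hb''B : b'' ∈ chevF4.borelSubgroup K ⊓ twistedF4 K (2 ^ m) :=
    Subgroup.mem_inf.2 ⟨mul_mem (mul_mem (inv_mem (Subgroup.mem_sup_right hd)) hq'.1) hss,
      mul_mem (mul_mem (inv_mem (mul_mem (inv_mem hsG) hnG)) hq'.2) (inv_mem (mul_mem hsG hsG))⟩
  obtain ⟨a, ha, c, hc, h, hh, rfl⟩ := hsplit q hq
  obtain ⟨a', ha', c', hc', h', hh', eb⟩ := hsplit b'' hb''B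
  set P : GL chevF4.Idx K := c * h * n with hP
  have hPL : P ∈ Lv := mul_mem (mul_mem (hXLv c hc) (Subgroup.mem_sup_left hh)) hnLv
  set R : GL chevF4.Idx K := P * c' * h' with hR
  have hRL : R ∈ Lv := mul_mem (mul_mem hPL (hXLv c' hc')) (Subgroup.mem_sup_left hh')
  have hPn : P * a' * P⁻¹ ∈ O := (Subgroup.mem_normalizer_iff.1
    (rooted_F4.parabolic_le_normalizer_any (S.J_lt j) (hdec ▸ Subgroup.mem_sup_right hPL)) _).1 ha'
  have e1 : n * x * n⁻¹ = a * (P * a' * P⁻¹) * R := by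
    rw [eg, hqq, hR, hP]
    calc a * (c : GL chevF4.Idx K) * (h : GL chevF4.Idx K) * s * q' * (s * s)⁻¹
        = a * (c : GL chevF4.Idx K) * (h : GL chevF4.Idx K) * n * b'' := by rw [hb'']; group
      _ = _ := by rw [eb]; group
  have h1 : a * (P * a' * P⁻¹) = 1 := by
    refine Subgroup.mem_bot.1 (hbot.le (Subgroup.mem_inf.2 ⟨mul_mem ha hPn, ?_⟩))
    rw [show a * (P * a' * P⁻¹) = n * x * n⁻¹ * R⁻¹ by rw [e1]; group]
    exact mul_mem hxLv (inv_mem hRL)
  rw [h1, one_mul] at e1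
  refine ⟨c, hc, h'⁻¹ * c' * h', ?_, h * (nT m j * h' * (nT m j)⁻¹), mul_mem hh (nT_conj_HT hh' j).1, ?_⟩
  · have := HT_conj_XT (inv_mem hh') j hc'
    rwa [inv_inv] at this
  refine Subtype.ext ?_
  simp only [Subgroup.coe_mul, Subgroup.coe_inv, ← hn]
  rw [e1, hR, hP]
  group

theorem exchange_nT (l : List (Fin 2)) (hl : l ≠ []) (h : (l.map (nT (K := K) m)).prod ∈ HT K m) :
    ∃ A k B s E, l = A ++ k :: (B ++ s :: E) ∧
      (∀ x ∈ LT K m s, (B.map (nT (K := K) m)).prod * x * (B.map (nT (K := K) m)).prod⁻¹ ∈ LT K m k) ∧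
      (B.map (nT (K := K) m)).prod * nT m s * (B.map (nT (K := K) m)).prod⁻¹ * (nT m k)⁻¹ ∈ HT K m := by
  obtain ⟨a, l', rfl⟩ := List.exists_cons_of_ne_nil hl
  rcases alt_or_dbl l' a with ⟨A, k, E, e⟩ | e
  · exact ⟨A, k, [], k, E, e, fun x hx => by simpa using hx, by simp⟩
  have hw := prod_eq_one_of_mem_HT h
  rcases Nat.lt_or_ge l'.length 8 with hlt | hge
  · exfalso
    obtain ⟨r, hr⟩ := alt_ne_one a ⟨l'.length, hlt⟩
    refine hr ?_
    rw [e, ← wperm_flatW] at hw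
    exact (checked_F4.wperm_val (isWord_flatW _) r).symm.trans (congrArg (fun π : Equiv.Perm (Fin chevF4.nroots) => (π r).val) hw)
  obtain ⟨E, hE⟩ := altL_add 9 a (l'.length - 8)
  refine ⟨[], a, altL (a + 1) 7, a, E, ?_, ?_, ?_⟩
  · rw [e, show l'.length + 1 = 9 + (l'.length - 8) by omega, hE]
    fin_cases a <;> rfl
  all_goals
    set B := altL (a + 1) 7 with hB
    set PB := (B.map (nT (K := K) m)).prod with hPB
  · have hclsB : Cls rooted_F4 (B.map wOrb).prod ((PB : GT K m) : GL chevF4.Idx K) := cls_prod B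
    have hXB : ∀ x ∈ XT K m a, PB * x * PB⁻¹ ∈ XT K m a := by
      intro x hx
      refine hclsB.conj_rootGen (S := Fin.val '' _) (S' := Fin.val '' _) (image_val_lt _) ?_ hx
      rintro r ⟨r', hr', er⟩
      obtain rfl : r' = r := Fin.ext er
      have hr := checked_F4.mem_invs.1 hr'
      rw [wOrb, checked_F4.wperm_val (L := orbs a) ((orbitSys hσ he).isWord a)] at hr
      refine ⟨(B.map wOrb).prod r', ?_, rfl⟩
      have h2 := (alt_exchange a r').2 ⟨hr.1, not_le.1 hr.2⟩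
      rw [Finset.mem_coe, checked_F4.mem_invs, wOrb, checked_F4.wperm_val (L := orbs a) ((orbitSys hσ he).isWord a),
        ← wperm_flatW, checked_F4.wperm_val (isWord_flatW _)]
      exact ⟨h2.1, not_le.2 h2.2⟩
    have hnB : PB * nT m a * PB⁻¹ * (nT m a)⁻¹ ∈ HT K m := by
      have hcl : Cls rooted_F4 ((B.map wOrb).prod * wOrb a * (B.map wOrb).prod⁻¹ * (wOrb a)⁻¹)
          ((PB * nT m a * PB⁻¹ * (nT m a)⁻¹ : GT K m) : GL chevF4.Idx K) :=
        ((hclsB.mul (cls_nT a)).mul hclsB.inv).mul (cls_nT a).inv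
      have hinvB : (B.map wOrb).prod⁻¹ = (B.reverse.map wOrb).prod := by
        have : ∀ j, (wOrb j)⁻¹ = wOrb j := fun j => inv_eq_of_mul_eq_one_left ((orbitSys hσ he).word_sq j)
        rw [List.prod_inv_reverse, List.map_reverse, List.map_map]
        simp only [Function.comp_def, this]
      rw [hinvB, inv_eq_of_mul_eq_one_left (show wOrb a * wOrb a = 1 from (orbitSys hσ he).word_sq a)] at hcl
      have hone : (B.map wOrb).prod * wOrb a * (B.reverse.map wOrb).prod * wOrb a = 1 := by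
        have e2 : (B.map wOrb).prod * wOrb a * (B.reverse.map wOrb).prod * wOrb a =
            ((B ++ [a] ++ B.reverse ++ [a]).map wOrb).prod := by simp [mul_assoc]
        rw [e2, ← wperm_flatW]
        refine Equiv.ext fun r => Fin.ext ?_
        rw [checked_F4.wperm_val (isWord_flatW _)]
        exact (alt_exchange a r).1
      rw [hone] at hcl
      exact hcl.diag_of_one
    intro x hx
    have hle : LT K m a ≤ (LT K m a).comap (MulAut.conj PB).toMonoidHom := by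
      refine (Subgroup.closure_le _).2 ?_
      rintro y (hy | ⟨z, hz, rfl⟩) <;> show PB * _ * PB⁻¹ ∈ LT K m a
      · exact Subgroup.subset_closure (Or.inl (hXB y hy))
      · rw [show PB * (nT m a * z * (nT m a)⁻¹) * PB⁻¹ =
          (PB * nT m a * PB⁻¹ * (nT m a)⁻¹) * (nT m a * (PB * z * PB⁻¹) * (nT m a)⁻¹) *
            (PB * nT m a * PB⁻¹ * (nT m a)⁻¹)⁻¹ by group]
        exact HT_conj_LT hnB a (Subgroup.subset_closure (Or.inr ⟨_, hXB z hz, rfl⟩))
    exact hle hx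
  · have hclsB : Cls rooted_F4 (B.map wOrb).prod ((PB : GT K m) : GL chevF4.Idx K) := cls_prod B
    have hcl : Cls rooted_F4 ((B.map wOrb).prod * wOrb a * (B.map wOrb).prod⁻¹ * (wOrb a)⁻¹)
        ((PB * nT m a * PB⁻¹ * (nT m a)⁻¹ : GT K m) : GL chevF4.Idx K) :=
      ((hclsB.mul (cls_nT a)).mul hclsB.inv).mul (cls_nT a).inv
    have hinvB : (B.map wOrb).prod⁻¹ = (B.reverse.map wOrb).prod := by
      have : ∀ j, (wOrb j)⁻¹ = wOrb j := fun j => inv_eq_of_mul_eq_one_left ((orbitSys hσ he).word_sq j)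
      rw [List.prod_inv_reverse, List.map_reverse, List.map_map]
      simp only [Function.comp_def, this]
    rw [hinvB, inv_eq_of_mul_eq_one_left (show wOrb a * wOrb a = 1 from (orbitSys hσ he).word_sq a)] at hcl
    have hone : (B.map wOrb).prod * wOrb a * (B.reverse.map wOrb).prod * wOrb a = 1 := by
      have e2 : (B.map wOrb).prod * wOrb a * (B.reverse.map wOrb).prod * wOrb a =
          ((B ++ [a] ++ B.reverse ++ [a]).map wOrb).prod := by simp [mul_assoc]
      rw [e2, ← wperm_flatW]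
      refine Equiv.ext fun r => Fin.ext ?_
      rw [checked_F4.wperm_val (isWord_flatW _)]
      exact (alt_exchange a r).1
    rw [hone] at hcl
    exact hcl.diag_of_one

omit hσ he [CharP K 2] [Fintype K] in
theorem commute_X {r : ℕ} (hr : r < chevF4.nroots) {S : Set ℕ} (hS : ∀ s ∈ S, s < chevF4.nroots)
    (hc : ∀ s ∈ S, chkCom chevF4 F4.cert r s = true) {g : GL chevF4.Idx K} (hg : g ∈ rootGen chevF4 K S) (t : K) :
    Commute (xGL checked_F4 K hr t) g :=
  commute_rootGen checked_F4 (S := {r}) (S' := S) (fun s hs => by rw [Set.mem_singleton_iff.1 hs]; exact hr) hS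
    (fun a ha s hs => by rw [Set.mem_singleton_iff.1 ha]; exact hc s hs) (mem_rootGen (Set.mem_singleton r) rfl) hg

theorem LT_centralizes (j : Fin 2) {r : ℕ} (hr : r < chevF4.nroots)
    (hp : perm F4.cert (orbs j) r = r)
    (hc : ∀ s ∈ (if j = 0 then [24, 33] else [25, 27, 28, 30]), chkCom chevF4 F4.cert r s = true)
    {x : GT K m} (hx : x ∈ LT K m j) :
    Commute (xGL checked_F4 K hr (1 : K)) (x : GL chevF4.Idx K) := by
  have hX : ∀ y ∈ XT K m j, Commute (xGL checked_F4 K hr (1 : K)) (y : GL chevF4.Idx K) := by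
    intro y hy
    fin_cases j
    · refine commute_X hr (S := setP) (fun s hs => (by decide : ∀ s ∈ [24, 33], s < chevF4.nroots) s hs)
        (fun s hs => hc s hs) ?_ 1
      rw [← uGrp_P]; exact hy
    · refine commute_X hr (S := setQ)
        (fun s hs => (by decide : ∀ s ∈ [25, 27, 28, 30], s < chevF4.nroots) s hs) (fun s hs => hc s hs) ?_ 1
      rw [← uGrp_Q]; exact hy
  have hn : Commute (xGL checked_F4 K hr (1 : K)) ((nT m j : GT K m) : GL chevF4.Idx K) := by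
    have hw : IsWord chevF4 (orbs j) := (orbitSys hσ he).isWord j
    have e := congrArg Subtype.val (n_conj (K := K) hw r hr 1)
    rw [hp, one_mul] at e
    simp only [Subgroup.coe_mul, Subgroup.coe_inv, xG, dif_pos hr] at e
    have e2 : ((nT m j : GT K m) : GL chevF4.Idx K) =
        ((wordG checked_F4 (castW K (nInts chevF4 (orbs j))) : ↥(chevF4.group K)) : GL chevF4.Idx K) := by
      fin_cases j <;> rfl
    rw [e2]
    exact (mul_inv_eq_iff_eq_mul.1 e).symm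
  induction hx using Subgroup.closure_induction with
  | mem y hy =>
    rcases hy with hy | ⟨z, hz, rfl⟩
    · exact hX y hy
    · simp only [Subgroup.coe_mul, Subgroup.coe_inv]
      exact (hn.mul_right (hX z hz)).mul_right hn.inv_right
  | one => exact Commute.one_right _
  | mul a b _ _ ha hb => simpa using ha.mul_right hb
  | inv a _ ha => simpa using ha.inv_right

theorem indep_LT {x : GT K m} (h0 : x ∈ LT K m 0) (hH : x ∈ HT K m) (h1 : x ∈ LT K m 1) : x = 1 := by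
  obtain ⟨s, t, rfl⟩ := exists_gH hσ he hH
  have key : ∀ (j : Fin 2) (r : ℕ) (hr : r < chevF4.nroots), perm F4.cert (orbs j) r = r →
      (∀ a ∈ (if j = 0 then [24, 33] else [25, 27, 28, 30]), chkCom chevF4 F4.cert r a = true) →
      r ∈ posSet chevF4 → gH hσ he s t ∈ LT K m j → torChi (2 ^ m) s t r = 1 := by
    intro j r hr hp hc hpos hmem
    have hcomm := LT_centralizes hσ he j hr hp hc hmem
    have e : ct (2 ^ m) s t * xG checked_F4 r 1 * (ct (2 ^ m) s t)⁻¹ = xG checked_F4 r 1 := by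
      refine Subtype.ext ?_
      simp only [Subgroup.coe_mul, Subgroup.coe_inv, xG, dif_pos hr]
      exact mul_inv_eq_iff_eq_mul.2 hcomm.eq.symm
    rw [ct_conj_X _ _ _ hr, mul_one] at e
    exact Units.ext (xG_injective hpos e)
  have c47 : chevF4.cartan 0 47 = 0 ∧ chevF4.cartan 1 47 = 0 ∧ chevF4.cartan 2 47 = 0 ∧ chevF4.cartan 3 47 = 1 := by
    decide +kernel
  have c45 : chevF4.cartan 0 45 = 0 ∧ chevF4.cartan 1 45 = 2 ∧ chevF4.cartan 2 45 = -1 ∧ chevF4.cartan 3 45 = 0 := by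
    decide +kernel
  have e47 := key 1 47 (by decide) (by decide +kernel) (by decide +kernel) ⟨by decide, by decide⟩ h1
  have e45 := key 0 45 (by decide) (by decide +kernel) (by decide +kernel) ⟨by decide, by decide⟩ h0
  rw [torChi, c47.1, c47.2.1, c47.2.2.1, c47.2.2.2] at e47
  rw [torChi, c45.1, c45.2.1, c45.2.2.1, c45.2.2.2] at e45
  simp only [mul_zero, zero_add, zpow_one, zpow_zero, mul_one, add_zero, one_mul] at e47 e45
  have hs : s = 1 := e47
  have ht : t = 1 := eq_one_of_zpow (k := 2 * (((2 ^ m : ℕ)) : ℤ) - 1) he _ _ (odd_bezout (2 ^ m)) (by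
    rw [← e45]; congr 1; push_cast; ring)
  subst hs ht
  exact Subtype.ext (congrArg Subtype.val (ct_one (K := K) (2 ^ m)) : _)

/-- The large Ree group satisfies the hypotheses of the lifting argument. -/
theorem absOnes (hK : Fintype.card K = 2 ^ (2 * m + 1)) :
    AbsOnes 2 (UT K m) (HT K m) (XT K m) (LT K m) (nT m) where
  pgroup := IsPGroup.of_card (n := (2 * m + 1) * 12) (by
    rw [card_subgroupOf, Nat.pow_mul, ← hK, ← Nat.card_eq_fintype_card]; exact card_pos hσ he)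
  X_le := XT_le
  X_le_L _ := fun _ hx => Subgroup.subset_closure (Or.inl hx)
  L_gen _ := le_rfl
  L_conj _ x hx := Subgroup.subset_closure (Or.inr ⟨x, hx, rfl⟩)
  n_mem := nT_mem_LT hσ he
  n_sq := nT_sq hσ he
  H_comm _ ha _ hb := gH_comm he hσ ha hb
  H_conj_U h hh u hu := ((preUV_conj hσ he hh).1 u).2 hu
  H_conj_L j h hh x hx := HT_conj_LT hh j hx
  n_conj_H j h hh := (nT_conj_HT hh j).1
  U_inf_N := U_inf_N
  gen := gen_top hσ he
  split j u hu := split_XT hσ he j hu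
  cell j x hx hx1 := cell_XT hσ he j hx hx1
  sign j x₀ hx₀ := sign_XT hσ he j hx₀
  exchange := exchange_nT hσ he
  indep x h0 hH h1 := indep_LT hσ he h0 hH h1

end Cfsg.Agent.Lib.Schur.ReeF4
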