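import Mathlib

/-!
A complement of the kernel in the preimage of a nilpotent group: a central series with one-parameter pieces on which
a torus acts through characters. Commutator forms on pieces are killed by characters, by a direct commutation, or by
the vanishing of invariant self-pairings.
-/

set_option autoImplicit false
set_option maxHeartbeats 400000

namespace Cfsg.Agent.Lib.Schur.TwistSeries

open Subgroup
open scoped commutatorElement

variable {G : Type*} [Group G] {K : Type*} [Field K]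

/-- A central series with pieces parametrised by the field and torus characters. -/
structure Series (U T : Subgroup G) (N : ℕ) (V : ℕ → Subgroup G) (p : ℕ → K → G) (χ : ℕ → G → Kˣ) : Prop where
  top : V 0 = U
  bot : V N = ⊥
  dec : ∀ k < N, V (k + 1) ≤ V k
  le_U : ∀ k ≤ N, V k ≤ U
  p_mem : ∀ k < N, ∀ a, p k a ∈ V k
  surj : ∀ k < N, ∀ x ∈ V k, ∃ a, (p k a)⁻¹ * x ∈ V (k + 1)
  inj : ∀ k < N, ∀ a, p k a ∈ V (k + 1) → a = 0
  add : ∀ k < N, ∀ a b, (p k (a + b))⁻¹ * (p k a * p k b) ∈ V (k + 1)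
  central : ∀ k < N, ∀ g ∈ U, ∀ x ∈ V k, ⁅g, x⁆ ∈ V (k + 1)
  tcomm : ∀ s ∈ T, ∀ t ∈ T, Commute s t
  equiv : ∀ k < N, ∀ t ∈ T, ∀ a, t * p k a * t⁻¹ = p k ((χ k t : K) * a)
  char_surj : ∀ k < N, ∀ u : Kˣ, ∃ t ∈ T, χ k t = u

variable {U T : Subgroup G} {N : ℕ} {V : ℕ → Subgroup G} {p : ℕ → K → G} {χ : ℕ → G → Kˣ}

namespace Series

variable (S : Series U T N V p χ)
include S

theorem tnorm : ∀ d k, k + d = N → ∀ t ∈ T, ∀ x ∈ V k, t * x * t⁻¹ ∈ V k := by
  intro d
  induction d with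
  | zero =>
    intro k hk t _ x hx
    rw [show k = N by omega, S.bot, Subgroup.mem_bot] at hx
    rw [hx]; simp
  | succ d ih =>
    intro k hk t ht x hx
    obtain ⟨a, ha⟩ := S.surj k (by omega) x hx
    have h1 := ih (k + 1) (by omega) t ht _ ha
    have e : t * x * t⁻¹ = (t * p k a * t⁻¹) * (t * ((p k a)⁻¹ * x) * t⁻¹) := by group
    rw [e, S.equiv k (by omega) t ht]
    exact mul_mem (S.p_mem k (by omega) _) (S.dec k (by omega) h1)

theorem tnorm' {k : ℕ} (hk : k ≤ N) {t : G} (ht : t ∈ T) {x : G} (hx : x ∈ V k) : t * x * t⁻¹ ∈ V k :=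
  S.tnorm (N - k) k (by omega) t ht x hx

theorem vnorm {k : ℕ} (hk : k ≤ N) {g : G} (hg : g ∈ U) {x : G} (hx : x ∈ V k) : g * x * g⁻¹ ∈ V k := by
  rcases Nat.eq_or_lt_of_le hk with rfl | hk'
  · rw [S.bot, Subgroup.mem_bot] at hx ⊢; rw [hx]; simp
  · rw [show g * x * g⁻¹ = ⁅g, x⁆ * x by simp only [commutatorElement_def]; group]
    exact mul_mem (S.dec k hk' (S.central k hk' g hg x hx)) hx

theorem p_zero {k : ℕ} (hk : k < N) : p k 0 ∈ V (k + 1) := by
  have h := S.add k hk 0 0
  rwa [add_zero, inv_mul_cancel_left] at h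

theorem char_cancel {k : ℕ} (hk : k < N) {t : G} (ht : t ∈ T) {a : K}
    (h : (p k a)⁻¹ * (t * p k a * t⁻¹) ∈ V (k + 1)) (ht1 : χ k t ≠ 1) : a = 0 := by
  rw [S.equiv k hk t ht] at h
  have h1 := S.add k hk a ((χ k t : K) * a - a)
  rw [add_sub_cancel] at h1
  -- both differences lie in the next term, so the correcting piece does
  have h2 : p k ((χ k t : K) * a - a) ∈ V (k + 1) := by
    have := mul_mem h h1
    rwa [show (p k a)⁻¹ * p k ((χ k t : K) * a) * ((p k ((χ k t : K) * a))⁻¹ * (p k a * p k ((χ k t : K) * a - a))) =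
      p k ((χ k t : K) * a - a) by group] at this
  have h3 := S.inj k hk _ h2
  have h4 : ((χ k t : K) - 1) * a = 0 := by rw [sub_mul, one_mul]; exact h3
  rcases mul_eq_zero.1 h4 with h5 | h5
  · exact absurd (Units.ext (sub_eq_zero.1 h5)) ht1
  · exact h5

/-- The kernel meets the commutator of the preimage of `U` trivially. -/
theorem commutator_inf_ker {Γ : Type*} [Group Γ] {σ : Γ →* G} (hs : Function.Surjective σ)
    (hc : σ.ker ≤ center Γ)
    (hK : ∃ a : K, a ≠ 0 ∧ a + 1 ≠ 0 ∧ (a + 1)⁻¹ ≠ a⁻¹ + 1) (h2 : ∀ x : K, x + x = 0)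
    (hkill : ∀ j k, j < k → k < N → (∃ t ∈ T, χ k t = 1 ∧ χ j t ≠ 1) ∨
      ∀ a b x y, σ x = p j a → σ y = p k b → Commute x y) :
    ⁅U.comap σ, U.comap σ⁆ ⊓ σ.ker = ⊥ := by
  classical
  have hcc : ∀ z, σ z = 1 → ∀ g : Γ, g * z = z * g := fun z hz g => Subgroup.mem_center_iff.1 (hc hz) g
  -- the complements, from the bottom of the series
  have main : ∀ d k, k + d = N → ∃ M : Subgroup Γ, (∀ z ∈ M, σ z ∈ V k) ∧
      (∀ v ∈ V k, ∃ z ∈ M, σ z = v) ∧ (∀ z ∈ M, σ z = 1 → z = 1) ∧
      (∀ g, σ g ∈ U → ∀ z ∈ M, g * z * g⁻¹ ∈ M) ∧ (∀ τ, σ τ ∈ T → ∀ z ∈ M, τ * z * τ⁻¹ ∈ M) := by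
    intro d
    induction d with
    | zero =>
      intro k hk
      refine ⟨⊥, fun z hz => ?_, fun v hv => ⟨1, one_mem _, ?_⟩, fun z hz _ => Subgroup.mem_bot.1 hz,
        fun g _ z hz => ?_, fun g _ z hz => ?_⟩
      · rw [Subgroup.mem_bot.1 hz, map_one]; exact one_mem _
      · rw [show k = N by omega, S.bot, Subgroup.mem_bot] at hv
        rw [map_one, hv]
      all_goals rw [Subgroup.mem_bot.1 hz]; simp
    | succ d ih =>
      intro k hk
      have hkN : k < N := by omega
      obtain ⟨M, hM1, hM2, hM3, hM4, hM5⟩ := ih (k + 1) (by omega)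
      have hMU : ∀ z ∈ M, σ z ∈ U := fun z hz => S.le_U (k + 1) (by omega) (hM1 z hz)
      -- the kernel component of an element over the next term
      have hdec : ∀ z, σ z ∈ V (k + 1) → ∃ c, σ c = 1 ∧ z * c⁻¹ ∈ M := fun z hz => by
        obtain ⟨y, hy, e⟩ := hM2 _ hz
        refine ⟨y⁻¹ * z, by rw [map_mul, map_inv, e, inv_mul_cancel], ?_⟩
        rw [mul_inv_rev, inv_inv, mul_inv_cancel_left]
        exact hy
      have huni : ∀ z c c', σ c = 1 → σ c' = 1 → z * c⁻¹ ∈ M → z * c'⁻¹ ∈ M → c = c' := fun z c c' hc1 hc2 h1 h2 =>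
        inv_mul_eq_one.1 (hM3 _ (by
          have := mul_mem (inv_mem h2) h1
          rw [mul_inv_rev, inv_inv, mul_assoc, inv_mul_cancel_left] at this
          rw [show c⁻¹ * c' = (c' * c⁻¹) by rw [hcc c⁻¹ (by rw [map_inv, hc1, inv_one]) c']]
          exact this) (by rw [map_mul, map_inv, hc1, hc2, inv_one, one_mul]))
      let ε : Γ → Γ → Γ := fun g x => if h : σ ⁅g, x⁆ ∈ V (k + 1) then (hdec _ h).choose else 1
      have hεmem : ∀ {g x}, σ g ∈ U → σ x ∈ V k → σ ⁅g, x⁆ ∈ V (k + 1) := fun {g x} hg hx => by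
        rw [map_commutatorElement]; exact S.central k hkN _ hg _ hx
      have hε : ∀ {g x}, σ g ∈ U → σ x ∈ V k → σ (ε g x) = 1 ∧ ⁅g, x⁆ * (ε g x)⁻¹ ∈ M := fun {g x} hg hx => by
        simp only [ε, dif_pos (hεmem hg hx)]; exact (hdec _ (hεmem hg hx)).choose_spec
      have hεeq : ∀ {g x c}, σ g ∈ U → σ x ∈ V k → σ c = 1 → ⁅g, x⁆ * c⁻¹ ∈ M → ε g x = c :=
        fun {g x c} hg hx h1 h2 => huni _ _ _ (hε hg hx).1 h1 (hε hg hx).2 h2
      have hεl : ∀ {g g' x}, σ g ∈ U → σ g' ∈ U → σ x ∈ V k → ε (g * g') x = ε g x * ε g' x := by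
        intro g g' x hg hg' hx
        obtain ⟨a1, a2⟩ := hε hg hx
        obtain ⟨b1, b2⟩ := hε hg' hx
        refine hεeq (by rw [map_mul]; exact mul_mem hg hg') hx (by rw [map_mul, a1, b1, one_mul]) ?_
        have e : ⁅g * g', x⁆ * (ε g x * ε g' x)⁻¹ =
            g * (⁅g', x⁆ * (ε g' x)⁻¹) * g⁻¹ * (⁅g, x⁆ * (ε g x)⁻¹) := by
          have c1 := hcc (ε g' x)⁻¹ (by rw [map_inv, b1, inv_one])
          calc ⁅g * g', x⁆ * (ε g x * ε g' x)⁻¹ = g * ⁅g', x⁆ * g⁻¹ * ⁅g, x⁆ * (ε g' x)⁻¹ * (ε g x)⁻¹ := by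
                simp only [commutatorElement_def]; group
            _ = g * ⁅g', x⁆ * ((g⁻¹ * ⁅g, x⁆) * (ε g' x)⁻¹) * (ε g x)⁻¹ := by group
            _ = _ := by rw [c1 (g⁻¹ * ⁅g, x⁆)]; group
        rw [e]
        exact mul_mem (hM4 g hg _ b2) a2
      have hεr : ∀ {g x y}, σ g ∈ U → σ x ∈ V k → σ y ∈ V k → ε g (x * y) = ε g x * ε g y := by
        intro g x y hg hx hy
        obtain ⟨a1, a2⟩ := hε hg hx
        obtain ⟨b1, b2⟩ := hε hg hy
        refine hεeq hg (by rw [map_mul]; exact mul_mem hx hy) (by rw [map_mul, a1, b1, one_mul]) ?_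
        have e : ⁅g, x * y⁆ * (ε g x * ε g y)⁻¹ =
            ⁅g, x⁆ * (ε g x)⁻¹ * (x * (⁅g, y⁆ * (ε g y)⁻¹) * x⁻¹) := by
          have c1 := hcc (ε g y)⁻¹ (by rw [map_inv, b1, inv_one])
          have c2 := hcc (ε g x)⁻¹ (by rw [map_inv, a1, inv_one])
          calc ⁅g, x * y⁆ * (ε g x * ε g y)⁻¹ = ⁅g, x⁆ * (x * ⁅g, y⁆ * x⁻¹ * (ε g y)⁻¹) * (ε g x)⁻¹ := by
                simp only [commutatorElement_def]; group
            _ = ⁅g, x⁆ * ((x * ⁅g, y⁆ * x⁻¹ * (ε g y)⁻¹) * (ε g x)⁻¹) := by group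
            _ = ⁅g, x⁆ * (ε g x)⁻¹ * (x * ⁅g, y⁆ * (x⁻¹ * (ε g y)⁻¹)) := by rw [c2]; group
            _ = _ := by rw [c1 x⁻¹]; group
        rw [e]
        exact mul_mem a2 (hM4 x (S.le_U k hkN.le hx) _ b2)
      have hεT : ∀ {g x τ}, σ τ ∈ T → σ g ∈ U → σ x ∈ V k → σ (τ * g * τ⁻¹) ∈ U →
          ε (τ * g * τ⁻¹) (τ * x * τ⁻¹) = ε g x := by
        intro g x τ hτ hg hx hg'
        obtain ⟨a1, a2⟩ := hε hg hx
        refine hεeq hg' (by rw [map_mul, map_mul, map_inv]; exact S.tnorm' hkN.le hτ hx) a1 ?_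
        have e : ⁅τ * g * τ⁻¹, τ * x * τ⁻¹⁆ * (ε g x)⁻¹ = τ * (⁅g, x⁆ * (ε g x)⁻¹) * τ⁻¹ := by
          have c1 := hcc (ε g x)⁻¹ (by rw [map_inv, a1, inv_one])
          calc ⁅τ * g * τ⁻¹, τ * x * τ⁻¹⁆ * (ε g x)⁻¹ = τ * ⁅g, x⁆ * (τ⁻¹ * (ε g x)⁻¹) := by
                simp only [commutatorElement_def]; group
            _ = _ := by rw [c1 τ⁻¹]; group
        rw [e]
        exact hM5 τ hτ _ a2
      -- trivial values
      have hεbotr : ∀ {g x}, σ g ∈ U → σ x ∈ V (k + 1) → ε g x = 1 := by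
        intro g x hg hx
        obtain ⟨c, hc1, hc2⟩ := hdec x hx
        refine hεeq hg (S.dec k hkN hx) (map_one σ) ?_
        have e : ⁅g, x⁆ = ⁅g, x * c⁻¹⁆ := by
          have c1 := hcc c⁻¹ (by rw [map_inv, hc1, inv_one])
          calc ⁅g, x⁆ = g * x * (c⁻¹ * g⁻¹ * c) * x⁻¹ := by
                rw [← c1 g⁻¹]; simp only [commutatorElement_def]; group
            _ = _ := by simp only [commutatorElement_def]; group
        rw [inv_one, mul_one, e, commutatorElement_def]
        exact mul_mem (hM4 g hg _ hc2) (inv_mem hc2)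
      have hεbotl : ∀ {g x}, σ g ∈ V (k + 1) → σ x ∈ V k → ε g x = 1 := by
        intro g x hg hx
        obtain ⟨c, hc1, hc2⟩ := hdec g hg
        refine hεeq (S.le_U (k + 1) (by omega) hg) hx (map_one σ) ?_
        have e : ⁅g, x⁆ = ⁅g * c⁻¹, x⁆ := by
          have c1 := hcc c⁻¹ (by rw [map_inv, hc1, inv_one])
          calc ⁅g, x⁆ = g * (c⁻¹ * x * c) * g⁻¹ * x⁻¹ := by
                rw [← c1 x]; simp only [commutatorElement_def]; group
            _ = _ := by simp only [commutatorElement_def]; group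
        rw [inv_one, mul_one, e, commutatorElement_def, mul_assoc (g * c⁻¹) x, mul_assoc (g * c⁻¹)]
        exact mul_mem hc2 (hM4 x (S.le_U k hkN.le hx) _ (inv_mem hc2))
      let P : ℕ → K → Γ := fun j a => Function.surjInv hs (p j a)
      have hP : ∀ j a, σ (P j a) = p j a := fun j a => Function.surjInv_eq hs _
      have hVV : ∀ i j, i ≤ j → j ≤ N → V j ≤ V i := by
        intro i j hij hj
        induction j, hij using Nat.le_induction with
        | base => exact le_rfl
        | succ j hij ih => exact (S.dec j (by omega)).trans (ih (by omega))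
      -- the commutator form vanishes
      have hzero : ∀ r j, j + r = k + 1 → ∀ g x, σ g ∈ V j → σ x ∈ V k → ε g x = 1 := by
        intro r
        induction r with
        | zero => intro j hj g x hg hx; exact hεbotl (show σ g ∈ V (k + 1) by rwa [← show j = k + 1 by omega]) hx
        | succ r ihr =>
          intro j hj g x hg hx
          have hjk : j ≤ k := by omega
          have hjN : j < N := by omega
          have hU : ∀ a, σ (P j a) ∈ U := fun a => by rw [hP]; exact S.le_U j hjN.le (S.p_mem j hjN a)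
          have hVk : ∀ b, σ (P k b) ∈ V k := fun b => by rw [hP]; exact S.p_mem k hkN b
          have hnext : ∀ z y, σ z ∈ V (j + 1) → σ y ∈ V k → ε z y = 1 := fun z y hz hy =>
            ihr (j + 1) (by omega) z y hz hy
          have hsplitg : ∀ z a y, (p j a)⁻¹ * σ z ∈ V (j + 1) → σ y ∈ V k → ε z y = ε (P j a) y := by
            intro z a y hz hy
            have hz' : σ ((P j a)⁻¹ * z) ∈ V (j + 1) := by rw [map_mul, map_inv, hP]; exact hz
            have := hεl (g := P j a) (g' := (P j a)⁻¹ * z) (hU a) (S.le_U (j + 1) (by omega) hz') hy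
            rwa [mul_inv_cancel_left, hnext _ _ hz' hy, mul_one] at this
          have hsplitx : ∀ z y b, σ z ∈ U → (p k b)⁻¹ * σ y ∈ V (k + 1) → ε z y = ε z (P k b) := by
            intro z y b hz hy
            have hy' : σ ((P k b)⁻¹ * y) ∈ V (k + 1) := by rw [map_mul, map_inv, hP]; exact hy
            have := hεr (g := z) hz (hVk b) (S.dec k hkN hy')
            rwa [mul_inv_cancel_left, hεbotr hz hy', mul_one] at this
          let e : K → K → Γ := fun a b => ε (P j a) (P k b)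
          have he1 : ∀ a b c, e (a + b) c = e a c * e b c := fun a b c => by
            show ε (P j (a + b)) (P k c) = _
            rw [← hεl (hU a) (hU b) (hVk c)]
            exact (hsplitg _ (a + b) _ (by rw [map_mul, hP, hP]; exact S.add j hjN a b) (hVk c)).symm
          have he2 : ∀ a c d, e a (c + d) = e a c * e a d := fun a c d => by
            show ε (P j a) (P k (c + d)) = _
            rw [← hεr (hU a) (hVk c) (hVk d)]
            exact (hsplitx _ _ (c + d) (hU a) (by rw [map_mul, hP, hP]; exact S.add k hkN c d)).symm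
          have heT : ∀ t ∈ T, ∀ a b, e ((χ j t : K) * a) ((χ k t : K) * b) = e a b := by
            intro t ht a b
            obtain ⟨τ, rfl⟩ := hs t
            have h1 : σ (τ * P j a * τ⁻¹) = p j ((χ j (σ τ) : K) * a) := by
              rw [map_mul, map_mul, map_inv, hP, S.equiv j hjN _ ht]
            have h2 : σ (τ * P k b * τ⁻¹) = p k ((χ k (σ τ) : K) * b) := by
              rw [map_mul, map_mul, map_inv, hP, S.equiv k hkN _ ht]
            have hg' : σ (τ * P j a * τ⁻¹) ∈ U := h1 ▸ S.le_U j hjN.le (S.p_mem j hjN _)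
            have h3 := hεT ht (hU a) (hVk b) hg'
            rw [hsplitg _ ((χ j (σ τ) : K) * a) _ (by rw [h1, inv_mul_cancel]; exact one_mem _)
              (h2 ▸ S.p_mem k hkN _)] at h3
            rw [hsplitx _ _ ((χ k (σ τ) : K) * b) (hU _) (by rw [h2, inv_mul_cancel]; exact one_mem _)] at h3
            exact h3
          have he0 : ∀ a b, e a b = 1 := by
            have hl0 : ∀ b, e 0 b = 1 := fun b => mul_eq_left.1 ((he1 0 0 b).symm.trans (by rw [add_zero]))
            rcases Nat.lt_or_ge j k with hlt | hge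
            · rcases hkill j k hlt hkN with ⟨t, ht, htk, htj⟩ | hdir
              · intro a b
                have hne : ((χ j t : K) - 1) ≠ 0 := fun h => htj (Units.ext (sub_eq_zero.1 h))
                have h3 := heT t ht (a / ((χ j t : K) - 1)) b
                rw [htk, Units.val_one, one_mul] at h3
                set a' := a / ((χ j t : K) - 1) with ha'
                have h4 : (χ j t : K) * a' = a' + a := by rw [ha']; field_simp; ring
                rw [h4, he1, mul_eq_left] at h3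
                exact h3
              · intro a b
                have hcom := (hdir a b (P j a) (P k b) (hP j a) (hP k b)).eq
                refine hεeq (hU a) (hVk b) (map_one σ) ?_
                rw [commutatorElement_eq_one_iff_mul_comm.2 hcom, inv_one, mul_one]
                exact one_mem _
            · obtain rfl : j = k := by omega
              -- an invariant self-pairing vanishes
              have hinv : ∀ a, a ≠ 0 → ∀ c, e a c = e 1 (c / a) := by
                intro a ha c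
                obtain ⟨t, ht, htk⟩ := S.char_surj j hjN (Units.mk0 a ha)
                have h3 := heT t ht 1 (c / a)
                rw [htk, Units.val_mk0, mul_one, mul_div_cancel₀ c ha] at h3
                exact h3
              obtain ⟨a₀, ha, ha1, hne⟩ := hK
              have hr0 : e 1 0 = 1 := mul_eq_left.1 ((he2 1 0 0).symm.trans (by rw [add_zero]))
              have hφ : ∀ x, e 1 x = 1 := by
                intro x
                set q := (a₀ + 1)⁻¹ + (a₀⁻¹ + 1) with hq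
                have hq0 : q ≠ 0 := fun h0 => hne (by
                  have := eq_neg_of_add_eq_zero_left h0
                  rw [this]; exact (neg_eq_of_add_eq_zero_left (h2 _)))
                have hy : ∀ y, e 1 (y * q) = 1 := by
                  intro y
                  have h1 : e 1 (y / (a₀ + 1)) = e 1 (y / a₀ + y) := by
                    rw [← hinv _ ha1 y, he1, hinv _ ha y, he2]
                  rw [show y * q = y / (a₀ + 1) + (y / a₀ + y) by rw [hq, div_eq_mul_inv, div_eq_mul_inv]; ring,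
                    he2, h1, ← he2, h2, hr0]
                have := hy (x / q)
                rwa [div_mul_cancel₀ x hq0] at this
              intro a b
              rcases eq_or_ne a 0 with rfl | ha'
              · exact hl0 b
              · rw [hinv a ha', hφ]
          obtain ⟨a, ha⟩ := S.surj j hjN _ hg
          obtain ⟨b, hb⟩ := S.surj k hkN _ hx
          rw [hsplitg g a x ha hx, hsplitx _ x b (hU a) hb]
          exact he0 a b
      have hcomm : ∀ {g x}, σ g ∈ U → σ x ∈ V k → ⁅g, x⁆ ∈ M := by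
        intro g x hg hx
        have h0 := hzero (k + 1) 0 (by omega) g x (S.top ▸ hg) hx
        have h1 := (hε hg hx).2
        rwa [h0, inv_one, mul_one] at h1
      -- the new complement
      obtain ⟨u₀, hu₀⟩ : ∃ u : Kˣ, u ≠ 1 := by
        obtain ⟨a, ha, ha1, -⟩ := hK
        exact ⟨Units.mk0 a ha, fun h => ha1 (by rw [show a = 1 from congrArg Units.val h]; exact h2 1)⟩
      obtain ⟨t, ht, htu⟩ := S.char_surj k hkN u₀
      obtain ⟨τ, rfl⟩ := hs t
      have hcτ : ∀ x, σ x ∈ V k → σ ⁅τ, x⁆ ∈ V k := fun x hx => by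
        rw [map_commutatorElement, commutatorElement_def]
        exact mul_mem (S.tnorm' hkN.le ht hx) (inv_mem hx)
      have hcon : ∀ {a b c d}, a⁻¹ * b ∈ M → c⁻¹ * d ∈ M → σ c ∈ U → (a * c)⁻¹ * (b * d) ∈ M := by
        intro a b c d h1 h2 hc'
        have h3 := hM4 c⁻¹ (by rw [map_inv]; exact inv_mem hc') _ h1
        rw [inv_inv] at h3
        have := mul_mem h3 h2
        rwa [show c⁻¹ * (a⁻¹ * b) * c * (c⁻¹ * d) = (a * c)⁻¹ * (b * d) by group] at this
      let M' : Subgroup Γ :=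
        { carrier := {z | σ z ∈ V k ∧ ∃ x, σ x ∈ V k ∧ z⁻¹ * ⁅τ, x⁆ ∈ M}
          one_mem' := ⟨by rw [map_one]; exact one_mem _, 1, by rw [map_one]; exact one_mem _, by simp⟩
          mul_mem' := by
            rintro z z' ⟨hz, x, hx, h1⟩ ⟨hz', y, hy, h2⟩
            refine ⟨by rw [map_mul]; exact mul_mem hz hz', x * y, by rw [map_mul]; exact mul_mem hx hy, ?_⟩
            have h3 := hcon h1 h2 (S.le_U k hkN.le hz')
            have h4 := hcomm (g := ⁅τ, y⁆⁻¹) (x := x)
              (by rw [map_inv]; exact inv_mem (S.le_U k hkN.le (hcτ y hy))) hx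
            have := mul_mem h3 h4
            rwa [show (z * z')⁻¹ * (⁅τ, x⁆ * ⁅τ, y⁆) * ⁅⁅τ, y⁆⁻¹, x⁆ = (z * z')⁻¹ * ⁅τ, x * y⁆ by
              simp only [commutatorElement_def]; group] at this
          inv_mem' := by
            rintro z ⟨hz, x, hx, h1⟩
            refine ⟨by rw [map_inv]; exact inv_mem hz, x⁻¹, by rw [map_inv]; exact inv_mem hx, ?_⟩
            have h3 := hM4 z (S.le_U k hkN.le hz) _ (inv_mem h1)
            have h4 := hcomm (g := ⁅τ, x⁆) (x := x⁻¹) (S.le_U k hkN.le (hcτ x hx)) (by rw [map_inv]; exact inv_mem hx)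
            have := mul_mem h3 h4
            rwa [show z * (z⁻¹ * ⁅τ, x⁆)⁻¹ * z⁻¹ * ⁅⁅τ, x⁆, x⁻¹⁆ = z⁻¹⁻¹ * ⁅τ, x⁻¹⁆ by
              simp only [commutatorElement_def]; group] at this }
      have hmem : ∀ {z}, z ∈ M' ↔ σ z ∈ V k ∧ ∃ x, σ x ∈ V k ∧ z⁻¹ * ⁅τ, x⁆ ∈ M := Iff.rfl
      have hMM' : ∀ z ∈ M, z ∈ M' := fun z hz => hmem.2 ⟨S.dec k hkN (hM1 z hz), 1, by rw [map_one]; exact one_mem _,
        by rw [commutatorElement_one_right, mul_one]; exact inv_mem hz⟩
      refine ⟨M', fun z hz => (hmem.1 hz).1, fun v hv => ?_, fun z hz hz1 => ?_, fun g hg z hz => ?_,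
        fun τ' hτ' z hz => ?_⟩
      · obtain ⟨a, ha⟩ := S.surj k hkN v hv
        have hne : ((χ k (σ τ) : K) - 1) ≠ 0 := fun h => by
          rw [htu] at h; exact hu₀ (Units.ext (sub_eq_zero.1 h))
        set b := a / ((χ k (σ τ) : K) - 1) with hb
        have hab : (χ k (σ τ) : K) * b = b + a := by rw [hb]; field_simp; ring
        obtain ⟨y, hy⟩ := hs (p k b)
        have hyV : σ y ∈ V k := hy ▸ S.p_mem k hkN b
        have h1 : (σ ⁅τ, y⁆)⁻¹ * v ∈ V (k + 1) := by
          have e1 : σ ⁅τ, y⁆ = p k (b + a) * (p k b)⁻¹ := by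
            rw [map_commutatorElement, commutatorElement_def, hy, S.equiv k hkN _ ht, hab]
          rw [e1]
          -- compare modulo the next term
          have h7 : ((p k (b + a)) * (p k b)⁻¹)⁻¹ * v =
              ((p k b) * (p k (b + a))⁻¹ * (p k b)⁻¹ * p k (b + a)) * ((p k (b + a))⁻¹ * (p k b * p k a)) *
                ((p k a)⁻¹ * v) := by group
          rw [h7]
          refine mul_mem (mul_mem ?_ (S.add k hkN b a)) ha
          have h8 : ⁅p k b, (p k (b + a))⁻¹⁆ ∈ V (k + 1) :=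
            S.central k hkN _ (S.le_U k hkN.le (S.p_mem k hkN b)) _ (inv_mem (S.p_mem k hkN _))
          rwa [commutatorElement_def, inv_inv] at h8
        obtain ⟨w, hw, ew⟩ := hM2 _ h1
        refine ⟨⁅τ, y⁆ * w, mul_mem (hmem.2 ⟨hcτ y hyV, y, hyV, by rw [inv_mul_cancel]; exact one_mem _⟩) (hMM' w hw), ?_⟩
        rw [map_mul, ew, mul_inv_cancel_left]
      · obtain ⟨hzV, x, hx, h1⟩ := hmem.1 hz
        have h3 : σ ⁅τ, x⁆ ∈ V (k + 1) := by
          have := hM1 _ h1
          rwa [map_mul, map_inv, hz1, inv_one, one_mul] at this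
        obtain ⟨b, hb⟩ := S.surj k hkN _ hx
        have hxk : σ x ∈ V (k + 1) := by
          set v := (p k b)⁻¹ * σ x
          have ex : σ x = p k b * v := by simp only [v]; group
          have h4 : (p k b)⁻¹ * (σ τ * p k b * (σ τ)⁻¹) ∈ V (k + 1) := by
            rw [map_commutatorElement, commutatorElement_def, ex] at h3
            have h5 := S.tnorm' (show k + 1 ≤ N by omega) ht hb
            have h6 : (σ τ * p k b * (σ τ)⁻¹) * (σ τ * v * (σ τ)⁻¹) * v⁻¹ * (p k b)⁻¹ ∈ V (k + 1) := by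
              rwa [show σ τ * (p k b * v) * (σ τ)⁻¹ * (p k b * v)⁻¹ =
                (σ τ * p k b * (σ τ)⁻¹) * (σ τ * v * (σ τ)⁻¹) * v⁻¹ * (p k b)⁻¹ by group] at h3
            have h7 := S.vnorm (show k + 1 ≤ N by omega) (S.le_U k hkN.le (inv_mem (S.p_mem k hkN b))) h6
            rw [inv_inv] at h7
            have h8 := mul_mem (mul_mem h7 hb) (inv_mem h5)
            rwa [show (p k b)⁻¹ * (σ τ * p k b * (σ τ)⁻¹ * (σ τ * v * (σ τ)⁻¹) * v⁻¹ * (p k b)⁻¹) * p k b * v *
              (σ τ * v * (σ τ)⁻¹)⁻¹ = (p k b)⁻¹ * (σ τ * p k b * (σ τ)⁻¹) by group] at h8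
          have hb0 := S.char_cancel hkN ht h4 (htu ▸ hu₀)
          rw [ex, hb0]
          exact mul_mem (S.p_zero hkN) hb
        obtain ⟨c, hc1, hc2⟩ := hdec x hxk
        have h9 : ⁅τ, x⁆ ∈ M := by
          have c1 := hcc c⁻¹ (by rw [map_inv, hc1, inv_one])
          have e : ⁅τ, x⁆ = ⁅τ, x * c⁻¹⁆ := by
            calc ⁅τ, x⁆ = τ * x * (c⁻¹ * τ⁻¹ * c) * x⁻¹ := by
                  rw [← c1 τ⁻¹]; simp only [commutatorElement_def]; group
              _ = _ := by simp only [commutatorElement_def]; group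
          rw [e, commutatorElement_def]
          exact mul_mem (hM5 τ ht _ hc2) (inv_mem hc2)
        refine hM3 z ?_ hz1
        have := mul_mem h9 (inv_mem h1)
        rwa [mul_inv_rev, inv_inv, mul_inv_cancel_left] at this
      · have h1 := mul_mem (hMM' _ (hcomm hg (hmem.1 hz).1)) hz
        rwa [show ⁅g, z⁆ * z = g * z * g⁻¹ by simp only [commutatorElement_def]; group] at h1
      · obtain ⟨hzV, x, hx, h1⟩ := hmem.1 hz
        refine hmem.2 ⟨by rw [map_mul, map_mul, map_inv]; exact S.tnorm' hkN.le hτ' hzV, τ' * x * τ'⁻¹,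
          by rw [map_mul, map_mul, map_inv]; exact S.tnorm' hkN.le hτ' hx, ?_⟩
        set c := τ⁻¹ * (τ' * τ * τ'⁻¹)
        have hc1 : σ c = 1 := by
          simp only [c, map_mul, map_inv]
          rw [(S.tcomm _ hτ' _ ht).eq, mul_inv_cancel_right, inv_mul_cancel]
        have c1 := hcc c hc1
        have e : ⁅τ, τ' * x * τ'⁻¹⁆ = τ' * ⁅τ, x⁆ * τ'⁻¹ := by
          have hd : τ' * τ * τ'⁻¹ = τ * c := by simp only [c]; group
          calc ⁅τ, τ' * x * τ'⁻¹⁆ = τ * ((τ' * x * τ'⁻¹) * c * c⁻¹) * τ⁻¹ * (τ' * x * τ'⁻¹)⁻¹ := by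
                simp only [commutatorElement_def]; group
            _ = (τ * c) * (τ' * x * τ'⁻¹) * (τ * c)⁻¹ * (τ' * x * τ'⁻¹)⁻¹ := by rw [c1]; group
            _ = _ := by rw [← hd]; simp only [commutatorElement_def]; group
        rw [e]
        have := hM5 τ' hτ' _ h1
        rwa [show τ' * (z⁻¹ * ⁅τ, x⁆) * τ'⁻¹ = (τ' * z * τ'⁻¹)⁻¹ * (τ' * ⁅τ, x⁆ * τ'⁻¹) by group] at this
  obtain ⟨M, hM1, hM2, hM3, -, -⟩ := main N 0 (by omega)
  have hP : ∀ g, σ g ∈ U → ∃ y ∈ M, ∃ z, σ z = 1 ∧ g = y * z := fun g hg => by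
    obtain ⟨y, hy, e⟩ := hM2 _ (S.top ▸ hg)
    exact ⟨y, hy, y⁻¹ * g, by rw [map_mul, map_inv, e, inv_mul_cancel], by group⟩
  have hle : ⁅U.comap σ, U.comap σ⁆ ≤ M := by
    rw [Subgroup.commutator_le]
    intro a ha b hb
    obtain ⟨y, hy, z, hz, rfl⟩ := hP a ha
    obtain ⟨y', hy', z', hz', rfl⟩ := hP b hb
    have c1 := hcc z hz
    have c2 := hcc z' hz'
    have e : ⁅y * z, y' * z'⁆ = ⁅y, y'⁆ := by
      simp only [commutatorElement_def, mul_inv_rev]
      calc y * z * (y' * z') * (z⁻¹ * y⁻¹) * (z'⁻¹ * y'⁻¹)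
          = y * (z * (y' * z') * z⁻¹) * y⁻¹ * (z'⁻¹ * y'⁻¹) := by group
        _ = y * y' * (z' * y⁻¹ * z'⁻¹) * y'⁻¹ := by rw [← c1 (y' * z')]; group
        _ = _ := by rw [← c2 y⁻¹]; group
    rw [e, commutatorElement_def]
    exact mul_mem (mul_mem (mul_mem hy hy') (inv_mem hy)) (inv_mem hy')
  rw [eq_bot_iff]
  rintro g ⟨hg, hg1⟩
  exact Subgroup.mem_bot.2 (hM3 g (hle hg) hg1)

end Series

end Cfsg.Agent.Lib.Schur.TwistSeries
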