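import Cfsg.Agent.Lib.Schur.ReeF4Ones
import Cfsg.Agent.Lib.Schur.TwistSeries
import Cfsg.Agent.Lib.Chev.BorelTits

/-!
The unipotent part of the large Ree group as a central series of twelve one-parameter pieces.
-/

set_option autoImplicit false
set_option maxHeartbeats 400000

namespace Cfsg.Agent.Lib.Schur.ReeF4

open Cfsg.Lie Cfsg.Agent.Lib.Chev Cfsg.Agent.Lib.Twisted Cfsg.Agent.Lib.Twisted.Core Cfsg.Agent.Lib.Twisted.ReeF
open scoped commutatorElement

variable {K : Type*} [Field K] {m : ℕ}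

/-- The Weyl word carrying a fundamental piece to the piece. -/
def pW (k : ℕ) : List (Fin 2) := [[], [], [0], [], [0, 1, 0], [1, 0], [1], [0], [0, 1], [1, 0, 1], [1, 0], [0, 1, 0]].getD k []

/-- The kind of the piece: pair, first or second coordinate of the class. -/
def pB (k : ℕ) : Fin 3 := [0, 1, 1, 2, 1, 1, 0, 2, 0, 0, 2, 2].getD k 0

/-- The roots of the pieces. -/
def ordL : List (List ℕ) :=
  [[24, 33], [25, 27], [26, 34], [28, 30], [29, 41], [31, 35], [32, 37], [36, 42], [38, 43], [39, 45], [40, 46], [44, 47]]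

/-- The roots of the pieces from `k` on. -/
def suf (k : ℕ) : List ℕ := (ordL.drop k).flatten

/-- The image of a root under the word of the piece. -/
def piR (k r : ℕ) : ℕ := perm F4.cert (flatW (pW k)) r

/-- The root of the coordinate. -/
def repR (k : ℕ) : ℕ := piR k (![24, 25, 28] (pB k))

/-- The leading roots of a fundamental piece. -/
def headR : Fin 3 → List ℕ := ![[24, 33], [25, 27], [28, 30]]

/-- The other roots of a fundamental piece. -/
def tailR : Fin 3 → List ℕ := ![[], [30], []]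

theorem suf_facts : ∀ k : Fin 13,
    (∀ r ∈ suf k.val, 24 ≤ r ∧ r < 48) ∧ (∀ r ∈ suf (k.val + 1), r ∈ suf k.val) ∧
    ((suf k.val).all fun r => (suf k.val).all fun s =>
      (cTerms F4.cert r s).all fun c => decide (c.1 ∈ suf k.val)) = true := by decide +kernel

theorem piece_facts : ∀ k : Fin 12,
    (∀ r ∈ headR (pB k.val), piR k.val r ∈ ordL.getD k.val [] ∧ piR k.val r ∈ suf k.val) ∧
    (∀ r ∈ tailR (pB k.val), piR k.val r ∈ suf (k.val + 1)) ∧
    (∀ r ∈ ordL.getD k.val [], r ∉ suf (k.val + 1) ∧ 24 ≤ r ∧ r < 48) ∧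
    ((ordL.getD k.val []).all fun r => (ordL.getD k.val []).all fun s =>
      (cTerms F4.cert r s).all fun c => decide (c.1 ∈ suf k.val)) = true := by decide +kernel

theorem suf_piece : ∀ k : Fin 13, ∀ s ∈ suf k.val, ∃ l : Fin 12, k.val ≤ l.val ∧ s ∈ ordL.getD l.val [] := by
  decide +kernel

theorem suf_mono : ∀ k l : Fin 13, k.val ≤ l.val → ∀ r ∈ suf l.val, r ∈ suf k.val := by decide +kernel

theorem suf_zero : ∀ r : Fin 48, r.val ∈ suf 0 ↔ 24 ≤ r.val := by decide +kernel

theorem comm_facts : ∀ l : Fin 12, ∀ r ∈ List.range' 24 24, ∀ s ∈ ordL.getD l.val [],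
    r = s ∨ (r ≠ s ∧ r ≠ ng chevF4 s ∧ ∀ c ∈ cTerms F4.cert s r, c.1 < 48 ∧ (c.1 ∈ suf (l.val + 1) ∨ c.2.1 % 2 = 0)) := by
  decide +kernel

/-- The norm of a weight is a power of two. -/
def unitOK (a b : ℤ) : Bool := decide ((a * a - 2 * (b * b)).natAbs ∈ [1, 2, 4, 8])

theorem rep_units : ∀ k : Fin 12,
    unitOK (chevF4.cartan 0 (repR k.val)) (chevF4.cartan 3 (repR k.val)) = true ∨
      unitOK (chevF4.cartan 1 (repR k.val)) (chevF4.cartan 2 (repR k.val)) = true := by decide +kernel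

/-- The determinant of two weights has no zero. -/
def detOK (j k : ℕ) : Bool :=
  let a0 := chevF4.cartan 0 j
  let a1 := chevF4.cartan 3 j
  let b0 := chevF4.cartan 1 j
  let b1 := chevF4.cartan 2 j
  let c0 := chevF4.cartan 0 k
  let c1 := chevF4.cartan 3 k
  let d0 := chevF4.cartan 1 k
  let d1 := chevF4.cartan 2 k
  let A := c0 * b0 - a0 * d0
  let B := c0 * b1 + c1 * b0 - (a0 * d1 + a1 * d0)
  let C := c1 * b1 - a1 * d1
  decide ((4 * A + 2 * B + C) % 7 ≠ 0) && decide ((16 * A + 4 * B + C) % 31 ≠ 0) &&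
    decide (8 * |2 * B| + |2 * C + A| < 127) &&
    decide ((B = 0 ∧ 2 * C + A ≠ 0) ∨ |2 * C + A| < 8 * |2 * B|)

/-- The pairs inside one class. -/
def classPairs : List (ℕ × ℕ) := [(1, 3), (2, 7), (4, 11), (5, 10)]

theorem rep_dets : ∀ j k : Fin 12, j ≠ k → (j.val, k.val) ∈ classPairs ∨ (k.val, j.val) ∈ classPairs ∨
    detOK (repR j.val) (repR k.val) = true := by decide +kernel

/-- The representatives in the Chevalley group. -/
def nG [CharP K 2] : Fin 2 → ↥(chevF4.group K) := ![nP, nQ]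

/-- A word in the representatives. -/
def wEl [CharP K 2] (W : List (Fin 2)) : ↥(chevF4.group K) := (W.map nG).prod

/-- A fundamental piece. -/
def basePiece (m : ℕ) (j : Fin 3) (a : K) : GT K m := ![gA m a, gB m a 0, gB m 0 a] j

variable [CharP K 2]

/-- The Weyl element of a piece. -/
noncomputable def pE (K : Type*) [Field K] [CharP K 2] (m k : ℕ) : GT K m := ((pW k).map (nT m)).prod

/-- The pieces. -/
noncomputable def pp (m k : ℕ) (a : K) : GT K m := pE K m k * basePiece m (pB k) a * (pE K m k)⁻¹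

/-- The terms of the series. -/
noncomputable def Vs (K : Type*) [Field K] (m k : ℕ) : Subgroup (GT K m) :=
  (rootGen chevF4 K {r | r ∈ suf k}).subgroupOf (twistedF4 K (2 ^ m))

theorem coe_prod (W : List (Fin 2)) :
    (((W.map (nT (K := K) m)).prod : GT K m) : GL chevF4.Idx K) = (wEl (K := K) W : GL chevF4.Idx K) := by
  induction W with
  | nil => rfl
  | cons j W ih =>
    simp only [wEl, List.map_cons, List.prod_cons, Subgroup.coe_mul] at ih ⊢
    rw [ih]
    fin_cases j <;> rfl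

theorem wEl_conj (W : List (Fin 2)) : ∀ r < chevF4.nroots, ∀ t : K,
    wEl W * xG checked_F4 r t * (wEl W)⁻¹ = xG checked_F4 (perm F4.cert (flatW W) r) ((1 : K) * t) := by
  induction W with
  | nil => intro r _ t; simp [wEl, flatW, perm]
  | cons j W ih =>
    intro r hr t
    have hlt : perm F4.cert (flatW W) r < chevF4.nroots := checked_F4.perm_lt (isWord_flatW W) hr
    have hw : IsWord chevF4 (orbs j) := by fin_cases j; exacts [isWord_LP, isWord_LQ]
    have e1 : nG (K := K) j = wordG checked_F4 (castW K (nInts chevF4 (orbs j))) := by fin_cases j <;> rfl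
    rw [show flatW (j :: W) = orbs j ++ flatW W from rfl, perm_append,
      show wEl (K := K) (j :: W) = nG j * wEl W from rfl,
      show nG j * wEl W * xG checked_F4 r t * (nG j * wEl W)⁻¹ =
        nG j * (wEl W * xG checked_F4 r t * (wEl W)⁻¹) * (nG (K := K) j)⁻¹ by group,
      ih r hr, one_mul, e1, n_conj hw _ hlt, one_mul]

theorem wEl_conj_word (W : List (Fin 2)) (w : List (ℕ × K)) (hw : ∀ p ∈ w, p.1 < chevF4.nroots) :
    wEl W * wordG checked_F4 w * (wEl W)⁻¹ =
      wordG checked_F4 (w.map fun p => (perm F4.cert (flatW W) p.1, p.2)) := by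
  rw [conj_wordG checked_F4 (π := perm F4.cert (flatW W)) (c := fun _ => (1 : K)) (wEl_conj W) w hw]
  simp

/-- The leading word of a fundamental piece. -/
def headW (m : ℕ) : Fin 3 → K → List (ℕ × K) :=
  ![fun a => [(24, a), (33, a ^ 2 ^ m)], fun a => [(25, a), (27, a ^ 2 ^ m)], fun a => [(28, a), (30, a ^ (2 * 2 ^ m))]]

/-- The rest of the word of a fundamental piece. -/
def tailW (m : ℕ) : Fin 3 → K → List (ℕ × K) :=
  ![fun _ => [], fun a => [(30, a * (a ^ 2 ^ m) ^ 2)], fun _ => []]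

omit [CharP K 2] in
theorem headW_roots (j : Fin 3) (a : K) : (headW m j a).map Prod.fst = headR j ∧ (tailW m j a).map Prod.fst = tailR j := by
  fin_cases j <;> exact ⟨rfl, rfl⟩

omit [CharP K 2] in
theorem headR_lt : ∀ j : Fin 3, ∀ r, r ∈ headR j ∨ r ∈ tailR j → r < chevF4.nroots := by
  have h : ∀ j : Fin 3, ∀ r ∈ headR j ++ tailR j, r < chevF4.nroots := by decide
  exact fun j r hr => h j r (List.mem_append.2 hr)

theorem base_eq (j : Fin 3) (a : K) : ((basePiece m j a : GT K m) : GL chevF4.Idx K) =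
    ((wordG checked_F4 (headW m j a) * wordG checked_F4 (tailW m j a) : ↥(chevF4.group K)) : GL chevF4.Idx K) := by
  have h0 : ∀ {r : ℕ}, r < chevF4.nroots → xG (K := K) checked_F4 r 0 = 1 := fun hr => xG_zero checked_F4 hr
  fin_cases j
  · show ((pairU (2 ^ m) a : ↥(chevF4.group K)) : GL chevF4.Idx K) = _
    rw [pairU_eq]
    simp [srtP, headW, tailW, wordG]
  · show ((classU (2 ^ m) a 0 : ↥(chevF4.group K)) : GL chevF4.Idx K) = _
    rw [classU_eq, zero_pow (mul_ne_zero two_ne_zero (two_pow_ne m)), zero_add]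
    simp [srtQ, headW, tailW, wordG, h0 (show 28 < chevF4.nroots by decide), mul_assoc]
  · show ((classU (2 ^ m) (0 : K) a : ↥(chevF4.group K)) : GL chevF4.Idx K) = _
    rw [classU_eq, zero_pow (two_pow_ne m), zero_mul, add_zero]
    simp [srtQ, headW, tailW, wordG, h0 (show 25 < chevF4.nroots by decide), h0 (show 27 < chevF4.nroots by decide)]

theorem pp_eq (k : ℕ) (a : K) : ((pp m k a : GT K m) : GL chevF4.Idx K) =
    ((wordG checked_F4 ((headW m (pB k) a).map fun p => (piR k p.1, p.2)) *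
      wordG checked_F4 ((tailW m (pB k) a).map fun p => (piR k p.1, p.2)) : ↥(chevF4.group K)) : GL chevF4.Idx K) := by
  have hlt : ∀ p ∈ headW m (pB k) a ++ tailW m (pB k) a, p.1 < chevF4.nroots := fun p hp => by
    refine headR_lt (pB k) p.1 ((List.mem_append.1 hp).imp (fun h => ?_) fun h => ?_)
    · rw [← (headW_roots (m := m) (pB k) a).1]; exact List.mem_map.2 ⟨p, h, rfl⟩
    · rw [← (headW_roots (m := m) (pB k) a).2]; exact List.mem_map.2 ⟨p, h, rfl⟩
  simp only [piR]
  rw [← wEl_conj_word (pW k) _ fun p hp => hlt p (List.mem_append_left _ hp),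
    ← wEl_conj_word (pW k) _ fun p hp => hlt p (List.mem_append_right _ hp)]
  simp only [pp, pE, Subgroup.coe_mul, Subgroup.coe_inv, base_eq, coe_prod]
  group

theorem wordG_mem {S : Set ℕ} (w : List (ℕ × K)) (hw : ∀ p ∈ w, p.1 ∈ S ∧ p.1 < chevF4.nroots) :
    (wordG checked_F4 w : GL chevF4.Idx K) ∈ rootGen chevF4 K S := by
  induction w with
  | nil => simpa [wordG] using one_mem (rootGen chevF4 K S)
  | cons p w ih =>
    simp only [List.forall_mem_cons] at hw
    have e : wordG checked_F4 (p :: w) = xG checked_F4 p.1 p.2 * wordG checked_F4 w := by simp [wordG]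
    rw [e, Subgroup.coe_mul]
    exact mul_mem (mem_rootGen hw.1.1 (coe_xG checked_F4 _ _)) (ih hw.2)

theorem head_mem {k : ℕ} (hk : k < 12) (a : K) :
    (wordG checked_F4 ((headW m (pB k) a).map fun p => (piR k p.1, p.2)) : GL chevF4.Idx K) ∈
      rootGen chevF4 K {r | r ∈ ordL.getD k []} ∧
    (wordG checked_F4 ((headW m (pB k) a).map fun p => (piR k p.1, p.2)) : GL chevF4.Idx K) ∈
      rootGen chevF4 K {r | r ∈ suf k} ∧
    (wordG checked_F4 ((tailW m (pB k) a).map fun p => (piR k p.1, p.2)) : GL chevF4.Idx K) ∈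
      rootGen chevF4 K {r | r ∈ suf (k + 1)} := by
  obtain ⟨h1, h2, h3, -⟩ := piece_facts ⟨k, hk⟩
  have hb : ∀ j : Fin 13, ∀ r ∈ suf j.val, r < chevF4.nroots := fun j r hr => ((suf_facts j).1 r hr).2
  have hh : ∀ p ∈ (headW m (pB k) a).map fun p => (piR k p.1, p.2), p.1 ∈ ordL.getD k [] ∧ p.1 ∈ suf k := by
    intro p hp
    obtain ⟨q, hq, rfl⟩ := List.mem_map.1 hp
    exact h1 q.1 (by rw [← (headW_roots (m := m) (pB k) a).1]; exact List.mem_map.2 ⟨q, hq, rfl⟩)
  refine ⟨wordG_mem _ fun p hp => ⟨(hh p hp).1, hb ⟨k, by omega⟩ _ (hh p hp).2⟩,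
    wordG_mem _ fun p hp => ⟨(hh p hp).2, hb ⟨k, by omega⟩ _ (hh p hp).2⟩, wordG_mem _ fun p hp => ?_⟩
  obtain ⟨q, hq, rfl⟩ := List.mem_map.1 hp
  have := h2 q.1 (by rw [← (headW_roots (m := m) (pB k) a).2]; exact List.mem_map.2 ⟨q, hq, rfl⟩)
  exact ⟨this, hb ⟨k + 1, by omega⟩ _ this⟩

theorem Vs_dec {k : ℕ} (hk : k < 12) : Vs K m (k + 1) ≤ Vs K m k := fun _ hx =>
  rootGen_mono (fun r hr => (suf_facts ⟨k, by omega⟩).2.1 r hr) hx

theorem pp_mem {k : ℕ} (hk : k < 12) (a : K) : pp m k a ∈ Vs K m k := by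
  rw [Vs, Subgroup.mem_subgroupOf, pp_eq, Subgroup.coe_mul]
  obtain ⟨-, h2, h3⟩ := head_mem (K := K) (m := m) hk a
  exact mul_mem h2 (rootGen_mono (fun r hr => (suf_facts ⟨k, by omega⟩).2.1 r hr) h3)

theorem ordL_pair : ∀ k : Fin 12, ∃ r s : Fin 48, r < s ∧ ordL.getD k.val [] = [r.val, s.val] ∧
    chevF4.posRoots.filter (fun i => decide (i ∈ ordL.getD k.val [])) = ordL.getD k.val [] ∧
    ((headR (pB k.val)).map (piR k.val) = [r.val, s.val] ∨ (headR (pB k.val)).map (piR k.val) = [s.val, r.val]) := by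
  decide +kernel

omit [CharP K 2] in
/-- The coordinates of a piece outside a closed set vanish on its group. -/
theorem pair_zero {k : ℕ} (hk : k < 12) {r s : ℕ} (hrs : r < s) (hl : ordL.getD k [] = [r, s])
    (hfil : chevF4.posRoots.filter (fun i => decide (i ∈ ordL.getD k [])) = ordL.getD k []) {x y : K}
    (h : (wordG checked_F4 [(r, x), (s, y)] : GL chevF4.Idx K) ∈ rootGen chevF4 K {i | i ∈ suf (k + 1)}) :
    x = 0 ∧ y = 0 := by
  classical
  obtain ⟨-, -, hout, -⟩ := piece_facts ⟨k, hk⟩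
  simp only [hl] at hout
  rw [hl] at hfil
  obtain ⟨t', ht', e'⟩ := rooted_F4.exists_prod_filter (S := {i | i ∈ suf (k + 1)})
    (fun i hi => (suf_facts ⟨k + 1, by omega⟩).1 i hi) (closed_of_list (suf_facts ⟨k + 1, by omega⟩).2.2) h
  let t : ℕ → K := fun i => if i = r then x else if i = s then y else 0
  have e : chevF4.wordMat K [(r, x), (s, y)] = chevF4.wordMat K (chevF4.posRoots.map fun i => (i, t i)) := by
    rw [← checked_F4.wordMat_filter_eq t (fun i => decide (i ∈ [r, s])) _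
      (fun i hi => (checked_F4.mem_posRoots.1 hi).2) (fun i _ hi => by
        simp only [decide_eq_false_iff_not, List.mem_cons, List.not_mem_nil, or_false, not_or] at hi
        simp [t, hi.1, hi.2]), hfil]
    simp [t, hrs.ne']
  rw [coe_wordG, e] at e'
  have heq := rooted_F4.prod_injective (F := K) chevF4.posRoots checked_F4.posRoots_pairwise
    (fun i hi => checked_F4.mem_posRoots.1 hi) t t' e'
  have hp : ∀ i ∈ [r, s], t i = 0 := fun i hi => by
    rw [heq i (checked_F4.mem_posRoots.2 ⟨(hout i hi).2.1, (hout i hi).2.2⟩)]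
    exact ht' i (hout i hi).1
  exact ⟨by simpa [t] using hp r (by simp), by simpa [t, hrs.ne'] using hp s (by simp)⟩

theorem pp_inj {k : ℕ} (hk : k < 12) {a : K} (h : pp m k a ∈ Vs K m (k + 1)) : a = 0 := by
  obtain ⟨-, -, h3⟩ := head_mem (K := K) (m := m) hk a
  rw [Vs, Subgroup.mem_subgroupOf, pp_eq, Subgroup.coe_mul] at h
  have h' := mul_mem h (inv_mem h3)
  rw [mul_inv_cancel_right] at h'
  obtain ⟨r, s, hrs, hl, hfil, hor⟩ := ordL_pair ⟨k, hk⟩
  have hshape : ∀ j : Fin 3, ∃ h0 h1 b, headR j = [h0, h1] ∧ headW m j a = [(h0, a), (h1, b)] := by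
    intro j; fin_cases j <;> exact ⟨_, _, _, rfl, rfl⟩
  obtain ⟨h0, h1, b, e1, e2⟩ := hshape (pB k)
  rw [e2, List.map_cons, List.map_cons, List.map_nil] at h'
  simp only at hl hor hfil
  rw [e1, List.map_cons, List.map_cons, List.map_nil] at hor
  rcases hor with hor | hor <;> obtain ⟨ha, hb⟩ := by simpa using hor
  · rw [ha, hb] at h'
    exact (pair_zero hk hrs hl hfil h').1
  · rw [ha, hb] at h'
    have h'' := inv_mem h'
    rw [← Subgroup.coe_inv, show (wordG checked_F4 [((s : ℕ), a), ((r : ℕ), b)])⁻¹ =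
      wordG checked_F4 [((r : ℕ), -b), ((s : ℕ), -a)] by
        refine inv_eq_of_mul_eq_one_right ?_
        simp only [wordG, List.map_cons, List.map_nil, List.prod_cons, List.prod_nil, mul_one]
        rw [mul_assoc, ← mul_assoc (xG checked_F4 (r : ℕ) b), xG_add _ r.isLt, add_neg_cancel, xG_zero _ r.isLt,
          one_mul, xG_add _ s.isLt, add_neg_cancel, xG_zero _ s.isLt]] at h''
    exact neg_eq_zero.1 (pair_zero hk hrs hl hfil h'').2

theorem Vs_zero : Vs K m 0 = UT K m := by
  have hset : {r | r ∈ suf 0} = posSet chevF4 := by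
    ext r
    refine ⟨fun hr => ((suf_facts 0).1 r hr), fun hr => ?_⟩
    exact (suf_zero ⟨r, hr.2⟩).2 hr.1
  rw [Vs, hset, ← checked_F4.posUnipotent_eq]

theorem Vs_le_UT {k : ℕ} (hk : k ≤ 12) : Vs K m k ≤ UT K m := fun x hx => by
  rw [← Vs_zero]
  exact rootGen_mono (fun r hr => suf_mono 0 ⟨k, by omega⟩ (Nat.zero_le _) r hr) hx

theorem Vs_bot : Vs K m 12 = ⊥ := by
  have h : {r | r ∈ suf 12} = (∅ : Set ℕ) := Set.eq_empty_iff_forall_notMem.2 fun r hr => by
    simp [suf, ordL] at hr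
  have hbot : rootGen chevF4 K (∅ : Set ℕ) = ⊥ := by
    rw [rootGen, eq_bot_iff, Subgroup.closure_le]
    rintro g ⟨r, t, hr, -⟩
    exact absurd hr (Set.notMem_empty r)
  rw [Vs, h, hbot, Subgroup.bot_subgroupOf]

/-- The series is central at the level of roots. -/
theorem pos_comm {k : ℕ} (hk : k < 12) {g x : GL chevF4.Idx K} (hg : g ∈ rootGen chevF4 K (posSet chevF4))
    (hx : x ∈ rootGen chevF4 K {r | r ∈ suf k}) : ⁅g, x⁆ ∈ rootGen chevF4 K {r | r ∈ suf (k + 1)} := by
  have hgen : ∀ k' ≤ 11, ∀ r ∈ List.range' 24 24, ∀ s ∈ suf k', ∀ t u : K,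
      ⁅((xG checked_F4 r t : ↥(chevF4.group K)) : GL chevF4.Idx K), (xG checked_F4 s u : GL chevF4.Idx K)⁆ ∈
        rootGen chevF4 K {r | r ∈ suf (k' + 1)} := by
    -- from the bottom of the series
    intro k' hk'
    induction hd : 11 - k' using Nat.strong_induction_on generalizing k' with
    | _ d ih =>
      intro r hr s hs t u
      obtain ⟨l, hl, hsl⟩ := suf_piece ⟨k', by omega⟩ s hs
      simp only at hl
      have hmono : rootGen chevF4 K {r | r ∈ suf (l.val + 1)} ≤ rootGen chevF4 K {r | r ∈ suf (k' + 1)} :=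
        rootGen_mono fun a ha => suf_mono ⟨k' + 1, by omega⟩ ⟨l.val + 1, by omega⟩ (by simp only; omega) a ha
      have hlts : s < chevF4.nroots := ((suf_facts ⟨k', by omega⟩).1 s hs).2
      have hltr : r < chevF4.nroots := by rw [List.mem_range'_1] at hr; exact hr.2
      rcases comm_facts l r hr s hsl with rfl | ⟨hrs, hne, hterms⟩
      · rw [commutatorElement_eq_one_iff_mul_comm.2]
        · exact one_mem _
        · have e : xG (K := K) checked_F4 r t * xG checked_F4 r u = xG checked_F4 r u * xG checked_F4 r t := by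
            rw [xG_add _ hltr, xG_add _ hltr, add_comm]
          exact congrArg Subtype.val e
      refine hmono ?_
      have hpos : r ∈ posSet chevF4 := by rw [posSet_eq]; exact hr
      have e := xG_comm (K := K) checked_F4 hlts hltr (T := cTerms F4.cert s r) rfl hrs hne u t
      set W := wordG (K := K) checked_F4 ((cTerms F4.cert s r).map fun c =>
        (c.1, (c.2.1 : K) * (-u) ^ c.2.2.1 * t ^ c.2.2.2)) with hW
      have hWmem : (W : GL chevF4.Idx K) ∈ rootGen chevF4 K {r | r ∈ suf (l.val + 1)} := by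
        rw [hW, wordG]
        rw [SubmonoidClass.coe_list_prod]
        refine list_prod_mem fun y hy => ?_
        simp only [List.mem_map] at hy
        obtain ⟨_, ⟨_, ⟨c, hc, rfl⟩, rfl⟩, rfl⟩ := hy
        obtain ⟨hc1, hc2 | hc2⟩ := hterms c hc
        · exact mem_rootGen hc2 (coe_xG checked_F4 _ _)
        · have h0 : (c.2.1 : K) = 0 := (CharP.intCast_eq_zero_iff K 2 c.2.1).2 (Int.dvd_of_emod_eq_zero hc2)
          simp only [h0, zero_mul]
          rw [xG_zero checked_F4 (show c.1 < chevF4.nroots from hc1), Subgroup.coe_one]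
          exact one_mem _
      set X := xG (K := K) checked_F4 r t
      set Y := xG (K := K) checked_F4 s u
      have e2 : ⁅X, Y⁆ = (Y * X) * W * (Y * X)⁻¹ := by
        rw [commutatorElement_def, e]; group
      have e3 := congrArg Subtype.val e2
      simp only [commutatorElement_def, Subgroup.coe_mul, Subgroup.coe_inv] at e3
      rw [commutatorElement_def, e3]
      -- the roots of positive elements normalise the lower terms
      have hnormal : ∀ r' ∈ List.range' 24 24, ∀ v : K, ∀ z ∈ rootGen chevF4 K {r | r ∈ suf (l.val + 1)},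
          ((xG checked_F4 r' v : ↥(chevF4.group K)) : GL chevF4.Idx K) * z *
            ((xG checked_F4 r' v : ↥(chevF4.group K)) : GL chevF4.Idx K)⁻¹ ∈
              rootGen chevF4 K {r | r ∈ suf (l.val + 1)} := by
        intro r' hr' v z hz
        induction hz using Subgroup.closure_induction with
        | mem z hz =>
          obtain ⟨a, w, ha, ez⟩ := hz
          have hla : l.val + 1 ≤ 11 := by
            by_contra hcon
            rw [show l.val + 1 = 12 by omega] at ha
            simp [suf, ordL] at ha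
          have hz' : z = ((xG checked_F4 a w : ↥(chevF4.group K)) : GL chevF4.Idx K) :=
            Units.ext (by rw [ez, coe_xG])
          have h1 := ih (11 - (l.val + 1)) (by omega) (l.val + 1) hla rfl r' hr' a ha v w
          have h2 : rootGen chevF4 K {r | r ∈ suf (l.val + 1 + 1)} ≤ rootGen chevF4 K {r | r ∈ suf (l.val + 1)} :=
            rootGen_mono fun b hb => (suf_facts ⟨l.val + 1, by omega⟩).2.1 b hb
          have h3 := mul_mem (h2 h1) (mem_rootGen (F := K) (S := {r | r ∈ suf (l.val + 1)}) ha ez)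
          rw [← hz'] at h3
          rwa [commutatorElement_def, inv_mul_cancel_right] at h3
        | one => simp
        | mul a b _ _ ha hb =>
          have := mul_mem ha hb
          simpa [mul_assoc] using this
        | inv a _ ha =>
          have := inv_mem ha
          simpa [mul_assoc] using this
      have hs' : s ∈ List.range' 24 24 := by
        rw [List.mem_range'_1]
        exact (suf_facts ⟨k', by omega⟩).1 s hs
      have h5 := hnormal s hs' u _ (hnormal r hr t _ hWmem)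
      simpa [mul_assoc] using h5
  -- extend to the groups
  set N := rootGen chevF4 K {r | r ∈ suf (k + 1)} with hN
  have hnorm : ∀ a ∈ rootGen chevF4 K (posSet chevF4), ∀ z ∈ N, a * z * a⁻¹ ∈ N := by
    have hn : rootGen chevF4 K (posSet chevF4) ≤ Subgroup.normalizer (N : Set (GL chevF4.Idx K)) := by
      refine (Subgroup.closure_le _).2 ?_
      rintro a ⟨r, t, hr, ea⟩
      have ha : a = ((xG checked_F4 r t : ↥(chevF4.group K)) : GL chevF4.Idx K) :=
        Units.ext (by rw [ea, coe_xG])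
      have hone : ∀ t : K, ∀ z ∈ N, ((xG checked_F4 r t : ↥(chevF4.group K)) : GL chevF4.Idx K) * z *
          ((xG checked_F4 r t : ↥(chevF4.group K)) : GL chevF4.Idx K)⁻¹ ∈ N := by
        intro t z hz
        induction hz using Subgroup.closure_induction with
        | mem z hz =>
          obtain ⟨s, u, hs, ez⟩ := hz
          have hz' : z = ((xG checked_F4 s u : ↥(chevF4.group K)) : GL chevF4.Idx K) := Units.ext (by rw [ez, coe_xG])
          rcases Nat.lt_or_ge k 11 with hk11 | hk11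
          · have h1 := hgen (k + 1) hk11 r (by rw [posSet_eq] at hr; exact hr) s hs t u
            have h2 : rootGen chevF4 K {r | r ∈ suf (k + 1 + 1)} ≤ N :=
              rootGen_mono fun b hb => (suf_facts ⟨k + 1, by omega⟩).2.1 b hb
            have h3 := mul_mem (h2 h1) (mem_rootGen (F := K) (S := {r | r ∈ suf (k + 1)}) hs ez)
            rw [← hz'] at h3
            rwa [commutatorElement_def, inv_mul_cancel_right] at h3
          · rw [show k + 1 = 12 by omega] at hs
            simp [suf, ordL] at hs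
        | one => simp
        | mul a b _ _ ha hb =>
          have := mul_mem ha hb
          simpa [mul_assoc] using this
        | inv a _ ha =>
          have := inv_mem ha
          simpa [mul_assoc] using this
      rw [SetLike.mem_coe, Subgroup.mem_normalizer_iff, ha]
      refine fun z => ⟨hone t z, fun hz => ?_⟩
      have h1 := hone (-t) _ hz
      have e : xG (K := K) checked_F4 r (-t) = (xG checked_F4 r t)⁻¹ := by
        refine eq_inv_of_mul_eq_one_left ?_
        rw [xG_add _ hr.2, neg_add_cancel, xG_zero _ hr.2]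
      rw [e, Subgroup.coe_inv, inv_inv] at h1
      simpa [mul_assoc] using h1
    exact fun a ha z hz => (Subgroup.mem_normalizer_iff.1 (hn ha) z).1 hz
  induction hg using Subgroup.closure_induction with
  | mem a ha =>
    obtain ⟨r, t, hr, ea⟩ := ha
    have ha' : a = ((xG checked_F4 r t : ↥(chevF4.group K)) : GL chevF4.Idx K) := Units.ext (by rw [ea, coe_xG])
    induction hx using Subgroup.closure_induction with
    | mem b hb =>
      obtain ⟨s, u, hs, eb⟩ := hb
      have hb' : b = ((xG checked_F4 s u : ↥(chevF4.group K)) : GL chevF4.Idx K) := Units.ext (by rw [eb, coe_xG])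
      rw [ha', hb']
      exact hgen k (by omega) r (by rw [posSet_eq] at hr; exact hr) s hs t u
    | one => simp
    | mul b c hb _ ihb ihc =>
      have hbP : b ∈ rootGen chevF4 K (posSet chevF4) :=
        rootGen_mono (fun r hr => (suf_facts ⟨k, by omega⟩).1 r hr) hb
      rw [show ⁅a, b * c⁆ = ⁅a, b⁆ * (b * ⁅a, c⁆ * b⁻¹) by simp only [commutatorElement_def]; group]
      exact mul_mem ihb (hnorm b hbP _ ihc)
    | inv b hb ihb =>
      have hbP : b ∈ rootGen chevF4 K (posSet chevF4) :=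
        rootGen_mono (fun r hr => (suf_facts ⟨k, by omega⟩).1 r hr) hb
      rw [show ⁅a, b⁻¹⁆ = b⁻¹ * ⁅a, b⁆⁻¹ * b⁻¹⁻¹ by simp only [commutatorElement_def]; group]
      exact hnorm _ (inv_mem hbP) _ (inv_mem ihb)
  | one => simp
  | mul a b ha _ iha ihb =>
    rw [show ⁅a * b, x⁆ = a * ⁅b, x⁆ * a⁻¹ * ⁅a, x⁆ by simp only [commutatorElement_def]; group]
    exact mul_mem (hnorm a ha _ ihb) iha
  | inv a ha iha =>
    rw [show ⁅a⁻¹, x⁆ = a⁻¹ * ⁅a, x⁆⁻¹ * a⁻¹⁻¹ by simp only [commutatorElement_def]; group]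
    exact hnorm _ (inv_mem ha) _ (inv_mem iha)

theorem Vs_central {k : ℕ} (hk : k < 12) {g x : GT K m} (hg : g ∈ UT K m) (hx : x ∈ Vs K m k) :
    ⁅g, x⁆ ∈ Vs K m (k + 1) := by
  rw [Vs, Subgroup.mem_subgroupOf] at hx ⊢
  rw [show ((⁅g, x⁆ : GT K m) : GL chevF4.Idx K) = ⁅(g : GL chevF4.Idx K), (x : GL chevF4.Idx K)⁆ by
    simp [commutatorElement_def]]
  refine pos_comm hk ?_ hx
  rw [← checked_F4.posUnipotent_eq]
  exact hg

variable [Fintype K] {σ : ↥(chevF4.group K) →* ↥(chevF4.group K)} (hσ : IsReeSigma (2 ^ m) σ)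
  (he : ∀ x : K, x ^ (2 * (2 ^ m * 2 ^ m)) = x)
include hσ he

/-- The characters of the pieces. -/
noncomputable def chK (k : ℕ) (g : GT K m) : Kˣ :=
  open Classical in
  if h : ∃ s : Kˣ × Kˣ, g = gH hσ he s.1 s.2 then torChi (2 ^ m) h.choose.1 h.choose.2 (repR k) else 1

theorem chK_gH (k : ℕ) (s t : Kˣ) : chK hσ he k (gH hσ he s t) = torChi (2 ^ m) s t (repR k) := by
  have h : ∃ p : Kˣ × Kˣ, gH hσ he s t = gH hσ he p.1 p.2 := ⟨(s, t), rfl⟩
  rw [chK, dif_pos h]
  obtain ⟨h1, h2⟩ := gH_inj he hσ h.choose_spec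
  rw [← h1, ← h2]

theorem pE_conj_HT (k : ℕ) {h : GT K m} (hh : h ∈ HT K m) : (pE K m k)⁻¹ * h * pE K m k ∈ HT K m := by
  have h1 := rooted_F4.diagonal_normal_monomial (F := K) (cls_prod (K := K) (m := m) (pW k)).mem_monomial
  have h2 := (Subgroup.mem_normalizer_iff.1 (inv_mem h1) (h : GL chevF4.Idx K)).1 hh
  rw [inv_inv] at h2
  exact h2

theorem pp_equiv {k : ℕ} (hk : k < 12) {h : GT K m} (hh : h ∈ HT K m) (a : K) :
    h * pp m k a * h⁻¹ = pp m k ((chK hσ he k h : K) * a) := by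
  obtain ⟨s, t, rfl⟩ := exists_gH hσ he hh
  obtain ⟨s', t', e'⟩ := exists_gH hσ he (pE_conj_HT hσ he k (gH_mem hσ he s t))
  have hr : (![24, 25, 28] (pB k) : ℕ) < chevF4.nroots := (by decide : ∀ j : Fin 3, (![24, 25, 28] j : ℕ) < chevF4.nroots) _
  -- transport of the character
  have hch : torChi (2 ^ m) s' t' (![24, 25, 28] (pB k)) = torChi (2 ^ m) s t (repR k) := by
    have hpos : repR k ∈ posSet chevF4 := by
      have hmem : ∀ k : Fin 12, 24 ≤ repR k.val ∧ repR k.val < 48 := by decide +kernel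
      exact hmem ⟨k, hk⟩
    have e1 : ((gH hσ he s t : GT K m) : GL chevF4.Idx K) * (wEl (K := K) (pW k) : GL chevF4.Idx K) =
        (wEl (K := K) (pW k) : GL chevF4.Idx K) * ((gH hσ he s' t' : GT K m) : GL chevF4.Idx K) := by
      rw [← coe_prod (m := m), ← Subgroup.coe_mul, ← Subgroup.coe_mul, ← e']
      simp [pE, mul_assoc]
    have e2 : ct (2 ^ m) s t * wEl (K := K) (pW k) = wEl (pW k) * ct (2 ^ m) s' t' := Subtype.ext e1
    set w := wEl (K := K) (pW k)
    set r := (![24, 25, 28] (pB k) : ℕ)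
    have hw : ∀ v : K, w * xG checked_F4 r v * w⁻¹ = xG checked_F4 (repR k) v := fun v => by
      rw [wEl_conj (pW k) r hr v, one_mul]; rfl
    have h1 := ct_conj_X (2 ^ m) s t hpos.2 (1 : K)
    rw [← hw, show ct (2 ^ m) s t * (w * xG checked_F4 r 1 * w⁻¹) * (ct (2 ^ m) s t)⁻¹ =
      (ct (2 ^ m) s t * w) * xG checked_F4 r 1 * (ct (2 ^ m) s t * w)⁻¹ by group, e2,
      show w * ct (2 ^ m) s' t' * xG checked_F4 r 1 * (w * ct (2 ^ m) s' t')⁻¹ =
        w * (ct (2 ^ m) s' t' * xG checked_F4 r 1 * (ct (2 ^ m) s' t')⁻¹) * w⁻¹ by group,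
      ct_conj_X _ _ _ hr, hw, mul_one, mul_one] at h1
    exact Units.ext (xG_injective hpos h1)
  rw [chK_gH hσ he, ← hch, pp, pp, show gH hσ he s t * (pE K m k * basePiece m (pB k) a * (pE K m k)⁻¹) *
    (gH hσ he s t)⁻¹ = pE K m k * (((pE K m k)⁻¹ * gH hσ he s t * pE K m k) * basePiece m (pB k) a *
      ((pE K m k)⁻¹ * gH hσ he s t * pE K m k)⁻¹) * (pE K m k)⁻¹ by group, e']
  congr 2
  generalize pB k = j
  fin_cases j
  · exact gH_gA he hσ s' t' a
  · exact (gH_gB he hσ s' t' a 0).trans (by rw [mul_zero]; rfl)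
  · exact (gH_gB he hσ s' t' 0 a).trans (by rw [mul_zero]; rfl)

omit [Fintype K] in
theorem pp_add {k : ℕ} (hk : k < 12) (a b : K) :
    (pp m k (a + b))⁻¹ * (pp m k a * pp m k b) ∈ Vs K m (k + 1) := by
  have key : ∀ x : GT K m, (basePiece m (pB k) (a + b))⁻¹ * (basePiece m (pB k) a * basePiece m (pB k) b) = x →
      pE K m k * x * (pE K m k)⁻¹ ∈ Vs K m (k + 1) →
      (pp m k (a + b))⁻¹ * (pp m k a * pp m k b) ∈ Vs K m (k + 1) := by
    intro x e hx
    rw [show (pp m k (a + b))⁻¹ * (pp m k a * pp m k b) = pE K m k *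
      ((basePiece m (pB k) (a + b))⁻¹ * (basePiece m (pB k) a * basePiece m (pB k) b)) * (pE K m k)⁻¹ by
        simp only [pp]; group, e]
    exact hx
  rcases (show pB k = 0 ∨ pB k = 1 ∨ pB k = 2 by generalize pB k = j; fin_cases j <;> simp) with h | h | h
  · refine key 1 ?_ (by simp)
    rw [h]
    show (gA m (a + b))⁻¹ * (gA m a * gA m b) = 1
    rw [gA_mul, inv_mul_cancel]
  · refine key (gB m 0 (b * a ^ 2 ^ m)) ?_ ?_
    · rw [h]
      show (gB m (a + b) 0)⁻¹ * (gB m a 0 * gB m b 0) = _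
      rw [inv_mul_eq_iff_eq_mul, gB_mul he, gB_mul he]
      simp
    · rw [Vs, Subgroup.mem_subgroupOf]
      simp only [Subgroup.coe_mul, Subgroup.coe_inv, pE, coe_prod]
      rw [show ((gB m (0 : K) (b * a ^ 2 ^ m) : GT K m) : GL chevF4.Idx K) = _ from base_eq (m := m) 2 _,
        ← Subgroup.coe_inv, ← Subgroup.coe_mul, ← Subgroup.coe_mul]
      rw [show wordG checked_F4 (tailW m 2 (b * a ^ 2 ^ m)) = (1 : ↥(chevF4.group K)) by simp [tailW, wordG], mul_one,
        wEl_conj_word _ _ (by simp [headW]; decide)]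
      have hc : ∀ k : Fin 12, pB k.val = 1 → ∀ r ∈ headR 2, piR k.val r ∈ suf (k.val + 1) ∧ piR k.val r < 48 := by
        decide +kernel
      refine wordG_mem _ fun p hp => ?_
      obtain ⟨q, hq, rfl⟩ := List.mem_map.1 hp
      exact hc ⟨k, hk⟩ h q.1 (by rw [← (headW_roots (m := m) 2 (b * a ^ 2 ^ m)).1]; exact List.mem_map.2 ⟨q, hq, rfl⟩)
  · refine key 1 ?_ (by simp)
    rw [h]
    show (gB m 0 (a + b))⁻¹ * (gB m 0 a * gB m 0 b) = 1
    rw [gB_mul he]
    simp

theorem pp_surj (hK : Fintype.card K = 2 ^ (2 * m + 1)) {k : ℕ} (hk : k < 12) {x : GT K m} (hx : x ∈ Vs K m k) :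
    ∃ a, (pp m k a)⁻¹ * x ∈ Vs K m (k + 1) := by
  classical
  set q := Nat.card K
  have hq : 0 < q := Nat.card_pos
  let f : ∀ k, k < 12 → K × ↥(Vs K m (k + 1)) → ↥(Vs K m k) := fun k hk v =>
    ⟨pp m k v.1 * v.2, mul_mem (pp_mem hk v.1) (Vs_dec hk v.2.2)⟩
  have hf : ∀ k (hk : k < 12), Function.Injective (f k hk) := by
    rintro k hk ⟨a, v⟩ ⟨b, w⟩ e
    have e' : pp m k a * (v : GT K m) = pp m k b * w := congrArg Subtype.val e
    have h1 : (pp m k a)⁻¹ * pp m k b ∈ Vs K m (k + 1) := by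
      rw [show (pp m k a)⁻¹ * pp m k b = (v : GT K m) * (w : GT K m)⁻¹ by
        rw [eq_mul_inv_iff_mul_eq, mul_assoc, ← e', inv_mul_cancel_left]]
      exact mul_mem v.2 (inv_mem w.2)
    have h2 := pp_add hσ he hk a (b - a)
    rw [add_sub_cancel] at h2
    have h3 := mul_mem h1 h2
    rw [show (pp m k a)⁻¹ * pp m k b * ((pp m k b)⁻¹ * (pp m k a * pp m k (b - a))) = pp m k (b - a) by group] at h3
    obtain rfl : b = a := sub_eq_zero.1 (pp_inj hk h3)
    rw [Subtype.ext (mul_left_cancel e')]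
  have hstep : ∀ k (hk : k < 12), q * Nat.card ↥(Vs K m (k + 1)) ≤ Nat.card ↥(Vs K m k) := fun k hk => by
    have h := Nat.card_le_card_of_injective (f k hk) (hf k hk)
    rwa [Nat.card_prod] at h
  have hlow : ∀ d ≤ 12, q ^ d ≤ Nat.card ↥(Vs K m (12 - d)) := by
    intro d
    induction d with
    | zero => intro _; rw [pow_zero]; exact (Nat.card_pos : 0 < Nat.card ↥(Vs K m 12))
    | succ d ih =>
      intro hd
      have := hstep (12 - (d + 1)) (by omega)
      rw [show 12 - (d + 1) + 1 = 12 - d by omega] at this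
      exact le_trans (by rw [pow_succ']; exact Nat.mul_le_mul_left _ (ih (by omega))) this
  have hup : ∀ k ≤ 12, Nat.card ↥(Vs K m k) ≤ q ^ (12 - k) := by
    intro k
    induction k with
    | zero =>
      intro _
      rw [Vs_zero, card_subgroupOf]
      exact (card_pos hσ he).le
    | succ k ih =>
      intro hk
      have h1 := (hstep k (by omega)).trans (ih (by omega))
      rw [show 12 - k = (12 - (k + 1)) + 1 by omega, pow_succ'] at h1
      exact Nat.le_of_mul_le_mul_left h1 hq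
  have hbij : Function.Bijective (f k hk) := by
    refine (Nat.bijective_iff_injective_and_card _).2 ⟨hf k hk, le_antisymm (Nat.card_le_card_of_injective _ (hf k hk)) ?_⟩
    rw [Nat.card_prod]
    refine (hup k hk.le).trans ?_
    have h1 := hlow (12 - (k + 1)) (by omega)
    rw [show 12 - (12 - (k + 1)) = k + 1 by omega] at h1
    rw [show 12 - k = (12 - (k + 1)) + 1 by omega, pow_succ']
    exact Nat.mul_le_mul_left _ h1
  obtain ⟨⟨a, v⟩, e⟩ := hbij.2 ⟨x, hx⟩
  have e' : pp m k a * (v : GT K m) = x := congrArg Subtype.val e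
  exact ⟨a, by rw [← e', inv_mul_cancel_left]; exact v.2⟩

theorem chi_unit_surj (hK : Fintype.card K = 2 ^ (2 * m + 1)) {a b : ℤ} (hab : unitOK a b = true) (u : Kˣ) :
    ∃ s : Kˣ, s ^ (((2 ^ m : ℕ) : ℤ) * a + b) = u := by
  set E : ℤ := ((2 ^ m : ℕ) : ℤ)
  have hinj : Function.Injective fun s : Kˣ => s ^ (E * a + b) := by
    refine (injective_iff_map_eq_one (zpowGroupHom (E * a + b) : Kˣ →* Kˣ)).2 fun s hs => ?_
    replace hs : s ^ (E * a + b) = 1 := hs
    have h1 : s ^ (a * a - 2 * (b * b)) = 1 := by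
      have e : a * a - 2 * (b * b) = (E * a + b) * (2 * (E * a - b)) + (2 * (E * E) - 1) * (-(a * a)) := by ring
      rw [e, zpow_add, zpow_mul, hs, one_zpow, one_mul, zpow_mul, ReeF.hN he, one_zpow]
    have h2 : orderOf s ∣ (a * a - 2 * (b * b)).natAbs :=
      Int.natCast_dvd.1 (orderOf_dvd_iff_zpow_eq_one.2 h1)
    have h8 : (a * a - 2 * (b * b)).natAbs ∣ 8 := by
      simp only [unitOK, decide_eq_true_eq, List.mem_cons, List.not_mem_nil, or_false] at hab
      rcases hab with h | h | h | h <;> rw [h] <;> norm_num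
    have hodd : Nat.Coprime 8 (Nat.card Kˣ) := by
      rw [Nat.card_units, Nat.card_eq_fintype_card, hK]
      show Nat.Coprime (2 ^ 3) _
      refine Nat.Coprime.pow_left 3 ?_
      rw [Nat.coprime_two_left, Nat.odd_sub (Nat.one_le_pow _ _ (by norm_num))]
      simp [Nat.even_pow, parity_simps]
    exact orderOf_eq_one_iff.1
      (Nat.eq_one_of_dvd_coprimes hodd (h2.trans h8) (orderOf_dvd_natCard s))
  obtain ⟨s, hs⟩ := (Finite.injective_iff_surjective.1 hinj) u
  exact ⟨s, hs⟩

theorem det_spec {j k : ℕ} (hm : 1 ≤ m) (hd : detOK j k = true) :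
    let E : ℤ := ((2 ^ m : ℕ) : ℤ)
    ¬ (2 * (E * E) - 1) ∣ ((E * chevF4.cartan 0 k + chevF4.cartan 3 k) * (E * chevF4.cartan 1 j + chevF4.cartan 2 j) -
      (E * chevF4.cartan 0 j + chevF4.cartan 3 j) * (E * chevF4.cartan 1 k + chevF4.cartan 2 k)) := by
  intro E hdvd
  simp only [detOK, Bool.and_eq_true, decide_eq_true_eq] at hd
  set A := chevF4.cartan 0 k * chevF4.cartan 1 j - chevF4.cartan 0 j * chevF4.cartan 1 k
  set B := chevF4.cartan 0 k * chevF4.cartan 2 j + chevF4.cartan 3 k * chevF4.cartan 1 j -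
    (chevF4.cartan 0 j * chevF4.cartan 2 k + chevF4.cartan 3 j * chevF4.cartan 1 k)
  set C := chevF4.cartan 3 k * chevF4.cartan 2 j - chevF4.cartan 3 j * chevF4.cartan 2 k
  obtain ⟨⟨⟨h7, h31⟩, hb⟩, hnz⟩ := hd
  have hP : (2 * (E * E) - 1) ∣ A * (E * E) + B * E + C := by
    convert hdvd using 1
    simp only [A, B, C]; ring
  rcases (show m = 1 ∨ m = 2 ∨ 3 ≤ m by omega) with rfl | rfl | hm3
  · refine h7 (Int.emod_eq_zero_of_dvd ?_)
    norm_num [E] at hP
    convert hP using 1; ring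
  · refine h31 (Int.emod_eq_zero_of_dvd ?_)
    norm_num [E] at hP
    convert hP using 1; ring
  · have hE : 8 ≤ E := by
      simp only [E]; exact_mod_cast (Nat.pow_le_pow_right (by norm_num) hm3 : 2 ^ 3 ≤ 2 ^ m)
    have hL : (2 * (E * E) - 1) ∣ 2 * B * E + (2 * C + A) := by
      rw [show 2 * B * E + (2 * C + A) = 2 * (A * (E * E) + B * E + C) - (2 * (E * E) - 1) * A by ring]
      exact dvd_sub (dvd_mul_of_dvd_right hP 2) (Dvd.intro A rfl)
    have hb1 := abs_le.1 (le_refl |2 * B|)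
    have hb2 := abs_le.1 (le_refl |2 * C + A|)
    have hbig : |2 * B * E + (2 * C + A)| < 2 * (E * E) - 1 := by
      refine lt_of_le_of_lt (abs_add_le _ _) ?_
      rw [abs_mul, abs_of_nonneg (show (0 : ℤ) ≤ E by omega)]
      nlinarith [abs_nonneg (2 * B), abs_nonneg (2 * C + A)]
    have h0 := Int.eq_zero_of_abs_lt_dvd hL hbig
    rcases hnz with ⟨hB, hC⟩ | hlt
    · rw [hB] at h0; exact hC (by simpa using h0)
    · have h1 : |2 * C + A| = |2 * B| * E := by
        rw [← abs_of_nonneg (show (0 : ℤ) ≤ E by omega), ← abs_mul, show 2 * C + A = -(2 * B * E) by linarith, abs_neg]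
      nlinarith [abs_nonneg (2 * B)]

theorem exists_kill (hm : 1 ≤ m) (hK : Fintype.card K = 2 ^ (2 * m + 1)) {j k : ℕ} (hj : j < 12) (hk : k < 12)
    (hne : j ≠ k) (h1 : (j, k) ∉ classPairs) (h2 : (k, j) ∉ classPairs) :
    ∃ t ∈ HT K m, chK hσ he k t = 1 ∧ chK hσ he j t ≠ 1 := by
  rcases rep_dets ⟨j, hj⟩ ⟨k, hk⟩ (fun e => hne (congrArg Fin.val e)) with h | h | hd
  · exact absurd h h1
  · exact absurd h h2
  obtain ⟨g, hg⟩ := IsCyclic.exists_ofOrder_eq_natCard (α := Kˣ)
  set E : ℤ := ((2 ^ m : ℕ) : ℤ) with hE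
  set α := E * chevF4.cartan 0 (repR k) + chevF4.cartan 3 (repR k)
  set β := E * chevF4.cartan 1 (repR k) + chevF4.cartan 2 (repR k)
  refine ⟨gH hσ he (g ^ (-β)) (g ^ α), gH_mem hσ he _ _, ?_, fun h => det_spec hσ he hm hd ?_⟩
  · rw [chK_gH, torChi, ← zpow_mul, ← zpow_mul, ← zpow_add]
    rw [show -β * ((2 ^ m : ℕ) * chevF4.cartan 0 (repR k) + chevF4.cartan 3 (repR k)) +
      α * ((2 ^ m : ℕ) * chevF4.cartan 1 (repR k) + chevF4.cartan 2 (repR k)) = 0 by simp only [α, β, hE]; ring, zpow_zero]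
  · rw [chK_gH, torChi, ← zpow_mul, ← zpow_mul, ← zpow_add, ← orderOf_dvd_iff_zpow_eq_one, hg, card_units_eq hK] at h
    convert h using 1
    simp only [α, β, hE]; ring

/-- **The series.** -/
theorem series (hK : Fintype.card K = 2 ^ (2 * m + 1)) :
    TwistSeries.Series (UT K m) (HT K m) 12 (Vs K m) (pp m) (chK hσ he) where
  top := Vs_zero
  bot := Vs_bot
  dec _ hk := Vs_dec hk
  le_U _ hk := Vs_le_UT hk
  p_mem _ hk a := pp_mem hk a
  surj _ hk _ hx := pp_surj hσ he hK hk hx
  inj _ hk _ h := pp_inj hk h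
  add _ hk a b := pp_add hσ he hk a b
  central _ hk _ hg _ hx := Vs_central hk hg hx
  tcomm _ hs _ ht := gH_comm he hσ hs ht
  equiv _ hk _ ht a := pp_equiv hσ he hk ht a
  char_surj k hk u := by
    rcases rep_units ⟨k, hk⟩ with h | h
    · obtain ⟨s, hs⟩ := chi_unit_surj hσ he hK h u
      exact ⟨gH hσ he s 1, gH_mem hσ he _ _, by rw [chK_gH, torChi, one_zpow, mul_one]; exact hs⟩
    · obtain ⟨s, hs⟩ := chi_unit_surj hσ he hK h u
      exact ⟨gH hσ he 1 s, gH_mem hσ he _ _, by rw [chK_gH, torChi, one_zpow, one_mul]; exact hs⟩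

end Cfsg.Agent.Lib.Schur.ReeF4
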