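import Cfsg.Agent.Lib.Schur.ReeF4Pieces
import Cfsg.Agent.Lib.Schur.Sylow
import Cfsg.Agent.Lib.Suzuki.Multiplier
import Cfsg.Agent.Lib.Twisted.ReeAut.Main

/-!
The two-part of the Schur multiplier of the large Ree group: the unipotent part has a complement in every
central extension, as the two coordinates of each class of type `B₂` have commuting lifts.
-/

set_option autoImplicit false
set_option maxHeartbeats 400000

namespace Cfsg.Agent.Lib.Schur.ReeF4

open Cfsg.Lie Cfsg.Agent.Lib.Chev Cfsg.Agent.Lib.Twisted Cfsg.Agent.Lib.Twisted.Core Cfsg.Agent.Lib.Twisted.ReeF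
open scoped commutatorElement

/-- All lifts of two elements commute. -/
def LiftComm {Γ G : Type*} [Group Γ] [Group G] (π : Γ →* G) (g h : G) : Prop :=
  ∀ x y, π x = g → π y = h → Commute x y

section Lift

variable {Γ G : Type*} [Group Γ] [Group G] {π : Γ →* G}

theorem LiftComm.mul (hs : Function.Surjective π) {g g' h : G} (h1 : LiftComm π g h) (h2 : LiftComm π g' h) :
    LiftComm π (g * g') h := by
  intro x y hx hy
  obtain ⟨z, hz⟩ := hs g
  have h' := (h1 z y hz hy).mul_left (h2 (z⁻¹ * x) y (by rw [map_mul, map_inv, hz, hx, inv_mul_cancel_left]) hy)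
  rwa [mul_inv_cancel_left] at h'

theorem LiftComm.inv {g h : G} (h1 : LiftComm π g h) : LiftComm π g⁻¹ h := by
  intro x y hx hy
  have h' := (h1 x⁻¹ y (by rw [map_inv, hx, inv_inv]) hy).inv_left
  rwa [inv_inv] at h'

theorem LiftComm.conj (hs : Function.Surjective π) {g h : G} (h1 : LiftComm π g h) (w : G) :
    LiftComm π (w * g * w⁻¹) (w * h * w⁻¹) := by
  intro x y hx hy
  obtain ⟨v, hv⟩ := hs w
  have h' := h1 (v⁻¹ * x * v) (v⁻¹ * y * v) (by rw [map_mul, map_mul, map_inv, hv, hx]; group)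
    (by rw [map_mul, map_mul, map_inv, hv, hy]; group)
  have := (Commute.conj_iff v).2 h'
  rwa [show v * (v⁻¹ * x * v) * v⁻¹ = x by group, show v * (v⁻¹ * y * v) * v⁻¹ = y by group] at this

theorem liftComm_one (hc : π.ker ≤ Subgroup.center Γ) (g : G) : LiftComm π 1 g := fun _ y hx _ =>
  (Subgroup.mem_center_iff.1 (hc hx) y).symm

theorem LiftComm.symm {g h : G} (h1 : LiftComm π g h) : LiftComm π h g := fun x y hx hy => (h1 y x hy hx).symm

theorem bracket_eq (hc : π.ker ≤ Subgroup.center Γ) {x x' y y' : Γ} (hx : π x = π x') (hy : π y = π y') :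
    ⁅x, y⁆ = ⁅x', y'⁆ := by
  have hz : x'⁻¹ * x ∈ Subgroup.center Γ := hc (by rw [MonoidHom.mem_ker, map_mul, map_inv, hx, inv_mul_cancel])
  have hw : y'⁻¹ * y ∈ Subgroup.center Γ := hc (by rw [MonoidHom.mem_ker, map_mul, map_inv, hy, inv_mul_cancel])
  have ex : x = x' * (x'⁻¹ * x) := by rw [mul_inv_cancel_left]
  have ey : y = y' * (y'⁻¹ * y) := by rw [mul_inv_cancel_left]
  rw [ex, ey]
  set z := x'⁻¹ * x
  set w := y'⁻¹ * y
  have hz' : ∀ g, g * z = z * g := fun g => Subgroup.mem_center_iff.1 hz g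
  have hw' : ∀ g, g * w = w * g := fun g => Subgroup.mem_center_iff.1 hw g
  simp only [commutatorElement_def]
  calc x' * z * (y' * w) * (x' * z)⁻¹ * (y' * w)⁻¹ = x' * (z * (y' * w)) * z⁻¹ * x'⁻¹ * w⁻¹ * y'⁻¹ := by group
    _ = x' * ((y' * w) * z) * z⁻¹ * x'⁻¹ * w⁻¹ * y'⁻¹ := by rw [← hz' (y' * w)]
    _ = x' * y' * (w * x'⁻¹) * w⁻¹ * y'⁻¹ := by group
    _ = x' * y' * (x'⁻¹ * w) * w⁻¹ * y'⁻¹ := by rw [← hw' x'⁻¹]
    _ = _ := by group

/-- A pairing of two pieces is killed by a torus element centralising one and moving the other. -/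
theorem liftComm_of_kill {F : Type*} [Field F] (hs : Function.Surjective π) (hc : π.ker ≤ Subgroup.center Γ)
    (p q : F → G) (hgt : ∀ a b, Commute (p a) (q b)) {w : G} {u : F} (hu : u ≠ 1)
    (hp : ∀ a, w * p a * w⁻¹ = p (u * a)) (hq : ∀ b, w * q b * w⁻¹ = q b)
    (hdef : ∀ a a' b, LiftComm π ((p (a + a'))⁻¹ * (p a * p a')) (q b)) (a b : F) : LiftComm π (p a) (q b) := by
  let P : G → Γ := Function.surjInv hs
  have hP : ∀ g, π (P g) = g := fun g => Function.surjInv_eq hs g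
  set y := P (q b)
  let e : F → Γ := fun a => ⁅P (p a), y⁆
  have hmem : ∀ a, e a ∈ Subgroup.center Γ := fun a => hc (by
    rw [MonoidHom.mem_ker, map_commutatorElement, hP, hP, commutatorElement_eq_one_iff_mul_comm]
    exact (hgt a b).eq)
  have hadd : ∀ a a', e (a + a') = e a * e a' := by
    intro a a'
    set d := (P (p (a + a')))⁻¹ * (P (p a) * P (p a')) with hd
    have hdy : Commute d y := hdef a a' b d y (by rw [hd, map_mul, map_inv, map_mul, hP, hP, hP]) (hP _)
    have h1 : ⁅P (p a) * P (p a'), y⁆ = e (a + a') := by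
      rw [show P (p a) * P (p a') = P (p (a + a')) * d by rw [hd, mul_inv_cancel_left]]
      show ⁅P (p (a + a')) * d, y⁆ = ⁅P (p (a + a')), y⁆
      simp only [commutatorElement_def]
      calc P (p (a + a')) * d * y * (P (p (a + a')) * d)⁻¹ * y⁻¹ =
          P (p (a + a')) * (d * y) * d⁻¹ * (P (p (a + a')))⁻¹ * y⁻¹ := by group
        _ = _ := by rw [hdy.eq]; group
    rw [← h1]
    have h2 : ∀ g, g * e a' = e a' * g := fun g => Subgroup.mem_center_iff.1 (hmem a') g
    calc ⁅P (p a) * P (p a'), y⁆ = P (p a) * e a' * (P (p a))⁻¹ * e a := by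
          simp only [e, commutatorElement_def]; group
      _ = e a' * e a := by rw [h2, mul_inv_cancel_right]
      _ = e a * e a' := (h2 (e a)).symm
  have hinv : ∀ a, e (u * a) = e a := by
    intro a
    obtain ⟨τ, hτ⟩ := hs w
    have hce := Subgroup.mem_center_iff.1 (hmem a) τ
    have h1 : ⁅τ * P (p a) * τ⁻¹, τ * y * τ⁻¹⁆ = e (u * a) :=
      bracket_eq hc (by rw [map_mul, map_mul, map_inv, hτ, hP, hP, hp]) (by rw [map_mul, map_mul, map_inv, hτ, hP, hq])
    rw [← h1, show ⁅τ * P (p a) * τ⁻¹, τ * y * τ⁻¹⁆ = τ * e a * τ⁻¹ by simp only [e, commutatorElement_def]; group,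
      hce, mul_inv_cancel_right]
  have hzero : e a = 1 := by
    have hne : u - 1 ≠ 0 := sub_ne_zero.2 hu
    have h3 := hinv (a / (u - 1))
    rw [show u * (a / (u - 1)) = a / (u - 1) + a by field_simp; ring, hadd, mul_eq_left] at h3
    exact h3
  intro x y' hx hy
  refine commutatorElement_eq_one_iff_mul_comm.1 ?_
  rw [← hzero]
  exact bracket_eq hc (by rw [hx, hP]) (by rw [hy, hP])

end Lift

variable {K : Type*} [Field K] [CharP K 2] {m : ℕ}

/-- The roots of the pieces commuting with the outer class. -/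
def rA : List ℕ := [25, 27, 28, 30, 38, 43, 39, 45, 40, 46]

/-- The roots of the outer class. -/
def rB : List ℕ := [29, 41, 44, 47]

theorem rAB_facts : ∀ r ∈ rA, ∀ s ∈ rB, r < 48 ∧ s < 48 ∧ r ≠ s ∧ r ≠ ng chevF4 s ∧
    ∀ c ∈ cTerms F4.cert s r, c.1 < 48 ∧ c.2.1 % 2 = 0 := by decide +kernel

theorem piece_rA : ∀ k ∈ [1, 3, 8, 9, 10], ∀ r ∈ headR (pB k) ++ tailR (pB k), piR k r ∈ rA ∧ piR k r < 48 := by
  decide +kernel

theorem piece_rB : ∀ k ∈ [4, 11], ∀ r ∈ headR (pB k) ++ tailR (pB k), piR k r ∈ rB ∧ piR k r < 48 := by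
  decide +kernel

theorem pp_mem_list {k : ℕ} {L : List ℕ} (h : ∀ r ∈ headR (pB k) ++ tailR (pB k), piR k r ∈ L ∧ piR k r < 48)
    (a : K) : ((pp m k a : GT K m) : GL chevF4.Idx K) ∈ rootGen chevF4 K {r | r ∈ L} := by
  rw [pp_eq, Subgroup.coe_mul]
  refine mul_mem (wordG_mem _ fun p hp => ?_) (wordG_mem _ fun p hp => ?_)
  · obtain ⟨x, hx, rfl⟩ := List.mem_map.1 hp
    exact h x.1 (List.mem_append_left _ (by rw [← (headW_roots (m := m) (pB k) a).1]; exact List.mem_map.2 ⟨x, hx, rfl⟩))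
  · obtain ⟨x, hx, rfl⟩ := List.mem_map.1 hp
    exact h x.1 (List.mem_append_right _ (by rw [← (headW_roots (m := m) (pB k) a).2]; exact List.mem_map.2 ⟨x, hx, rfl⟩))

theorem pp_commute {k j : ℕ} (hk : k ∈ [1, 3, 8, 9, 10]) (hj : j ∈ [4, 11]) (a b : K) :
    Commute (pp m k a) (pp m j b) := by
  have hle : rootGen chevF4 K {r | r ∈ rA} ≤ Subgroup.centralizer (rootGen chevF4 K {r | r ∈ rB} : Set (GL chevF4.Idx K)) := by
    refine (Subgroup.closure_le _).2 ?_
    rintro g ⟨r, t, hr, eg⟩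
    have hg : g = ((xG checked_F4 r t : ↥(chevF4.group K)) : GL chevF4.Idx K) := Units.ext (by rw [eg, coe_xG])
    rw [SetLike.mem_coe, Subgroup.mem_centralizer_iff]
    intro h hh
    induction hh using Subgroup.closure_induction with
    | mem h hh =>
      obtain ⟨s, u, hs, eh⟩ := hh
      have hh' : h = ((xG checked_F4 s u : ↥(chevF4.group K)) : GL chevF4.Idx K) := Units.ext (by rw [eh, coe_xG])
      obtain ⟨hr48, hs48, hne, hng, hT⟩ := rAB_facts r hr s hs
      have e := xG_commute (K := K) checked_F4 (show s < chevF4.nroots from hs48) (show r < chevF4.nroots from hr48)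
        (T := cTerms F4.cert s r) rfl hne hng (fun c hc => ⟨(hT c hc).1,
          (CharP.intCast_eq_zero_iff K 2 c.2.1).2 (Int.dvd_of_emod_eq_zero (hT c hc).2)⟩) u t
      rw [hg, hh']
      exact congrArg Subtype.val e.eq
    | one => simp
    | mul x y _ _ hx hy => rw [mul_assoc, hy, ← mul_assoc, hx, mul_assoc]
    | inv x _ hx => exact ((show Commute x g from hx).inv_left).eq
  have h1 := hle (pp_mem_list (piece_rA k hk) (m := m) a)
  rw [Subgroup.mem_centralizer_iff] at h1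
  exact Subtype.ext (h1 _ (pp_mem_list (piece_rB j hj) (m := m) b)).symm

theorem comm_word_eq : constWordsEq chevF4 F4.cert 2
    [(25, 1), (27, 1), (30, 1), (43, 1), (38, 1), (30, 1), (27, 1), (25, 1), (38, 1), (43, 1)]
    [(45, 1), (39, 1), (44, 1), (47, 1)] = true := by decide +kernel

theorem pp_one_maps : (headR (pB 1)).map (piR 1) = [25, 27] ∧ (tailR (pB 1)).map (piR 1) = [30] ∧
    (headR (pB 8)).map (piR 8) = [43, 38] ∧ (headR (pB 9)).map (piR 9) = [45, 39] ∧
    (headR (pB 11)).map (piR 11) = [44, 47] := by decide +kernel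

theorem bracket_pieces : ⁅pp m 1 (1 : K), pp m 8 (1 : K)⁆ = pp m 9 (1 : K) * pp m 11 (1 : K) := by
  obtain ⟨h1, h1', h8, h9, h11⟩ := pp_one_maps
  have b1 : pB 1 = 1 := rfl
  have b8 : pB 8 = 0 := rfl
  have b9 : pB 9 = 0 := rfl
  have b11 : pB 11 = 2 := rfl
  rw [b1] at h1 h1'
  rw [b8] at h8
  rw [b9] at h9
  rw [b11] at h11
  simp only [headR, tailR, Matrix.cons_val_zero, Matrix.cons_val_one, Matrix.cons_val, List.map_cons, List.map_nil,
    List.cons.injEq, and_true] at h1 h1' h8 h9 h11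
  have hw := wordMat_const_eq (F := K) checked_F4 2 comm_word_eq
  simp only [List.map_cons, List.map_nil, Int.cast_one] at hw
  rw [← coe_wordG checked_F4, ← coe_wordG checked_F4] at hw
  have hw' := eq_of_coe hw
  have hz : ∀ r < chevF4.nroots, (xG (K := K) checked_F4 r 1)⁻¹ = xG checked_F4 r 1 := fun r hr => by
    refine inv_eq_of_mul_eq_one_right ?_
    rw [xG_add _ hr, CharTwo.add_self_eq_zero, xG_zero _ hr]
  refine Subtype.ext ?_
  simp only [commutatorElement_def, Subgroup.coe_mul, Subgroup.coe_inv, pp_eq, b1, b8, b9, b11]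
  rw [← Subgroup.coe_mul, ← Subgroup.coe_mul, ← Subgroup.coe_mul, ← Subgroup.coe_mul, ← Subgroup.coe_inv,
    ← Subgroup.coe_inv, ← Subgroup.coe_mul, ← Subgroup.coe_mul, ← Subgroup.coe_mul, ← Subgroup.coe_mul]
  refine congrArg Subtype.val ?_
  simp only [headW, tailW, Matrix.cons_val_zero, Matrix.cons_val_one, Matrix.cons_val, List.map_cons, List.map_nil,
    one_pow, mul_one, h1, h1', h8, h9, h11] at hw' ⊢
  simp only [wordG, List.map_cons, List.map_nil, List.prod_cons, List.prod_nil, mul_one, mul_inv_rev,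
    hz _ (show (25 : ℕ) < chevF4.nroots by decide), hz _ (show (27 : ℕ) < chevF4.nroots by decide),
    hz _ (show (30 : ℕ) < chevF4.nroots by decide), hz _ (show (38 : ℕ) < chevF4.nroots by decide),
    hz _ (show (43 : ℕ) < chevF4.nroots by decide), mul_assoc] at hw' ⊢
  exact hw'

variable [Fintype K] {σ : ↥(chevF4.group K) →* ↥(chevF4.group K)} (hσ : IsReeSigma (2 ^ m) σ)
  (he : ∀ x : K, x ^ (2 * (2 ^ m * 2 ^ m)) = x)
include hσ he

omit [Fintype K] hσ in
theorem pp_defect {k k' : ℕ} (a b : K) :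
    (pB k ≠ 1 → (pp m k (a + b))⁻¹ * (pp m k a * pp m k b) = 1) ∧
    (pB k = 1 → pB k' = 2 → pW k' = pW k →
      (pp m k (a + b))⁻¹ * (pp m k a * pp m k b) = pp m k' (b * a ^ 2 ^ m)) := by
  have e : (pp m k (a + b))⁻¹ * (pp m k a * pp m k b) = pE K m k *
      ((basePiece m (pB k) (a + b))⁻¹ * (basePiece m (pB k) a * basePiece m (pB k) b)) * (pE K m k)⁻¹ := by
    simp only [pp]; group
  refine ⟨fun hne => ?_, fun h1 h2 hW => ?_⟩
  · rw [e]
    rcases (show pB k = 0 ∨ pB k = 2 by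
      revert hne; generalize pB k = j; fin_cases j <;> simp) with h | h <;> rw [h]
    · show pE K m k * ((gA m (a + b))⁻¹ * (gA m a * gA m b)) * (pE K m k)⁻¹ = 1
      rw [gA_mul, inv_mul_cancel, mul_one, mul_inv_cancel]
    · show pE K m k * ((gB m 0 (a + b))⁻¹ * (gB m 0 a * gB m 0 b)) * (pE K m k)⁻¹ = 1
      rw [gB_mul he]; simp
  · rw [e, h1, pp, h2, show pE K m k' = pE K m k by rw [pE, pE, hW]]
    congr 2
    show (gB m (a + b) 0)⁻¹ * (gB m a 0 * gB m b 0) = gB m 0 (b * a ^ 2 ^ m)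
    rw [inv_mul_eq_iff_eq_mul, gB_mul he, gB_mul he]
    simp

variable {Γ : Type*} [Group Γ] {π : Γ →* GT K m}

/-- The outer class has commuting lifts with five pieces. -/
theorem liftComm_AB (hm : 1 ≤ m) (hK : Fintype.card K = 2 ^ (2 * m + 1)) (hs : Function.Surjective π)
    (hc : π.ker ≤ Subgroup.center Γ) {j : ℕ} (hj : j ∈ [4, 11]) :
    ∀ k ∈ [3, 8, 9, 10, 1], ∀ a b : K, LiftComm π (pp m k a) (pp m j b) := by
  have hjk : ∀ j ∈ [4, 11], ∀ k ∈ [3, 8, 9, 10, 1],
      j < 12 ∧ k < 12 ∧ k ≠ j ∧ (k, j) ∉ classPairs ∧ (j, k) ∉ classPairs ∧ k ∈ [1, 3, 8, 9, 10] := by decide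
  have step : ∀ k ∈ [3, 8, 9, 10, 1],
      (∀ a a' b, LiftComm π ((pp m k (a + a'))⁻¹ * (pp m k a * pp m k a')) (pp m j b)) →
        ∀ a b : K, LiftComm π (pp m k a) (pp m j b) := by
    intro k hk hdef
    obtain ⟨hj12, hk12, hne, h1, h2, hk'⟩ := hjk j hj k hk
    obtain ⟨t, ht, htj, htk⟩ := exists_kill hσ he hm hK hk12 hj12 hne h1 h2
    exact liftComm_of_kill hs hc (pp m k) (pp m j) (fun a b => pp_commute hk' hj a b)
      (u := (chK hσ he k t : K)) (fun h => htk (Units.ext h)) (fun a => pp_equiv hσ he hk12 ht a)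
      (fun b => by rw [pp_equiv hσ he hj12 ht, htj, Units.val_one, one_mul]) hdef
  have hadd : ∀ k ∈ [3, 8, 9, 10], ∀ a b : K, LiftComm π (pp m k a) (pp m j b) := fun k hk =>
    step k ((by decide : ∀ k ∈ [3, 8, 9, 10], k ∈ [3, 8, 9, 10, 1]) k hk) fun a a' b => by
      rw [(pp_defect he (k := k) (k' := 0) a a').1 ((by decide : ∀ k ∈ [3, 8, 9, 10], pB k ≠ 1) k hk)]
      exact liftComm_one hc _
  intro k hk
  rcases eq_or_ne k 1 with rfl | hk1
  · refine step 1 hk fun a a' b => ?_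
    rw [(pp_defect he (k := 1) (k' := 3) a a').2 rfl rfl rfl]
    exact hadd 3 (by decide) _ _
  · exact hadd k (by simp only [List.mem_cons, List.not_mem_nil, or_false] at hk ⊢; omega)

/-- The two coordinates of the outer class have commuting lifts. -/
theorem liftComm_outer (hm : 1 ≤ m) (hK : Fintype.card K = 2 ^ (2 * m + 1)) (hs : Function.Surjective π)
    (hc : π.ker ≤ Subgroup.center Γ) (a b : K) : LiftComm π (pp m 11 a) (pp m 4 b) := by
  have h9 := fun b : K => liftComm_AB hσ he hm hK hs hc (j := 4) (by decide) 9 (by decide) 1 b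
  have h1 := fun b : K => liftComm_AB hσ he hm hK hs hc (j := 4) (by decide) 1 (by decide) 1 b
  have h8 := fun b : K => liftComm_AB hσ he hm hK hs hc (j := 4) (by decide) 8 (by decide) 1 b
  have hone : ∀ b, LiftComm π (pp m 11 (1 : K)) (pp m 4 b) := fun b => by
    have h := (h9 b).inv.mul hs ((((h1 b).mul hs (h8 b)).mul hs (h1 b).inv).mul hs (h8 b).inv)
    rwa [← commutatorElement_def, bracket_pieces, inv_mul_cancel_left] at h
  rcases eq_or_ne a 0 with rfl | ha
  · have h := (hone b).mul hs (hone b)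
    have e := (pp_defect he (k := 11) (k' := 0) (1 : K) 1).1 (by decide)
    rw [inv_mul_eq_one, CharTwo.add_self_eq_zero] at e
    rwa [← e] at h
  · obtain ⟨t, ht, htu⟩ : ∃ t ∈ HT K m, chK hσ he 11 t = Units.mk0 a ha :=
      (series hσ he hK).char_surj 11 (by norm_num) _
    have h := (hone (((chK hσ he 4 t)⁻¹ : Kˣ) * b)).conj hs t
    rwa [pp_equiv hσ he (by norm_num) ht, pp_equiv hσ he (by norm_num) ht, htu, Units.val_mk0, mul_one, ← mul_assoc,
      ← Units.val_mul, mul_inv_cancel, Units.val_one, one_mul] at h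

/-- The two coordinates of every class have commuting lifts. -/
theorem liftComm_class (hm : 1 ≤ m) (hK : Fintype.card K = 2 ^ (2 * m + 1)) (hs : Function.Surjective π)
    (hc : π.ker ≤ Subgroup.center Γ) {j k : ℕ} (hjk : (j, k) ∈ classPairs) (a b : K) :
    LiftComm π (pp m j a) (pp m k b) := by
  have hB : ∀ p ∈ classPairs, pB p.1 = 1 ∧ pB p.2 = 2 ∧ pW p.2 = pW p.1 := by decide
  obtain ⟨h1, h2, hW⟩ := hB (j, k) hjk
  have h0 : ∀ a b : K, LiftComm π (gB m a 0) (gB m 0 b) := fun a b => by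
    have h := (liftComm_outer hσ he hm hK hs hc b a).symm.conj hs (pE K m 4)⁻¹
    have e4 : pp m 4 a = pE K m 4 * gB m a 0 * (pE K m 4)⁻¹ := rfl
    have e11 : pp m 11 b = pE K m 4 * gB m 0 b * (pE K m 4)⁻¹ := rfl
    rw [e4, e11] at h
    simpa [mul_assoc] using h
  have h := (h0 a b).conj hs (pE K m j)
  have ej : pp m j a = pE K m j * gB m a 0 * (pE K m j)⁻¹ := by rw [pp, h1]; rfl
  have ek : pp m k b = pE K m j * gB m 0 b * (pE K m j)⁻¹ := by
    rw [pp, h2, show pE K m k = pE K m j by rw [pE, pE, show pW k = pW j from hW]]; rfl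
  rwa [ej, ek]

/-- The kernel meets the derived subgroup of the preimage of the unipotent part trivially. -/
theorem commutator_inf_ker (hm : 1 ≤ m) (hK : Fintype.card K = 2 ^ (2 * m + 1)) (hs : Function.Surjective π)
    (hc : π.ker ≤ Subgroup.center Γ) : ⁅(UT K m).comap π, (UT K m).comap π⁆ ⊓ π.ker = ⊥ := by
  refine (series hσ he hK).commutator_inf_ker hs hc (Cfsg.Agent.Lib.Suzuki.exists_not_linear ⟨hm, hK⟩)
    (fun x => CharTwo.add_self_eq_zero x) fun j k hjk hk => ?_
  by_cases h1 : (j, k) ∈ classPairs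
  · exact Or.inr fun a b x y hx hy => liftComm_class hσ he hm hK hs hc h1 a b x y hx hy
  by_cases h2 : (k, j) ∈ classPairs
  · exact Or.inr fun a b x y hx hy => (liftComm_class hσ he hm hK hs hc h2 b a y x hy hx).symm
  exact Or.inl (exists_kill hσ he hm hK (hjk.trans hk) hk hjk.ne h1 h2)

/-- The kernel of a stem extension has odd order. -/
theorem not_two_dvd_card_ker (hm : 1 ≤ m) (hK : Fintype.card K = 2 ^ (2 * m + 1)) [Finite Γ]
    (hπ : Cfsg.IsStemExtension π) : ¬ 2 ∣ Nat.card π.ker := by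
  classical
  have : Fact (Nat.Prime 2) := ⟨Nat.prime_two⟩
  have hq : Nat.card K = 2 ^ (2 * m + 1) := by rw [Nat.card_eq_fintype_card, hK]
  have hcU : Nat.card ↥(UT K m) = Nat.card K ^ 12 := by rw [card_subgroupOf]; exact card_pos hσ he
  have hU : IsPGroup 2 ↥(UT K m) := IsPGroup.of_card (n := (2 * m + 1) * 12) (by rw [hcU, hq, ← pow_mul])
  have hodd : ¬ 2 ∣ (UT K m).index := by
    have h1 := (UT K m).card_mul_index
    rw [hcU, card_eq hσ he, mul_assoc] at h1
    rw [Nat.eq_of_mul_eq_mul_left (pow_pos Nat.card_pos 12) h1, ← even_iff_two_dvd, Nat.card_units, hq]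
    simp [Nat.even_add, Nat.even_mul, Nat.even_pow, Nat.even_sub (Nat.one_le_pow (2 * m + 1) 2 (by norm_num))]
  let P : Sylow 2 (GT K m) := hU.toSylow hodd
  obtain ⟨Q₀⟩ : Nonempty (Sylow 2 Γ) := inferInstance
  obtain ⟨g, hg⟩ := MulAction.exists_smul_eq (GT K m) (Q₀.mapSurjective hπ.1) P
  obtain ⟨g', rfl⟩ := hπ.1 g
  let Q := g' • Q₀
  have hQ : ∀ q ∈ (Q : Subgroup Γ), π q ∈ UT K m := by
    intro q hq
    rw [Sylow.coe_subgroup_smul, Subgroup.mem_pointwise_smul_iff_inv_smul_mem] at hq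
    show π q ∈ ((P : Sylow 2 (GT K m)) : Subgroup (GT K m))
    rw [← hg, Sylow.coe_subgroup_smul, Subgroup.mem_pointwise_smul_iff_inv_smul_mem]
    refine ⟨_, hq, ?_⟩
    simp [MulAut.smul_def]
  refine Cfsg.Agent.Lib.Schur.not_dvd_card_ker hπ Q fun a ha hak => Subtype.ext ?_
  have h1 : (a : Γ) ∈ ⁅(UT K m).comap π, (UT K m).comap π⁆ := by
    have h2 : (a : Γ) ∈ (commutator (Q : Subgroup Γ)).map (Q : Subgroup Γ).subtype :=
      Subgroup.mem_map_of_mem _ ha
    rw [Subgroup.map_subtype_commutator] at h2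
    exact Subgroup.commutator_mono (fun q hq => hQ q hq) (fun q hq => hQ q hq) h2
  exact Subgroup.mem_bot.1 ((commutator_inf_ker hσ he hm hK hπ.1 hπ.2.1).le ⟨h1, hak⟩)

end Cfsg.Agent.Lib.Schur.ReeF4
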