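import Cfsg.Agent.Lib.Schur.Cover

/-!
A multiplier of order at most three times four, with stem extensions having kernels cyclic of order
three and four-groups, is the product of these.
-/

set_option autoImplicit false
set_option linter.unusedSectionVars false

namespace Cfsg.Agent.Lib.Schur

universe u

namespace ThreeFourAux

variable {G : Type u} [Group G]

theorem exists_quotient_stem {Γ : Type u} [Group Γ] [Finite Γ] {σ : Γ →* G}
    (hσ : Cfsg.IsStemExtension σ) (N : Subgroup σ.ker) :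
    ∃ (Γ' : Type u) (_ : Group Γ') (_ : Finite Γ') (σ' : Γ' →* G), Cfsg.IsStemExtension σ' ∧
      Nat.card σ'.ker = N.index ∧ ∀ n : ℕ, (∀ x : σ.ker, x ^ n ∈ N) → ∀ y : σ'.ker, y ^ n = 1 := by
  let M : Subgroup Γ := N.map σ.ker.subtype
  have hle : M ≤ σ.ker := Subgroup.map_subtype_le N
  have hM : M.Normal := ⟨fun x hx g => by
    rw [Subgroup.mem_center_iff.1 (hσ.2.1 (hle hx)) g, mul_inv_cancel_right]
    exact hx⟩
  let σ' : Γ ⧸ M →* G := QuotientGroup.lift M σ hle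
  have hker : σ'.ker = σ.ker.map (QuotientGroup.mk' M) := QuotientGroup.ker_lift M σ hle
  let f : σ.ker →* σ'.ker :=
    ((QuotientGroup.mk' M).comp σ.ker.subtype).codRestrict σ'.ker fun x => x.2
  have hf : Function.Surjective f := by
    rintro ⟨y, hy⟩
    rw [hker] at hy
    obtain ⟨x, hx, hxy⟩ := hy
    exact ⟨⟨x, hx⟩, Subtype.ext hxy⟩
  have hfker : f.ker = N := by
    ext x
    rw [MonoidHom.mem_ker, Subtype.ext_iff]
    show (QuotientGroup.mk (x : Γ) : Γ ⧸ M) = 1 ↔ _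
    rw [QuotientGroup.eq_one_iff]
    exact Subgroup.mem_map_iff_mem Subtype.val_injective
  refine ⟨Γ ⧸ M, inferInstance, inferInstance, σ', ⟨fun g => ?_, ?_, ?_⟩, ?_, fun n hn y => ?_⟩
  · obtain ⟨x, rfl⟩ := hσ.1 g
    exact ⟨QuotientGroup.mk x, rfl⟩
  · rw [hker]
    rintro _ ⟨x, hx, rfl⟩
    refine Subgroup.mem_center_iff.2 fun z => ?_
    obtain ⟨z, rfl⟩ := QuotientGroup.mk'_surjective M z
    rw [← map_mul, ← map_mul, Subgroup.mem_center_iff.1 (hσ.2.1 hx) z]
  · rw [hker]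
    refine (Subgroup.map_mono hσ.2.2).trans ?_
    rw [commutator_def, commutator_def, Subgroup.map_commutator]
    exact Subgroup.commutator_mono le_top le_top
  · rw [← hfker, Subgroup.index_ker, MonoidHom.range_eq_top.2 hf, Subgroup.card_top]
  · obtain ⟨x, rfl⟩ := hf y
    rw [← map_pow]
    exact MonoidHom.mem_ker.1 (hfker.symm ▸ hn x)

end ThreeFourAux

open ThreeFourAux in
/-- The multiplier is `Z₃ × Z₂ × Z₂` when stem extensions with odd kernel have kernel of order at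
most three, those with two-group kernel of order at most four, and both bounds are attained by a
cyclic and an elementary kernel. -/
theorem hasSchurMultiplier_three_four {G : Type u} [Group G] [Finite G]
    (hodd : ∀ (Γ : Type u) [Group Γ] [Finite Γ] (σ : Γ →* G), Cfsg.IsStemExtension σ →
      ¬ 2 ∣ Nat.card σ.ker → Nat.card σ.ker ≤ 3)
    (htwo : ∀ (Γ : Type u) [Group Γ] [Finite Γ] (σ : Γ →* G), Cfsg.IsStemExtension σ →
      IsPGroup 2 σ.ker → Nat.card σ.ker ≤ 4)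
    (h3 : ∃ (Γ : Type u) (_ : Group Γ) (_ : Finite Γ) (σ : Γ →* G),
      Cfsg.IsStemExtension σ ∧ Nonempty (σ.ker ≃* Multiplicative (ZMod 3)))
    (h4 : ∃ (Γ : Type u) (_ : Group Γ) (_ : Finite Γ) (σ : Γ →* G),
      Cfsg.IsStemExtension σ ∧ Nonempty (σ.ker ≃* Multiplicative (ZMod 2 × ZMod 2))) :
    Cfsg.HasSchurMultiplier G (Multiplicative (ZMod 3 × ZMod 2 × ZMod 2)) := by
  obtain ⟨M, _, _, hM⟩ := exists_hasSchurMultiplier G
  obtain ⟨Γ, _, _, σ, hσ, ⟨e⟩⟩ := hM.1
  -- the order is at most twelve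
  let _ : CommGroup σ.ker :=
    { (inferInstance : Group σ.ker) with
      mul_comm := fun a b => Subtype.ext (Subgroup.mem_center_iff.1 (hσ.2.1 b.2) a) }
  obtain ⟨a, m, hm, hn⟩ := Nat.exists_eq_two_pow_mul_odd (Nat.card_pos (α := σ.ker)).ne'
  have hcop : Nat.Coprime (2 ^ a) m :=
    Nat.Coprime.pow_left _ ((Nat.coprime_two_left).2 hm)
  let A2 : Subgroup σ.ker := (powMonoidHom m).range
  let Am : Subgroup σ.ker := (powMonoidHom (2 ^ a)).range
  have hb2 : A2.index ≤ 3 := by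
    obtain ⟨Γ', _, _, σ', hσ', hc, hp⟩ := exists_quotient_stem hσ A2
    rw [← hc]
    refine hodd Γ' σ' hσ' fun h2 => ?_
    obtain ⟨y, hy⟩ := exists_prime_orderOf_dvd_card' 2 h2
    have hy' := orderOf_dvd_of_pow_eq_one (hp m (fun x => ⟨x, rfl⟩) y)
    rw [hy] at hy'
    exact absurd hy' hm.not_two_dvd_nat
  have hbm : Am.index ≤ 4 := by
    obtain ⟨Γ', _, _, σ', hσ', hc, hp⟩ := exists_quotient_stem hσ Am
    rw [← hc]
    exact htwo Γ' σ' hσ' fun y => ⟨a, hp _ (fun x => ⟨x, rfl⟩) y⟩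
  have hdisj : A2 ⊓ Am = ⊥ := by
    rw [Subgroup.eq_bot_iff_forall]
    rintro x ⟨⟨y, rfl⟩, ⟨z, hz⟩⟩
    have h1 : (y ^ m) ^ 2 ^ a = 1 := by
      rw [← pow_mul, mul_comm, ← hn, pow_card_eq_one']
    have h2 : (y ^ m) ^ m = 1 := by
      rw [show y ^ m = z ^ 2 ^ a from hz.symm, ← pow_mul, ← hn, pow_card_eq_one']
    exact orderOf_eq_one_iff.1 (Nat.eq_one_of_dvd_coprimes hcop (orderOf_dvd_of_pow_eq_one h1)
      (orderOf_dvd_of_pow_eq_one h2))
  have hle : Nat.card M ≤ 12 := by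
    rw [← Nat.card_congr e.toEquiv, ← Subgroup.index_bot, ← hdisj]
    exact Subgroup.index_inf_le.trans (Nat.mul_le_mul hb2 hbm)
  -- it maps onto both kernels
  obtain ⟨Γ₃, _, _, σ₃, hσ₃, ⟨e₃⟩⟩ := h3
  obtain ⟨Γ₄, _, _, σ₄, hσ₄, ⟨e₄⟩⟩ := h4
  obtain ⟨g₃, hg₃⟩ := hM.2 Γ₃ σ₃ hσ₃
  obtain ⟨g₄, hg₄⟩ := hM.2 Γ₄ σ₄ hσ₄
  let g : M →* Multiplicative (ZMod 3) × Multiplicative (ZMod 2 × ZMod 2) :=
    (e₃.toMonoidHom.comp g₃).prod (e₄.toMonoidHom.comp g₄)
  have hd : ∀ {B : Type} [Group B] [Finite B]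
      (π : Multiplicative (ZMod 3) × Multiplicative (ZMod 2 × ZMod 2) →* B),
      Function.Surjective (π.comp g) → Nat.card B ∣ Nat.card g.range := fun π h =>
    Subgroup.card_dvd_of_surjective (π.comp g.range.subtype) fun b => by
      obtain ⟨x, hx⟩ := h b
      exact ⟨⟨g x, x, rfl⟩, hx⟩
  have h12 : 12 ∣ Nat.card g.range := by
    have d3 := hd (MonoidHom.fst _ _) (e₃.surjective.comp hg₃)
    have d4 := hd (MonoidHom.snd _ _) (e₄.surjective.comp hg₄)
    rw [Nat.card_eq_fintype_card] at d3 d4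
    simp only [Fintype.card_multiplicative, ZMod.card, Fintype.card_prod] at d3 d4
    exact Nat.Coprime.mul_dvd_of_dvd_of_dvd (show Nat.Coprime 3 4 by norm_num) d3 d4
  have htop : g.range = ⊤ := Subgroup.eq_top_of_le_card _ (by
    rw [Nat.card_eq_fintype_card]
    simp only [Fintype.card_prod, Fintype.card_multiplicative, ZMod.card]
    exact Nat.le_of_dvd Nat.card_pos h12)
  have hg : Function.Bijective g :=
    (MonoidHom.range_eq_top.1 htop).bijective_of_nat_card_le (by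
      rw [Nat.card_eq_fintype_card (α := Multiplicative (ZMod 3) × Multiplicative (ZMod 2 × ZMod 2))]
      simpa [ZMod.card] using hle)
  exact hasSchurMultiplier_congr hM (MulEquiv.refl G)
    ((MulEquiv.ofBijective g hg).trans (MulEquiv.prodMultiplicative _ _).symm)

end Cfsg.Agent.Lib.Schur
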