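import Mathlib
import Cfsg.Prelude.Def_KGroupFacts

/-!
A central extension of a subgroup gives one of the whole group by multiplying the values over the
cosets. It is nonsplit when two commuting elements of the subgroup whose lifts do not commute fix
one coset only, while every other orbit of the group they generate has cyclic stabiliser.
-/

set_option autoImplicit false

namespace Cfsg.Agent.Lib.Schur.TransferCover

open scoped commutatorElement Pointwise

variable {G : Type} [Group G] [Finite G] {H : Subgroup G} {L : Type} [Group L]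

/-- The preimage of `H` in the free group on `G`. -/
abbrev pre (H : Subgroup G) : Subgroup (FreeGroup G) := H.comap (FreeGroup.lift id)

omit [Finite G] in
theorem exists_pre_lift (σ : L →* H) (hσ : Function.Surjective σ) :
    ∃ ψ : pre H →* L, ∀ s : pre H, (σ (ψ s) : G) = FreeGroup.lift id (s : FreeGroup G) := by
  let π : pre H →* H :=
    ((FreeGroup.lift id).comp (pre H).subtype).codRestrict H fun s => s.2
  choose c hc using hσ
  refine ⟨IsFreeGroup.lift fun i => c (π (IsFreeGroup.of i)), fun s => ?_⟩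
  have : σ.comp (IsFreeGroup.lift fun i => c (π (IsFreeGroup.of i))) = π := by
    refine IsFreeGroup.ext_hom fun i => ?_
    simp [hc]
  exact congrArg Subtype.val (DFunLike.congr_fun this s)

section Transfer

variable (σ : L →* H) (ψ : pre H →* L)
  (hψ : ∀ s : pre H, (σ (ψ s) : G) = FreeGroup.lift id (s : FreeGroup G))
  (t : G ⧸ H → FreeGroup G)
  (ht : ∀ q, (QuotientGroup.mk (FreeGroup.lift id (t q)) : G ⧸ H) = q)

omit [Finite G] in
include hψ in
theorem psi_rel {s : pre H} (hs : FreeGroup.lift id (s : FreeGroup G) = 1) : ψ s ∈ σ.ker := by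
  rw [MonoidHom.mem_ker]
  exact Subtype.ext ((hψ s).trans hs)

omit [Finite G] in
include ht in
theorem step_mem (f : FreeGroup G) (q : G ⧸ H) :
    (t (FreeGroup.lift id f • q))⁻¹ * f * t q ∈ pre H := by
  show FreeGroup.lift id _ ∈ H
  rw [map_mul, map_mul, map_inv, mul_assoc, ← QuotientGroup.eq]
  exact (ht _).trans (congrArg (FreeGroup.lift id f • ·) (ht q)).symm

/-- The value of a step. -/
noncomputable def stepVal (f : FreeGroup G) (q : G ⧸ H) : L :=
  ψ ⟨_, step_mem t ht f q⟩

omit [Finite G] in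
theorem conj_mem {r : FreeGroup G} (hr : FreeGroup.lift id r = 1) (q : G ⧸ H) :
    (t q)⁻¹ * r * t q ∈ pre H := by
  show FreeGroup.lift id _ ∈ H
  simp [hr]

/-- The factor of a relator at a coset. -/
noncomputable def factor (r : (FreeGroup.lift (id : G → G)).ker) (q : G ⧸ H) : σ.ker :=
  ⟨ψ ⟨(t q)⁻¹ * r * t q, conj_mem t r.2 q⟩, psi_rel σ ψ hψ (by simp [show FreeGroup.lift id (r : FreeGroup G) = 1 from r.2])⟩

omit [Finite G] in
theorem factor_mul (r s : (FreeGroup.lift (id : G → G)).ker) (q : G ⧸ H) :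
    factor σ ψ hψ t (r * s) q = factor σ ψ hψ t r q * factor σ ψ hψ t s q := by
  refine Subtype.ext ?_
  simp only [factor, Subgroup.coe_mul, ← map_mul]
  exact congrArg ψ (Subtype.ext (by simp [mul_assoc]))

end Transfer

set_option maxHeartbeats 1600000 in
/-- A nonsplit central extension of `G` with kernel of order `p`. -/
theorem exists_stem_of_pair (σ : L →* H)
    (hσ : Function.Surjective σ) (hc : σ.ker ≤ Subgroup.center L) {p : ℕ} (hp : p.Prime)
    (hker : Nat.card σ.ker = p) {x y : H} (hxy : Commute (x : G) (y : G))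
    (hfix : ∀ q : G ⧸ H, q ≠ QuotientGroup.mk 1 →
      ∃ u ∈ Subgroup.closure {(x : G), (y : G)}, u • q = q ∧ ∀ g ∈ Subgroup.closure {(x : G), (y : G)},
        g • q = q → g ∈ Subgroup.zpowers u)
    {a b : L} (ha : σ a = x) (hb : σ b = y) (hne : ⁅a, b⁆ ≠ 1) :
    ∃ (Γ : Type) (_ : Group Γ) (_ : Finite Γ) (π : Γ →* G),
      Cfsg.IsStemExtension π ∧ Nat.card π.ker = p ∧ IsCyclic π.ker := by
  classical
  have := Fact.mk hp
  have : Fintype (G ⧸ H) := Fintype.ofFinite _
  obtain ⟨ψ, hψ⟩ := exists_pre_lift σ hσ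
  let π0 : FreeGroup G →* G := FreeGroup.lift id
  have hπ0 : Function.Surjective π0 := fun g => ⟨FreeGroup.of g, FreeGroup.lift_apply_of⟩
  let A : Subgroup G := Subgroup.closure {(x : G), (y : G)}
  let B : Subgroup (FreeGroup G) := Subgroup.closure {FreeGroup.of (x : G), FreeGroup.of (y : G)}
  have hBA : B.map π0 = A := by
    rw [MonoidHom.map_closure, Set.image_pair]
    simp [π0, A]
  -- representatives along the orbits of the pair
  let o : G ⧸ H → G ⧸ H := fun q => if q = QuotientGroup.mk 1 then q else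
    (Quotient.mk (MulAction.orbitRel A (G ⧸ H)) q).out
  let q0 : G ⧸ H := QuotientGroup.mk 1
  have ho : ∀ q, ∃ v ∈ B, π0 v • o q = q := by
    intro q
    by_cases hq : q = QuotientGroup.mk 1
    · exact ⟨1, one_mem _, by simp [o, hq]⟩
    · have := Quotient.mk_out (s := MulAction.orbitRel A (G ⧸ H)) q
      rw [MulAction.orbitRel_apply, MulAction.mem_orbit_iff] at this
      obtain ⟨g, hg⟩ := this
      have hgA : (g : G)⁻¹ ∈ B.map π0 := by rw [hBA]; exact inv_mem g.2
      obtain ⟨v, hv, hvg⟩ := hgA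
      refine ⟨v, hv, ?_⟩
      simp only [o, if_neg hq]
      rw [hvg, ← hg]
      exact inv_smul_smul (g : G) q
  choose v hv hvo using ho
  let t0 : G ⧸ H → FreeGroup G := fun q => if q = q0 then 1 else FreeGroup.of q.out
  have ht0 : ∀ q, (QuotientGroup.mk (π0 (t0 q)) : G ⧸ H) = q := fun q => by
    by_cases hq : q = q0
    · simp [t0, hq, q0]
    · simp [t0, hq, π0]
  let t : G ⧸ H → FreeGroup G := fun q => if q = q0 then 1 else v q * t0 (o q)
  have ht : ∀ q, (QuotientGroup.mk (π0 (t q)) : G ⧸ H) = q := fun q => by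
    by_cases hq : q = q0
    · simp [t, hq, q0]
    · simp only [t, if_neg hq, map_mul]
      exact (congrArg (π0 (v q) • ·) (ht0 (o q))).trans (hvo q)
  let _ : CommGroup σ.ker :=
    { (inferInstance : Group σ.ker) with
      mul_comm := fun u w => Subtype.ext (Subgroup.mem_center_iff.1 (hc w.2) u.1) }
  let τ : π0.ker →* σ.ker :=
    { toFun := fun r => ∏ q, factor σ ψ hψ t r q
      map_one' := Finset.prod_eq_one fun q _ => by
        refine Subtype.ext ?_
        simp only [factor, Subgroup.coe_one, ← map_one ψ]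
        exact congrArg ψ (Subtype.ext (by simp))
      map_mul' := fun r s => by
        rw [← Finset.prod_mul_distrib]
        exact Finset.prod_congr rfl fun q _ => factor_mul σ ψ hψ t r s q }
  have hconj : ∀ (f : FreeGroup G) (r : π0.ker) (hr : f * r * f⁻¹ ∈ π0.ker),
      τ ⟨f * r * f⁻¹, hr⟩ = τ r := by
    intro f r hr
    show ∏ q, factor σ ψ hψ t ⟨f * r * f⁻¹, hr⟩ q = ∏ q, factor σ ψ hψ t r q
    refine Fintype.prod_equiv (MulAction.toPerm (π0 f)⁻¹) _ _ fun q => Subtype.ext ?_
    set q' := (π0 f)⁻¹ • q with hq'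
    show ψ _ = ψ _
    have hmem := step_mem t ht f q'
    have hqq : FreeGroup.lift id f • q' = q := smul_inv_smul (π0 f) q
    rw [hqq] at hmem
    have e : (⟨(t q)⁻¹ * (f * r * f⁻¹) * t q, conj_mem t hr q⟩ : pre H) =
        ⟨_, hmem⟩ * ⟨(t q')⁻¹ * r * t q', conj_mem t r.2 q'⟩ * (⟨_, hmem⟩ : pre H)⁻¹ :=
      Subtype.ext (by simp [mul_assoc])
    rw [e, map_mul, map_mul, map_inv,
      Subgroup.mem_center_iff.1 (hc (psi_rel σ ψ hψ (s := ⟨(t q')⁻¹ * r * t q', conj_mem t r.2 q'⟩)
        (by simp [show FreeGroup.lift id (r : FreeGroup G) = 1 from r.2]))) (ψ ⟨_, hmem⟩),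
      mul_inv_cancel_right]
    rfl
  let K : Subgroup (FreeGroup G) := τ.ker.map π0.ker.subtype
  have : K.Normal := ⟨by
    rintro _ ⟨r, hr, rfl⟩ f
    exact ⟨⟨f * r * f⁻¹, (inferInstance : π0.ker.Normal).conj_mem _ r.2 f⟩,
      (hconj f r _).trans hr, rfl⟩⟩
  have hK : K ≤ π0.ker := by rintro _ ⟨r, -, rfl⟩; exact r.2
  let π : FreeGroup G ⧸ K →* G := QuotientGroup.lift K π0 hK
  let ι : π0.ker →* π.ker :=
    ((QuotientGroup.mk' K).comp π0.ker.subtype).codRestrict π.ker fun r => r.2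
  have hι : Function.Surjective ι := by
    rintro ⟨e, he⟩
    induction e using QuotientGroup.induction_on with
    | _ f => exact ⟨⟨f, he⟩, rfl⟩
  have hιker : ι.ker = τ.ker := by
    ext r
    rw [MonoidHom.mem_ker, Subtype.ext_iff]
    show (QuotientGroup.mk (r : FreeGroup G) : FreeGroup G ⧸ K) = 1 ↔ _
    rw [QuotientGroup.eq_one_iff]
    constructor
    · rintro ⟨s, hs, hsr⟩
      exact Subtype.ext hsr ▸ hs
    · exact fun hr => ⟨r, hr, rfl⟩
  let e : π.ker ≃* τ.range :=
    ((QuotientGroup.quotientKerEquivOfSurjective ι hι).symm.trans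
      (QuotientGroup.quotientMulEquivOfEq hιker)).trans (QuotientGroup.quotientKerEquivRange τ)
  -- the witness
  have hxy' : ⁅FreeGroup.of (x : G), FreeGroup.of (y : G)⁆ ∈ π0.ker := by
    rw [MonoidHom.mem_ker, map_commutatorElement, commutatorElement_eq_one_iff_mul_comm]
    simpa [π0] using hxy.eq
  have hval : τ ⟨_, hxy'⟩ ≠ 1 := by
    set X := FreeGroup.of (x : G)
    set Y := FreeGroup.of (y : G)
    let sa : G ⧸ H → L := stepVal ψ t ht X
    let sb : G ⧸ H → L := stepVal ψ t ht Y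
    have hπX : FreeGroup.lift id X = (x : G) := FreeGroup.lift_apply_of
    have hπY : FreeGroup.lift id Y = (y : G) := FreeGroup.lift_apply_of
    have hfac : ∀ q, (factor σ ψ hψ t ⟨_, hxy'⟩ q : L) =
        sa ((x : G)⁻¹ • q) * sb ((x : G)⁻¹ • (y : G)⁻¹ • q) *
          (sa ((x : G)⁻¹ • (y : G)⁻¹ • q))⁻¹ * (sb ((y : G)⁻¹ • q))⁻¹ := by
      intro q
      simp only [factor, sa, sb, stepVal, ← map_inv, ← map_mul]
      refine congrArg ψ (Subtype.ext ?_)
      have c1 : (y : G) • (x : G)⁻¹ • (y : G)⁻¹ • q = (x : G)⁻¹ • q := by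
        rw [smul_smul, smul_smul, mul_assoc, ← mul_assoc, ← hxy.inv_left.eq, mul_inv_cancel_right]
      simp only [Subgroup.coe_mul, Subgroup.coe_inv, commutatorElement_def, hπX, hπY, c1,
        smul_inv_smul]
      group
    have hone : ∀ q, q ≠ q0 → (x : G) • q ≠ q0 ∧ (y : G) • q ≠ q0 ∧ (x : G)⁻¹ • q ≠ q0 ∧
        (y : G)⁻¹ • q ≠ q0 := by
      have hf : ∀ g ∈ H, g • q0 = q0 := fun g hg => by
        simpa [q0, MulAction.Quotient.smul_mk, QuotientGroup.eq] using hg
      intro q hq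
      refine ⟨fun h => hq ?_, fun h => hq ?_, fun h => hq ?_, fun h => hq ?_⟩
      · rw [← inv_smul_smul (x : G) q, h, hf _ (inv_mem x.2)]
      · rw [← inv_smul_smul (y : G) q, h, hf _ (inv_mem y.2)]
      · rw [← smul_inv_smul (x : G) q, h, hf _ x.2]
      · rw [← smul_inv_smul (y : G) q, h, hf _ y.2]
    -- the orbit of any other coset contributes nothing
    have horb : ∀ c : G ⧸ H, c ≠ q0 →
        ∏ q ∈ Finset.univ.filter (fun q => q ≠ q0 ∧ o q = c), factor σ ψ hψ t ⟨_, hxy'⟩ q = 1 := by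
      intro c hc0
      obtain ⟨u, hu, hfixu, hstab⟩ := hfix c hc0
      let w : G := (π0 (t0 c))⁻¹ * u * π0 (t0 c)
      let M : Subgroup L := (Subgroup.zpowers w).comap (H.subtype.comp σ)
      have hwmem : w ∈ H := by
        have h1 := hfixu
        rw [← ht0 c, MulAction.Quotient.smul_mk, QuotientGroup.eq] at h1
        have := inv_mem h1
        simpa [w, mul_assoc] using this
      have hM : ∀ (f : FreeGroup G) (q : G ⧸ H), f ∈ B → q ≠ q0 → π0 f • q ≠ q0 → o q = c →
          o (π0 f • q) = c → stepVal ψ t ht f q ∈ M := by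
        intro f q hf hq hq' hoq hoq'
        show (σ (ψ _) : G) ∈ Subgroup.zpowers w
        rw [hψ]
        let g : G := π0 ((v (π0 f • q))⁻¹ * f * v q)
        have hgA : g ∈ A :=
          hBA ▸ Subgroup.mem_map_of_mem π0 (mul_mem (mul_mem (inv_mem (hv _)) hf) (hv q))
        have hgc : g • c = c := by
          have e1 := hvo q
          have e2 := hvo (π0 f • q)
          rw [hoq] at e1
          rw [hoq'] at e2
          simp only [g, map_mul, map_inv, mul_smul, e1]
          rw [inv_smul_eq_iff, e2]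
        obtain ⟨k, hk⟩ := Subgroup.mem_zpowers_iff.1 (hstab g hgA hgc)
        have : π0 ((t (π0 f • q))⁻¹ * f * t q) = (π0 (t0 c))⁻¹ * g * π0 (t0 c) := by
          simp [t, hq, hq', hoq, hoq', g, mul_assoc]
        show π0 ((t (π0 f • q))⁻¹ * f * t q) ∈ Subgroup.zpowers w
        rw [this]
        refine ⟨k, ?_⟩
        show ((π0 (t0 c))⁻¹ * u * π0 (t0 c)) ^ k = _
        rw [← hk]
        simpa using (conj_zpow (a := (π0 (t0 c))⁻¹) (b := u) (i := k))
      have hMc : ∀ m ∈ M, ∀ m' ∈ M, m * m' = m' * m := by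
        intro m hm m' hm'
        obtain ⟨i, hi⟩ := Subgroup.mem_zpowers_iff.1 hm
        obtain ⟨j, hj⟩ := Subgroup.mem_zpowers_iff.1 hm'
        have hwH : w ∈ H := hwmem
        · obtain ⟨l, hl⟩ := hσ ⟨w, hwH⟩
          have hm1 : (l ^ i)⁻¹ * m ∈ σ.ker := by
            rw [MonoidHom.mem_ker, map_mul, map_inv, map_zpow, inv_mul_eq_one]
            exact Subtype.ext (by rw [Subgroup.coe_zpow, hl]; exact hi)
          have hm2 : (l ^ j)⁻¹ * m' ∈ σ.ker := by
            rw [MonoidHom.mem_ker, map_mul, map_inv, map_zpow, inv_mul_eq_one]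
            exact Subtype.ext (by rw [Subgroup.coe_zpow, hl]; exact hj)
          have c1 := Subgroup.mem_center_iff.1 (hc hm1)
          have c2 := Subgroup.mem_center_iff.1 (hc hm2)
          have e1 : m = l ^ i * ((l ^ i)⁻¹ * m) := by group
          have e2 : m' = l ^ j * ((l ^ j)⁻¹ * m') := by group
          rw [e1, e2]
          exact ((Commute.zpow_zpow (Commute.refl l) i j).mul_right (c2 (l ^ i))).mul_left
            (Commute.mul_right (c1 (l ^ j)).symm (c1 _).symm)
      let _ : CommGroup M :=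
        { (inferInstance : Group M) with mul_comm := fun m m' => Subtype.ext (hMc _ m.2 _ m'.2) }
      set S := Finset.univ.filter (fun q => q ≠ q0 ∧ o q = c)
      have hstay : ∀ g : G, g ∈ A → (∀ q, q ≠ q0 → g • q ≠ q0) → ∀ q ∈ S, g • q ∈ S := by
        intro g hg hne0 q hq
        simp only [S, Finset.mem_filter, Finset.mem_univ, true_and] at hq ⊢
        refine ⟨hne0 q hq.1, ?_⟩
        have hmk : (Quotient.mk (MulAction.orbitRel A (G ⧸ H)) (g • q)) =
            Quotient.mk (MulAction.orbitRel A (G ⧸ H)) q := Quotient.sound ⟨⟨g, hg⟩, rfl⟩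
        rw [← hq.2]
        simp only [o]
        rw [if_neg (show ¬ g • q = QuotientGroup.mk 1 from hne0 q hq.1),
          if_neg (show ¬ q = QuotientGroup.mk 1 from hq.1), hmk]
      have hxA : (x : G) ∈ A := Subgroup.subset_closure (by simp)
      have hyA : (y : G) ∈ A := Subgroup.subset_closure (by simp)
      have sX := hstay _ hxA fun q hq => (hone q hq).1
      have sY := hstay _ hyA fun q hq => (hone q hq).2.1
      have sX' := hstay _ (inv_mem hxA) fun q hq => (hone q hq).2.2.1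
      have sY' := hstay _ (inv_mem hyA) fun q hq => (hone q hq).2.2.2
      have hXB : X ∈ B := Subgroup.subset_closure (by simp [X])
      have hYB : Y ∈ B := Subgroup.subset_closure (by simp [Y])
      have memS : ∀ q ∈ S, q ≠ q0 ∧ o q = c := fun q hq => by simpa [S] using hq
      let fa : G ⧸ H → M := fun q => if hq : q ∈ S then ⟨sa q, hM X q hXB (memS q hq).1
        (by rw [show π0 X = (x : G) from hπX]; exact (memS _ (sX q hq)).1) (memS q hq).2
        (by rw [show π0 X = (x : G) from hπX]; exact (memS _ (sX q hq)).2)⟩ else 1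
      let fb : G ⧸ H → M := fun q => if hq : q ∈ S then ⟨sb q, hM Y q hYB (memS q hq).1
        (by rw [show π0 Y = (y : G) from hπY]; exact (memS _ (sY q hq)).1) (memS q hq).2
        (by rw [show π0 Y = (y : G) from hπY]; exact (memS _ (sY q hq)).2)⟩ else 1
      have hkM : σ.ker ≤ M := fun k hk => by
        show (σ k : G) ∈ Subgroup.zpowers w
        rw [MonoidHom.mem_ker.1 hk]
        exact one_mem _
      refine Subtype.ext ?_
      have key : ∏ q ∈ S, Subgroup.inclusion hkM (factor σ ψ hψ t ⟨_, hxy'⟩ q) = 1 := by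
        rw [Finset.prod_congr rfl (g := fun q => fa ((x : G)⁻¹ • q) *
          fb ((x : G)⁻¹ • (y : G)⁻¹ • q) * (fa ((x : G)⁻¹ • (y : G)⁻¹ • q))⁻¹ *
          (fb ((y : G)⁻¹ • q))⁻¹) fun q hq => Subtype.ext ?_]
        · have re : ∀ (g : G) (F : G ⧸ H → M), (∀ q ∈ S, g • q ∈ S) → (∀ q ∈ S, g⁻¹ • q ∈ S) →
              ∏ q ∈ S, F (g • q) = ∏ q ∈ S, F q := fun g F h1 h2 =>
            Finset.prod_bij' (fun q _ => g • q) (fun q _ => g⁻¹ • q) h1 h2
              (fun q _ => inv_smul_smul g q) (fun q _ => smul_inv_smul g q) (fun q _ => rfl)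
          have rX : ∀ F : G ⧸ H → M, ∏ q ∈ S, F ((x : G)⁻¹ • q) = ∏ q ∈ S, F q := fun F =>
            re _ F sX' (by simpa using sX)
          have rY : ∀ F : G ⧸ H → M, ∏ q ∈ S, F ((y : G)⁻¹ • q) = ∏ q ∈ S, F q := fun F =>
            re _ F sY' (by simpa using sY)
          simp only [Finset.prod_mul_distrib, Finset.prod_inv_distrib]
          rw [rY fun q => fb ((x : G)⁻¹ • q), rY fun q => fa ((x : G)⁻¹ • q), rX fa, rX fb, rY fb]
          rw [mul_comm (∏ q ∈ S, fa q) (∏ q ∈ S, fb q), mul_inv_cancel_right, mul_inv_cancel]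
        · have h1 := sX' q hq
          have h2 := sY' q hq
          have h3 := sX' _ h2
          simp only [Subgroup.coe_inclusion, Subgroup.coe_mul, Subgroup.coe_inv, fa, fb, dif_pos h1,
            dif_pos h2, dif_pos h3, hfac]
      simpa [← map_prod] using congrArg Subtype.val key
    intro h1
    apply hne
    have hsplit : ∏ q, factor σ ψ hψ t ⟨_, hxy'⟩ q = factor σ ψ hψ t ⟨_, hxy'⟩ q0 := by
      rw [← Finset.mul_prod_erase Finset.univ _ (Finset.mem_univ q0)]
      conv_rhs => rw [← mul_one (factor σ ψ hψ t _ q0)]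
      congr 1
      rw [← Finset.prod_fiberwise (Finset.univ.erase q0) o]
      refine Finset.prod_eq_one fun c _ => ?_
      by_cases hc0 : c = q0
      · refine Finset.prod_eq_one fun q hq => ?_
        simp only [Finset.mem_filter, Finset.mem_erase, Finset.mem_univ, and_true] at hq
        exfalso
        have h2 := hvo q
        rw [hq.2, hc0] at h2
        have hA : π0 (v q) ∈ H := by
          have : A ≤ H := (Subgroup.closure_le H).2 (by rintro g (rfl | rfl) <;> simp)
          exact this (hBA ▸ Subgroup.mem_map_of_mem π0 (hv q))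
        refine hq.1 (h2.symm.trans ?_)
        simpa [q0, MulAction.Quotient.smul_mk, QuotientGroup.eq] using hA
      · rw [← horb c hc0]
        exact Finset.prod_congr (by ext q; simp [and_comm]) fun _ _ => rfl
    have h0 : (factor σ ψ hψ t ⟨_, hxy'⟩ q0 : L) = 1 := by
      rw [← hsplit]
      exact congrArg Subtype.val h1
    have hX1 : X ∈ pre H := by show FreeGroup.lift id X ∈ H; rw [hπX]; exact x.2
    have hY1 : Y ∈ pre H := by show FreeGroup.lift id Y ∈ H; rw [hπY]; exact y.2
    have e0 : (factor σ ψ hψ t ⟨_, hxy'⟩ q0 : L) = ⁅ψ ⟨X, hX1⟩, ψ ⟨Y, hY1⟩⁆ := by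
      rw [← map_commutatorElement]
      refine congrArg ψ (Subtype.ext ?_)
      simp [t, commutatorElement_def]
    have k1 : a⁻¹ * ψ ⟨X, hX1⟩ ∈ σ.ker := by
      rw [MonoidHom.mem_ker, map_mul, map_inv, ha, inv_mul_eq_one]
      exact Subtype.ext ((hπX.symm.trans (hψ ⟨X, hX1⟩).symm))
    have k2 : b⁻¹ * ψ ⟨Y, hY1⟩ ∈ σ.ker := by
      rw [MonoidHom.mem_ker, map_mul, map_inv, hb, inv_mul_eq_one]
      exact Subtype.ext ((hπY.symm.trans (hψ ⟨Y, hY1⟩).symm))
    rw [e0, commutatorElement_eq_one_iff_mul_comm] at h0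
    rw [commutatorElement_eq_one_iff_mul_comm]
    have hA' : a = ψ ⟨X, hX1⟩ * (a⁻¹ * ψ ⟨X, hX1⟩)⁻¹ := by group
    have hB' : b = ψ ⟨Y, hY1⟩ * (b⁻¹ * ψ ⟨Y, hY1⟩)⁻¹ := by group
    have c1 : ∀ g, Commute (a⁻¹ * ψ ⟨X, hX1⟩)⁻¹ g :=
      fun g => (Commute.inv_left (Subgroup.mem_center_iff.1 (hc k1) g).symm)
    have c2 : ∀ g, Commute (b⁻¹ * ψ ⟨Y, hY1⟩)⁻¹ g :=
      fun g => (Commute.inv_left (Subgroup.mem_center_iff.1 (hc k2) g).symm)
    rw [hA', hB']
    exact ((Commute.mul_right (show Commute _ _ from h0) (c2 _).symm).mul_left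
      ((c1 _).mul_right (c1 _))).eq
  have hrange : τ.range = ⊤ := by
    haveI : Finite σ.ker := Nat.finite_of_card_ne_zero (hker ▸ hp.ne_zero)
    rcases (Nat.dvd_prime hp).1 (hker ▸ Subgroup.card_subgroup_dvd_card τ.range) with h | h
    · rw [Subgroup.card_eq_one] at h
      exact absurd (Subgroup.mem_bot.1 (h ▸ MonoidHom.mem_range.2 ⟨_, rfl⟩)) hval
    · exact Subgroup.eq_top_of_card_eq _ (h.trans hker.symm)
  have hcard : Nat.card π.ker = p := by
    rw [Nat.card_congr e.toEquiv, hrange, Subgroup.card_top, hker]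
  have hπ : Function.Surjective π := fun g =>
    ⟨QuotientGroup.mk (FreeGroup.of g), by simp [π, π0]⟩
  haveI : Finite π.ker := Nat.finite_of_card_ne_zero (hcard ▸ hp.ne_zero)
  haveI : Finite ((FreeGroup G ⧸ K) ⧸ π.ker) :=
    Finite.of_equiv _ (QuotientGroup.quotientKerEquivOfSurjective π hπ).toEquiv.symm
  have hfin : Finite (FreeGroup G ⧸ K) :=
    Finite.of_equiv _ (Subgroup.groupEquivQuotientProdSubgroup (s := π.ker)).symm
  refine ⟨_, inferInstance, hfin, π, ⟨hπ, ?_, ?_⟩, hcard, isCyclic_of_prime_card hcard⟩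
  · rintro g hg
    obtain ⟨⟨r, hr⟩, hrg⟩ := hι ⟨g, hg⟩
    rw [← show (QuotientGroup.mk r : FreeGroup G ⧸ K) = g from congrArg Subtype.val hrg]
    refine Subgroup.mem_center_iff.2 fun z => ?_
    induction z using QuotientGroup.induction_on with
    | _ f =>
      have hm : f * r * f⁻¹ ∈ π0.ker := (inferInstance : π0.ker.Normal).conj_mem _ hr f
      rw [← QuotientGroup.mk_mul, ← QuotientGroup.mk_mul, QuotientGroup.eq]
      refine ⟨⟨(f * r)⁻¹ * (r * f), ?_⟩, ?_, rfl⟩
      · rw [MonoidHom.mem_ker, map_mul, map_inv, map_mul, map_mul, MonoidHom.mem_ker.1 hr]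
        simp
      · show τ _ = 1
        have e1 : (⟨(f * r)⁻¹ * (r * f), by
            rw [MonoidHom.mem_ker, map_mul, map_inv, map_mul, map_mul, MonoidHom.mem_ker.1 hr]
            simp⟩ : π0.ker) = ⟨r, hr⟩⁻¹ *
            ⟨f⁻¹ * r * (f⁻¹)⁻¹, (inferInstance : π0.ker.Normal).conj_mem _ hr f⁻¹⟩ :=
          Subtype.ext (by simp [mul_assoc])
        rw [e1, map_mul, map_inv, hconj f⁻¹ ⟨r, hr⟩, inv_mul_cancel]
  · have hz : (ι ⟨_, hxy'⟩ : FreeGroup G ⧸ K) ∈ commutator (FreeGroup G ⧸ K) := by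
      show QuotientGroup.mk' K ⁅FreeGroup.of (x : G), FreeGroup.of (y : G)⁆ ∈ commutator (FreeGroup G ⧸ K)
      rw [map_commutatorElement]
      exact Subgroup.commutator_mem_commutator (Subgroup.mem_top _) (Subgroup.mem_top _)
    have hz1 : ι ⟨_, hxy'⟩ ≠ 1 := fun h => hval (by
      rw [← MonoidHom.mem_ker, ← hιker]; exact h)
    intro g hg
    have htop : Subgroup.zpowers (ι ⟨_, hxy'⟩) = ⊤ := zpowers_eq_top_of_prime_card hcard hz1
    obtain ⟨k, hk⟩ := Subgroup.mem_zpowers_iff.1 (htop ▸ Subgroup.mem_top (⟨g, hg⟩ : π.ker))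
    rw [← show ((ι ⟨_, hxy'⟩ ^ k : π.ker) : FreeGroup G ⧸ K) = g from congrArg Subtype.val hk,
      Subgroup.coe_zpow]
    exact zpow_mem hz k

end Cfsg.Agent.Lib.Schur.TransferCover
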