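import Cfsg.Agent.Lib.Schur.TwistRankOne
import Mathlib.GroupTheory.NoncommPiCoprod

/-!
A stem extension, with kernel of order prime to `p`, of a group generated by rank one subgroups with a Bruhat
decomposition: the kernel comes from the tori of the `SL₂`'s.
-/

set_option autoImplicit false

namespace Cfsg.Agent.Lib.Schur.TwistLift

open Cfsg.Agent.Lib.Chev Subgroup
open scoped Matrix MatrixGroups
open RankOneData (upper lower wElt)

universe uR

variable {G : Type*} [Group G] {ι : Type*} {R : ι → Type uR} [∀ j, Field (R j)]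

/-- The image of the Weyl element. -/
def nEl (ψ : ∀ j, SL(2, R j) →* G) (j : ι) : G := ψ j wElt

/-- The monomial subgroup. -/
def monGrp (H : Subgroup G) (ψ : ∀ j, SL(2, R j) →* G) : Subgroup G := H ⊔ Subgroup.closure (Set.range (nEl ψ))

/-- A group with a unipotent subgroup, a torus and rank one subgroups. -/
structure RankOnes (p : ℕ) (U H : Subgroup G) (ψ : ∀ j, SL(2, R j) →* G) : Prop where
  pgroup : IsPGroup p U
  upper_mem : ∀ j t, ψ j (upper t) ∈ U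
  diag_mem : ∀ j a, ψ j (dHom a) ∈ H
  upper_inj : ∀ j t, ψ j (upper t) = 1 → t = 0
  H_conj_U : ∀ h ∈ H, ∀ u ∈ U, h * u * h⁻¹ ∈ U
  n_conj_H : ∀ j, ∀ h ∈ H, nEl ψ j * h * (nEl ψ j)⁻¹ ∈ H
  U_inf_N : U ⊓ monGrp H ψ = ⊥
  n_not : ∀ j, ∀ u ∈ U, ∀ h ∈ H, nEl ψ j ≠ u * h
  scale : ∀ j, ∀ h ∈ H, ∃ χ : (R j)ˣ, ∀ t, h * ψ j (upper t) * h⁻¹ = ψ j (upper ((χ : R j) * t)) ∧
    h * ψ j (lower t) * h⁻¹ = ψ j (lower (((χ⁻¹ : (R j)ˣ) : R j) * t))
  gen : U ⊔ Subgroup.closure (Set.range (nEl ψ)) = ⊤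
  split : ∀ j, ∀ u ∈ U, ∃ t, nEl ψ j * (u * ψ j (upper t)) * (nEl ψ j)⁻¹ ∈ U
  sign : ∀ j, ∀ m ∈ monGrp H ψ, (∀ t, m⁻¹ * ψ j (upper t) * m ∈ U) ∨
    ∀ t, (nEl ψ j * m)⁻¹ * ψ j (upper t) * (nEl ψ j * m) ∈ U
  rankN : ∀ j, ∀ g ∈ (ψ j).range, g ∈ monGrp H ψ → g ∈ H ∨ g * (nEl ψ j)⁻¹ ∈ H
  exchange : ∀ l : List ι, l ≠ [] → (l.map (nEl ψ)).prod ∈ H → ∃ A k B s E, l = A ++ k :: (B ++ s :: E) ∧
    ∀ t, (B.map (nEl ψ)).prod * ψ s (upper t) * (B.map (nEl ψ)).prod⁻¹ ∈ (ψ k).range ∧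
      (B.map (nEl ψ)).prod * ψ s (lower t) * (B.map (nEl ψ)).prod⁻¹ ∈ (ψ k).range

namespace RankOnes

variable {p : ℕ} [hp : Fact p.Prime] [∀ j, Fintype (R j)] [∀ j, CharP (R j) p] {U H : Subgroup G}
  {ψ : ∀ j, SL(2, R j) →* G} (D : RankOnes p U H ψ)

/-- The group is generated by `p`-elements. -/
theorem closure_pElt (D : RankOnes p U H ψ) : (⊤ : Subgroup G) ≤ Subgroup.closure {g | IsPElt p g} := by
  rw [← D.gen, sup_le_iff, Subgroup.closure_le]
  refine ⟨fun u hu => Subgroup.subset_closure ?_, ?_⟩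
  · obtain ⟨k, hk⟩ := D.pgroup ⟨u, hu⟩
    exact ⟨k, by simpa using congrArg Subtype.val hk⟩
  · rintro _ ⟨j, rfl⟩
    refine range_le_SL2 (ψ j) _ (fun t => ?_) (fun t => ?_) ⟨wElt, rfl⟩
    exacts [Subgroup.subset_closure (isPElt_map_upper p _ t), Subgroup.subset_closure (isPElt_map_lower p _ t)]

variable {Γ : Type*} [Group Γ] [Finite Γ] {σ : Γ →* G}

include D in
/-- **The bound.** -/
theorem card_ker_le [Finite ι] [Finite G] (hσ : Cfsg.IsStemExtension σ) (hA : ¬ p ∣ Nat.card σ.ker)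
    (θ : (∀ j, (R j)ˣ) →* G) (hθ : ∀ [DecidableEq ι] (j : ι) (a : (R j)ˣ), θ (Pi.mulSingle j a) = ψ j (dHom a)) :
    Nat.card σ.ker ≤ Nat.card θ.ker := by
  classical
  have hs := hσ.1
  have hc := hσ.2.1
  choose Ψ hΨ using fun j => exists_lift_SL2 p hs hc hA (ψ j)
  have hΨ' : ∀ j g, σ (Ψ j g) = ψ j g := fun j g => DFunLike.congr_fun (hΨ j) g
  set Û := pGen σ p (U : Set G) with hÛ
  have huniq : ∀ {x y : Γ}, IsPElt p x → IsPElt p y → σ x = σ y → x = y := fun hx hy h =>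
    eq_of_isPElt hc hA hx hy h
  -- the lifts of `U`
  have hUelt : ∀ x ∈ Û, IsPElt p x := by
    obtain ⟨Q⟩ : Nonempty (Sylow p ↥(U.comap σ)) := inferInstance
    let τ := σ.subgroupComap U
    have hτ : Function.Surjective τ := fun u => by
      obtain ⟨x, hx⟩ := hs u.1
      exact ⟨⟨x, by rw [Subgroup.mem_comap, hx]; exact u.2⟩, Subtype.ext hx⟩
    have htop : ((Q : Subgroup ↥(U.comap σ)).map τ) = ⊤ := by
      have := (Q.mapSurjective hτ).is_maximal' (D.pgroup.to_subgroup ⊤) le_top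
      exact this.symm
    have hle : Û ≤ (Q : Subgroup ↥(U.comap σ)).map (U.comap σ).subtype := by
      refine pGen_le hc hA _ fun a ha => ?_
      obtain ⟨y, hy, e⟩ : (⟨a, ha⟩ : U) ∈ (Q : Subgroup ↥(U.comap σ)).map τ := htop ▸ Subgroup.mem_top _
      exact ⟨y, Subgroup.mem_map_of_mem _ hy, congrArg Subtype.val e⟩
    intro x hx
    obtain ⟨y, hy, rfl⟩ := hle hx
    obtain ⟨k, hk⟩ := Q.isPGroup' ⟨y, hy⟩
    exact ⟨k, by simpa using congrArg (fun z : (Q : Subgroup ↥(U.comap σ)) => ((z : ↥(U.comap σ)) : Γ)) hk⟩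
  have hÛmap : ∀ x ∈ Û, σ x ∈ U := fun x hx => sigma_mem_of_mem_pGen hx
  have hÛker : ∀ x ∈ Û, σ x = 1 → x = 1 := fun x hx h =>
    huniq (hUelt x hx) (isPElt_one p) (h.trans (map_one σ).symm)
  -- conjugation
  have hconj : ∀ (g : Γ), ∀ x ∈ Û, σ g * σ x * (σ g)⁻¹ ∈ U → g * x * g⁻¹ ∈ Û := fun g x hx h =>
    mem_pGen ((hUelt x hx).conj g) (by rw [map_mul, map_mul, map_inv]; exact h)
  let X : ∀ j, R j → Γ := fun j t => Ψ j (upper t)
  have hX : ∀ j t, X j t ∈ Û := fun j t =>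
    mem_pGen (isPElt_map_upper p (Ψ j) t) (by rw [hΨ']; exact D.upper_mem j t)
  let s : ι → Γ := fun j => Ψ j wElt
  have hsn : ∀ j, σ (s j) = nEl ψ j := fun j => hΨ' j wElt
  have hsl : ∀ l : List ι, σ (l.map s).prod = (l.map (nEl ψ)).prod := fun l => by
    rw [map_list_prod, List.map_map]; exact congrArg List.prod (List.map_congr_left fun j _ => hsn j)
  set Ĥ : Subgroup Γ := ⨆ j, ((Ψ j).comp dHom).range with hĤ
  have hdĤ : ∀ j a, Ψ j (dHom a) ∈ Ĥ := fun j a =>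
    le_iSup (fun j => ((Ψ j).comp dHom).range) j ⟨a, rfl⟩
  have hĤH : ∀ x ∈ Ĥ, σ x ∈ H := by
    have : Ĥ ≤ H.comap σ := iSup_le fun j => by
      rintro _ ⟨a, rfl⟩; show σ (Ψ j (dHom a)) ∈ H; rw [hΨ']; exact D.diag_mem j a
    exact this
  have hscale : ∀ j (x : Γ), σ x ∈ H → ∃ χ : (R j)ˣ, ∀ g, x * Ψ j g * x⁻¹ = Ψ j (scHom χ g) := by
    intro j x hx
    obtain ⟨χ, hχ⟩ := D.scale j _ hx
    refine ⟨χ, fun g => DFunLike.congr_fun (f := (MulAut.conj x).toMonoidHom.comp (Ψ j))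
      (g := (Ψ j).comp (scHom χ)) (hom_ext_SL2 (fun t => ?_) fun t => ?_) g⟩
    · show x * Ψ j (upper t) * x⁻¹ = Ψ j (scHom χ (upper t))
      rw [scHom_upper]
      exact huniq ((isPElt_map_upper p (Ψ j) t).conj x) (isPElt_map_upper p (Ψ j) _)
        (by rw [map_mul, map_mul, map_inv, hΨ', hΨ']; exact (hχ t).1)
    · show x * Ψ j (lower t) * x⁻¹ = Ψ j (scHom χ (lower t))
      rw [scHom_lower]
      exact huniq ((isPElt_map_lower p (Ψ j) t).conj x) (isPElt_map_lower p (Ψ j) _)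
        (by rw [map_mul, map_mul, map_inv, hΨ', hΨ']; exact (hχ t).2)
  have hfixd : ∀ x, σ x ∈ H → ∀ y ∈ Ĥ, Commute x y := by
    intro x hx
    have hle : Ĥ ≤ Subgroup.centralizer {x} := iSup_le fun j => by
      rintro _ ⟨a, rfl⟩
      rw [Subgroup.mem_centralizer_singleton_iff]
      obtain ⟨χ, hχ⟩ := hscale j x hx
      have h := hχ (dHom a)
      rw [scHom_dHom, mul_inv_eq_iff_eq_mul] at h
      exact h.symm
    exact fun y hy => (Subgroup.mem_centralizer_singleton_iff.1 (hle hy)).symm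
  -- preimages of torus elements in a rank one group
  have hdiag : ∀ j g, ψ j g ∈ H → ∃ a, g = dHom a := by
    intro j g hg
    by_cases h : g 1 0 = 0
    · obtain ⟨a, c, rfl⟩ := exists_small_cell g h
      rw [map_mul] at hg
      have h1 : ψ j (upper c) ∈ U ⊓ monGrp H ψ := ⟨D.upper_mem j c, by
        have := mul_mem (inv_mem (D.diag_mem j a)) hg
        rw [inv_mul_cancel_left] at this
        exact Subgroup.mem_sup_left this⟩
      rw [D.U_inf_N, Subgroup.mem_bot] at h1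
      exact ⟨a, by rw [D.upper_inj j c h1, upper_zero, mul_one]⟩
    · exfalso
      obtain ⟨b, a, c, rfl⟩ := exists_big_cell g h
      simp only [map_mul] at hg
      set u := ψ j (upper b)
      set d := ψ j (dHom a)
      set u' := ψ j (upper c)
      refine D.n_not j (d⁻¹ * u⁻¹ * d * ((d⁻¹ * (u * (d * nEl ψ j) * u')) * u'⁻¹ * (d⁻¹ * (u * (d * nEl ψ j) * u'))⁻¹))
        ?_ (d⁻¹ * (u * (d * nEl ψ j) * u')) (mul_mem (inv_mem (D.diag_mem j a)) hg) (by group)
      refine mul_mem ?_ (D.H_conj_U _ (mul_mem (inv_mem (D.diag_mem j a)) hg) _ (inv_mem (D.upper_mem j c)))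
      have := D.H_conj_U _ (inv_mem (D.diag_mem j a)) _ (inv_mem (D.upper_mem j b))
      rwa [inv_inv] at this
  have hHrange : ∀ j x, x ∈ (Ψ j).range → σ x ∈ H → x ∈ Ĥ := by
    rintro j _ ⟨g, rfl⟩ h
    rw [hΨ'] at h
    obtain ⟨a, rfl⟩ := hdiag j g h
    exact hdĤ j a
  have hs_conj : ∀ j, ∀ x ∈ Ĥ, s j * x * (s j)⁻¹ ∈ Ĥ := by
    intro j x hx
    obtain ⟨χ, hχ⟩ := hscale j x (hĤH x hx)
    have e : x * s j * x⁻¹ * (s j)⁻¹ = Ψ j (scHom χ wElt * wElt⁻¹) := by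
      rw [map_mul, map_inv, ← hχ]
    have h1 : x * s j * x⁻¹ * (s j)⁻¹ ∈ Ĥ := hHrange j _ ⟨_, e.symm⟩ (by
      rw [map_mul, map_mul, map_mul, map_inv, map_inv, hsn,
        show σ x * nEl ψ j * (σ x)⁻¹ * (nEl ψ j)⁻¹ = σ x * (nEl ψ j * (σ x)⁻¹ * (nEl ψ j)⁻¹) by group]
      exact mul_mem (hĤH x hx) (D.n_conj_H j _ (inv_mem (hĤH x hx))))
    have h2 := mul_mem (inv_mem h1) hx
    rwa [show (x * s j * x⁻¹ * (s j)⁻¹)⁻¹ * x = s j * x * (s j)⁻¹ by group] at h2
  have hs_sq : ∀ j, s j * s j ∈ Ĥ := fun j => by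
    show Ψ j wElt * Ψ j wElt ∈ Ĥ
    rw [← map_mul, wElt_sq]; exact hdĤ j _
  have hlist_conj : ∀ l : List ι, ∀ x ∈ Ĥ, (l.map s).prod * x * (l.map s).prod⁻¹ ∈ Ĥ := by
    intro l
    induction l with
    | nil => intro x hx; simpa using hx
    | cons j l ih =>
      intro x hx
      have := hs_conj j _ (ih x hx)
      rw [List.map_cons, List.prod_cons]
      rwa [show s j * (l.map s).prod * x * (s j * (l.map s).prod)⁻¹ =
        s j * ((l.map s).prod * x * (l.map s).prod⁻¹) * (s j)⁻¹ by group]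
  -- words over the torus
  have hshort : ∀ (n : ℕ) (l : List ι), l.length = n → σ (l.map s).prod ∈ H → (l.map s).prod ∈ Ĥ := by
    intro n
    induction n using Nat.strong_induction_on with
    | _ n ih =>
      intro l hl hlH
      rcases eq_or_ne l [] with rfl | hne
      · simp
      rw [hsl] at hlH
      obtain ⟨A, k, B, j, E, rfl, hB⟩ := D.exchange l hne hlH
      set PA := (A.map s).prod with hPA
      set PB := (B.map s).prod with hPB
      set PE := (E.map s).prod with hPE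
      have hrange : ((MulAut.conj PB).toMonoidHom.comp (Ψ j)).range ≤ (Ψ k).range := by
        have key : ∀ x : Γ, IsPElt p x → σ x ∈ (ψ k).range → x ∈ (Ψ k).range := by
          intro x hx hxk
          obtain ⟨g, hg⟩ := hxk
          obtain ⟨y, hy, hyp, e⟩ := exists_isPElt_preimage (σ := σ) (p := p) (Ψ k).range (x := Ψ k g) ⟨g, rfl⟩ (by
            rw [hΨ', hg]; obtain ⟨i, hi⟩ := hx; exact ⟨i, by rw [← map_pow, hi, map_one]⟩)
          rwa [huniq hx hyp (by rw [e, hΨ', hg])]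
        refine range_le_SL2 _ _ (fun t => ?_) fun t => ?_
        · refine key (PB * Ψ j (upper t) * PB⁻¹) ((isPElt_map_upper p (Ψ j) t).conj PB) ?_
          rw [map_mul, map_mul, map_inv, hΨ', hPB, hsl]; exact (hB t).1
        · refine key (PB * Ψ j (lower t) * PB⁻¹) ((isPElt_map_lower p (Ψ j) t).conj PB) ?_
          rw [map_mul, map_mul, map_inv, hΨ', hPB, hsl]; exact (hB t).2
      obtain ⟨g, hg⟩ := hrange ⟨wElt, rfl⟩
      change Ψ k g = PB * s j * PB⁻¹ at hg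
      have hgσ : ψ k g = σ PB * nEl ψ j * (σ PB)⁻¹ := by rw [← hΨ', hg, map_mul, map_mul, map_inv, hsn]
      have hPBN : σ PB ∈ monGrp H ψ := by
        rw [hPB, hsl]
        exact list_prod_mem fun x hx => by
          obtain ⟨i, -, rfl⟩ := List.mem_map.1 hx
          exact Subgroup.mem_sup_right (Subgroup.subset_closure ⟨i, rfl⟩)
      have hgN : ψ k g ∈ monGrp H ψ := by
        rw [hgσ]
        exact mul_mem (mul_mem hPBN (Subgroup.mem_sup_right (Subgroup.subset_closure ⟨j, rfl⟩))) (inv_mem hPBN)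
      rcases D.rankN k _ ⟨g, rfl⟩ hgN with h | h
      · exfalso
        have hnorm : ∀ m ∈ monGrp H ψ, m ∈ normalizer (H : Set G) := by
          refine sup_le (Subgroup.le_normalizer) ((Subgroup.closure_le _).2 ?_)
          rintro _ ⟨i, rfl⟩
          refine Subgroup.mem_normalizer_iff.2 fun x => ⟨D.n_conj_H i x, fun hx => ?_⟩
          let f : ↥H → ↥H := fun y => ⟨nEl ψ i * y * (nEl ψ i)⁻¹, D.n_conj_H i y y.2⟩
          have hf : Function.Injective f := fun a b h => by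
            have h' : nEl ψ i * a * (nEl ψ i)⁻¹ = nEl ψ i * b * (nEl ψ i)⁻¹ := congrArg Subtype.val h
            exact Subtype.ext (mul_left_cancel (mul_right_cancel h'))
          obtain ⟨⟨y, hy⟩, e⟩ := (Finite.injective_iff_surjective.1 hf) ⟨_, hx⟩
          have e' : nEl ψ i * y * (nEl ψ i)⁻¹ = nEl ψ i * x * (nEl ψ i)⁻¹ := congrArg Subtype.val e
          rwa [mul_left_cancel (mul_right_cancel e')] at hy
        have h1 := (Subgroup.mem_normalizer_iff.1 (hnorm _ (inv_mem hPBN)) _).1 h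
        rw [hgσ, inv_inv, show (σ PB)⁻¹ * (σ PB * nEl ψ j * (σ PB)⁻¹) * σ PB = nEl ψ j by group] at h1
        exact D.n_not j 1 (one_mem _) _ h1 (one_mul _).symm
      have hd : Ψ k g * (s k)⁻¹ ∈ Ĥ := hHrange k _ ⟨g * wElt⁻¹, by rw [map_mul, map_inv]⟩ (by
        rw [map_mul, map_inv, hΨ', hsn]; exact h)
      have hin : s k * Ψ k g ∈ Ĥ := by
        have := mul_mem (hs_conj k _ hd) (hs_sq k)
        rwa [show s k * (Ψ k g * (s k)⁻¹) * (s k)⁻¹ * (s k * s k) = s k * Ψ k g by group] at this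
      have e : ((A ++ k :: (B ++ j :: E)).map s).prod = PA * (s k * Ψ k g) * PA⁻¹ * ((A ++ (B ++ E)).map s).prod := by
        simp only [List.map_append, List.map_cons, List.prod_append, List.prod_cons, ← hPA, ← hPB, ← hPE, hg]
        group
      rw [e]
      refine mul_mem (hlist_conj A _ hin) (ih (A ++ (B ++ E)).length (by rw [← hl]; simp) _ rfl ?_)
      have h1 : σ (PA * (s k * Ψ k g) * PA⁻¹ * ((A ++ (B ++ E)).map s).prod) ∈ H := by rw [← e, hsl]; exact hlH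
      rw [map_mul] at h1
      have := mul_mem (inv_mem (hĤH _ (hlist_conj A _ hin))) h1
      rwa [inv_mul_cancel_left] at this
  -- the cells
  let Nset : Set Γ := {x | ∃ h ∈ Ĥ, ∃ l : List ι, x = h * (l.map s).prod}
  let C : Set Γ := {g | ∃ u ∈ Û, ∃ m ∈ Nset, ∃ u' ∈ Û, g = u * m * u'}
  have hNs : ∀ j, ∀ m ∈ Nset, s j * m ∈ Nset := by
    rintro j _ ⟨h, hh, l, rfl⟩
    exact ⟨s j * h * (s j)⁻¹, hs_conj j h hh, j :: l, by simp [mul_assoc]⟩
  have hNh : ∀ x ∈ Ĥ, ∀ m ∈ Nset, x * m ∈ Nset := by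
    rintro x hx _ ⟨h, hh, l, rfl⟩
    exact ⟨x * h, mul_mem hx hh, l, (mul_assoc _ _ _).symm⟩
  have hNmon : ∀ m ∈ Nset, σ m ∈ monGrp H ψ := by
    rintro _ ⟨h, hh, l, rfl⟩
    rw [map_mul, hsl]
    refine mul_mem (Subgroup.mem_sup_left (hĤH h hh)) (list_prod_mem fun x hx => ?_)
    obtain ⟨i, -, rfl⟩ := List.mem_map.1 hx
    exact Subgroup.mem_sup_right (Subgroup.subset_closure ⟨i, rfl⟩)
  have hCh : ∀ x ∈ Ĥ, ∀ g ∈ C, x * g ∈ C := by
    rintro x hx _ ⟨u, hu, m, hm, u', hu', rfl⟩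
    exact ⟨x * u * x⁻¹, hconj x u hu (D.H_conj_U _ (hĤH x hx) _ (hÛmap u hu)), x * m, hNh x hx m hm, u', hu', by group⟩
  have hCs : ∀ j, ∀ g ∈ C, s j * g ∈ C := by
    rintro j _ ⟨u, hu, m, hm, u', hu', rfl⟩
    obtain ⟨t, ht⟩ := D.split j _ (hÛmap u hu)
    set u₀ := u * X j t with hu₀
    have hu₀Û : u₀ ∈ Û := mul_mem hu (hX j t)
    have hu₁ : s j * u₀ * (s j)⁻¹ ∈ Û := hconj (s j) u₀ hu₀Û (by rw [hsn, hu₀, map_mul, hΨ']; exact ht)
    have hXneg : X j t * X j (-t) = 1 := by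
      show Ψ j (upper t) * Ψ j (upper (-t)) = 1
      rw [← map_mul, ← upper_add, add_neg_cancel, upper_zero, map_one]
    have e0 : s j * (u * m * u') = (s j * u₀ * (s j)⁻¹) * (s j * X j (-t) * m) * u' := by
      rw [hu₀]
      calc s j * (u * m * u') = s j * (u * (X j t * X j (-t))) * m * u' := by rw [hXneg]; group
        _ = _ := by group
    rw [e0]
    suffices h : ∀ a, ∃ v ∈ Û, ∃ m' ∈ Nset, ∃ v' ∈ Û, s j * X j a * m = v * m' * v' by
      obtain ⟨v, hv, m', hm', v', hv', e⟩ := h (-t)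
      exact ⟨_, mul_mem hu₁ hv, m', hm', _, mul_mem hv' hu', by rw [e]; group⟩
    intro a
    rcases D.sign j _ (hNmon m hm) with hpos | hpos
    · refine ⟨1, one_mem _, s j * m, hNs j m hm, m⁻¹ * X j a * m, ?_, by group⟩
      have := hconj m⁻¹ (X j a) (hX j a) (by rw [map_inv, inv_inv, hΨ']; exact hpos a)
      rwa [inv_inv] at this
    rcases eq_or_ne a 0 with rfl | ha
    · exact ⟨1, one_mem _, s j * m, hNs j m hm, 1, one_mem _, by
        show Ψ j wElt * Ψ j (upper 0) * m = _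
        rw [upper_zero, map_one, mul_one, one_mul, mul_one]⟩
    obtain ⟨b, d, c, e⟩ := lower_eq_big (-a) (neg_ne_zero.2 ha)
    have e1 : s j * X j a * (s j)⁻¹ = X j b * (Ψ j (dHom d) * s j) * X j c := by
      show Ψ j wElt * Ψ j (upper a) * (Ψ j wElt)⁻¹ = Ψ j (upper b) * (Ψ j (dHom d) * Ψ j wElt) * Ψ j (upper c)
      rw [← map_inv, ← map_mul, ← map_mul, ← map_mul, ← map_mul, ← map_mul, wElt_conj_upper, e]
    refine ⟨X j b, hX j b, Ψ j (dHom d) * (s j * (s j * m)), hNh _ (hdĤ j d) _ (hNs j _ (hNs j m hm)),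
      (s j * m)⁻¹ * X j c * (s j * m), ?_, ?_⟩
    · have := hconj (s j * m)⁻¹ (X j c) (hX j c) (by
        rw [map_inv, inv_inv, map_mul, hsn, hΨ']; exact hpos c)
      rwa [inv_inv] at this
    · calc s j * X j a * m = (s j * X j a * (s j)⁻¹) * (s j * m) := by group
        _ = _ := by rw [e1]; group
  have hCu : ∀ v ∈ Û, ∀ g ∈ C, v * g ∈ C := by
    rintro v hv _ ⟨u, hu, m, hm, u', hu', rfl⟩
    exact ⟨v * u, mul_mem hv hu, m, hm, u', hu', by group⟩
  -- generation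
  set M : Subgroup Γ := Û ⊔ Subgroup.closure (Set.range s) with hM
  have hMtop : M = ⊤ := by
    have hMG : ∀ a : G, a ∈ M.map σ := by
      intro a
      have hle : U ⊔ Subgroup.closure (Set.range (nEl ψ)) ≤ M.map σ := by
        refine sup_le (fun u hu => ?_) ((Subgroup.closure_le _).2 ?_)
        · obtain ⟨x, rfl⟩ := hs u
          obtain ⟨k, hk⟩ := D.pgroup ⟨_, hu⟩
          obtain ⟨y, -, hy, e⟩ := exists_isPElt_preimage (σ := σ) (p := p) (⊤ : Subgroup Γ) (Subgroup.mem_top x)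
            ⟨k, by simpa using congrArg Subtype.val hk⟩
          exact ⟨y, Subgroup.mem_sup_left (mem_pGen hy (e ▸ hu)), e⟩
        · rintro _ ⟨j, rfl⟩
          exact ⟨s j, Subgroup.mem_sup_right (Subgroup.subset_closure ⟨j, rfl⟩), hsn j⟩
      exact hle (D.gen ▸ Subgroup.mem_top a)
    set Γ₀ := pGen σ p ((⊤ : Subgroup G) : Set G)
    have h0 : Γ₀ ≤ M := pGen_le hc hA M fun a _ => hMG a
    have hsur : ∀ g : Γ, ∃ y ∈ Γ₀, y⁻¹ * g ∈ center Γ := by
      intro g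
      obtain ⟨y, hy, e⟩ : σ g ∈ Γ₀.map σ := le_map_pGen hs {g | IsPElt p g} D.closure_pElt
        (fun _ _ => Subgroup.mem_top _) (fun t ht => ht) (Subgroup.mem_top _)
      exact ⟨y, hy, hc (by rw [MonoidHom.mem_ker, map_mul, map_inv, e, inv_mul_cancel])⟩
    have hder : _root_.commutator Γ ≤ Γ₀ := by
      rw [_root_.commutator_def, Subgroup.commutator_le]
      intro a _ b _
      obtain ⟨y, hy, hz⟩ := hsur a
      obtain ⟨y', hy', hz'⟩ := hsur b
      rw [← mul_inv_cancel_left y a, ← mul_inv_cancel_left y' b, commutatorElement_mul_central y y' hz hz',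
        commutatorElement_def]
      exact mul_mem (mul_mem (mul_mem hy hy') (inv_mem hy)) (inv_mem hy')
    refine eq_top_iff.2 fun g _ => h0 ?_
    obtain ⟨y, hy, e⟩ : σ g ∈ Γ₀.map σ := le_map_pGen hs {g | IsPElt p g} D.closure_pElt
      (fun _ _ => Subgroup.mem_top _) (fun t ht => ht) (Subgroup.mem_top _)
    rw [← mul_inv_cancel_left y g]
    exact mul_mem hy (hder (hσ.2.2 (by rw [MonoidHom.mem_ker, map_mul, map_inv, e, inv_mul_cancel])))
  have hC : ∀ g : Γ, g ∈ C := by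
    have hsinv : ∀ j, ∀ g ∈ C, (s j)⁻¹ * g ∈ C := by
      intro j g hg
      have := hCh _ (inv_mem (hs_sq j)) _ (hCs j g hg)
      rwa [show (s j * s j)⁻¹ * (s j * g) = (s j)⁻¹ * g by group] at this
    have key : ∀ g ∈ M, ∀ c ∈ C, g * c ∈ C ∧ g⁻¹ * c ∈ C := by
      intro g hg
      rw [hM, ← Subgroup.closure_eq Û, ← Subgroup.closure_union] at hg
      induction hg using Subgroup.closure_induction with
      | mem x hx =>
        intro c hc'
        rcases hx with hx | ⟨j, rfl⟩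
        · exact ⟨hCu x hx c hc', hCu _ (inv_mem hx) c hc'⟩
        · exact ⟨hCs j c hc', hsinv j c hc'⟩
      | one => intro c hc'; simpa using hc'
      | mul a b _ _ ha hb =>
        intro c hc'
        refine ⟨?_, ?_⟩
        · rw [mul_assoc]; exact (ha _ (hb c hc').1).1
        · rw [mul_inv_rev, mul_assoc]; exact (hb _ (ha c hc').2).2
      | inv a _ ha => intro c hc'; exact ⟨(ha c hc').2, by rw [inv_inv]; exact (ha c hc').1⟩
    intro g
    have h1 : (1 : Γ) ∈ C := ⟨1, one_mem _, 1, ⟨1, one_mem _, [], by simp⟩, 1, one_mem _, by simp⟩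
    have := (key g (hMtop ▸ Subgroup.mem_top g) 1 h1).1
    rwa [mul_one] at this
  -- the kernel lies in the torus
  have hker : σ.ker ≤ Ĥ := by
    intro z hz
    obtain ⟨u, hu, m, hm, u', hu', e⟩ := hC z
    have hm1 : σ m = 1 := by
      have h1 : σ m ∈ U ⊓ monGrp H ψ := by
        refine ⟨?_, hNmon m hm⟩
        have h2 : σ m = (σ u)⁻¹ * (σ u')⁻¹ := by
          have : σ u * σ m * σ u' = 1 := by rw [← map_mul, ← map_mul, ← e]; exact hz
          calc σ m = (σ u)⁻¹ * (σ u * σ m * σ u') * (σ u')⁻¹ := by group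
            _ = _ := by rw [this, mul_one]
        show σ m ∈ U
        rw [h2]
        exact mul_mem (inv_mem (hÛmap u hu)) (inv_mem (hÛmap u' hu'))
      rwa [D.U_inf_N, Subgroup.mem_bot] at h1
    have hmc : ∀ g, g * m = m * g := fun g => Subgroup.mem_center_iff.1 (hc hm1) g
    have h3 : z = m * (u * u') := by rw [e, hmc u, mul_assoc]
    have h4 : u * u' = 1 := hÛker _ (mul_mem hu hu') (by
      have := congrArg σ h3
      rwa [map_mul σ m, hm1, one_mul, MonoidHom.mem_ker.1 hz, eq_comm] at this)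
    rw [h3, h4, mul_one]
    obtain ⟨h, hh, l, rfl⟩ := hm
    refine mul_mem hh (hshort l.length l rfl ?_)
    rw [map_mul] at hm1
    rw [eq_inv_of_mul_eq_one_right hm1]
    exact inv_mem (hĤH h hh)
  -- the bound
  letI : Fintype ι := Fintype.ofFinite ι
  let Θ : (∀ j, (R j)ˣ) →* Γ := MonoidHom.noncommPiCoprod (fun j => (Ψ j).comp dHom) (fun i j _ a b =>
    hfixd _ (by show σ (Ψ i (dHom a)) ∈ H; rw [hΨ']; exact D.diag_mem i a) _ (hdĤ j b))
  have hΘ : Θ.range = Ĥ := MonoidHom.noncommPiCoprod_range _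
  have hcomp : σ.comp Θ = θ := by
    refine MonoidHom.pi_ext fun j a => ?_
    rw [MonoidHom.comp_apply, hθ]
    refine Eq.trans (congrArg σ (MonoidHom.noncommPiCoprod_mulSingle (N := fun j => (R j)ˣ)
      (ϕ := fun j => (Ψ j).comp dHom) j a)) ?_
    exact hΨ' j _
  let f : θ.ker → σ.ker := fun x => ⟨Θ x, by
    rw [MonoidHom.mem_ker, ← MonoidHom.comp_apply, hcomp]; exact x.2⟩
  refine Nat.card_le_card_of_surjective f fun z => ?_
  obtain ⟨x, hx⟩ : (z : Γ) ∈ Θ.range := hΘ ▸ hker z.2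
  refine ⟨⟨x, ?_⟩, Subtype.ext hx⟩
  rw [MonoidHom.mem_ker, ← hcomp, MonoidHom.comp_apply, hx]
  exact z.2

end RankOnes

end Cfsg.Agent.Lib.Schur.TwistLift
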