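import Mathlib

/-!
A complement of the kernel in the preimage of a nilpotent subgroup: root groups with a torus separating them.
-/

set_option autoImplicit false

namespace Cfsg.Agent.Lib.Schur.TwistLift

open Subgroup
open scoped commutatorElement

variable {Γ G : Type*} [Group Γ] [Group G]

/-- The subgroups `V i` with `i < k`. -/
def below (V : ℕ → Subgroup G) (k : ℕ) : Subgroup G := ⨆ i, ⨆ _ : i < k, V i

theorem le_below (V : ℕ → Subgroup G) {i k : ℕ} (h : i < k) : V i ≤ below V k :=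
  le_iSup₂ (f := fun i (_ : i < k) => V i) i h

theorem below_succ (V : ℕ → Subgroup G) (k : ℕ) : below V (k + 1) = below V k ⊔ V k := by
  refine le_antisymm (iSup₂_le fun i hi => ?_) (sup_le (iSup₂_le fun i hi => le_below V (hi.trans_le k.le_succ))
    (le_below V k.lt_succ_self))
  rcases Nat.lt_or_ge i k with h | h
  · exact (le_below V h).trans le_sup_left
  · obtain rfl : i = k := by omega
    exact le_sup_right

theorem below_zero (V : ℕ → Subgroup G) : below V 0 = ⊥ :=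
  le_bot_iff.1 (iSup₂_le fun i hi => absurd hi (Nat.not_lt_zero i))

theorem below_map {σ : Γ →* G} (Q : ℕ → Subgroup Γ) (V : ℕ → Subgroup G) (k : ℕ)
    (h : ∀ i < k, (Q i).map σ = V i) : (below Q k).map σ = below V k := by
  induction k with
  | zero => rw [below_zero, below_zero, Subgroup.map_bot]
  | succ k ih =>
    rw [below_succ, below_succ, Subgroup.map_sup, ih fun i hi => h i (hi.trans k.lt_succ_self), h k k.lt_succ_self]

/-- Layers of `U` with a set `T` of commuting elements separating them. -/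
structure Layers (U : Subgroup G) (N : ℕ) (V : ℕ → Subgroup G) (T : Set G) : Prop where
  gen : U ≤ below V N
  disj : ∀ k < N, V k ⊓ below V k = ⊥
  central : ∀ j < N, ∀ k < N, ∀ g ∈ V j, ∀ v ∈ V k, ⁅g, v⁆ ∈ below V k
  tnorm : ∀ t ∈ T, ∀ k < N, ∀ v ∈ V k, t * v * t⁻¹ ∈ V k
  tcomm : ∀ s ∈ T, ∀ t ∈ T, Commute s t
  fpf : ∀ k < N, ∃ t ∈ T, ∀ v ∈ V k, t * v * t⁻¹ = v → v = 1
  kill : ∀ j < N, ∀ k < j, ∃ t ∈ T,
    ((∀ v ∈ V j, t * v * t⁻¹ = v) ∧ ∀ v ∈ V k, t * v * t⁻¹ = v → v = 1) ∨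
    ((∀ v ∈ V k, t * v * t⁻¹ = v) ∧ ∀ v ∈ V j, t * v * t⁻¹ = v → v = 1)

/-- The elements `g x g⁻¹ x⁻¹`, as a subgroup when the `x` commute. -/
def twSub (σ : Γ →* G) (A : Subgroup G) (g : Γ) (hg : ∀ x, σ x ∈ A → σ (g * x * g⁻¹) ∈ A)
    (hab : ∀ x y, σ x ∈ A → σ y ∈ A → Commute x y) : Subgroup Γ where
  carrier := {z | ∃ x, σ x ∈ A ∧ z = g * x * g⁻¹ * x⁻¹}
  one_mem' := ⟨1, by simp, by simp⟩
  mul_mem' := by
    rintro _ _ ⟨x, hx, rfl⟩ ⟨y, hy, rfl⟩
    refine ⟨x * y, by rw [map_mul]; exact mul_mem hx hy, ?_⟩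
    have h1 : Commute x⁻¹ (g * y * g⁻¹ * y⁻¹) :=
      hab _ _ (by rw [map_inv]; exact inv_mem hx) (by rw [map_mul, map_inv]; exact mul_mem (hg y hy) (inv_mem hy))
    calc g * x * g⁻¹ * x⁻¹ * (g * y * g⁻¹ * y⁻¹)
        = g * x * g⁻¹ * (x⁻¹ * (g * y * g⁻¹ * y⁻¹)) := by group
      _ = _ := by rw [h1.eq]; group
  inv_mem' := by
    rintro _ ⟨x, hx, rfl⟩
    refine ⟨x⁻¹, by rw [map_inv]; exact inv_mem hx, ?_⟩
    have h1 : Commute x (g * x⁻¹ * g⁻¹) :=
      hab _ _ hx (hg _ (by rw [map_inv]; exact inv_mem hx))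
    rw [inv_inv, ← h1.eq]
    group

section Kill

variable {M : Subgroup Γ}

/-- One torus element fixing `x` and moving `y`. -/
theorem kill_step {τ x y z : Γ} (hz : z ∈ center Γ) (hM : ∀ w ∈ ({τ, x, y} : Set Γ), w ∈ normalizer (M : Set Γ))
    (hx : τ * x * τ⁻¹ = x) (hc : ⁅x, y⁆ * z⁻¹ ∈ M) : ⁅x, τ * y * τ⁻¹ * y⁻¹⁆ ∈ M := by
  have hn : ∀ w ∈ normalizer (M : Set Γ), ∀ m ∈ M, w * m * w⁻¹ ∈ M := fun w hw m hm =>
    (Subgroup.mem_normalizer_iff.1 hw m).1 hm
  have hzc : ∀ g, g * z * g⁻¹ = z := fun g => by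
    rw [Subgroup.mem_center_iff.1 hz g, mul_inv_cancel_right]
  set m := ⁅x, y⁆ * z⁻¹ with hm
  have e : ⁅x, y⁆ = m * z := by rw [hm, inv_mul_cancel_right]
  set b := τ * y * τ⁻¹ with hb
  have e1 : ⁅x, b⁆ = τ * m * τ⁻¹ * z := by
    calc ⁅x, b⁆ = τ * ⁅x, y⁆ * τ⁻¹ := by
          rw [hb]; conv_lhs => rw [← hx]
          simp only [commutatorElement_def]; group
      _ = τ * m * τ⁻¹ * (τ * z * τ⁻¹) := by rw [e]; group
      _ = _ := by rw [hzc]
  have e2 : ⁅x, y⁻¹⁆ = z⁻¹ * (y⁻¹ * m⁻¹ * y) := by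
    calc ⁅x, y⁻¹⁆ = y⁻¹ * ⁅x, y⁆⁻¹ * y := by simp only [commutatorElement_def]; group
      _ = y⁻¹ * z⁻¹ * m⁻¹ * y := by rw [e]; group
      _ = _ := by
        rw [Subgroup.mem_center_iff.1 (inv_mem hz) y⁻¹]; group
  have e3 : ⁅x, b * y⁻¹⁆ = τ * m * τ⁻¹ * (b * (y⁻¹ * m⁻¹ * y) * b⁻¹) := by
    calc ⁅x, b * y⁻¹⁆ = ⁅x, b⁆ * (b * ⁅x, y⁻¹⁆ * b⁻¹) := by simp only [commutatorElement_def]; group
      _ = τ * m * τ⁻¹ * (z * (b * z⁻¹ * b⁻¹)) * (b * (y⁻¹ * m⁻¹ * y) * b⁻¹) := by rw [e1, e2]; group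
      _ = _ := by
        rw [Subgroup.mem_center_iff.1 (inv_mem hz) b, mul_inv_cancel_right, mul_inv_cancel, mul_one]
  rw [e3]
  have hτ := hM τ (by simp)
  have hy := hM y (by simp)
  have hbn : b ∈ normalizer (M : Set Γ) := mul_mem (mul_mem hτ hy) (inv_mem hτ)
  refine mul_mem (hn τ hτ m hc) (hn b hbn _ ?_)
  have := hn y⁻¹ (inv_mem hy) m⁻¹ (inv_mem hc)
  rwa [inv_inv] at this

end Kill

namespace Layers

variable {U : Subgroup G} {N : ℕ} {V : ℕ → Subgroup G} {T : Set G} (L : Layers U N V T)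
include L

/-- The kernel meets the commutator of the preimage of `U` trivially. -/
theorem commutator_inf_ker [Finite G] {σ : Γ →* G} (hs : Function.Surjective σ) (hc : σ.ker ≤ center Γ)
    (hab : ∀ k < N, ∀ x y, σ x ∈ V k → σ y ∈ V k → Commute x y) :
    ⁅U.comap σ, U.comap σ⁆ ⊓ σ.ker = ⊥ := by
  classical
  have hcen : ∀ z, σ z = 1 → ∀ g : Γ, g * z * g⁻¹ = z := fun z hz g => by
    rw [Subgroup.mem_center_iff.1 (hc hz) g, mul_inv_cancel_right]
  have habV : ∀ k < N, ∀ a ∈ V k, ∀ b ∈ V k, Commute a b := by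
    intro k hk a ha b hb
    obtain ⟨x, rfl⟩ := hs a
    obtain ⟨y, rfl⟩ := hs b
    exact (hab k hk x y ha hb).map σ
  choose tk htk hfix using L.fpf
  let gk : ∀ k, k < N → Γ := fun k hk => Function.surjInv hs (tk k hk)
  have hgk : ∀ k hk, σ (gk k hk) = tk k hk := fun k hk => Function.surjInv_eq hs _
  have hnorm : ∀ k hk x, σ x ∈ V k → σ (gk k hk * x * (gk k hk)⁻¹) ∈ V k := fun k hk x hx => by
    rw [map_mul, map_mul, map_inv, hgk]; exact L.tnorm _ (htk k hk) k hk _ hx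
  let Q : ℕ → Subgroup Γ := fun k => if hk : k < N then
    twSub σ (V k) (gk k hk) (hnorm k hk) (hab k hk) else ⊥
  have hQ : ∀ {k} (hk : k < N) {z : Γ}, z ∈ Q k ↔
      ∃ x, σ x ∈ V k ∧ z = gk k hk * x * (gk k hk)⁻¹ * x⁻¹ := fun {k} hk {z} => by
    simp only [Q, dif_pos hk]; rfl
  have hQV : ∀ {k}, k < N → ∀ {z}, z ∈ Q k → σ z ∈ V k := fun {k} hk {z} hz => by
    obtain ⟨x, hx, rfl⟩ := (hQ hk).1 hz
    rw [map_mul, map_inv]
    exact mul_mem (hnorm k hk x hx) (inv_mem hx)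
  have hQker : ∀ {k}, k < N → ∀ {z}, z ∈ Q k → σ z = 1 → z = 1 := fun {k} hk {z} hz h1 => by
    obtain ⟨x, hx, rfl⟩ := (hQ hk).1 hz
    have hx1 : σ x = 1 := hfix k hk _ hx (by
      rwa [map_mul, map_mul, map_mul, map_inv, map_inv, hgk, mul_inv_eq_one] at h1)
    rw [hcen x hx1, mul_inv_cancel]
  have hmove : ∀ {k}, k < N → ∀ t : G, t ∈ T → (∀ v ∈ V k, t * v * t⁻¹ = v → v = 1) → ∀ v ∈ V k,
      ∃ w ∈ V k, t * w * t⁻¹ * w⁻¹ = v := by
    intro k hk t ht hf v hv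
    let f : ↥(V k) → ↥(V k) := fun w => ⟨t * w * t⁻¹ * (w : G)⁻¹, mul_mem (L.tnorm t ht k hk w w.2) (inv_mem w.2)⟩
    have hinj : Function.Injective f := by
      intro a b h
      have h' : t * a * t⁻¹ * (a : G)⁻¹ = t * b * t⁻¹ * (b : G)⁻¹ := congrArg Subtype.val h
      have h1 : (b : G)⁻¹ * a = 1 := hf _ (mul_mem (inv_mem b.2) a.2) (by
        calc t * ((b : G)⁻¹ * a) * t⁻¹
            = (t * (b : G) * t⁻¹)⁻¹ * (t * a * t⁻¹ * (a : G)⁻¹) * a := by group
          _ = _ := by rw [h']; group)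
      exact Subtype.ext (inv_mul_eq_one.1 h1).symm
    obtain ⟨w, hw⟩ := (Finite.injective_iff_surjective.1 hinj) ⟨v, hv⟩
    exact ⟨w, w.2, congrArg Subtype.val hw⟩
  have hQmap : ∀ k < N, (Q k).map σ = V k := by
    intro k hk
    refine le_antisymm (fun v hv => ?_) fun v hv => ?_
    · obtain ⟨z, hz, rfl⟩ := hv; exact hQV hk hz
    · obtain ⟨w, hw, e⟩ := hmove hk _ (htk k hk) (hfix k hk) v hv
      obtain ⟨x, rfl⟩ := hs w
      exact ⟨_, (hQ hk).2 ⟨x, hw, rfl⟩, by rw [map_mul, map_mul, map_mul, map_inv, map_inv, hgk]; exact e⟩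
  have hQinj : ∀ {k}, k < N → ∀ {a b}, a ∈ Q k → b ∈ Q k → σ a = σ b → a = b := fun {k} hk {a b} ha hb h =>
    inv_mul_eq_one.1 (hQker hk (mul_mem (inv_mem ha) hb) (by rw [map_mul, map_inv, h, inv_mul_cancel]))
  have hQconj : ∀ {k}, k < N → ∀ τ, σ τ ∈ T → ∀ z ∈ Q k, τ * z * τ⁻¹ ∈ Q k := by
    intro k hk τ hτ z hz
    obtain ⟨x, hx, rfl⟩ := (hQ hk).1 hz
    refine (hQ hk).2 ⟨τ * x * τ⁻¹, by rw [map_mul, map_mul, map_inv]; exact L.tnorm _ hτ k hk _ hx, ?_⟩
    set g := gk k hk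
    set c := (g * τ)⁻¹ * (τ * g) with hc'
    have hc1 : σ c = 1 := by
      rw [hc', map_mul, map_inv, map_mul, map_mul, hgk, (L.tcomm _ hτ _ (htk k hk)).eq, inv_mul_cancel]
    calc τ * (g * x * g⁻¹ * x⁻¹) * τ⁻¹ = g * τ * (c * x * c⁻¹) * τ⁻¹ * g⁻¹ * (τ * x * τ⁻¹)⁻¹ := by
          rw [hc']; group
      _ = _ := by
        rw [show c * x * c⁻¹ = x by rw [← Subgroup.mem_center_iff.1 (hc hc1) x, mul_inv_cancel_right]]
        group
  -- the complement, layer by layer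
  have main : ∀ n ≤ N, below Q n ⊓ σ.ker = ⊥ ∧
      (∀ j < N, Q j ≤ normalizer (below Q n : Set Γ)) ∧
      ∀ τ, σ τ ∈ T → τ ∈ normalizer (below Q n : Set Γ) := by
    intro n hn
    induction n with
    | zero =>
      have hb : normalizer ((⊥ : Subgroup Γ) : Set Γ) = ⊤ := by
        refine eq_top_iff.2 fun g _ => Subgroup.mem_normalizer_iff.2 fun h => ?_
        simp only [Subgroup.mem_bot]
        exact conj_eq_one_iff.symm
      rw [below_zero, bot_inf_eq, hb]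
      exact ⟨rfl, fun _ _ => le_top, fun _ _ => Subgroup.mem_top _⟩
    | succ n ih =>
      have hn' : n < N := hn
      obtain ⟨ih1, ih2, ih3⟩ := ih (by omega)
      set M := below Q n with hM
      have hcomm : ∀ j < N, ∀ y ∈ Q j, ∀ x ∈ Q n, ⁅y, x⁆ ∈ M := by
        intro j hj
        rcases lt_trichotomy j n with h | rfl | h
        · intro y hy x hx
          have hyM : y ∈ M := le_below Q h hy
          rw [commutatorElement_def, mul_assoc y x, mul_assoc y]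
          exact mul_mem hyM ((Subgroup.mem_normalizer_iff.1 (ih2 n hn' hx) _).1 (inv_mem hyM))
        · intro y hy x hx
          rw [commutatorElement_eq_one_iff_mul_comm.2 (hab j hj y x (hQV hj hy) (hQV hj hx)).eq]
          exact one_mem _
        have hz : ∀ y ∈ Q j, ∀ x ∈ Q n, ∃ z ∈ center Γ, ⁅y, x⁆ * z⁻¹ ∈ M := by
          intro y hy x hx
          have h1 : σ ⁅y, x⁆ ∈ M.map σ := by
            rw [hM, below_map Q V n fun i hi => hQmap i (hi.trans hn'), map_commutatorElement]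
            exact L.central j hj n hn' _ (hQV hj hy) _ (hQV hn' hx)
          obtain ⟨m, hm, e⟩ := h1
          have hz : m⁻¹ * ⁅y, x⁆ ∈ center Γ := hc (by rw [MonoidHom.mem_ker, map_mul, map_inv, e, inv_mul_cancel])
          refine ⟨_, hz, ?_⟩
          rw [mul_inv_rev, inv_inv, ← mul_assoc, mul_inv_cancel, one_mul]
          exact hm
        obtain ⟨t, ht, hk⟩ := L.kill j hj n h
        obtain ⟨τ, rfl⟩ := hs t
        rcases hk with ⟨hfixj, hmvn⟩ | ⟨hfixn, hmvj⟩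
        · intro y hy x hx
          obtain ⟨w, hw, e⟩ := hmove hn' _ ht hmvn _ (hQV hn' hx)
          obtain ⟨x', hx', rfl⟩ := (show w ∈ (Q n).map σ by rw [hQmap n hn']; exact hw)
          obtain ⟨z, hz', hzm⟩ := hz y hy x' hx'
          have e1 : x = τ * x' * τ⁻¹ * x'⁻¹ := hQinj hn' hx (mul_mem (hQconj hn' τ ht x' hx') (inv_mem hx'))
            (by rw [map_mul, map_mul, map_mul, map_inv, map_inv]; exact e.symm)
          have e2 : τ * y * τ⁻¹ = y := hQinj hj (hQconj hj τ ht y hy) hy (by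
            rw [map_mul, map_mul, map_inv]; exact hfixj _ (hQV hj hy))
          rw [e1]
          refine kill_step hz' ?_ e2 hzm
          rintro u (rfl | rfl | rfl)
          exacts [ih3 _ ht, ih2 j hj hy, ih2 n hn' hx']
        · intro y hy x hx
          obtain ⟨w, hw, e⟩ := hmove hj _ ht hmvj _ (hQV hj hy)
          obtain ⟨y', hy', rfl⟩ := (show w ∈ (Q j).map σ by rw [hQmap j hj]; exact hw)
          obtain ⟨z, hz', hzm⟩ := hz y' hy' x hx
          have e1 : y = τ * y' * τ⁻¹ * y'⁻¹ := hQinj hj hy (mul_mem (hQconj hj τ ht y' hy') (inv_mem hy'))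
            (by rw [map_mul, map_mul, map_mul, map_inv, map_inv]; exact e.symm)
          have e2 : τ * x * τ⁻¹ = x := hQinj hn' (hQconj hn' τ ht x hx) hx (by
            rw [map_mul, map_mul, map_inv]; exact hfixn _ (hQV hn' hx))
          rw [e1, ← commutatorElement_inv x]
          refine inv_mem (kill_step (inv_mem hz') ?_ e2 ?_)
          · rintro u (rfl | rfl | rfl)
            exacts [ih3 _ ht, ih2 n hn' hx, ih2 j hj hy']
          · rw [← commutatorElement_inv y' x, inv_inv]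
            have h1 := inv_mem hzm
            rw [mul_inv_rev, inv_inv, ← Subgroup.mem_center_iff.1 hz' ⁅y', x⁆⁻¹] at h1
            exact h1
      have hstep : ∀ w : Γ, w ∈ normalizer (M : Set Γ) → (∀ x ∈ Q n, w * x * w⁻¹ ∈ M ⊔ Q n) →
          ∀ g ∈ M ⊔ Q n, w * g * w⁻¹ ∈ M ⊔ Q n := by
        intro w hw hwQ g hg
        refine (sup_le (fun m hm => ?_) (fun x hx => ?_) :
          M ⊔ Q n ≤ (M ⊔ Q n).comap (MulAut.conj w).toMonoidHom) hg
        · exact Subgroup.mem_sup_left ((Subgroup.mem_normalizer_iff.1 hw m).1 hm)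
        · exact hwQ x hx
      have hnm : ∀ w : Γ, w ∈ normalizer (M : Set Γ) → (∀ x ∈ Q n, w * x * w⁻¹ ∈ M ⊔ Q n) →
          (∀ x ∈ Q n, w⁻¹ * x * w ∈ M ⊔ Q n) → w ∈ normalizer ((M ⊔ Q n : Subgroup Γ) : Set Γ) := by
        intro w hw h1 h2
        refine Subgroup.mem_normalizer_iff.2 fun g => ⟨hstep w hw h1 g, fun hg => ?_⟩
        have := hstep w⁻¹ (inv_mem hw) (fun x hx => by rw [inv_inv]; exact h2 x hx) _ hg
        rwa [inv_inv, show w⁻¹ * (w * g * w⁻¹) * w = g by group] at this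
      rw [below_succ, ← hM]
      refine ⟨?_, fun j hj w hw => ?_, fun τ hτ => ?_⟩
      · rw [eq_bot_iff]
        rintro g ⟨hg, hgk'⟩
        obtain ⟨m, hm, x, hx, rfl⟩ : ∃ m ∈ M, ∃ x ∈ Q n, m * x = g := by
          have : g ∈ ((M ⊔ Q n : Subgroup Γ) : Set Γ) := hg
          rw [Subgroup.coe_mul_of_right_le_normalizer_left M (Q n) (ih2 n hn')] at this
          exact Set.mem_mul.1 this
        have h1 : σ x ∈ V n ⊓ below V n := by
          refine ⟨hQV hn' hx, ?_⟩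
          rw [← below_map Q V n fun i hi => hQmap i (hi.trans hn'), ← hM,
            show σ x = σ m⁻¹ by
              have h2 : σ m * σ x = 1 := by rw [← map_mul]; exact hgk'
              rw [map_inv]; exact eq_inv_of_mul_eq_one_right h2]
          exact ⟨_, inv_mem hm, rfl⟩
        rw [L.disj n hn', Subgroup.mem_bot] at h1
        obtain rfl := hQker hn' hx h1
        rw [mul_one] at hgk' ⊢
        exact ih1.le ⟨hm, hgk'⟩
      · have key : ∀ v ∈ Q j, ∀ x ∈ Q n, v * x * v⁻¹ ∈ M ⊔ Q n := fun v hv x hx => by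
          rw [show v * x * v⁻¹ = ⁅v, x⁆ * x by simp only [commutatorElement_def]; group]
          exact mul_mem (Subgroup.mem_sup_left (hcomm j hj v hv x hx)) (Subgroup.mem_sup_right hx)
        refine hnm w (ih2 j hj hw) (key w hw) fun x hx => ?_
        have := key w⁻¹ (inv_mem hw) x hx
        rwa [inv_inv] at this
      · refine hnm τ (ih3 τ hτ) (fun x hx => Subgroup.mem_sup_right (hQconj hn' τ hτ x hx)) fun x hx => ?_
        let f : ↥(V n) → ↥(V n) := fun v => ⟨σ τ * v * (σ τ)⁻¹, L.tnorm _ hτ n hn' v v.2⟩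
        have hf : Function.Injective f := fun a b h => by
          have h' : σ τ * a * (σ τ)⁻¹ = σ τ * b * (σ τ)⁻¹ := congrArg Subtype.val h
          exact Subtype.ext (mul_left_cancel (mul_right_cancel h'))
        obtain ⟨⟨w, hw⟩, ew⟩ := (Finite.injective_iff_surjective.1 hf) ⟨σ x, hQV hn' hx⟩
        obtain ⟨x', hx', rfl⟩ := (show w ∈ (Q n).map σ by rw [hQmap n hn']; exact hw)
        have e : τ * x' * τ⁻¹ = x := hQinj hn' (hQconj hn' τ hτ x' hx') hx (by
          rw [map_mul, map_mul, map_inv]; exact congrArg Subtype.val ew)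
        rw [← e, show τ⁻¹ * (τ * x' * τ⁻¹) * τ = x' by group]
        exact Subgroup.mem_sup_right hx'
  obtain ⟨hMker, hMnorm, -⟩ := main N le_rfl
  set M := below Q N with hM
  have hMmap : M.map σ = below V N := below_map Q V N hQmap
  have hP : ∀ g ∈ U.comap σ, ∃ m ∈ M, m⁻¹ * g ∈ center Γ := by
    intro g hg
    obtain ⟨m, hm, e⟩ : σ g ∈ M.map σ := hMmap ▸ L.gen hg
    exact ⟨m, hm, hc (by rw [MonoidHom.mem_ker, map_mul, map_inv, e, inv_mul_cancel])⟩
  have hle : ⁅U.comap σ, U.comap σ⁆ ≤ M := by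
    rw [Subgroup.commutator_le]
    intro a ha b hb
    obtain ⟨m, hm, hz⟩ := hP a ha
    obtain ⟨m', hm', hz'⟩ := hP b hb
    rw [← mul_inv_cancel_left m a, ← mul_inv_cancel_left m' b]
    generalize m⁻¹ * a = z at hz
    generalize m'⁻¹ * b = z' at hz'
    have e : ⁅m * z, m' * z'⁆ = ⁅m, m'⁆ := by
      have c1 := Subgroup.mem_center_iff.1 hz
      have c2 := Subgroup.mem_center_iff.1 hz'
      simp only [commutatorElement_def, mul_inv_rev]
      calc m * z * (m' * z') * (z⁻¹ * m⁻¹) * (z'⁻¹ * m'⁻¹)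
          = m * (z * (m' * z') * z⁻¹) * m⁻¹ * (z'⁻¹ * m'⁻¹) := by group
        _ = m * m' * (z' * m⁻¹ * z'⁻¹) * m'⁻¹ := by rw [← c1 (m' * z')]; group
        _ = _ := by rw [← c2 m⁻¹]; group
    rw [e, commutatorElement_def]
    exact mul_mem (mul_mem (mul_mem hm hm') (inv_mem hm)) (inv_mem hm')
  exact le_bot_iff.1 ((inf_le_inf_right _ hle).trans hMker.le)

end Layers

end Cfsg.Agent.Lib.Schur.TwistLift
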