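import Cfsg.Agent.Lib.Schur.TwistPair
import Cfsg.Agent.Lib.Schur.Sylow
import Cfsg.Agent.Lib.Twisted.Aut.Basic
import Cfsg.Agent.Lib.Twisted.Core.D4Group

/-!
The unipotent subgroup of `³D₄(q)`, `q ≥ 3`: its preimage in a stem extension has derived subgroup meeting the
kernel trivially.
-/

set_option autoImplicit false
set_option maxRecDepth 4000

namespace Cfsg.Agent.Lib.Schur.TwistD4P

open Cfsg.Lie Cfsg.Agent.Lib.Chev Cfsg.Agent.Lib.Twisted Cfsg.Agent.Lib.Twisted.Core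
open Cfsg.Agent.Lib.Schur.TwistLift
open scoped Matrix commutatorElement

section Abstract

variable {Γ G : Type*} [Group Γ] [Group G] {σ : Γ →* G}

/-- An invariant alternating pairing on an abelian group with scalars `s`, `1 - s` and an inverse of
`s⁻¹ + s - 1` vanishes. -/
theorem commute_of_relations (hs : Function.Surjective σ) (hc : σ.ker ≤ Subgroup.center Γ) (V : Subgroup G)
    (hab : ∀ a ∈ V, ∀ b ∈ V, Commute a b) (t₁ t₂ t₃ : G)
    (hn1 : ∀ v ∈ V, t₁ * v * t₁⁻¹ ∈ V) (hn1' : ∀ v ∈ V, t₁⁻¹ * v * t₁ ∈ V) (hn2 : ∀ v ∈ V, t₂ * v * t₂⁻¹ ∈ V)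
    (hn3 : ∀ v ∈ V, t₃ * v * t₃⁻¹ ∈ V)
    (h12 : ∀ v ∈ V, t₁ * v * t₁⁻¹ * (t₂ * v * t₂⁻¹) = v)
    (h3 : ∀ v ∈ V, t₁⁻¹ * (t₃ * v * t₃⁻¹) * t₁ * (t₁ * (t₃ * v * t₃⁻¹) * t₁⁻¹) * (t₃ * v * t₃⁻¹)⁻¹ = v) :
    ∀ x y, σ x ∈ V → σ y ∈ V → Commute x y := by
  obtain ⟨a, rfl⟩ := hs t₁
  obtain ⟨b, rfl⟩ := hs t₂
  obtain ⟨c, rfl⟩ := hs t₃
  have hz : ∀ {x y : Γ}, σ x ∈ V → σ y ∈ V → ∀ g, Commute g ⁅x, y⁆ := fun {x y} hx hy g =>
    Subgroup.mem_center_iff.1 (hc (by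
      rw [MonoidHom.mem_ker, map_commutatorElement, commutatorElement_eq_one_iff_mul_comm]
      exact (hab _ hx _ hy).eq)) g
  have congrL : ∀ {x x' : Γ} (y : Γ), σ x = σ x' → ⁅x, y⁆ = ⁅x', y⁆ := fun {x x'} y h => by
    have hk : x'⁻¹ * x ∈ Subgroup.center Γ := hc (by rw [MonoidHom.mem_ker, map_mul, map_inv, h, inv_mul_cancel])
    calc ⁅x, y⁆ = x' * ((x'⁻¹ * x) * y * (x'⁻¹ * x)⁻¹) * x'⁻¹ * y⁻¹ := by simp only [commutatorElement_def]; group
      _ = _ := by rw [← Subgroup.mem_center_iff.1 hk y, mul_inv_cancel_right, commutatorElement_def]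
  have mulL : ∀ {x x' y : Γ}, σ x ∈ V → σ x' ∈ V → σ y ∈ V → ⁅x * x', y⁆ = ⁅x, y⁆ * ⁅x', y⁆ := fun {x x' y} hx hx' hy => by
    rw [show ⁅x * x', y⁆ = x * ⁅x', y⁆ * x⁻¹ * ⁅x, y⁆ by simp only [commutatorElement_def]; group,
      (hz hx' hy x).eq, mul_inv_cancel_right]
    exact (hz hx' hy _).symm.eq
  have mulR : ∀ {x y y' : Γ}, σ x ∈ V → σ y ∈ V → σ y' ∈ V → ⁅x, y * y'⁆ = ⁅x, y⁆ * ⁅x, y'⁆ := fun {x y y'} hx hy hy' => by
    rw [show ⁅x, y * y'⁆ = ⁅x, y⁆ * (y * ⁅x, y'⁆ * y⁻¹) by simp only [commutatorElement_def]; group,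
      (hz hx hy' y).eq, mul_inv_cancel_right]
  have hconj : ∀ (g : Γ) {x y : Γ}, σ x ∈ V → σ y ∈ V → ⁅g * x * g⁻¹, g * y * g⁻¹⁆ = ⁅x, y⁆ := fun g {x y} hx hy => by
    rw [show ⁅g * x * g⁻¹, g * y * g⁻¹⁆ = g * ⁅x, y⁆ * g⁻¹ by simp only [commutatorElement_def]; group,
      (hz hx hy g).eq, mul_inv_cancel_right]
  have congrR : ∀ {y y' : Γ} (x : Γ), σ y = σ y' → ⁅x, y⁆ = ⁅x, y'⁆ := fun {y y'} x h => by
    rw [← commutatorElement_inv y x, congrL x h, commutatorElement_inv]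
  have m1 : ∀ {x : Γ}, σ x ∈ V → σ (a * x * a⁻¹) ∈ V := fun {x} hx => by
    rw [map_mul, map_mul, map_inv]; exact hn1 _ hx
  have m1' : ∀ {x : Γ}, σ x ∈ V → σ (a⁻¹ * x * a) ∈ V := fun {x} hx => by
    rw [map_mul, map_mul, map_inv]; exact hn1' _ hx
  have m2 : ∀ {x : Γ}, σ x ∈ V → σ (b * x * b⁻¹) ∈ V := fun {x} hx => by
    rw [map_mul, map_mul, map_inv]; exact hn2 _ hx
  have h12' : ∀ {x : Γ}, σ x ∈ V → σ (a * x * a⁻¹ * (b * x * b⁻¹)) = σ x := fun {x} hx => by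
    simp only [map_mul, map_inv]; exact h12 _ hx
  -- the relation
  have key : ∀ {x y : Γ}, σ x ∈ V → σ y ∈ V → ⁅a⁻¹ * x * a, y⁆ * ⁅a * x * a⁻¹, y⁆ = ⁅x, y⁆ := fun {x y} hx hy => by
    have e1 : ⁅x, y⁆ * ⁅b * x * b⁻¹, a * y * a⁻¹⁆ = ⁅x, a * y * a⁻¹⁆ := by
      rw [← hconj a hx hy, ← mulL (m1 hx) (m2 hx) (m1 hy), congrL _ (h12' hx)]
    have e2 : ⁅b * x * b⁻¹, a * y * a⁻¹⁆ * ⁅x, y⁆ = ⁅b * x * b⁻¹, y⁆ := by
      rw [← hconj b hx hy, ← mulR (m2 hx) (m1 hy) (m2 hy), congrR _ (h12' hy)]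
    have e3 : ⁅a * x * a⁻¹, y⁆ * ⁅b * x * b⁻¹, y⁆ = ⁅x, y⁆ := by
      rw [← mulL (m1 hx) (m2 hx) hy, congrL _ (h12' hx)]
    have e4 : ⁅a⁻¹ * x * a, y⁆ = ⁅x, a * y * a⁻¹⁆ := by
      rw [← hconj a (m1' hx) hy]; congr 1; group
    rw [← e2, (hz hx hy _).eq, e1, ← e4] at e3
    rw [(hz (m1 hx) hy _).eq]
    exact e3
  intro x y hx hy
  have hw : σ (c * x * c⁻¹) ∈ V := by rw [map_mul, map_mul, map_inv]; exact hn3 _ hx
  set w := c * x * c⁻¹
  have hwi : σ w⁻¹ ∈ V := by rw [map_inv]; exact inv_mem hw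
  have hfw : σ (a⁻¹ * w * a * (a * w * a⁻¹)) ∈ V := by rw [map_mul]; exact mul_mem (m1' hw) (m1 hw)
  have e : σ (a⁻¹ * w * a * (a * w * a⁻¹) * w⁻¹) = σ x := by
    have := h3 _ hx
    simp only [w, map_mul, map_inv] at this ⊢
    exact this
  have h0 : ⁅x, y⁆ = 1 := by
    rw [← congrL _ e, mulL hfw hwi hy, mulL (m1' hw) (m1 hw) hy, key hw hy, ← mulL hw hwi hy, mul_inv_cancel,
      commutatorElement_one_left]
  exact commutatorElement_eq_one_iff_mul_comm.1 h0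

/-- Relations on generators of an abelian group extend to it. -/
theorem rel_closure {S : Set G} {V : Subgroup G} (hV : Subgroup.closure S = V) (hab : ∀ a ∈ V, ∀ b ∈ V, Commute a b)
    (f g : G →* G) (hf : ∀ v ∈ V, f v ∈ V) (hg : ∀ v ∈ V, g v ∈ V) (h : ∀ v ∈ S, f v * g v = v) :
    ∀ v ∈ V, f v * g v = v := by
  intro v hv
  rw [← hV] at hv
  induction hv using Subgroup.closure_induction with
  | mem x hx => exact h x hx
  | one => simp
  | mul x y hx hy ihx ihy =>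
    have e : Commute (f y) (g x) := hab _ (hf _ (hV ▸ hy)) _ (hg _ (hV ▸ hx))
    rw [map_mul, map_mul, show f x * f y * (g x * g y) = f x * (f y * g x) * g y by group, e.eq,
      show f x * (g x * f y) * g y = f x * g x * (f y * g y) by group, ihx, ihy]
  | inv x hx ihx =>
    have e : Commute (f x) (g x) := hab _ (hf _ (hV ▸ hx)) _ (hg _ (hV ▸ hx))
    rw [map_inv, map_inv, ← mul_inv_rev, ← e.eq, ihx]

end Abstract

/-- The orbits of positive roots, deepest first. -/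
def d4Layers : List (List ℕ) := [[23], [22], [17, 20, 21], [19, 16, 15], [18, 13, 12], [14]]

theorem rootLayers : RootLayers chevD4 D4.cert d4Graph.root d4Layers := by
  have h1 : ∀ k < 6, ∀ r ∈ d4Layers.getD k [], (12 ≤ r ∧ r < 24) ∧ d4Graph.root r ∈ d4Layers.getD k [] ∧
      ¬ ∃ i < k, r ∈ d4Layers.getD i [] := by decide +kernel
  have h2 : ∀ r < 24, 12 ≤ r → ∃ i < 6, r ∈ d4Layers.getD i [] := by decide +kernel
  have h3 : ∀ k < 6, ∀ s ∈ d4Layers.getD k [], ∀ r < 24, 12 ≤ r → r ≠ s → ∀ c ∈ cTerms D4.cert r s,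
      ∃ i < k, c.1 ∈ d4Layers.getD i [] := by decide +kernel
  have h4 : ∀ k < 6, ∀ s ∈ d4Layers.getD k [], ∀ r ∈ d4Layers.getD k [], r ≠ s → cTerms D4.cert r s = [] := by
    decide +kernel
  exact ⟨fun k hk r hr => (h1 k hk r hr).1, fun k hk r hr => (h1 k hk r hr).2.1,
    fun r hr => h2 r hr.2 hr.1, fun k hk r hr hi => (h1 k hk r hr).2.2 hi,
    fun k hk s hs r hr hne c hc => h3 k hk s hs r hr.2 hr.1 hne c hc,
    fun k hk s hs r hr hne => h4 k hk s hs r hr hne⟩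

variable {K : Type*} [Field K]

/-- The parameters of a fixed diagonal element. -/
def cQ (φ : K ≃+* K) (u v : Kˣ) : ℕ → Kˣ := fun i =>
  if i = 0 then u else if i = 1 then v else if i = 2 then Units.map φ.toRingHom.toMonoidHom u
  else Units.map φ.toRingHom.toMonoidHom (Units.map φ.toRingHom.toMonoidHom u)

variable (φ : K ≃+* K) (h3 : ∀ t, φ (φ (φ t)) = t)

include h3 in
theorem cQ_eqv {u v : Kˣ} (hv : φ (v : K) = v) :
    ∀ i < chevD4.rank, (cQ φ u v (d4Graph.node i) : K) = φ (cQ φ u v i : K) := by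
  intro i hi
  rw [d4rank] at hi
  interval_cases i <;> simp [cQ, GraphData.node, d4Graph, hv, h3]

/-- The weight with exponents `e`. -/
def wtE (u v : Kˣ) (e : List ℤ) : K :=
  (u : K) ^ e.getD 0 0 * (v : K) ^ e.getD 1 0 * φ u ^ e.getD 2 0 * φ (φ u) ^ e.getD 3 0

theorem torusFun_cQ (u v : Kˣ) {r : ℕ} {e : List ℤ} (he : ((List.range 4).map fun i => chevD4.cartan i r) = e) :
    (torusFun chevD4 (cQ φ u v) r : K) = wtE φ u v e := by
  subst he
  rw [torusFun, d4rank]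
  simp [Finset.prod_range_succ, cQ, wtE, List.range_succ]

/-- The norm. -/
def nrm3 (u : K) : K := u * φ u * φ (φ u)

include h3 in
theorem phi_nrm3 (u : K) : φ (nrm3 φ u) = nrm3 φ u := by
  simp only [nrm3, map_mul, h3]; ring

theorem wt_long (u v : Kˣ) :
    (torusFun chevD4 (cQ φ u v) 23 : K) = v ∧ (torusFun chevD4 (cQ φ u v) 22 : K) = nrm3 φ u / v ∧
      (torusFun chevD4 (cQ φ u v) 14 : K) = (v : K) ^ 2 / nrm3 φ u ∧
      (torusFun chevD4 (cQ φ u v) 9 : K) = nrm3 φ u / (v : K) ^ 2 ∧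
      (torusFun chevD4 (cQ φ u v) 1 : K) = v / nrm3 φ u := by
  have h0 : (u : K) ≠ 0 := u.ne_zero
  have h1 : φ (u : K) ≠ 0 := by simp
  have h2 : φ (φ (u : K)) ≠ 0 := by simp
  have hv : (v : K) ≠ 0 := v.ne_zero
  refine ⟨?_, ?_, ?_, ?_, ?_⟩
  · rw [torusFun_cQ φ u v (e := [0, 1, 0, 0]) (by decide +kernel)]; simp [wtE]
  · rw [torusFun_cQ φ u v (e := [1, -1, 1, 1]) (by decide +kernel)]; simp [wtE, nrm3, zpow_neg]; field_simp
  · rw [torusFun_cQ φ u v (e := [-1, 2, -1, -1]) (by decide +kernel)]; simp [wtE, nrm3, zpow_neg, zpow_ofNat]; field_simp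
  · rw [torusFun_cQ φ u v (e := [1, -2, 1, 1]) (by decide +kernel)]; simp [wtE, nrm3, zpow_neg, zpow_ofNat]; field_simp
  · rw [torusFun_cQ φ u v (e := [-1, 1, -1, -1]) (by decide +kernel)]; simp [wtE, nrm3, zpow_neg]; field_simp

/-- The weights at the three short orbits. -/
def wS (u v : Kˣ) (j : Fin 3) : K :=
  ![nrm3 φ u / (u : K) ^ 2, (u : K) ^ 2 * v / nrm3 φ u, (u : K) ^ 2 / v] j

/-- The short orbits. -/
def sOrb (j : Fin 3) : List ℕ := ![[17, 20, 21], [19, 16, 15], [18, 13, 12]] j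

include h3 in
theorem wt_short (u v : Kˣ) (hv : φ (v : K) = v) (j : Fin 3) (i : Fin 3) :
    (torusFun chevD4 (cQ φ u v) ((sOrb j).getD i 0) : K) = ![id, φ, fun x => φ (φ x)] i (wS φ u v j) := by
  have h0 : (u : K) ≠ 0 := u.ne_zero
  have h1 : φ (u : K) ≠ 0 := by simp
  have h2 : φ (φ (u : K)) ≠ 0 := by simp
  have hv0 : (v : K) ≠ 0 := v.ne_zero
  have e : ∀ j i : Fin 3, ((List.range 4).map fun k => chevD4.cartan k ((sOrb j).getD i 0)) =
      ![![[-1, 0, 1, 1], [1, 0, -1, 1], [1, 0, 1, -1]], ![[1, 1, -1, -1], [-1, 1, 1, -1], [-1, 1, -1, 1]],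
        ![[2, -1, 0, 0], [0, -1, 2, 0], [0, -1, 0, 2]]] j i := by decide +kernel
  rw [torusFun_cQ φ u v (e j i)]
  fin_cases j <;> fin_cases i <;>
    simp [wtE, wS, nrm3, zpow_neg, zpow_ofNat, map_div₀, map_mul, map_pow, hv, h3] <;> field_simp

/-- A condition on an orbit weight passes to the orbit. -/
theorem sOrb_of (P : K → Prop) (hP : ∀ x, P x → P (φ x)) {c : ℕ → Kˣ} {j : Fin 3} {w : K}
    (e : ∀ i : Fin 3, (torusFun chevD4 c ((sOrb j).getD i 0) : K) = ![id, φ, fun x => φ (φ x)] i w) (h : P w) :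
    ∀ r ∈ sOrb j, P (torusFun chevD4 c r : K) := by
  intro r hr
  obtain ⟨i, hi, rfl⟩ := List.getElem_of_mem hr
  have hl : (sOrb j).length = 3 := by fin_cases j <;> rfl
  have := e ⟨i, hl ▸ hi⟩
  rw [List.getD_eq_getElem _ _ hi] at this
  rw [this]
  have h' : i < 3 := hl ▸ hi
  interval_cases i
  exacts [h, hP _ h, hP _ (hP _ h)]

include h3 in
theorem eq_of_sq_div {x : K} (hx : x ≠ 0) (h : (φ x / x) ^ 2 = 1) : φ x = x := by
  rcases sq_eq_one_iff.1 h with h | h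
  · exact (div_eq_one_iff_eq hx).1 h
  · have e : φ x = -x := by rw [div_eq_iff hx] at h; rw [h, neg_one_mul]
    have e3 := h3 x
    simp only [e, map_neg, neg_neg] at e3
    rw [e, e3]

include h3 in
/-- Every scalar is a weight of the long norm map. -/
theorem exists_norm_div [Fintype K] (w : Kˣ) : ∃ u : Kˣ, nrm3 φ (u : K) / (u : K) ^ 2 = w := by
  let f : Kˣ →* Kˣ :=
    MonoidHom.id Kˣ * (Units.map φ.toRingHom.toMonoidHom) *
      ((Units.map φ.toRingHom.toMonoidHom).comp (Units.map φ.toRingHom.toMonoidHom)) * (powMonoidHom 2)⁻¹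
  have hfv : ∀ u : Kˣ, (f u : K) = nrm3 φ (u : K) / (u : K) ^ 2 := fun u => by
    simp [f, nrm3, div_eq_mul_inv]
  have hinj : Function.Injective f := by
    rw [← MonoidHom.ker_eq_bot_iff, eq_bot_iff]
    intro u hu
    have e : nrm3 φ (u : K) / (u : K) ^ 2 = 1 := by rw [← hfv, MonoidHom.mem_ker.1 hu, Units.val_one]
    have hu0 : (u : K) ≠ 0 := u.ne_zero
    rw [div_eq_one_iff_eq (pow_ne_zero _ hu0)] at e
    have e' : (u : K) ^ 2 = φ (u : K) ^ 2 := by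
      have := congrArg φ e
      rw [phi_nrm3 φ h3, e, map_pow] at this
      exact this
    have hfix : φ (u : K) = u := eq_of_sq_div φ h3 hu0 (by rw [div_pow, ← e', div_self (pow_ne_zero _ hu0)])
    refine Subgroup.mem_bot.2 (Units.ext ?_)
    simp only [nrm3, hfix] at e
    have : (u : K) * (u : K) ^ 2 = 1 * (u : K) ^ 2 := by linear_combination e
    exact mul_right_cancel₀ (pow_ne_zero _ hu0) this
  obtain ⟨u, hu⟩ := (Finite.injective_iff_surjective.1 hinj) w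
  exact ⟨u, by rw [← hfv, hu]⟩

variable {φ}

section Layer

variable [Fintype K] {q : ℕ} (hq : IsPrimePow q) (hK : Fintype.card K = q ^ 3) (hφ : ∀ t, φ t = t ^ q)
  {Γ : Type*} [Group Γ] {σ : Γ →* ↥(twistedD4 K q)} (hs : Function.Surjective σ)
  (hc : σ.ker ≤ Subgroup.center Γ)

include hq hK hφ h3 hs hc in
/-- Lifts of two commuting fixed root elements, one fixed and one moved, commute. -/
theorem pair_commute {a b : ℕ} (ha : a < chevD4.nroots) (hb : b < chevD4.nroots)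
    (hab : chkCom chevD4 D4.cert a b = true) (hρ : d4Graph.root b = b) (hsg : d4Graph.sign b = 1)
    {u v : Kˣ} (hv : φ (v : K) = v) (hfix : (torusFun chevD4 (cQ φ u v) a : K) = 1)
    (hmove : (torusFun chevD4 (cQ φ u v) b : K) ≠ 1) (hχ : φ (torusFun chevD4 (cQ φ u v) b : K) = torusFun chevD4 (cQ φ u v) b)
    {s s' : K} (hs' : φ s' = s') {x y : Γ} (hx : (σ x : GL chevD4.Idx K) = xGL rootedD4.toChecked K ha s)
    (hy : (σ y : GL chevD4.Idx K) = xGL rootedD4.toChecked K hb s') : Commute x y := by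
  have h := rootedD4.toChecked
  set χ : K := (torusFun chevD4 (cQ φ u v) b : K)
  set O := d4Orbits hq hK φ hφ h3
  have ht : torusHom chevD4 K (cQ φ u v) ∈ twistedD4 K q := O.torus_mem (cQ_eqv φ h3 hv)
  have hb' : xGL h K hb (s' / (χ - 1)) ∈ twistedD4 K q := by
    have := graphTwist_root_fixed (hh := rootedD4) (hP := d4Graph_facts) (hc := chkGraph_D4) (φ := φ) hb hρ hsg
      (t := s' / (χ - 1)) (by rw [map_div₀, map_sub, map_one, hχ, hs'])
    rwa [← O.system.eq_fixedGroup] at this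
  refine commute_of_moved hs hc (t := ⟨_, ht⟩) (b := ⟨_, hb'⟩) ?_ ?_ ?_ rfl rfl
  · refine Subtype.ext ?_
    show (σ x : GL chevD4.Idx K) * _ = _ * (σ x : GL chevD4.Idx K)
    rw [hx]; exact (commute_xGL h ha hb hab _ _).eq
  · refine Subtype.ext ?_
    show torusHom chevD4 K (cQ φ u v) * (σ x : GL chevD4.Idx K) = (σ x : GL chevD4.Idx K) * _
    rw [hx]
    have := h.conj_x (c := cQ φ u v) ha s
    rw [hfix, one_mul, mul_inv_eq_iff_eq_mul] at this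
    exact this
  · refine Subtype.ext ?_
    show torusHom chevD4 K (cQ φ u v) * xGL h K hb (s' / (χ - 1)) * (torusHom chevD4 K (cQ φ u v))⁻¹ *
      (xGL h K hb (s' / (χ - 1)))⁻¹ = (σ y : GL chevD4.Idx K)
    rw [h.conj_x hb, h.xGL_inv, h.xGL_add, hy]
    refine congrArg _ ?_
    rw [← sub_eq_add_neg, ← sub_one_mul, mul_div_cancel₀ _ (sub_ne_zero.2 hmove)]

omit [Fintype K] in
theorem exists_xGL {r : ℕ} (hr : r < chevD4.nroots) {g : GL chevD4.Idx K} (hg : g ∈ rootGen chevD4 K {x | x ∈ [r]}) :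
    ∃ t, g = xGL rootedD4.toChecked K hr t := by
  induction hg using Subgroup.closure_induction with
  | mem x hx =>
    obtain ⟨r', t, hr', e⟩ := hx
    obtain rfl : r' = r := by simpa using hr'
    exact ⟨t, Units.ext e⟩
  | one => exact ⟨0, (xGL_zero_eq rootedD4.toChecked hr).symm⟩
  | mul a b _ _ ha hb =>
    obtain ⟨t, rfl⟩ := ha; obtain ⟨u, rfl⟩ := hb; exact ⟨t + u, rootedD4.toChecked.xGL_add hr t u⟩
  | inv a _ ha => obtain ⟨t, rfl⟩ := ha; exact ⟨-t, rootedD4.toChecked.xGL_inv hr t⟩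

/-- The data of a long root as a commutator. -/
def chkLong (r a b : ℕ) : Bool :=
  ([r, a, b].all fun x => decide (x < chevD4.nroots) && decide (d4Graph.root x = x) && decide (d4Graph.sign x = 1)) &&
    decide (b ≠ a) && decide (b ≠ ng chevD4 a) &&
    (decide (cTerms D4.cert a b = [(r, (1 : ℤ), 1, 1)]) || decide (cTerms D4.cert a b = [(r, (-1 : ℤ), 1, 1)]))

include hq hK hφ h3 hs hc in
/-- The preimage of a long root group is commutative. -/
theorem long_commute {r a b : ℕ} (hchk : chkLong r a b = true)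
    (hka : ∀ (x y : Γ) (s t : K) (hr : r < chevD4.nroots) (ha : a < chevD4.nroots), φ s = s → φ t = t →
      (σ x : GL chevD4.Idx K) = xGL rootedD4.toChecked K hr s →
      (σ y : GL chevD4.Idx K) = xGL rootedD4.toChecked K ha t → Commute x y)
    (hkb : ∀ (x y : Γ) (s t : K) (hr : r < chevD4.nroots) (hb : b < chevD4.nroots), φ s = s → φ t = t →
      (σ x : GL chevD4.Idx K) = xGL rootedD4.toChecked K hr s →
      (σ y : GL chevD4.Idx K) = xGL rootedD4.toChecked K hb t → Commute x y) :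
    ∀ x y, σ x ∈ vGrp (d4Orbits hq hK φ hφ h3) {i | i ∈ [r]} → σ y ∈ vGrp (d4Orbits hq hK φ hφ h3) {i | i ∈ [r]} →
      Commute x y := by
  simp only [chkLong, List.all_cons, List.all_nil, Bool.and_eq_true, Bool.or_eq_true, decide_eq_true_eq,
    and_true] at hchk
  obtain ⟨⟨⟨⟨⟨⟨hr, er⟩, sr⟩, ⟨⟨ha, ea⟩, sa⟩, ⟨⟨hb, eb⟩, sb⟩⟩, hne⟩, hng⟩, hl⟩ := hchk
  have h := rootedD4.toChecked
  set O := d4Orbits hq hK φ hφ h3
  have hfixed : ∀ {g : ↥(twistedD4 K q)}, (g : GL chevD4.Idx K) ∈ rootGen chevD4 K {i | i ∈ [r]} →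
      ∃ t, φ t = t ∧ (g : GL chevD4.Idx K) = xGL h K hr t := by
    intro g hg
    obtain ⟨t, et⟩ := exists_xGL hr hg
    refine ⟨t, ?_, et⟩
    have e := (graphTwist rootedD4 d4Graph_facts chkGraph_D4 φ).sig_fixed (O.G_le g.2)
    rw [et, sig_xGL hr (d4Graph_facts.root_lt r hr), sr, Int.cast_one, one_mul,
      h.xGL_congr er (d4Graph_facts.root_lt r hr) hr] at e
    exact rootedD4.toChecked.x_injective hr (congrArg Units.val e)
  have hmem : ∀ {i : ℕ} (hi : i < chevD4.nroots), d4Graph.root i = i → d4Graph.sign i = 1 → ∀ s, φ s = s →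
      xGL h K hi s ∈ twistedD4 K q := fun hi e1 e2 s hs => by
    have := graphTwist_root_fixed (hh := rootedD4) (hP := d4Graph_facts) (hc := chkGraph_D4) (φ := φ) hi e1 e2 hs
    rwa [← O.system.eq_fixedGroup] at this
  obtain ⟨k, hk, hl'⟩ : ∃ k : ℤ, (k = 1 ∨ k = -1) ∧ cTerms D4.cert a b = [(r, k, 1, 1)] := by
    rcases hl with hl | hl
    exacts [⟨1, Or.inl rfl, hl⟩, ⟨-1, Or.inr rfl, hl⟩]
  have hk2 : (k : K) * (k : K) = 1 := by rcases hk with rfl | rfl <;> simp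
  refine commute_of_gen hs hc _ fun g hg => ?_
  obtain ⟨t, ht, eg⟩ := hfixed hg
  have h1 : φ (-1 : K) = -1 := by simp
  have h2 : φ ((k : K) * t) = (k : K) * t := by rw [map_mul, map_intCast, ht]
  refine ⟨⟨_, hmem hb eb sb _ h1⟩, ⟨_, hmem ha ea sa _ h2⟩, Subtype.ext ?_, ?_, ?_⟩
  · have e := h.commutator_formula (F := K) ha hb hne hng (-((k : K) * t)) 1
    rw [h.commWord_eq ha hb, hl'] at e
    have e' : xGL h K hb 1 * xGL h K ha (-((k : K) * t)) =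
        xGL h K ha (-((k : K) * t)) * xGL h K hb 1 * xGL h K hr t := by
      refine Units.ext ?_
      simp only [Units.val_mul, coe_xGL]
      rw [e]
      simp only [ChevalleyDatum.wordMat, List.map_cons, List.map_nil, List.prod_cons, List.prod_nil, mul_one, pow_one]
      rw [show (k : K) * - -((k : K) * t) = t by linear_combination t * hk2]
    simp only [commutatorElement_def, Subgroup.coe_mul, Subgroup.coe_inv, eg, h.xGL_inv, neg_neg]
    rw [mul_assoc _ (xGL h K hb 1), e', show xGL h K ha ((k : K) * t) = (xGL h K ha (-((k : K) * t)))⁻¹ by rw [h.xGL_inv, neg_neg]]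
    group
    rw [h.xGL_add, neg_add_cancel, xGL_zero_eq h hb, one_mul]
  · intro x y hx hy
    obtain ⟨s, hs1, es⟩ := hfixed hx
    exact hkb x y s _ hr hb hs1 h1 es (congrArg Subtype.val hy)
  · intro x y hx hy
    obtain ⟨s, hs1, es⟩ := hfixed hx
    exact hka x y s _ hr ha hs1 h2 es (congrArg Subtype.val hy)

include hq hK hφ h3 hs hc in
/-- The preimage of a short root group is commutative. -/
theorem short_commute (j : Fin 3) : ∀ x y, σ x ∈ vGrp (d4Orbits hq hK φ hφ h3) {i | i ∈ sOrb j} →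
    σ y ∈ vGrp (d4Orbits hq hK φ hφ h3) {i | i ∈ sOrb j} → Commute x y := by
  classical
  have h := rootedD4.toChecked
  set O := d4Orbits hq hK φ hφ h3
  have hlt : ∀ r ∈ ({i | i ∈ sOrb j} : Set ℕ), r < chevD4.nroots := by
    intro r hr
    have : ∀ j : Fin 3, ∀ r ∈ sOrb j, r < chevD4.nroots := by decide +kernel
    exact this j r hr
  have habG : ∀ a ∈ rootGen chevD4 K {i | i ∈ sOrb j}, ∀ b ∈ rootGen chevD4 K {i | i ∈ sOrb j}, Commute a b := by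
    intro a ha b hb
    refine commute_rootGen h hlt hlt (fun r hr s hs' => ?_) ha hb
    have : ∀ j : Fin 3, ∀ r ∈ sOrb j, ∀ s ∈ sOrb j, chkCom chevD4 D4.cert r s = true := by decide +kernel
    exact this j r hr s hs'
  -- realise every scalar
  have real : ∀ w : Kˣ, ∃ u v : Kˣ, φ (v : K) = v ∧ wS φ u v j = w := by
    intro w
    obtain ⟨u, hu⟩ := exists_norm_div φ h3 w
    obtain ⟨u', hu'⟩ := exists_norm_div φ h3 w⁻¹
    have hn0 : nrm3 φ (u' : K) ≠ 0 := by simp [nrm3]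
    rw [Units.val_inv_eq_inv_val] at hu'
    have hu'' : (u' : K) ^ 2 / nrm3 φ (u' : K) = w := by rw [← inv_div, hu', inv_inv]
    fin_cases j
    · exact ⟨u, 1, by simp, by simpa [wS] using hu⟩
    · exact ⟨u', 1, by simp, by simpa [wS] using hu''⟩
    · exact ⟨u', Units.mk0 _ hn0, by simp [phi_nrm3 φ h3], by simpa [wS] using hu''⟩
  obtain ⟨s, hs0, hs1, hs2⟩ : ∃ s : K, s ≠ 0 ∧ s ≠ 1 ∧ s ^ 2 - s + 1 ≠ 0 := by
    obtain ⟨p, hp⟩ : ∃ P : Polynomial K, P = Polynomial.X ^ 2 - Polynomial.X + 1 := ⟨_, rfl⟩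
    by_contra hn
    push_neg at hn
    have hdeg : p.natDegree ≤ 2 := by rw [hp]; compute_degree
    have hne : p ≠ 0 := by
      rw [hp]; intro e
      have := congrArg (Polynomial.eval 0) e
      simp at this
    have hsub : (Finset.univ : Finset K) ⊆ insert 0 (insert 1 p.roots.toFinset) := fun x _ => by
      rw [Finset.mem_insert, Finset.mem_insert, Multiset.mem_toFinset, Polynomial.mem_roots hne]
      by_cases h0 : x = 0
      · exact Or.inl h0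
      by_cases h1 : x = 1
      · exact Or.inr (Or.inl h1)
      refine Or.inr (Or.inr ?_)
      rw [hp, Polynomial.IsRoot]
      simpa using hn x h0 h1
    have h1 := Finset.card_le_card hsub
    have h2 := Finset.card_insert_le (0 : K) (insert 1 p.roots.toFinset)
    have h3' := Finset.card_insert_le (1 : K) p.roots.toFinset
    have h4 := (Multiset.toFinset_card_le p.roots).trans ((Polynomial.card_roots' p).trans hdeg)
    have h5 : 2 ^ 3 ≤ q ^ 3 := Nat.pow_le_pow_left hq.two_le 3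
    rw [Finset.card_univ, hK] at h1
    omega
  have hρ0 : s⁻¹ + s - 1 ≠ 0 := by
    intro e
    refine hs2 ?_
    field_simp at e
    linear_combination e
  obtain ⟨u₁, v₁, hv₁, e₁⟩ := real (Units.mk0 s hs0)
  obtain ⟨u₂, v₂, hv₂, e₂⟩ := real (Units.mk0 (1 - s) (sub_ne_zero.2 (Ne.symm hs1)))
  obtain ⟨u₃, v₃, hv₃, e₃⟩ := real (Units.mk0 (s⁻¹ + s - 1)⁻¹ (inv_ne_zero hρ0))
  simp only [Units.val_mk0] at e₁ e₂ e₃
  let T : Kˣ → Kˣ → GL chevD4.Idx K := fun u v => torusHom chevD4 K (cQ φ u v)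
  have hTG : ∀ u v : Kˣ, φ (v : K) = v → T u v ∈ twistedD4 K q := fun u v hv => O.torus_mem (cQ_eqv φ h3 hv)
  have hTn : ∀ (c : ℕ → Kˣ) (g : GL chevD4.Idx K), g ∈ rootGen chevD4 K {i | i ∈ sOrb j} →
      torusHom chevD4 K c * g * (torusHom chevD4 K c)⁻¹ ∈ rootGen chevD4 K {i | i ∈ sOrb j} := fun c g hg =>
    (Subgroup.mem_normalizer_iff.1 (h.torus_le_normalizer hlt ⟨c, rfl⟩) g).1 hg
  have hTn' : ∀ (c : ℕ → Kˣ) (g : GL chevD4.Idx K), g ∈ rootGen chevD4 K {i | i ∈ sOrb j} →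
      (torusHom chevD4 K c)⁻¹ * g * torusHom chevD4 K c ∈ rootGen chevD4 K {i | i ∈ sOrb j} := fun c g hg => by
    have := hTn c⁻¹ g hg
    rwa [map_inv, inv_inv] at this
  let F : GL chevD4.Idx K → (GL chevD4.Idx K →* GL chevD4.Idx K) := fun t => (MulAut.conj t).toMonoidHom
  let S : Set (GL chevD4.Idx K) := {g | ∃ (r : ℕ) (t : K), r ∈ {i | i ∈ sOrb j} ∧
    (g : Matrix chevD4.Idx chevD4.Idx K) = chevD4.x K r t}
  -- the two relations on generators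
  have hgen : ∀ {g}, g ∈ S → ∃ (i : Fin 3) (hr : (sOrb j).getD i 0 < chevD4.nroots) (t : K),
      g = xGL h K hr t := by
    rintro g ⟨r, t, hr, e⟩
    have hr' : r ∈ sOrb j := hr
    obtain ⟨i, hi, rfl⟩ := List.getElem_of_mem hr'
    have hl : (sOrb j).length = 3 := by fin_cases j <;> rfl
    have e' : (sOrb j).getD i 0 = (sOrb j)[i] := List.getD_eq_getElem _ _ hi
    exact ⟨⟨i, hl ▸ hi⟩, e' ▸ hlt _ hr, t, Units.ext (by rw [e, coe_xGL, e'])⟩
  let ψ : Fin 3 → K ≃+* K := ![RingEquiv.refl K, φ, φ.trans φ]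
  have hψ : ∀ i x, ![id, φ, fun x => φ (φ x)] i x = ψ i x := by
    intro i x; fin_cases i <;> simp [ψ]
  have hwt : ∀ {u v : Kˣ} {w : K}, φ (v : K) = v → wS φ u v j = w → ∀ i : Fin 3,
      (torusFun chevD4 (cQ φ u v) ((sOrb j).getD i 0) : K) = ψ i w := fun {u v w} hv e i => by
    rw [wt_short φ h3 u v hv j i, e, hψ]
  have r12 : ∀ g ∈ rootGen chevD4 K {i | i ∈ sOrb j}, F (T u₁ v₁) g * F (T u₂ v₂) g = g := by
    refine rel_closure (S := S) rfl habG _ _ (fun g => hTn _ g) (fun g => hTn _ g) fun g hg => ?_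
    obtain ⟨i, hr, t, rfl⟩ := hgen hg
    show T u₁ v₁ * _ * (T u₁ v₁)⁻¹ * (T u₂ v₂ * _ * (T u₂ v₂)⁻¹) = _
    simp only [T]
    rw [h.conj_x hr, h.conj_x hr, h.xGL_add, hwt hv₁ e₁, hwt hv₂ e₂, ← add_mul, ← map_add,
      add_sub_cancel, map_one, one_mul]
  have r3 : ∀ g ∈ rootGen chevD4 K {i | i ∈ sOrb j},
      F ((T u₁ v₁)⁻¹ * T u₃ v₃) g * F (T u₁ v₁ * T u₃ v₃) g = F (T u₃ v₃) g * g := by
    have hin : ∀ c c' : ℕ → Kˣ, ∀ g ∈ rootGen chevD4 K {i | i ∈ sOrb j},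
        F (torusHom chevD4 K c * torusHom chevD4 K c') g ∈ rootGen chevD4 K {i | i ∈ sOrb j} := fun c c' g hg => by
      rw [← map_mul]; exact hTn _ g hg
    intro g hg
    induction hg using Subgroup.closure_induction with
    | mem g hg =>
      obtain ⟨i, hr, t, rfl⟩ := hgen hg
      show (T u₁ v₁)⁻¹ * T u₃ v₃ * _ * ((T u₁ v₁)⁻¹ * T u₃ v₃)⁻¹ * (T u₁ v₁ * T u₃ v₃ * _ * (T u₁ v₁ * T u₃ v₃)⁻¹) =
        T u₃ v₃ * _ * (T u₃ v₃)⁻¹ * _
      simp only [T]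
      rw [← map_inv, ← map_mul, ← map_mul, h.conj_x hr, h.conj_x hr, h.conj_x hr, h.xGL_add, h.xGL_add]
      refine congrArg _ ?_
      have hm : ∀ c c' : ℕ → Kˣ, ∀ r, (torusFun chevD4 (c * c') r : K) =
          (torusFun chevD4 c r : K) * (torusFun chevD4 c' r : K) := fun c c' r => by
        simp [torusFun, mul_zpow, Finset.prod_mul_distrib]
      have hi : ∀ c : ℕ → Kˣ, ∀ r, (torusFun chevD4 c⁻¹ r : K) = ((torusFun chevD4 c r : K))⁻¹ := fun c r => by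
        simp [torusFun, Finset.prod_inv_distrib]
      rw [hm, hm, hi, hwt hv₁ e₁, hwt hv₃ e₃]
      have key : s⁻¹ * (s⁻¹ + s - 1)⁻¹ + s * (s⁻¹ + s - 1)⁻¹ = (s⁻¹ + s - 1)⁻¹ + 1 := by
        have := mul_inv_cancel₀ hρ0
        linear_combination this
      have := congrArg (fun z => ψ i z * t) key
      simp only [map_add, map_mul, map_inv₀, map_one] at this ⊢
      linear_combination this
    | one => simp
    | mul x y hx hy ihx ihy =>
      have e1 : Commute (F ((T u₁ v₁)⁻¹ * T u₃ v₃) y) (F (T u₁ v₁ * T u₃ v₃) x) :=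
        habG _ (by simp only [T]; rw [← map_inv]; exact hin _ _ _ hy) _ (hin _ _ _ hx)
      have e2 : Commute (F (T u₃ v₃) y) x := habG _ (hTn _ _ hy) _ hx
      simp only [map_mul (F _)]
      calc F ((T u₁ v₁)⁻¹ * T u₃ v₃) x * F ((T u₁ v₁)⁻¹ * T u₃ v₃) y *
            (F (T u₁ v₁ * T u₃ v₃) x * F (T u₁ v₁ * T u₃ v₃) y)
          = F ((T u₁ v₁)⁻¹ * T u₃ v₃) x * (F ((T u₁ v₁)⁻¹ * T u₃ v₃) y * F (T u₁ v₁ * T u₃ v₃) x) *
              F (T u₁ v₁ * T u₃ v₃) y := by group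
        _ = (F ((T u₁ v₁)⁻¹ * T u₃ v₃) x * F (T u₁ v₁ * T u₃ v₃) x) *
              (F ((T u₁ v₁)⁻¹ * T u₃ v₃) y * F (T u₁ v₁ * T u₃ v₃) y) := by rw [e1.eq]; group
        _ = F (T u₃ v₃) x * (x * F (T u₃ v₃) y) * y := by rw [ihx, ihy]; group
        _ = _ := by rw [← e2.eq]; group
    | inv x hx ihx =>
      have e1 : Commute (F ((T u₁ v₁)⁻¹ * T u₃ v₃) x) (F (T u₁ v₁ * T u₃ v₃) x) :=
        habG _ (by simp only [T]; rw [← map_inv]; exact hin _ _ _ hx) _ (hin _ _ _ hx)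
      have e2 : Commute (F (T u₃ v₃) x) x := habG _ (hTn _ _ hx) _ hx
      simp only [map_inv (F _)]
      rw [← mul_inv_rev, ← mul_inv_rev, ← e1.eq, ihx, e2.eq]
  refine commute_of_relations hs hc (vGrp O {i | i ∈ sOrb j})
    (fun a ha b hb => Subtype.ext (habG _ ha _ hb).eq) ⟨T u₁ v₁, hTG _ _ hv₁⟩ ⟨T u₂ v₂, hTG _ _ hv₂⟩
    ⟨T u₃ v₃, hTG _ _ hv₃⟩ (fun g hg => hTn _ _ hg) (fun g hg => hTn' _ _ hg) (fun g hg => hTn _ _ hg)
    (fun g hg => hTn _ _ hg) (fun g hg => Subtype.ext (r12 _ hg)) (fun g hg => ?_)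
  refine Subtype.ext ?_
  have e := r3 _ hg
  have e2 : Commute (F (T u₃ v₃) (g : GL chevD4.Idx K)) (g : GL chevD4.Idx K) := habG _ (hTn _ _ hg) _ hg
  simp only [F, MulEquiv.coe_toMonoidHom, MulAut.conj_apply, Subgroup.coe_subtype] at e e2
  simp only [Subgroup.coe_mul, Subgroup.coe_inv]
  rw [show (T u₁ v₁)⁻¹ * (T u₃ v₃ * (g : GL chevD4.Idx K) * (T u₃ v₃)⁻¹) * T u₁ v₁ *
      (T u₁ v₁ * (T u₃ v₃ * g * (T u₃ v₃)⁻¹) * (T u₁ v₁)⁻¹) =
      (T u₁ v₁)⁻¹ * T u₃ v₃ * g * ((T u₁ v₁)⁻¹ * T u₃ v₃)⁻¹ * (T u₁ v₁ * T u₃ v₃ * g * (T u₁ v₁ * T u₃ v₃)⁻¹) by group,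
    e, e2.eq, mul_inv_cancel_right]

include hq hK h3 hφ in
/-- **The characteristic does not divide the kernel.** -/
theorem not_dvd_card_ker (hq3 : 3 ≤ q) (p : ℕ) [Fact p.Prime] [CharP K p] [Finite Γ]
    (hσ : Cfsg.IsStemExtension σ) : ¬ p ∣ Nat.card σ.ker := by
  have hs := hσ.1
  have hc := hσ.2.1
  obtain ⟨g, hg⟩ : ∃ g : Kˣ, orderOf g = q ^ 3 - 1 := by
    obtain ⟨g, hg⟩ := IsCyclic.exists_ofOrder_eq_natCard (α := Kˣ)
    exact ⟨g, by rw [hg, Nat.card_units, Nat.card_eq_fintype_card, hK]⟩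
  have hg0 : (g : K) ≠ 0 := g.ne_zero
  have hn0 : ∀ u : Kˣ, nrm3 φ (u : K) ≠ 0 := fun u => by simp [nrm3]
  set μ : Kˣ := Units.mk0 _ (hn0 g) with hμdef
  have hμ : φ (μ : K) = μ := phi_nrm3 φ h3 _
  have hpow : ∀ n : ℕ, 0 < n → n < q ^ 3 - 1 → (g : K) ^ n ≠ 1 := fun n h1 h2 e => by
    have hd : orderOf g ∣ n := orderOf_dvd_of_pow_eq_one (Units.ext (by simpa using e))
    rw [hg] at hd
    exact absurd (Nat.le_of_dvd h1 hd) (by omega)
  have hb : q * q * 3 ≤ q * q * q := Nat.mul_le_mul_left _ hq3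
  have hq' : q * 3 ≤ q * q := Nat.mul_le_mul_left _ hq3
  have hμ1 : (μ : K) ≠ 1 := by
    rw [hμdef, Units.val_mk0, nrm3, hφ, hφ, ← pow_mul, ← pow_succ', ← pow_add]
    refine hpow _ (by omega) ?_
    have : q ^ 3 = q * q * q := by ring
    omega
  set u1 : Kˣ := Units.mk0 (φ (g : K) / g) (by simp) with hu1def
  have hu1n : nrm3 φ (u1 : K) = 1 := by
    simp only [hu1def, Units.val_mk0, nrm3, map_div₀, h3]
    have : φ (g : K) ≠ 0 := by simp
    have : φ (φ (g : K)) ≠ 0 := by simp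
    field_simp
  have hu12 : (u1 : K) ^ 2 ≠ 1 := by
    intro e
    rw [hu1def, Units.val_mk0] at e
    have := eq_of_sq_div φ h3 hg0 e
    rw [hφ] at this
    have hq3' : q ^ 3 = q * q * q := by ring
    refine hpow (q - 1) (by omega) (by omega) ?_
    refine mul_right_cancel₀ hg0 ?_
    rw [← pow_succ, show q - 1 + 1 = q by omega, this, one_mul]
  set O := d4Orbits hq hK φ hφ h3
  -- fixed and moved orbits
  let Fix : List ℕ → (ℕ → Kˣ) → Prop := fun o c => ∀ r ∈ o, (torusFun chevD4 c r : K) = 1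
  let Mov : List ℕ → (ℕ → Kˣ) → Prop := fun o c => ∀ r ∈ o, (torusFun chevD4 c r : K) ≠ 1
  have sFix : ∀ {u v : Kˣ}, φ (v : K) = v → ∀ j, wS φ u v j = 1 → Fix (sOrb j) (cQ φ u v) := fun {u v} hv j e =>
    sOrb_of φ (· = 1) (fun x hx => by rw [hx, map_one]) (wt_short φ h3 u v hv j) e
  have sMov : ∀ {u v : Kˣ}, φ (v : K) = v → ∀ j, wS φ u v j ≠ 1 → Mov (sOrb j) (cQ φ u v) := fun {u v} hv j e =>
    sOrb_of φ (· ≠ 1) (fun x hx e' => hx (φ.injective (e'.trans (map_one φ).symm))) (wt_short φ h3 u v hv j) e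
  have lFix : ∀ {r : ℕ} {c : ℕ → Kˣ}, (torusFun chevD4 c r : K) = 1 → Fix [r] c := fun {r c} e r' hr' => by
    obtain rfl : r' = r := by simpa using hr'
    exact e
  have lMov : ∀ {r : ℕ} {c : ℕ → Kˣ}, (torusFun chevD4 c r : K) ≠ 1 → Mov [r] c := fun {r c} e r' hr' => by
    obtain rfl : r' = r := by simpa using hr'
    exact e
  have h1v : φ ((1 : Kˣ) : K) = (1 : Kˣ) := by simp
  have hμ2 : φ ((μ ^ 2 : Kˣ) : K) = (μ ^ 2 : Kˣ) := by rw [Units.val_pow_eq_pow_val, map_pow, hμ]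
  have hμ0 : (μ : K) ≠ 0 := μ.ne_zero
  have hμn : nrm3 φ (g : K) = μ := rfl
  have hμμ : nrm3 φ (μ : K) = (μ : K) ^ 3 := by simp only [nrm3, hμ]; ring
  -- the torus elements
  set c1 := cQ φ u1 1
  set c3 := cQ φ 1 μ
  set c4 := cQ φ μ (μ ^ 2)
  set c5 := cQ φ g 1
  set c6 := cQ φ g μ
  have hn1 : nrm3 φ (1 : K) = 1 := by simp [nrm3]
  have A23 : Fix [23] c1 ∧ Mov [23] c3 ∧ Fix [23] c5 :=
    ⟨lFix (by rw [(wt_long φ u1 1).1]; simp), lMov (by rw [(wt_long φ 1 μ).1]; exact hμ1),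
      lFix (by rw [(wt_long φ g 1).1]; simp)⟩
  have A22 : Fix [22] c1 ∧ Mov [22] c5 ∧ Fix [22] c6 :=
    ⟨lFix (by rw [(wt_long φ u1 1).2.1, hu1n]; simp), lMov (by rw [(wt_long φ g 1).2.1, hμn]; simpa using hμ1),
      lFix (by rw [(wt_long φ g μ).2.1, hμn, div_self hμ0])⟩
  have A14 : Fix [14] c1 ∧ Mov [14] c5 ∧ Mov [14] c6 :=
    ⟨lFix (by rw [(wt_long φ u1 1).2.2.1, hu1n]; simp),
      lMov (by rw [(wt_long φ g 1).2.2.1, hμn]; simpa [inv_eq_one] using hμ1),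
      lMov (by rw [(wt_long φ g μ).2.2.1, hμn, sq, mul_div_assoc, div_self hμ0, mul_one]; exact hμ1)⟩
  have S1 : ∀ j, Mov (sOrb j) c1 := fun j => sMov h1v j (by
    fin_cases j <;> simp [wS, hu1n, inv_eq_one, hu12])
  have S3 : Fix (sOrb 0) c3 ∧ Mov (sOrb 1) c3 ∧ Mov (sOrb 2) c3 :=
    ⟨sFix hμ 0 (by simp [wS, hn1]), sMov hμ 1 (by simp [wS, hn1, hμ1]),
      sMov hμ 2 (by simp [wS, inv_eq_one, hμ1])⟩
  have S4 : Fix (sOrb 2) c4 ∧ Mov (sOrb 1) c4 :=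
    ⟨sFix hμ2 2 (by simp [wS, div_self (pow_ne_zero 2 hμ0)]), sMov hμ2 1 (by
      have e : (μ : K) ^ 2 * (μ : K) ^ 2 / (μ : K) ^ 3 = μ := by field_simp
      simp [wS, hμμ, e, hμ1])⟩
  have e1 := cQ_eqv φ h3 (u := u1) h1v
  have e3 := cQ_eqv φ h3 (u := 1) hμ
  have e4 := cQ_eqv φ h3 (u := μ) hμ2
  have e5 := cQ_eqv φ h3 (u := g) h1v
  have e6 := cQ_eqv φ h3 (u := g) hμ
  have hfpf : ∀ j < d4Layers.length, ∃ c : ℕ → Kˣ, (∀ i < chevD4.rank, (c (d4Graph.node i) : K) = φ (c i : K)) ∧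
      Mov (d4Layers.getD j []) c := by
    intro j hj
    have hj' : j < 6 := hj
    interval_cases j
    exacts [⟨c3, e3, A23.2.1⟩, ⟨c5, e5, A22.2.1⟩, ⟨c1, e1, S1 0⟩, ⟨c1, e1, S1 1⟩, ⟨c1, e1, S1 2⟩,
      ⟨c5, e5, A14.2.1⟩]
  have hkill : ∀ j < d4Layers.length, ∀ i < j, ∃ c : ℕ → Kˣ,
      (∀ a < chevD4.rank, (c (d4Graph.node a) : K) = φ (c a : K)) ∧
      ((Fix (d4Layers.getD j []) c ∧ Mov (d4Layers.getD i []) c) ∨
        (Fix (d4Layers.getD i []) c ∧ Mov (d4Layers.getD j []) c)) := by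
    intro j hj i hi
    have hj' : j < 6 := hj
    interval_cases j <;> interval_cases i
    exacts [⟨c5, e5, Or.inr ⟨A23.2.2, A22.2.1⟩⟩,
      ⟨c1, e1, Or.inr ⟨A23.1, S1 0⟩⟩, ⟨c1, e1, Or.inr ⟨A22.1, S1 0⟩⟩,
      ⟨c1, e1, Or.inr ⟨A23.1, S1 1⟩⟩, ⟨c1, e1, Or.inr ⟨A22.1, S1 1⟩⟩, ⟨c3, e3, Or.inr ⟨S3.1, S3.2.1⟩⟩,
      ⟨c1, e1, Or.inr ⟨A23.1, S1 2⟩⟩, ⟨c1, e1, Or.inr ⟨A22.1, S1 2⟩⟩, ⟨c3, e3, Or.inr ⟨S3.1, S3.2.2⟩⟩,
      ⟨c4, e4, Or.inl ⟨S4.1, S4.2⟩⟩,
      ⟨c5, e5, Or.inr ⟨A23.2.2, A14.2.1⟩⟩, ⟨c6, e6, Or.inr ⟨A22.2.2, A14.2.2⟩⟩,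
      ⟨c1, e1, Or.inl ⟨A14.1, S1 0⟩⟩, ⟨c1, e1, Or.inl ⟨A14.1, S1 1⟩⟩, ⟨c1, e1, Or.inl ⟨A14.1, S1 2⟩⟩]
  have L := TwistLift.layers O rootLayers hfpf hkill
  have hab : ∀ j < d4Layers.length, ∀ x y, σ x ∈ vGrp O (oSet d4Layers j) → σ y ∈ vGrp O (oSet d4Layers j) →
      Commute x y := by
    have w5 := wt_long φ g 1
    have w6 := wt_long φ g μ
    have f5 : ∀ {a : K}, a = (μ : K) ∨ a = (μ : K)⁻¹ → a ≠ 1 ∧ φ a = a := by
      rintro a (rfl | rfl)
      · exact ⟨hμ1, hμ⟩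
      · exact ⟨by simpa [inv_eq_one] using hμ1, by rw [map_inv₀, hμ]⟩
    have v523 : (torusFun chevD4 c5 23 : K) = 1 := by rw [w5.1]; simp
    have v522 : (torusFun chevD4 c5 22 : K) = μ := by rw [w5.2.1, hμn]; simp
    have v514 : (torusFun chevD4 c5 14 : K) = (μ : K)⁻¹ := by rw [w5.2.2.1, hμn]; simp
    have v622 : (torusFun chevD4 c6 22 : K) = 1 := by rw [w6.2.1, hμn, div_self hμ0]
    have v69 : (torusFun chevD4 c6 9 : K) = (μ : K)⁻¹ := by
      rw [w6.2.2.2.1, hμn, sq, ← div_div, div_self hμ0, one_div]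
    have v61 : (torusFun chevD4 c6 1 : K) = 1 := by rw [w6.2.2.2.2, hμn, div_self hμ0]
    have v614 : (torusFun chevD4 c6 14 : K) = μ := by
      rw [w6.2.2.1, hμn, sq, mul_div_assoc, div_self hμ0, mul_one]
    have L23 : ∀ x y, σ x ∈ vGrp O {i | i ∈ [23]} → σ y ∈ vGrp O {i | i ∈ [23]} → Commute x y := by
      refine long_commute h3 hq hK hφ hs hc (r := 23) (a := 14) (b := 22) (by decide +kernel)
        (fun x y s t hr ha hs' ht hx hy => ?_) (fun x y s t hr hb hs' ht hx hy => ?_)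
      · exact pair_commute h3 hq hK hφ hs hc hr ha (by decide +kernel) (by decide) (by decide) h1v v523
          (by rw [v514]; exact (f5 (Or.inr rfl)).1) (by rw [v514]; exact (f5 (Or.inr rfl)).2) ht hx hy
      · exact pair_commute h3 hq hK hφ hs hc hr hb (by decide +kernel) (by decide) (by decide) h1v v523
          (by rw [v522]; exact hμ1) (by rw [v522]; exact hμ) ht hx hy
    have L22 : ∀ x y, σ x ∈ vGrp O {i | i ∈ [22]} → σ y ∈ vGrp O {i | i ∈ [22]} → Commute x y := by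
      refine long_commute h3 hq hK hφ hs hc (r := 22) (a := 9) (b := 23) (by decide +kernel)
        (fun x y s t hr ha hs' ht hx hy => ?_) (fun x y s t hr hb hs' ht hx hy => ?_)
      · exact pair_commute h3 hq hK hφ hs hc hr ha (by decide +kernel) (by decide) (by decide) hμ v622
          (by rw [v69]; exact (f5 (Or.inr rfl)).1) (by rw [v69]; exact (f5 (Or.inr rfl)).2) ht hx hy
      · exact (pair_commute h3 hq hK hφ hs hc hb hr (by decide +kernel) (by decide) (by decide) h1v v523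
          (by rw [v522]; exact hμ1) (by rw [v522]; exact hμ) hs' hy hx).symm
    have L14 : ∀ x y, σ x ∈ vGrp O {i | i ∈ [14]} → σ y ∈ vGrp O {i | i ∈ [14]} → Commute x y := by
      refine long_commute h3 hq hK hφ hs hc (r := 14) (a := 1) (b := 23) (by decide +kernel)
        (fun x y s t hr ha hs' ht hx hy => ?_) (fun x y s t hr hb hs' ht hx hy => ?_)
      · exact (pair_commute h3 hq hK hφ hs hc ha hr (by decide +kernel) (by decide) (by decide) hμ v61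
          (by rw [v614]; exact hμ1) (by rw [v614]; exact hμ) hs' hy hx).symm
      · exact (pair_commute h3 hq hK hφ hs hc hb hr (by decide +kernel) (by decide) (by decide) h1v v523
          (by rw [v514]; exact (f5 (Or.inr rfl)).1) (by rw [v514]; exact (f5 (Or.inr rfl)).2) hs' hy hx).symm
    intro j hj
    have hj' : j < 6 := hj
    interval_cases j
    exacts [L23, L22, short_commute h3 hq hK hφ hs hc 0, short_commute h3 hq hK hφ hs hc 1,
      short_commute h3 hq hK hφ hs hc 2, L14]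
  have key := L.commutator_inf_ker (σ := σ) hs hc hab
  obtain ⟨P, hP⟩ := Twisted.Aut.exists_sylow O.system p
  obtain ⟨Q₀⟩ : Nonempty (Sylow p Γ) := inferInstance
  obtain ⟨x, hx⟩ := MulAction.exists_smul_eq ↥(twistedD4 K q) (Q₀.mapSurjective hs) P
  obtain ⟨x', rfl⟩ := hs x
  let Q := x' • Q₀
  have hQ : ∀ y ∈ (Q : Subgroup Γ), y ∈ ((chevD4.posUnipotent K).subgroupOf O.G).comap σ := by
    intro y hy
    rw [Sylow.coe_subgroup_smul, Subgroup.mem_pointwise_smul_iff_inv_smul_mem] at hy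
    show σ y ∈ Twisted.Aut.Ut O.system
    rw [← hP, ← hx]
    refine ⟨_, ⟨_, hy, rfl⟩, ?_⟩
    show σ x' * σ ((MulAut.conj x')⁻¹ • y) * (σ x')⁻¹ = σ y
    rw [← map_inv σ x', ← map_mul σ, ← map_mul σ]
    congr 1
    simp [MulAut.smul_def]; group
  refine Cfsg.Agent.Lib.Schur.not_dvd_card_ker hσ Q fun a ha hak => Subtype.ext ?_
  have h2 : (a : Γ) ∈ (commutator (Q : Subgroup Γ)).map (Q : Subgroup Γ).subtype :=
    Subgroup.mem_map_of_mem _ ha
  rw [Subgroup.map_subtype_commutator] at h2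
  exact Subgroup.mem_bot.1 (key.le ⟨Subgroup.commutator_mono hQ hQ h2, hak⟩)

end Layer

end Cfsg.Agent.Lib.Schur.TwistD4P
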