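import Cfsg.Agent.Lib.Schur.TwistD4TwoAbs
import Cfsg.Agent.Lib.Schur.TwistUnip
import Cfsg.Agent.Lib.Schur.Sylow
import Cfsg.Agent.Lib.Twisted.Core.D4Group
import Cfsg.Agent.Lib.Chev.SL2Hom
import Cfsg.Agent.Lib.Twisted.Monomial

/-!
The `2`-part of the multiplier of `³D₄(2)` is trivial.
-/

set_option autoImplicit false
set_option maxRecDepth 4000

namespace Cfsg.Agent.Lib.Schur.TwistTwo

open Cfsg.Lie Cfsg.Agent.Lib.Chev Cfsg.Agent.Lib.Twisted Cfsg.Agent.Lib.Twisted.Core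
open scoped Matrix commutatorElement MatrixGroups

/-- Linear relations hold modulo a section once they hold on generators. -/
theorem rel_mem {G : Type*} [Group G] {H N : Subgroup G} {S : Set G} (hgen : Subgroup.closure S = H)
    (hcomm : ∀ x ∈ H, ∀ y ∈ H, ⁅x, y⁆ ∈ N) (f₁ f₂ f₃ : G →* G) (h₁ : ∀ x ∈ H, f₁ x ∈ H) (h₂ : ∀ x ∈ H, f₂ x ∈ H)
    (h₃ : ∀ x ∈ H, f₃ x ∈ H) (h : ∀ s ∈ S, f₁ s * f₂ s * f₃ s ∈ N) {x : G} (hx : x ∈ H) :
    f₁ x * f₂ x * f₃ x ∈ N := by
  have hn : (N.subgroupOf H).Normal := ⟨fun n hn x => by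
    rw [Subgroup.mem_subgroupOf] at hn ⊢
    have := mul_mem (hcomm _ x.2 _ n.2) hn
    rwa [commutatorElement_def, inv_mul_cancel_right] at this⟩
  let π := QuotientGroup.mk' (N.subgroupOf H)
  letI : CommGroup (↥H ⧸ N.subgroupOf H) :=
    { (inferInstance : Group (↥H ⧸ N.subgroupOf H)) with
      mul_comm := fun x y => by
        obtain ⟨x, rfl⟩ := QuotientGroup.mk'_surjective _ x
        obtain ⟨y, rfl⟩ := QuotientGroup.mk'_surjective _ y
        rw [← commutatorElement_eq_one_iff_mul_comm, ← map_commutatorElement, ← MonoidHom.mem_ker,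
          QuotientGroup.ker_mk', Subgroup.mem_subgroupOf]
        exact hcomm _ x.2 _ y.2 }
  let g₁ : ↥H →* ↥H := (f₁.comp H.subtype).codRestrict H fun x => h₁ x x.2
  let g₂ : ↥H →* ↥H := (f₂.comp H.subtype).codRestrict H fun x => h₂ x x.2
  let g₃ : ↥H →* ↥H := (f₃.comp H.subtype).codRestrict H fun x => h₃ x x.2
  let F : ↥H →* ↥H ⧸ N.subgroupOf H := π.comp g₁ * π.comp g₂ * π.comp g₃
  have key : ∀ y : ↥H, F y = 1 ↔ f₁ y * f₂ y * f₃ y ∈ N := fun y => by
    show π (g₁ y) * π (g₂ y) * π (g₃ y) = 1 ↔ _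
    rw [← map_mul, ← map_mul, ← MonoidHom.mem_ker, QuotientGroup.ker_mk', Subgroup.mem_subgroupOf]
    rfl
  have hle : H ≤ F.ker.map H.subtype := by
    refine hgen.ge.trans ((Subgroup.closure_le _).2 fun s hs => ?_)
    have hsH : s ∈ H := hgen.le (Subgroup.subset_closure hs)
    exact ⟨⟨s, hsH⟩, (key ⟨s, hsH⟩).2 (h s hs), rfl⟩
  obtain ⟨y, hy, rfl⟩ := hle hx
  exact (key y).1 hy

variable {K : Type*} [Field K]

/-- The root element, for every index. -/
def xr (r : ℕ) (t : K) : GL chevD4.Idx K :=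
  if hr : r < chevD4.nroots then xGL rootedD4.toChecked K hr t else 1

theorem xr_eq {r : ℕ} (hr : r < chevD4.nroots) (t : K) : xr r t = xGL rootedD4.toChecked K hr t := dif_pos hr

theorem xr_add (r : ℕ) (t u : K) : xr r t * xr r u = xr r (t + u) := by
  by_cases hr : r < chevD4.nroots
  · simp only [xr_eq hr]; exact rootedD4.toChecked.xGL_add hr t u
  · simp [xr, hr]

theorem xr_zero (r : ℕ) : (xr r 0 : GL chevD4.Idx K) = 1 := by
  have h := xr_add (K := K) r 0 0
  rw [add_zero] at h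
  exact mul_eq_left.1 h

/-- The root groups of a list of roots. -/
abbrev rg (L : List ℕ) : Subgroup (GL chevD4.Idx K) := rootGen chevD4 K {r | r ∈ L}

theorem xr_mem {L : List ℕ} {r : ℕ} (hr : r ∈ L) (hr' : r < chevD4.nroots) (t : K) :
    (xr r t : GL chevD4.Idx K) ∈ rg L :=
  mem_rootGen (r := r) (t := t) hr (by rw [xr_eq hr', coe_xGL])

attribute [irreducible] xr

/-- All indices are roots. -/
def chkLt (L : List ℕ) : Bool := L.all fun r => decide (r < chevD4.nroots)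

theorem lt_of_chk {L : List ℕ} (h : chkLt L = true) {r : ℕ} (hr : r ∈ L) : r < chevD4.nroots :=
  of_decide_eq_true (List.all_eq_true.1 h r hr)

theorem rg_eq_closure {L : List ℕ} (h : chkLt L = true) :
    Subgroup.closure {g : GL chevD4.Idx K | ∃ r ∈ L, ∃ t, g = xr r t} = rg L := by
  refine le_antisymm ((Subgroup.closure_le _).2 ?_) ((Subgroup.closure_le _).2 ?_)
  · rintro _ ⟨r, hr, t, rfl⟩; exact xr_mem hr (lt_of_chk h hr) t
  · rintro g ⟨r, t, hr, e⟩
    exact Subgroup.subset_closure ⟨r, hr, t, Units.ext (by rw [e, xr_eq (lt_of_chk h hr), coe_xGL])⟩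

theorem rg_nil : (rg [] : Subgroup (GL chevD4.Idx K)) = ⊥ := by
  rw [← rg_eq_closure (show chkLt [] = true from rfl)]; simp

/-- The commutators of the roots of two lists lie in a third. -/
def chkPair (A B N : List ℕ) : Bool :=
  A.all fun r => B.all fun s => decide (r = s) ||
    (decide (s ≠ ng chevD4 r) && (cTerms D4.cert r s).all fun c => decide (c.1 ∈ N))

theorem of_chkPair {A B N : List ℕ} (h : chkPair A B N = true) {r s : ℕ} (hr : r ∈ A) (hs : s ∈ B) (hne : r ≠ s) :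
    s ≠ ng chevD4 r ∧ ∀ c ∈ cTerms D4.cert r s, c.1 ∈ N := by
  simpa [chkPair, hne] using (List.all_eq_true.1 (List.all_eq_true.1 h r hr) s hs)

theorem xr_normalizes {A N : List ℕ} (hN : chkLt N = true) (hA : chkLt A = true) (h : chkPair A N N = true)
    {x : GL chevD4.Idx K} (hx : x ∈ rg A) {n : GL chevD4.Idx K} (hn : n ∈ rg N) : x * n * x⁻¹ ∈ rg N := by
  have hle : rg A ≤ Subgroup.normalizer ((rg N : Subgroup (GL chevD4.Idx K)) : Set (GL chevD4.Idx K)) := by
    refine (Subgroup.closure_le _).2 ?_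
    rintro g ⟨r, t, hr, e⟩
    exact rootedD4.toChecked.rootSubgroup_le_normalizer (fun s hs => lt_of_chk hN hs) (lt_of_chk hA hr)
      (fun s hs hne => of_chkPair h hr hs (Ne.symm hne)) (Subgroup.subset_closure ⟨t, e⟩)
  exact (Subgroup.mem_normalizer_iff.1 (hle hx) n).1 hn

theorem comm_mem {A B N : List ℕ} (hA : chkLt A = true) (hB : chkLt B = true) (hN : chkLt N = true)
    (h : chkPair A B N = true) (hAN : chkPair A N N = true) (hBN : chkPair B N N = true) {x y : GL chevD4.Idx K}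
    (hx : x ∈ rg A) (hy : y ∈ rg B) : ⁅x, y⁆ ∈ rg N := by
  have hC := rootedD4.toChecked
  have base : ∀ r ∈ A, ∀ s ∈ B, ∀ t u : K, ⁅(xr r t : GL chevD4.Idx K), xr s u⁆ ∈ rg N := by
    intro r hr s hs t u
    by_cases hrs : r = s
    · subst hrs
      rw [commutatorElement_eq_one_iff_mul_comm.2 (by rw [xr_add, xr_add, add_comm])]
      exact one_mem _
    obtain ⟨hne, hc⟩ := of_chkPair h hr hs hrs
    have hr' := lt_of_chk hA hr
    have hs' := lt_of_chk hB hs
    obtain ⟨w, hw, ew⟩ := hC.exists_wordGL (S := {a | a ∈ N}) (fun a ha => lt_of_chk hN ha)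
      (chevD4.commWord K r s t u) (by
        rw [hC.commWord_eq hr' hs']
        intro x hx
        obtain ⟨c, hc', rfl⟩ := List.mem_map.1 hx
        exact hc c hc')
    have e : xr s u * xr r t = xr r t * xr s u * w := Units.ext (by
      simp only [Units.val_mul, xr_eq hr', xr_eq hs', coe_xGL, ew]
      exact hC.commutator_formula hr' hs' (Ne.symm hrs) hne t u)
    have e' : ⁅xr r t, xr s u⁆ = xr r t * (xr s u * w⁻¹ * (xr s u)⁻¹) * (xr r t)⁻¹ := by
      rw [commutatorElement_def, show xr r t * xr s u * (xr r t)⁻¹ * (xr s u)⁻¹ =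
        xr r t * xr s u * (xr s u * xr r t)⁻¹ by group, e]; group
    rw [e']
    exact xr_normalizes hN hA hAN (xr_mem hr hr' t) (xr_normalizes hN hB hBN (xr_mem hs hs' u) (inv_mem hw))
  have step : ∀ r ∈ A, ∀ t : K, ∀ y ∈ rg (K := K) B, ⁅(xr r t : GL chevD4.Idx K), y⁆ ∈ rg N := by
    intro r hr t y hy
    rw [← rg_eq_closure hB] at hy
    induction hy using Subgroup.closure_induction with
    | mem z hz => obtain ⟨s, hs, u, rfl⟩ := hz; exact base r hr s hs t u
    | one => simp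
    | mul a c ha _ iha ihc =>
      rw [show ⁅xr r t, a * c⁆ = ⁅xr r t, a⁆ * (a * ⁅xr r t, c⁆ * a⁻¹) by simp only [commutatorElement_def]; group]
      exact mul_mem iha (xr_normalizes hN hB hBN ((rg_eq_closure (K := K) hB).le ha) ihc)
    | inv a ha iha =>
      rw [show ⁅xr r t, a⁻¹⁆ = a⁻¹ * ⁅xr r t, a⁆⁻¹ * a⁻¹⁻¹ by simp only [commutatorElement_def]; group]
      exact xr_normalizes hN hB hBN (inv_mem ((rg_eq_closure (K := K) hB).le ha)) (inv_mem iha)
  rw [← rg_eq_closure hA] at hx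
  induction hx using Subgroup.closure_induction with
  | mem z hz => obtain ⟨r, hr, t, rfl⟩ := hz; exact step r hr t y hy
  | one => simp
  | mul a c ha _ iha ihc =>
    rw [show ⁅a * c, y⁆ = a * ⁅c, y⁆ * a⁻¹ * ⁅a, y⁆ by simp only [commutatorElement_def]; group]
    exact mul_mem (xr_normalizes hN hA hAN ((rg_eq_closure (K := K) hA).le ha) ihc) iha
  | inv a ha iha =>
    rw [show ⁅a⁻¹, y⁆ = a⁻¹ * ⁅a, y⁆⁻¹ * a⁻¹⁻¹ by simp only [commutatorElement_def]; group]
    exact xr_normalizes hN hA hAN (inv_mem ((rg_eq_closure (K := K) hA).le ha)) (inv_mem iha)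

theorem rg_mono {A B : List ℕ} (h : A.all (fun r => decide (r ∈ B)) = true) :
    (rg A : Subgroup (GL chevD4.Idx K)) ≤ rg B :=
  rootGen_mono fun r hr => of_decide_eq_true (List.all_eq_true.1 h r hr)

/-- Two roots with commuting root groups. -/
def nilPair (r s : ℕ) : Bool :=
  decide (r < chevD4.nroots) && decide (s < chevD4.nroots) && decide (s ≠ r) && decide (s ≠ ng chevD4 r) &&
    decide (cTerms D4.cert r s = [])

/-- Two roots whose sum is a root. -/
def onePair (r s R : ℕ) : Bool :=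
  decide (r < chevD4.nroots) && decide (s < chevD4.nroots) && decide (R < chevD4.nroots) && decide (s ≠ r) &&
    decide (s ≠ ng chevD4 r) &&
    (decide (cTerms D4.cert r s = [(R, (1 : ℤ), 1, 1)]) || decide (cTerms D4.cert r s = [(R, (-1 : ℤ), 1, 1)]))

theorem comm_nil {r s : ℕ} (h : nilPair r s = true) (t u : K) : Commute (xr r t) (xr s u) := by
  simp only [nilPair, Bool.and_eq_true, decide_eq_true_eq] at h
  obtain ⟨⟨⟨⟨hr, hs⟩, h1⟩, h2⟩, hl⟩ := h
  have e := rootedD4.toChecked.commutator_formula (F := K) hr hs h1 h2 t u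
  rw [rootedD4.toChecked.commWord_eq hr hs, hl] at e
  refine (Units.ext ?_).symm
  simp only [Units.val_mul, xr_eq hr, xr_eq hs, coe_xGL]
  simpa [ChevalleyDatum.wordMat] using e

variable [CharP K 2]

theorem xr_mul_self (r : ℕ) (t : K) : xr r t * xr r t = 1 := by
  rw [xr_add, CharTwo.add_self_eq_zero, xr_zero]

theorem xr_inv (r : ℕ) (t : K) : (xr r t)⁻¹ = xr r t :=
  inv_eq_of_mul_eq_one_right (xr_mul_self r t)

theorem comm_one {r s R : ℕ} (h : onePair r s R = true) (t u : K) :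
    xr s u * xr r t = xr r t * xr s u * xr R (t * u) := by
  simp only [onePair, Bool.and_eq_true, Bool.or_eq_true, decide_eq_true_eq] at h
  obtain ⟨⟨⟨⟨⟨hr, hs⟩, hR⟩, h1⟩, h2⟩, hl⟩ := h
  have e := rootedD4.toChecked.commutator_formula (F := K) hr hs h1 h2 t u
  rw [rootedD4.toChecked.commWord_eq hr hs] at e
  refine Units.ext ?_
  simp only [Units.val_mul, xr_eq hr, xr_eq hs, xr_eq hR, coe_xGL]
  rcases hl with hl | hl <;> rw [hl] at e <;>
    simpa [ChevalleyDatum.wordMat, CharTwo.neg_eq, mul_assoc] using e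

/-- Conjugation by a root element of a root commuting with it after one step. -/
theorem conj_one {r s R : ℕ} (h : onePair r s R = true) (h' : nilPair r R = true) (t u : K) :
    xr r t * xr s u * (xr r t)⁻¹ = xr s u * xr R (t * u) := by
  have e := comm_one h t u
  calc xr r t * xr s u * (xr r t)⁻¹ = xr r t * xr s u * xr R (t * u) * xr R (t * u) * (xr r t)⁻¹ := by
        rw [mul_assoc (xr r t * xr s u), xr_mul_self, mul_one]
    _ = xr s u * (xr r t * xr R (t * u)) * (xr r t)⁻¹ := by rw [← e]; group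
    _ = _ := by rw [(comm_nil h' t _).eq]; group

theorem conj_nil {r s : ℕ} (h : nilPair r s = true) (t u : K) : xr r t * xr s u * (xr r t)⁻¹ = xr s u := by
  rw [(comm_nil h t u).eq]; group

/-- The element of order three. -/
abbrev gE : GL chevD4.Idx K := xr 14 1 * xr 9 1

/-- The involution. -/
abbrev bE : GL chevD4.Idx K := xr 14 1

theorem conj_gE (x : GL chevD4.Idx K) :
    gE * x * gE⁻¹ = xr 14 1 * (xr 9 1 * x * (xr 9 1)⁻¹) * (xr 14 1)⁻¹ := by group

/-- A pair of roots exchanged by the Levi factor. -/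
def gPair (r s : ℕ) : Bool :=
  onePair 14 r s && nilPair 14 s && nilPair 9 r && onePair 9 s r && nilPair r s

theorem g_pair {r s : ℕ} (h : gPair r s = true) (t : K) :
    gE * xr r t * gE⁻¹ = xr r t * xr s t ∧ gE * xr s t * gE⁻¹ = xr r t := by
  simp only [gPair, Bool.and_eq_true] at h
  obtain ⟨⟨⟨⟨h1, h2⟩, h3⟩, h4⟩, h5⟩ := h
  refine ⟨?_, ?_⟩
  · rw [conj_gE, conj_nil h3, conj_one h1 h2, one_mul]
  · rw [conj_gE, conj_one h4 h3, one_mul,
      show xr 14 1 * (xr s t * xr r t) * (xr 14 1)⁻¹ =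
        (xr 14 1 * xr s t * (xr 14 1)⁻¹) * (xr 14 1 * xr r t * (xr 14 1)⁻¹) by group,
      conj_nil h2, conj_one h1 h2, one_mul, ← mul_assoc, ← (comm_nil h5 t t).eq, mul_assoc, xr_mul_self, mul_one]

theorem g_fix {r : ℕ} (h1 : nilPair 14 r = true) (h2 : nilPair 9 r = true) (t : K) :
    gE * xr r t * gE⁻¹ = xr r t := by
  rw [conj_gE, conj_nil h2, conj_nil h1]

theorem g_norm_pair {r s : ℕ} (h : gPair r s = true) (t : K) :
    xr r t * (gE * xr r t * gE⁻¹) * (gE * gE * xr r t * (gE * gE)⁻¹) = 1 ∧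
      xr s t * (gE * xr s t * gE⁻¹) * (gE * gE * xr s t * (gE * gE)⁻¹) = 1 := by
  obtain ⟨h1, h2⟩ := g_pair h t
  have e : ∀ x : GL chevD4.Idx K, gE * gE * x * (gE * gE)⁻¹ = gE * (gE * x * gE⁻¹) * gE⁻¹ := fun x => by group
  have e1 : gE * (xr r t * xr s t) * gE⁻¹ = (gE * xr r t * gE⁻¹) * (gE * xr s t * gE⁻¹) := by group
  simp only [gPair, Bool.and_eq_true] at h
  have c := (comm_nil h.2 t t).eq
  have ss : ∀ a x, xr a t * (xr a t * x) = x := fun a x => by rw [← mul_assoc, xr_mul_self, one_mul]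
  have cs : ∀ x, xr r t * (xr s t * x) = xr s t * (xr r t * x) := fun x => by rw [← mul_assoc, c, mul_assoc]
  refine ⟨?_, ?_⟩
  · rw [e, h1, e1, h1, h2]
    simp only [mul_assoc, cs, c, ss, xr_mul_self, mul_one]
  · rw [e, h2, h1]
    simp only [mul_assoc, cs, c, ss, xr_mul_self, mul_one]

theorem gE_cube : (gE : GL chevD4.Idx K) * gE * gE = 1 := by
  obtain ⟨f, -, hf⟩ := rootedD4.hasSL2 (F := K) etaSigns_D4 14 (by decide) (by decide)
  have e : (gE : GL chevD4.Idx K) = f (RankOneData.upper 1 * RankOneData.lower 1) := by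
    rw [map_mul, (hf 1).1, (hf 1).2, gE, xr_eq (show 14 < chevD4.nroots by decide),
      xr_eq (show 9 < chevD4.nroots by decide)]
    congr 1
  rw [e, ← map_mul, ← map_mul, ← map_one f]
  congr 1
  apply Subtype.ext
  have h2 : ((RankOneData.upper (1 : K) * RankOneData.lower 1 : SL(2, K)) : Matrix (Fin 2) (Fin 2) K) =
      !![0, 1; 1, 1] := by
    rw [Matrix.SpecialLinearGroup.coe_mul]
    show !![1, 1; 0, 1] * !![1, 0; 1, 1] = (!![0, 1; 1, 1] : Matrix (Fin 2) (Fin 2) K)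
    simp [Matrix.mul_fin_two, CharTwo.add_self_eq_zero]
  rw [Matrix.SpecialLinearGroup.coe_mul, Matrix.SpecialLinearGroup.coe_mul, h2,
    Matrix.SpecialLinearGroup.coe_one, Matrix.one_fin_two]
  ext i j
  fin_cases i <;> fin_cases j <;> simp [Matrix.mul_apply, Fin.sum_univ_two, CharTwo.add_self_eq_zero]

/-- The exponents of the torus of order seven. -/
def expo (r : ℕ) : ℤ :=
  chevD4.cartan 0 r + 2 * chevD4.cartan 2 r + 4 * chevD4.cartan 3 r

/-- The parameters of the torus of order seven. -/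
def cT (u : Kˣ) : ℕ → Kˣ := fun i => if i = 0 then u else if i = 2 then u ^ 2 else if i = 3 then u ^ 4 else 1

theorem cT_mul (u v : Kˣ) : cT (u * v) = cT u * cT v := by
  funext i
  simp only [cT, Pi.mul_apply]
  split_ifs <;> simp [mul_pow]

/-- The torus of order seven. -/
noncomputable def tau : Kˣ →* GL chevD4.Idx K :=
  (torusHom chevD4 K).comp (MonoidHom.mk' cT cT_mul)

theorem torusFun_cT (u : Kˣ) (r : ℕ) : torusFun chevD4 (cT u) r = u ^ expo r := by
  rw [torusFun, d4rank]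
  simp only [Finset.prod_range_succ, Finset.prod_range_zero, one_mul, cT]
  simp only [↓reduceIte, OfNat.ofNat_ne_zero, Nat.reduceEqDiff, one_ne_zero, one_zpow, mul_one]
  rw [← zpow_natCast u 2, ← zpow_natCast u 4, ← zpow_mul, ← zpow_mul, ← zpow_add, ← zpow_add]
  rfl

theorem zpow_mod_seven {u : Kˣ} (hu : u ^ 7 = 1) {e : ℤ} {k : ℕ} (hk : e % 7 = k) : u ^ e = u ^ k := by
  conv_lhs => rw [← Int.emod_add_mul_ediv e 7, hk, zpow_add, zpow_mul, show u ^ (7 : ℤ) = u ^ 7 from rfl, hu,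
    one_zpow, mul_one, zpow_natCast]

theorem conj_tau {u : Kˣ} (hu : u ^ 7 = 1) {r k : ℕ} (hr : r < chevD4.nroots) (hk : expo r % 7 = k) (t : K) :
    tau u * xr r t * (tau u)⁻¹ = xr r ((u : K) ^ k * t) := by
  rw [xr_eq hr, xr_eq hr]
  show torusHom chevD4 K (cT u) * _ * (torusHom chevD4 K (cT u))⁻¹ = _
  rw [rootedD4.toChecked.conj_x hr, torusFun_cT, zpow_mod_seven hu hk, Units.val_pow_eq_pow_val]

theorem tau_fix {u : Kˣ} (hu : u ^ 7 = 1) {r : ℕ} (hr : r < chevD4.nroots) (hk : expo r % 7 = 0) (t : K) :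
    tau u * xr r t * (tau u)⁻¹ = xr r t := by
  rw [conj_tau hu (k := 0) hr hk, pow_zero, one_mul]

theorem tau_commute {u : Kˣ} (hu : u ^ 7 = 1) : Commute (tau u) (gE : GL chevD4.Idx K) ∧ Commute (tau u) bE := by
  have h : ∀ r, r < chevD4.nroots → expo r % 7 = 0 → Commute (tau u) (xr r 1) := fun r hr hk =>
    mul_inv_eq_iff_eq_mul.1 (tau_fix hu hr hk 1)
  have h14 := h 14 (by decide) (by decide +kernel)
  exact ⟨h14.mul_right (h 9 (by decide) (by decide +kernel)), h14⟩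

theorem tau_mem_normalizer (u : Kˣ) {L : List ℕ} (hL : chkLt L = true) {x : GL chevD4.Idx K} (hx : x ∈ rg L) :
    tau u * x * (tau u)⁻¹ ∈ rg L :=
  (Subgroup.mem_normalizer_iff.1 (rootedD4.toChecked.torus_le_normalizer (fun _ hr => lt_of_chk hL hr)
    ⟨cT u, rfl⟩) x).1 hx

theorem gE_normalizes {L : List ℕ} (hL : chkLt L = true) (h14 : chkPair [14] L L = true)
    (h9 : chkPair [9] L L = true) {x : GL chevD4.Idx K} (hx : x ∈ rg L) : gE * x * gE⁻¹ ∈ rg L := by
  rw [conj_gE]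
  exact xr_normalizes hL (by decide) h14 (xr_mem (by simp) (by decide) 1)
    (xr_normalizes hL (by decide) h9 (xr_mem (by simp) (by decide) 1) hx)

theorem bE_normalizes {L : List ℕ} (hL : chkLt L = true) (h14 : chkPair [14] L L = true) {x : GL chevD4.Idx K}
    (hx : x ∈ rg L) : bE * x * bE⁻¹ ∈ rg L :=
  xr_normalizes hL (by decide) h14 (xr_mem (by simp) (by decide) 1) hx

/-- The roots of the radical. -/
abbrev s₂ : List ℕ := [12, 13, 15, 16, 17, 18, 19, 20, 21, 22, 23]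

/-- The roots of the second layer. -/
abbrev s₁ : List ℕ := [17, 20, 21, 22, 23]

/-- The roots of the deepest layer. -/
abbrev s₀ : List ℕ := [22, 23]

theorem comm₂₂ {x y : GL chevD4.Idx K} (hx : x ∈ rg s₂) (hy : y ∈ rg s₂) : ⁅x, y⁆ ∈ rg s₁ :=
  comm_mem (by decide +kernel) (by decide +kernel) (by decide +kernel) (by decide +kernel) (by decide +kernel)
    (by decide +kernel) hx hy

theorem comm₂₁ {x y : GL chevD4.Idx K} (hx : x ∈ rg s₂) (hy : y ∈ rg s₁) : ⁅x, y⁆ ∈ rg s₀ :=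
  comm_mem (by decide +kernel) (by decide +kernel) (by decide +kernel) (by decide +kernel) (by decide +kernel)
    (by decide +kernel) hx hy

theorem comm₁₁ {x y : GL chevD4.Idx K} (hx : x ∈ rg s₁) (hy : y ∈ rg s₁) : ⁅x, y⁆ ∈ rg [] :=
  comm_mem (by decide +kernel) (by decide +kernel) (by decide +kernel) (by decide +kernel) (by decide +kernel)
    (by decide +kernel) hx hy

theorem comm₂₀ {x y : GL chevD4.Idx K} (hx : x ∈ rg s₂) (hy : y ∈ rg s₀) : Commute x y := by
  have h : ⁅x, y⁆ ∈ (rg [] : Subgroup (GL chevD4.Idx K)) :=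
    comm_mem (by decide +kernel) (by decide +kernel) (by decide +kernel) (by decide +kernel) (by decide +kernel)
      (by decide +kernel) hx hy
  rw [rg_nil, Subgroup.mem_bot, commutatorElement_eq_one_iff_mul_comm] at h
  exact h

theorem rg₁₂ : (rg s₁ : Subgroup (GL chevD4.Idx K)) ≤ rg s₂ := rg_mono (by decide)

theorem rg₀₁ : (rg s₀ : Subgroup (GL chevD4.Idx K)) ≤ rg s₁ := rg_mono (by decide)

theorem rg₀₂ : (rg s₀ : Subgroup (GL chevD4.Idx K)) ≤ rg s₂ := rg_mono (by decide)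

theorem sq_mem {L N : List ℕ} (hL : chkLt L = true) (hc : ∀ x ∈ rg (K := K) L, ∀ y ∈ rg (K := K) L, ⁅x, y⁆ ∈ (rg N : Subgroup (GL chevD4.Idx K)))
    {x : GL chevD4.Idx K} (hx : x ∈ rg L) : x * x ∈ rg N := by
  have h := rel_mem (rg_eq_closure hL) hc (MonoidHom.id _) (MonoidHom.id _) 1 (fun x hx => hx) (fun x hx => hx)
    (fun x _ => one_mem _) (fun s hs => by
      obtain ⟨r, -, t, rfl⟩ := hs
      simp [xr_mul_self]) hx
  simpa using h

theorem norm₂' {x : GL chevD4.Idx K} (hx : x ∈ rg s₂) : x * (gE * x * gE⁻¹) * (gE * gE * x * (gE * gE)⁻¹) ∈ rg s₁ := by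
  have hg : ∀ y ∈ rg s₂, gE * y * gE⁻¹ ∈ rg s₂ := fun y hy =>
    gE_normalizes (K := K) (by decide +kernel) (by decide +kernel) (by decide +kernel) hy
  refine rel_mem (rg_eq_closure (by decide +kernel)) (fun a ha c hc => comm₂₂ ha hc) (MonoidHom.id _)
    (MulAut.conj gE).toMonoidHom (MulAut.conj (gE * gE)).toMonoidHom (fun y hy => hy) hg
    (fun y hy => by
      show gE * gE * y * (gE * gE)⁻¹ ∈ rg s₂
      rw [show gE * gE * y * (gE * gE)⁻¹ = gE * (gE * y * gE⁻¹) * gE⁻¹ by group]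
      exact hg _ (hg _ hy)) ?_ hx
  rintro _ ⟨r, hr, t, rfl⟩
  show xr r t * (gE * xr r t * gE⁻¹) * (gE * gE * xr r t * (gE * gE)⁻¹) ∈ rg s₁
  have hp : ∀ a c, gPair a c = true → r = a ∨ r = c →
      xr r t * (gE * xr r t * gE⁻¹) * (gE * gE * xr r t * (gE * gE)⁻¹) ∈ rg s₁ := by
    intro a c h e
    rcases e with rfl | rfl
    · rw [(g_norm_pair h t).1]; exact one_mem _
    · rw [(g_norm_pair h t).2]; exact one_mem _
  have hw : r ∈ ([17, 20, 21] : List ℕ) →
      xr r t * (gE * xr r t * gE⁻¹) * (gE * gE * xr r t * (gE * gE)⁻¹) ∈ rg s₁ := fun hr' => by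
    have hn : nilPair 14 r = true ∧ nilPair 9 r = true := by
      have : ∀ a ∈ ([17, 20, 21] : List ℕ), nilPair 14 a = true ∧ nilPair 9 a = true := by decide +kernel
      exact this r hr'
    rw [show gE * gE * xr r t * (gE * gE)⁻¹ = gE * (gE * xr r t * gE⁻¹) * gE⁻¹ by group, g_fix hn.1 hn.2,
      g_fix hn.1 hn.2, xr_mul_self, one_mul]
    have : r ∈ s₁ := by fin_cases hr' <;> simp
    exact xr_mem this (lt_of_chk (L := s₁) (by decide +kernel) this) t
  fin_cases hr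
  · exact hp 12 15 (by decide +kernel) (Or.inl rfl)
  · exact hp 13 16 (by decide +kernel) (Or.inl rfl)
  · exact hp 12 15 (by decide +kernel) (Or.inr rfl)
  · exact hp 13 16 (by decide +kernel) (Or.inr rfl)
  · exact hw (by simp)
  · exact hp 18 19 (by decide +kernel) (Or.inl rfl)
  · exact hp 18 19 (by decide +kernel) (Or.inr rfl)
  · exact hw (by simp)
  · exact hw (by simp)
  · exact hp 22 23 (by decide +kernel) (Or.inl rfl)
  · exact hp 22 23 (by decide +kernel) (Or.inr rfl)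

theorem norm₀' {x : GL chevD4.Idx K} (hx : x ∈ rg s₀) : x * (gE * x * gE⁻¹) * (gE * gE * x * (gE * gE)⁻¹) = 1 := by
  rw [← Subgroup.mem_bot, ← rg_nil]
  have hg : ∀ y ∈ rg s₀, gE * y * gE⁻¹ ∈ rg s₀ := fun y hy =>
    gE_normalizes (K := K) (by decide +kernel) (by decide +kernel) (by decide +kernel) hy
  refine rel_mem (rg_eq_closure (by decide +kernel)) (fun a ha c hc => comm₁₁ (rg₀₁ ha) (rg₀₁ hc))
    (MonoidHom.id _) (MulAut.conj gE).toMonoidHom (MulAut.conj (gE * gE)).toMonoidHom (fun y hy => hy) hg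
    (fun y hy => by
      show gE * gE * y * (gE * gE)⁻¹ ∈ rg s₀
      rw [show gE * gE * y * (gE * gE)⁻¹ = gE * (gE * y * gE⁻¹) * gE⁻¹ by group]
      exact hg _ (hg _ hy)) ?_ hx
  rintro _ ⟨r, hr, t, rfl⟩
  show xr r t * (gE * xr r t * gE⁻¹) * (gE * gE * xr r t * (gE * gE)⁻¹) ∈ rg []
  fin_cases hr
  · rw [(g_norm_pair (r := 22) (s := 23) (by decide +kernel) t).1]; exact one_mem _
  · rw [(g_norm_pair (r := 22) (s := 23) (by decide +kernel) t).2]; exact one_mem _

theorem gW' {x : GL chevD4.Idx K} (hx : x ∈ rg s₁) : gE * x * gE⁻¹ * x⁻¹ ∈ rg s₀ := by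
  have hsq : x * x = 1 := by
    rw [← Subgroup.mem_bot, ← rg_nil]
    exact sq_mem (by decide +kernel) (fun a ha c hc => comm₁₁ ha hc) hx
  have h : gE * x * gE⁻¹ * x * 1 ∈ (rg s₀ : Subgroup (GL chevD4.Idx K)) := by
    refine rel_mem (rg_eq_closure (by decide +kernel)) (fun a ha c hc => comm₂₁ (rg₁₂ ha) hc)
      (MulAut.conj gE).toMonoidHom (MonoidHom.id _) 1
      (fun y hy => gE_normalizes (by decide +kernel) (by decide +kernel) (by decide +kernel) hy) (fun y hy => hy)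
      (fun y _ => one_mem _) ?_ hx
    rintro _ ⟨r, hr, t, rfl⟩
    show gE * xr r t * gE⁻¹ * xr r t * 1 ∈ rg s₀
    rw [mul_one]
    have h0 : r ∈ s₀ → gE * xr r t * gE⁻¹ * xr r t ∈ rg s₀ := fun hr' => by
      have h := xr_mem hr' (lt_of_chk (L := s₀) (by decide +kernel) hr') t
      exact mul_mem (gE_normalizes (by decide +kernel) (by decide +kernel) (by decide +kernel) h) h
    have hn : nilPair 14 r = true → nilPair 9 r = true → gE * xr r t * gE⁻¹ * xr r t ∈ rg s₀ := fun a c => by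
      rw [g_fix a c, xr_mul_self]; exact one_mem _
    fin_cases hr
    · exact hn (by decide +kernel) (by decide +kernel)
    · exact hn (by decide +kernel) (by decide +kernel)
    · exact hn (by decide +kernel) (by decide +kernel)
    · exact h0 (by simp)
    · exact h0 (by simp)
  rw [inv_eq_of_mul_eq_one_right hsq]
  simpa using h

/-- The weights of the torus on a layer. -/
theorem cube' {u : Kˣ} (hu : u ^ 7 = 1) (hroot : ∀ k ∈ ([1, 2, 4] : List ℕ), (u : K) ^ (3 * k) + (u : K) ^ k + 1 = 0)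
    {v : Kˣ} (hv : v ^ 7 = 1) {L N : List ℕ} (hL : chkLt L = true) (hNL : chkLt N = true)
    (hc : ∀ x ∈ rg (K := K) L, ∀ y ∈ rg (K := K) L, ⁅x, y⁆ ∈ (rg N : Subgroup (GL chevD4.Idx K)))
    (hcase : ∀ r ∈ L, r ∈ N ∨ ∃ k ∈ ([1, 2, 4] : List ℕ), ∃ j : ℕ, expo r % 7 = j ∧ (v : K) ^ j = (u : K) ^ k)
    {x : GL chevD4.Idx K} (hx : x ∈ rg L) :
    tau v * tau v * tau v * x * (tau v * tau v * tau v)⁻¹ * (tau v * x * (tau v)⁻¹) * x ∈ rg N := by
  have hv3 : (v * v * v) ^ 7 = 1 := by simp [mul_pow, hv]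
  rw [← map_mul, ← map_mul]
  refine rel_mem (rg_eq_closure hL) hc (MulAut.conj (tau (v * v * v))).toMonoidHom
    (MulAut.conj (tau v)).toMonoidHom (MonoidHom.id _) (fun y hy => tau_mem_normalizer _ hL hy)
    (fun y hy => tau_mem_normalizer _ hL hy) (fun y hy => hy) ?_ hx
  rintro _ ⟨r, hr, t, rfl⟩
  show tau (v * v * v) * xr r t * (tau (v * v * v))⁻¹ * (tau v * xr r t * (tau v)⁻¹) * xr r t ∈ rg N
  rcases hcase r hr with h | ⟨k, hk, j, hj, hjk⟩
  · have h1 := xr_mem h (lt_of_chk hNL h) t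
    exact mul_mem (mul_mem (tau_mem_normalizer _ hNL h1) (tau_mem_normalizer _ hNL h1)) h1
  · rw [conj_tau hv3 (lt_of_chk hL hr) hj, conj_tau hv (lt_of_chk hL hr) hj, xr_add, xr_add]
    have e : ((v * v * v : Kˣ) : K) ^ j * t + (v : K) ^ j * t + t = 0 := by
      have h3 : ((v * v * v : Kˣ) : K) ^ j = (u : K) ^ (3 * k) := by
        rw [Units.val_mul, Units.val_mul, mul_pow, mul_pow, hjk, ← pow_add, ← pow_add]; congr 1; omega
      rw [h3, hjk, ← add_mul]
      calc ((u : K) ^ (3 * k) + (u : K) ^ k) * t + t = ((u : K) ^ (3 * k) + (u : K) ^ k + 1) * t := by ring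
        _ = 0 := by rw [hroot k hk, zero_mul]
    rw [e, xr_zero]
    exact one_mem _

theorem exists_root [Fintype K] (hK : Fintype.card K = 2 ^ 3) : ∃ u : Kˣ, u ^ 7 = 1 ∧
    ∀ k ∈ ([1, 2, 4] : List ℕ), (u : K) ^ (3 * k) + (u : K) ^ k + 1 = 0 := by
  classical
  obtain ⟨a, ha⟩ : ∃ a : K, a ∉ ({0, 1} : Finset K) := by
    by_contra hn
    have h1 : (Finset.univ : Finset K) ⊆ {0, 1} := fun x _ => by by_contra hx; exact hn ⟨x, hx⟩
    have h2 := (Finset.card_le_card h1).trans Finset.card_le_two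
    rw [Finset.card_univ, hK] at h2
    omega
  simp only [Finset.mem_insert, Finset.mem_singleton, not_or] at ha
  have h8 : a ^ 7 = 1 := by
    have := FiniteField.pow_card_sub_one_eq_one a ha.1
    rw [hK] at this; simpa using this
  have h2 : (2 : K) = 0 := CharTwo.two_eq_zero
  have hne : a - 1 ≠ 0 := sub_ne_zero.2 ha.2
  have hprod : (a ^ 3 + a + 1) * (a ^ 3 + a ^ 2 + 1) = 0 := by
    refine (mul_eq_zero.1 (?_ : (a - 1) * ((a ^ 3 + a + 1) * (a ^ 3 + a ^ 2 + 1)) = 0)).resolve_left hne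
    linear_combination h8 + (a ^ 4 - a ^ 3) * h2
  obtain ⟨b, hb0, hb7, hb⟩ : ∃ b : K, b ≠ 0 ∧ b ^ 7 = 1 ∧ b ^ 3 + b + 1 = 0 := by
    rcases mul_eq_zero.1 hprod with h | h
    · exact ⟨a, ha.1, h8, h⟩
    · refine ⟨a⁻¹, inv_ne_zero ha.1, by rw [inv_pow, h8, inv_one], ?_⟩
      field_simp [ha.1]
      linear_combination h
  refine ⟨Units.mk0 b hb0, Units.ext (by simp [hb7]), fun k hk => ?_⟩
  simp only [Units.val_mk0]
  have e2 : b ^ 6 + b ^ 2 + 1 = 0 := by linear_combination (b ^ 3 + b + 1) * hb - (b ^ 4 + b ^ 3 + b) * h2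
  fin_cases hk
  · simpa using hb
  · linear_combination e2
  · linear_combination (b ^ 6 + b ^ 2 + 1) * e2 - (b ^ 8 + b ^ 6 + b ^ 2) * h2

section Fixed

variable [Fintype K] (hK : Fintype.card K = 2 ^ 3) {φ : K ≃+* K} (hφ : ∀ t, φ t = t ^ 2)
  (h3 : ∀ t, φ (φ (φ t)) = t)

theorem sig_xr {r : ℕ} (hr : r < chevD4.nroots) (hs : d4Graph.sign r = 1 ∨ d4Graph.sign r = -1) (t : K) :
    (d4Twist φ).sig (xr r t) = xr (d4Graph.root r) (φ t) := by
  have e : ((d4Graph.sign r : ℤ) : K) * φ t = φ t := by rcases hs with h | h <;> simp [h, CharTwo.neg_eq]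
  have hr2 : d4Graph.root r < chevD4.nroots := ((d4Twist φ).rho ⟨r, hr⟩).2
  rw [xr_eq hr, xr_eq hr2]
  exact ((d4Twist φ).sig_x hr t).trans (by
    rw [show (d4Twist φ).f r t = φ t from (graphTwist_f rootedD4 d4Graph_facts chkGraph_D4 φ r t).trans e]
    rfl)

include hK hφ h3 in
theorem mem_iff_fixed {g : GL chevD4.Idx K} :
    g ∈ twistedD4 K 2 ↔ g ∈ chevD4.group K ∧ (d4Twist φ).sig g = g := by
  have e : twistedD4 K 2 = (d4Twist φ).fixedGroup :=
    (d4Orbits (Nat.prime_two.isPrimePow) hK φ hφ h3).system.eq_fixedGroup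
  rw [e, Twist.mem_fixedGroup]

theorem xr_group {r : ℕ} (hr : r < chevD4.nroots) (t : K) : (xr r t : GL chevD4.Idx K) ∈ chevD4.group K := by
  rw [xr_eq hr]; exact rootedD4.toChecked.xGL_mem_group hr t

include hK hφ h3 in
theorem fixed_root {r : ℕ} (hr : r < chevD4.nroots) (hρ : d4Graph.root r = r)
    (hs : d4Graph.sign r = 1 ∨ d4Graph.sign r = -1) : (xr r 1 : GL chevD4.Idx K) ∈ twistedD4 K 2 :=
  (mem_iff_fixed hK hφ h3).2 ⟨xr_group hr 1, by rw [sig_xr hr hs, hρ, map_one]⟩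

/-- A free orbit of commuting roots. -/
def chkOrbit3 (a b c : ℕ) : Bool :=
  ([a, b, c].all fun r => decide (r < chevD4.nroots) && (decide (d4Graph.sign r = 1) || decide (d4Graph.sign r = -1))) &&
    decide (d4Graph.root a = b) && decide (d4Graph.root b = c) && decide (d4Graph.root c = a) &&
    nilPair a b && nilPair a c && nilPair b c

include hK hφ h3 in
theorem fixed_orbit {a b c : ℕ} (h : chkOrbit3 a b c = true) :
    xr a 1 * xr b 1 * xr c 1 ∈ twistedD4 K 2 := by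
  simp only [chkOrbit3, List.all_cons, List.all_nil, Bool.and_eq_true, Bool.or_eq_true, decide_eq_true_eq,
    and_true] at h
  obtain ⟨⟨⟨⟨⟨⟨⟨⟨ha, sa⟩, ⟨hb, sb⟩, ⟨hc, sc⟩⟩, e1⟩, e2⟩, e3⟩, nab⟩, nac⟩, nbc⟩ := h
  refine (mem_iff_fixed hK hφ h3).2 ⟨mul_mem (mul_mem (xr_group ha 1) (xr_group hb 1)) (xr_group hc 1), ?_⟩
  rw [(d4Twist φ).sig_mul (mul_mem (xr_group ha 1) (xr_group hb 1)) (xr_group hc 1),
    (d4Twist φ).sig_mul (xr_group ha 1) (xr_group hb 1), sig_xr ha sa, sig_xr hb sb, sig_xr hc sc, e1, e2, e3,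
    map_one]
  exact ((comm_nil nab 1 1).mul_right (comm_nil nac 1 1)).symm.eq.trans (mul_assoc _ _ _).symm

omit [CharP K 2] [Fintype K] in
theorem rg_singleton {r : ℕ} (hr : r < chevD4.nroots) {g : GL chevD4.Idx K} (hg : g ∈ rg [r]) :
    ∃ t, g = xr r t := by
  have hr' : chkLt [r] = true := by simp [chkLt, hr]
  rw [← rg_eq_closure hr'] at hg
  induction hg using Subgroup.closure_induction with
  | mem x hx =>
    obtain ⟨s, hs, t, rfl⟩ := hx
    obtain rfl : s = r := by simpa using hs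
    exact ⟨t, rfl⟩
  | one => exact ⟨0, (xr_zero r).symm⟩
  | mul a b _ _ ha hb => obtain ⟨t, rfl⟩ := ha; obtain ⟨u, rfl⟩ := hb; exact ⟨t + u, xr_add r t u⟩
  | inv a _ ha =>
    obtain ⟨t, rfl⟩ := ha
    exact ⟨-t, inv_eq_of_mul_eq_one_right (by rw [xr_add, add_neg_cancel, xr_zero])⟩

include hK hφ h3 in
/-- A fixed product over two disjoint invariant closed sets has fixed factors. -/
theorem fixed_factors {A B : List ℕ} (hA : {x | x ∈ A} ⊆ posSet chevD4) (hB : {x | x ∈ B} ⊆ posSet chevD4)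
    (hAc : ClosedSet chevD4 D4.cert {x | x ∈ A}) (hBc : ClosedSet chevD4 D4.cert {x | x ∈ B})
    (hd : ∀ r ∈ A, r ∉ B) (hρA : ∀ r ∈ A, d4Graph.root r ∈ A) (hρB : ∀ r ∈ B, d4Graph.root r ∈ B)
    {a b : GL chevD4.Idx K} (ha : a ∈ rg A) (hb : b ∈ rg B) (h : a * b ∈ twistedD4 K 2) :
    a ∈ twistedD4 K 2 ∧ b ∈ twistedD4 K 2 := by
  have haG : a ∈ chevD4.group K := rootGen_le_group (fun r hr => (hA hr).2) ha
  have hbG : b ∈ chevD4.group K := rootGen_le_group (fun r hr => (hB hr).2) hb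
  have hgf := ((mem_iff_fixed hK hφ h3).1 h).2
  rw [(d4Twist φ).sig_mul haG hbG] at hgf
  have h1 : a⁻¹ * (d4Twist φ).sig a = b * ((d4Twist φ).sig b)⁻¹ := by
    calc a⁻¹ * (d4Twist φ).sig a =
        a⁻¹ * ((d4Twist φ).sig a * (d4Twist φ).sig b) * ((d4Twist φ).sig b)⁻¹ := by group
      _ = _ := by rw [hgf]; group
  have h2 : a⁻¹ * (d4Twist φ).sig a = 1 := TwistLift.RootLayers.rootGen_disjoint rootedD4 hA hB hAc hBc hd
    (mul_mem (inv_mem ha) ((d4Twist φ).sig_rootGen (fun r hr => (hA hr).2) (fun r hr => hρA r.val hr) ha))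
    (h1 ▸ mul_mem hb (inv_mem ((d4Twist φ).sig_rootGen (fun r hr => (hB hr).2) (fun r hr => hρB r.val hr) hb)))
  have haf : a ∈ twistedD4 K 2 := (mem_iff_fixed hK hφ h3).2 ⟨haG, (inv_mul_eq_one.1 h2).symm⟩
  refine ⟨haf, ?_⟩
  rw [show b = a⁻¹ * (a * b) by group]
  exact mul_mem (inv_mem haf) h

include hK hφ h3 in
theorem fixed_single {r : ℕ} (hr : r < chevD4.nroots) (hρ : d4Graph.root r = r)
    (hs : d4Graph.sign r = 1 ∨ d4Graph.sign r = -1) {g : GL chevD4.Idx K} (hg : g ∈ rg [r])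
    (hG : g ∈ twistedD4 K 2) : g = 1 ∨ g = xr r 1 := by
  obtain ⟨t, rfl⟩ := rg_singleton hr hg
  have e := ((mem_iff_fixed hK hφ h3).1 hG).2
  rw [sig_xr hr hs, hρ, xr_eq hr, xr_eq hr] at e
  have e' : φ t = t := rootedD4.toChecked.x_injective hr (congrArg Units.val e)
  have : t = 0 ∨ t = 1 := by
    have h2 : t * (t - 1) = 0 := by rw [hφ] at e'; linear_combination e'
    rcases mul_eq_zero.1 h2 with h2 | h2
    exacts [Or.inl h2, Or.inr (sub_eq_zero.1 h2)]
  rcases this with rfl | rfl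
  · exact Or.inl (xr_zero r)
  · exact Or.inr rfl

end Fixed

/-- The layers inside the twisted group. -/
abbrev wSub (K : Type*) [Field K] (L : List ℕ) : Subgroup ↥(twistedD4 K 2) := (rg (K := K) L).subgroupOf (twistedD4 K 2)

variable [Fintype K]

theorem gen₀_le (hK : Fintype.card K = 2 ^ 3) {φ : K ≃+* K} (hφ : ∀ t, φ t = t ^ 2) (h3 : ∀ t, φ (φ (φ t)) = t) :
    wSub K s₀ ≤ Subgroup.closure {z | ∃ y ∈ wSub K s₂, ∃ w ∈ wSub K s₁, z = ⁅y, w⁆} := by
  have hg : (gE : GL chevD4.Idx K) ∈ twistedD4 K 2 :=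
    mul_mem (fixed_root hK hφ h3 (by decide) (by decide) (by decide))
      (fixed_root hK hφ h3 (by decide) (by decide) (by decide))
  have hy := fixed_orbit hK hφ h3 (a := 18) (b := 13) (c := 12) (by decide +kernel)
  have hw := fixed_orbit hK hφ h3 (a := 17) (b := 20) (c := 21) (by decide +kernel)
  intro x hx
  have hgen : ∀ (a : ↥(twistedD4 K 2)), (a : GL chevD4.Idx K) ∈ rg s₂ → ∀ c : ↥(twistedD4 K 2),
      (c : GL chevD4.Idx K) ∈ rg s₁ → ⁅a, c⁆ ∈
        Subgroup.closure {z | ∃ y ∈ wSub K s₂, ∃ w ∈ wSub K s₁, z = ⁅y, w⁆} :=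
    fun a ha c hc => Subgroup.subset_closure ⟨a, ha, c, hc, rfl⟩
  have hys : xr 18 1 * xr 13 1 * xr 12 1 ∈ rg (K := K) s₂ :=
    mul_mem (mul_mem (xr_mem (by simp) (by decide) 1) (xr_mem (by simp) (by decide) 1))
      (xr_mem (by simp) (by decide) 1)
  have hws : xr 17 1 * xr 20 1 * xr 21 1 ∈ rg (K := K) s₁ :=
    mul_mem (mul_mem (xr_mem (by simp) (by decide) 1) (xr_mem (by simp) (by decide) 1))
      (xr_mem (by simp) (by decide) 1)
  have h22 : ⁅(xr 18 1 * xr 13 1 * xr 12 1 : GL chevD4.Idx K), (xr 17 1 * xr 20 1 * xr 21 1 : GL chevD4.Idx K)⁆ =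
      (xr 22 1 : GL chevD4.Idx K) := by
    have c := fun {r s : ℕ} (h : nilPair r s = true) => (comm_nil (K := K) h 1 1).eq
    set w : GL chevD4.Idx K := xr 17 1 * xr 20 1 * xr 21 1
    set z : GL chevD4.Idx K := xr 22 1 with hz
    have cz : Commute z w := (Commute.mul_right (Commute.mul_right (c (r := 22) (s := 17) (by decide +kernel))
      (c (r := 22) (s := 20) (by decide +kernel))) (c (r := 22) (s := 21) (by decide +kernel)))
    have e18 : xr 18 1 * w * (xr 18 1)⁻¹ = z * w := by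
      rw [show xr 18 1 * w * (xr 18 1)⁻¹ = (xr 18 1 * xr 17 1 * (xr 18 1)⁻¹) *
          (xr 18 1 * xr 20 1 * (xr 18 1)⁻¹) * (xr 18 1 * xr 21 1 * (xr 18 1)⁻¹) by simp only [w]; group,
        conj_one (r := 18) (s := 17) (R := 22) (by decide +kernel) (by decide +kernel),
        conj_nil (r := 18) (s := 20) (by decide +kernel), conj_nil (r := 18) (s := 21) (by decide +kernel),
        one_mul, ← hz, ← c (r := 22) (s := 17) (by decide +kernel)]
      simp only [w, hz, mul_assoc]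
    have e13 : xr 13 1 * w * (xr 13 1)⁻¹ = z * w := by
      rw [show xr 13 1 * w * (xr 13 1)⁻¹ = (xr 13 1 * xr 17 1 * (xr 13 1)⁻¹) *
          (xr 13 1 * xr 20 1 * (xr 13 1)⁻¹) * (xr 13 1 * xr 21 1 * (xr 13 1)⁻¹) by simp only [w]; group,
        conj_one (r := 13) (s := 20) (R := 22) (by decide +kernel) (by decide +kernel),
        conj_nil (r := 13) (s := 17) (by decide +kernel), conj_nil (r := 13) (s := 21) (by decide +kernel),
        one_mul, ← hz, ← c (r := 22) (s := 20) (by decide +kernel), ← hz, ← mul_assoc (xr 17 1) z,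
        ← c (r := 22) (s := 17) (by decide +kernel)]
      simp only [w, hz, mul_assoc]
    have e12 : xr 12 1 * w * (xr 12 1)⁻¹ = z * w := by
      rw [show xr 12 1 * w * (xr 12 1)⁻¹ = (xr 12 1 * xr 17 1 * (xr 12 1)⁻¹) *
          (xr 12 1 * xr 20 1 * (xr 12 1)⁻¹) * (xr 12 1 * xr 21 1 * (xr 12 1)⁻¹) by simp only [w]; group,
        conj_one (r := 12) (s := 21) (R := 22) (by decide +kernel) (by decide +kernel),
        conj_nil (r := 12) (s := 17) (by decide +kernel), conj_nil (r := 12) (s := 20) (by decide +kernel),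
        one_mul, ← hz, ← mul_assoc, cz.eq]
    have hc : ∀ r, nilPair r 22 = true → xr r 1 * z * (xr r 1)⁻¹ = z := fun r hr => conj_nil hr 1 1
    have hzz : z * z = 1 := xr_mul_self 22 1
    rw [commutatorElement_def]
    rw [show xr 18 1 * xr 13 1 * xr 12 1 * w * (xr 18 1 * xr 13 1 * xr 12 1)⁻¹ =
        xr 18 1 * (xr 13 1 * (xr 12 1 * w * (xr 12 1)⁻¹) * (xr 13 1)⁻¹) * (xr 18 1)⁻¹ by group, e12,
      show xr 13 1 * (z * w) * (xr 13 1)⁻¹ = (xr 13 1 * z * (xr 13 1)⁻¹) * (xr 13 1 * w * (xr 13 1)⁻¹) by group,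
      hc 13 (by decide +kernel), e13, show z * (z * w) = w by rw [← mul_assoc, hzz, one_mul], e18, mul_inv_cancel_right]
  have m22 : ∀ hh, (⟨xr 22 1, hh⟩ : ↥(twistedD4 K 2)) ∈
      Subgroup.closure {z | ∃ y ∈ wSub K s₂, ∃ w ∈ wSub K s₁, z = ⁅y, w⁆} := fun hh => by
    have e : ⁅(⟨_, hy⟩ : ↥(twistedD4 K 2)), (⟨_, hw⟩ : ↥(twistedD4 K 2))⁆ = ⟨xr 22 1, hh⟩ := Subtype.ext h22
    rw [← e]
    exact hgen ⟨_, hy⟩ hys ⟨_, hw⟩ hws
  have h22m : (xr 22 1 : GL chevD4.Idx K) ∈ twistedD4 K 2 :=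
    fixed_root hK hφ h3 (by decide) (by decide) (by decide)
  have h23m : (xr 23 1 : GL chevD4.Idx K) ∈ twistedD4 K 2 :=
    fixed_root hK hφ h3 (by decide) (by decide) (by decide)
  have m23 : (⟨xr 23 1, h23m⟩ : ↥(twistedD4 K 2)) ∈
      Subgroup.closure {z | ∃ y ∈ wSub K s₂, ∃ w ∈ wSub K s₁, z = ⁅y, w⁆} := by
    have h1 : gE * (xr 18 1 * xr 13 1 * xr 12 1) * gE⁻¹ ∈ rg (K := K) s₂ :=
      gE_normalizes (by decide +kernel) (by decide +kernel) (by decide +kernel) hys
    have h2 : gE * (xr 17 1 * xr 20 1 * xr 21 1) * gE⁻¹ ∈ rg (K := K) s₁ :=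
      gE_normalizes (by decide +kernel) (by decide +kernel) (by decide +kernel) hws
    have := hgen ((⟨_, hg⟩ : ↥(twistedD4 K 2)) * ⟨_, hy⟩ * (⟨_, hg⟩ : ↥(twistedD4 K 2))⁻¹)
      (by rw [Subgroup.coe_mul, Subgroup.coe_mul, Subgroup.coe_inv]; exact h1)
      ((⟨_, hg⟩ : ↥(twistedD4 K 2)) * ⟨_, hw⟩ * (⟨_, hg⟩ : ↥(twistedD4 K 2))⁻¹)
      (by rw [Subgroup.coe_mul, Subgroup.coe_mul, Subgroup.coe_inv]; exact h2)
    refine (Subgroup.mul_mem_cancel_left _ (m22 h22m)).1 ?_
    have e : (⟨xr 22 1, h22m⟩ : ↥(twistedD4 K 2)) * ⟨xr 23 1, h23m⟩ =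
        ⁅(⟨_, hg⟩ * ⟨_, hy⟩ * ⟨_, hg⟩⁻¹ : ↥(twistedD4 K 2)), (⟨_, hg⟩ * ⟨_, hw⟩ * ⟨_, hg⟩⁻¹ : ↥(twistedD4 K 2))⁆ := by
      refine Subtype.ext ?_
      simp only [commutatorElement_def, Subgroup.coe_mul, Subgroup.coe_inv]
      rw [← (g_pair (r := 22) (s := 23) (by decide +kernel) 1).1, ← h22, commutatorElement_def]
      group
    rw [e]
    exact this
  have hle : rg s₀ ≤ rg (K := K) [22] ⊔ rg [23] := by
    rw [← rg_eq_closure (show chkLt s₀ = true by decide +kernel), Subgroup.closure_le]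
    rintro _ ⟨r, hr, t, rfl⟩
    fin_cases hr
    exacts [Subgroup.mem_sup_left (xr_mem (by simp) (by decide) t),
      Subgroup.mem_sup_right (xr_mem (by simp) (by decide) t)]
  have hn : (rg [22] : Subgroup (GL chevD4.Idx K)) ≤
      Subgroup.normalizer ((rg [23] : Subgroup (GL chevD4.Idx K)) : Set (GL chevD4.Idx K)) := by
    refine fun a ha => Subgroup.mem_normalizer_iff.2 fun b => ⟨fun hb => ?_, fun hb => ?_⟩
    · exact xr_normalizes (by decide +kernel) (by decide +kernel) (by decide +kernel) ha hb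
    · have := xr_normalizes (K := K) (show chkLt [23] = true by decide +kernel)
        (show chkLt [22] = true by decide +kernel) (by decide +kernel) (inv_mem ha) hb
      rwa [show a⁻¹ * (a * b * a⁻¹) * a⁻¹⁻¹ = b by group] at this
  have hx' : (x : GL chevD4.Idx K) ∈ (↑(rg [22] ⊔ rg [23] : Subgroup (GL chevD4.Idx K)) : Set (GL chevD4.Idx K)) :=
    hle hx
  rw [Subgroup.coe_mul_of_left_le_normalizer_right _ _ hn] at hx'
  obtain ⟨a, ha, c, hc, e⟩ := hx'
  have hac : a * c ∈ twistedD4 K 2 := by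
    rw [show a * c = (x : GL chevD4.Idx K) from e]; exact x.2
  obtain ⟨haf, hcf⟩ := fixed_factors hK hφ h3 (A := [22]) (B := [23])
    (fun r hr => by
      obtain rfl : r = 22 := by simpa using hr
      exact ⟨by decide, by decide⟩)
    (fun r hr => by
      obtain rfl : r = 23 := by simpa using hr
      exact ⟨by decide, by decide⟩)
    (fun r hr s hs h1 => absurd (show s = r by simp only [Set.mem_setOf_eq, List.mem_singleton] at hr hs; omega) h1)
    (fun r hr s hs h1 => absurd (show s = r by simp only [Set.mem_setOf_eq, List.mem_singleton] at hr hs; omega) h1)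
    (by decide) (by decide) (by decide) ha hc hac
  rw [show x = (⟨a, haf⟩ : ↥(twistedD4 K 2)) * ⟨c, hcf⟩ from Subtype.ext e.symm]
  refine mul_mem ?_ ?_
  · rcases fixed_single hK hφ h3 (by decide) (by decide) (by decide) ha haf with rfl | rfl
    exacts [one_mem _, m22 haf]
  · rcases fixed_single hK hφ h3 (by decide) (by decide) (by decide) hc hcf with rfl | rfl
    exacts [one_mem _, m23]

theorem data_mem (hK : Fintype.card K = 2 ^ 3) :
    ∃ (τ g b : ↥(twistedD4 K 2)), (b : GL chevD4.Idx K) = bE ∧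
      Data (wSub K s₀) (wSub K s₁) (wSub K s₂) τ g b := by
  obtain ⟨φ, hφ, h3⟩ := d4_powAut Nat.prime_two.isPrimePow hK
  obtain ⟨u, hu, hroot⟩ := exists_root hK
  have hb : (bE : GL chevD4.Idx K) ∈ twistedD4 K 2 :=
    fixed_root hK hφ h3 (by decide) (by decide) (by decide)
  have hg : (gE : GL chevD4.Idx K) ∈ twistedD4 K 2 :=
    mul_mem hb (fixed_root hK hφ h3 (by decide) (by decide) (by decide))
  have ht : (tau u : GL chevD4.Idx K) ∈ twistedD4 K 2 := by
    refine (d4Orbits Nat.prime_two.isPrimePow hK φ hφ h3).torus_mem (c := cT u) fun i hi => ?_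
    have e8 : (u : K) ^ 8 = u := by rw [pow_succ, ← Units.val_pow_eq_pow_val, hu, Units.val_one, one_mul]
    rw [d4rank] at hi
    interval_cases i <;> simp [cT, GraphData.node, d4Graph, hφ, ← pow_mul, e8]
  have hy := fixed_orbit hK hφ h3 (a := 18) (b := 13) (c := 12) (by decide +kernel)
  have hw := fixed_orbit hK hφ h3 (a := 17) (b := 20) (c := 21) (by decide +kernel)
  have hui : u⁻¹ ^ 7 = 1 := by rw [inv_pow, hu, inv_one]
  refine ⟨⟨_, ht⟩, ⟨_, hg⟩, ⟨_, hb⟩, rfl, ?_⟩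
  exact
  { le₁ := fun x hx => rg₀₁ hx
    le₂ := fun x hx => rg₁₂ hx
    τQ := fun x hx => tau_mem_normalizer u (by decide +kernel) hx
    τW := fun x hx => tau_mem_normalizer u (by decide +kernel) hx
    τW₀ := fun x hx => Subtype.ext (TwistLift.commute_torus rootedD4.toChecked (S := {r | r ∈ s₀})
      (fun r hr => lt_of_chk (L := s₀) (by decide +kernel) hr) (fun r hr => by
        have he : ∀ r ∈ s₀, expo r % 7 = 0 := by decide +kernel
        rw [show (MonoidHom.mk' cT cT_mul) u = cT u from rfl, torusFun_cT, zpow_mod_seven hu (k := 0) (he r hr), pow_zero, Units.val_one]) hx)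
    gQ := fun x hx => gE_normalizes (by decide +kernel) (by decide +kernel) (by decide +kernel) hx
    gW := fun x hx => gW' hx
    bQ := fun x hx => bE_normalizes (by decide +kernel) (by decide +kernel) hx
    bW := fun x hx => bE_normalizes (by decide +kernel) (by decide +kernel) hx
    bW₀ := fun x hx => bE_normalizes (by decide +kernel) (by decide +kernel) hx
    bb := Subtype.ext (xr_mul_self 14 1)
    ggg := Subtype.ext gE_cube
    τg := Subtype.ext (tau_commute hu).1.eq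
    τb := Subtype.ext (tau_commute hu).2.eq
    bg := Subtype.ext (by
      show xr 14 1 * (xr 14 1 * xr 9 1) * (xr 14 1)⁻¹ = (xr 14 1 * xr 9 1 : GL chevD4.Idx K)⁻¹
      rw [mul_inv_rev, xr_inv, xr_inv, ← mul_assoc, xr_mul_self, one_mul])
    cen₀ := fun y hy a ha => Subtype.ext (comm₂₀ hy ha).eq
    norm₀ := fun a ha => Subtype.ext (norm₀' ha)
    comm₁ := fun x hx y hy => Subtype.ext (by
      have h := comm₁₁ (K := K) hx hy
      rw [rg_nil, Subgroup.mem_bot, commutatorElement_eq_one_iff_mul_comm] at h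
      exact h)
    sq₁ := fun x hx => Subtype.ext (by
      rw [Subgroup.coe_mul, Subgroup.coe_one, ← Subgroup.mem_bot, ← rg_nil]
      exact sq_mem (by decide +kernel) (fun a ha c hc => comm₁₁ ha hc) hx)
    qw := fun y hy w hw => comm₂₁ hy hw
    gen₀ := gen₀_le hK hφ h3
    seven := Subtype.ext (by
      show tau u ^ 7 = 1
      rw [← map_pow, hu, map_one])
    cube₁ := fun x hx => by
      show (tau u)⁻¹ * (tau u)⁻¹ * (tau u)⁻¹ * _ * ((tau u)⁻¹ * (tau u)⁻¹ * (tau u)⁻¹)⁻¹ *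
        ((tau u)⁻¹ * _ * (tau u)⁻¹⁻¹) * _ ∈ rg s₀
      rw [← map_inv]
      refine cube' hu hroot hui (by decide +kernel) (by decide +kernel)
        (fun a ha c hc => comm₂₁ (rg₁₂ ha) hc) ?_ hx
      have hi : (u⁻¹ : Kˣ) = u ^ 6 := inv_eq_of_mul_eq_one_right (by rw [← pow_succ']; exact hu)
      have h7 : (u : K) ^ 7 = 1 := by rw [← Units.val_pow_eq_pow_val, hu, Units.val_one]
      intro r hr
      rw [hi, Units.val_pow_eq_pow_val]
      fin_cases hr
      · exact Or.inr ⟨2, by simp, 5, by decide +kernel, by rw [← pow_mul, pow_eq_pow_mod _ h7]⟩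
      · exact Or.inr ⟨4, by simp, 3, by decide +kernel, by rw [← pow_mul, pow_eq_pow_mod _ h7]⟩
      · exact Or.inr ⟨1, by simp, 6, by decide +kernel, by rw [← pow_mul, pow_eq_pow_mod _ h7]⟩
      · exact Or.inl (by simp)
      · exact Or.inl (by simp)
    qq := fun x hx y hy => comm₂₂ hx hy
    sq₂ := fun x hx => sq_mem (by decide +kernel) (fun a ha c hc => comm₂₂ ha hc) hx
    cube₂ := fun x hx => by
      refine cube' hu hroot hu (by decide +kernel) (by decide +kernel) (fun a ha c hc => comm₂₂ ha hc) ?_ hx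
      intro r hr
      fin_cases hr
      · exact Or.inr ⟨1, by simp, 1, by decide +kernel, rfl⟩
      · exact Or.inr ⟨4, by simp, 4, by decide +kernel, rfl⟩
      · exact Or.inr ⟨1, by simp, 1, by decide +kernel, rfl⟩
      · exact Or.inr ⟨4, by simp, 4, by decide +kernel, rfl⟩
      · exact Or.inl (by simp)
      · exact Or.inr ⟨2, by simp, 2, by decide +kernel, rfl⟩
      · exact Or.inr ⟨2, by simp, 2, by decide +kernel, rfl⟩
      · exact Or.inl (by simp)
      · exact Or.inl (by simp)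
      · exact Or.inl (by simp)
      · exact Or.inl (by simp)
    norm₂ := fun x hx => norm₂' hx }

theorem pos_le (hK : Fintype.card K = 2 ^ 3) {b : ↥(twistedD4 K 2)} (hb : (b : GL chevD4.Idx K) = bE) :
    (chevD4.posUnipotent K).subgroupOf (twistedD4 K 2) ≤ wSub K s₂ ⊔ Subgroup.zpowers b := by
  obtain ⟨φ, hφ, h3⟩ := d4_powAut Nat.prime_two.isPrimePow hK
  intro x hx
  have hle : chevD4.posUnipotent K ≤ rg (K := K) [14] ⊔ rg s₂ := by
    rw [rootedD4.toChecked.posUnipotent_eq, rootGen, Subgroup.closure_le]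
    rintro g ⟨r, t, ⟨h1, h2⟩, e⟩
    have h1' : 12 ≤ r := h1
    have h2' : r < 24 := h2
    by_cases h14 : r = 14
    · exact Subgroup.mem_sup_left (mem_rootGen (show r ∈ ({x | x ∈ [14]} : Set ℕ) by simp [h14]) e)
    · refine Subgroup.mem_sup_right (mem_rootGen (show r ∈ ({x | x ∈ s₂} : Set ℕ) from ?_) e)
      simp only [Set.mem_setOf_eq, List.mem_cons, List.not_mem_nil, or_false]
      omega
  have hn : (rg [14] : Subgroup (GL chevD4.Idx K)) ≤
      Subgroup.normalizer ((rg s₂ : Subgroup (GL chevD4.Idx K)) : Set (GL chevD4.Idx K)) := by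
    refine fun a ha => Subgroup.mem_normalizer_iff.2 fun b => ⟨fun hb => ?_, fun hb => ?_⟩
    · exact xr_normalizes (by decide +kernel) (by decide +kernel) (by decide +kernel) ha hb
    · have := xr_normalizes (K := K) (show chkLt s₂ = true by decide +kernel)
        (show chkLt [14] = true by decide +kernel) (by decide +kernel) (inv_mem ha) hb
      rwa [show a⁻¹ * (a * b * a⁻¹) * a⁻¹⁻¹ = b by group] at this
  have hx' : (x : GL chevD4.Idx K) ∈ (↑(rg [14] ⊔ rg s₂ : Subgroup (GL chevD4.Idx K)) : Set (GL chevD4.Idx K)) :=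
    hle hx
  rw [Subgroup.coe_mul_of_left_le_normalizer_right _ _ hn] at hx'
  obtain ⟨a, ha, c, hc, e⟩ := hx'
  have hac : a * c ∈ twistedD4 K 2 := by
    rw [show a * c = (x : GL chevD4.Idx K) from e]; exact x.2
  have hcl : chkPair s₂ s₂ s₂ = true := by decide +kernel
  have hpos : ∀ r ∈ s₂, 12 ≤ r ∧ r < 24 := by decide
  obtain ⟨haf, hcf⟩ := fixed_factors hK hφ h3 (A := [14]) (B := s₂)
    (fun r hr => by
      obtain rfl : r = 14 := by simpa using hr
      exact ⟨by decide, by decide⟩)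
    (fun r hr => hpos r hr)
    (fun r hr s hs h1 => absurd (show s = r by simp only [Set.mem_setOf_eq, List.mem_singleton] at hr hs; omega) h1)
    (fun r hr s hs h1 _ => (of_chkPair hcl hr hs (Ne.symm h1)).2)
    (by decide) (by decide) (by decide) ha hc hac
  rw [show x = (⟨a, haf⟩ : ↥(twistedD4 K 2)) * ⟨c, hcf⟩ from Subtype.ext e.symm]
  refine mul_mem ?_ (Subgroup.mem_sup_left hc)
  rcases fixed_single hK hφ h3 (by decide) (by decide) (by decide) ha haf with rfl | rfl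
  · exact one_mem _
  · exact Subgroup.mem_sup_right (by
      rw [show (⟨xr 14 1, haf⟩ : ↥(twistedD4 K 2)) = b from Subtype.ext hb.symm]
      exact Subgroup.mem_zpowers b)

omit [CharP K 2] in
/-- **The `2`-part of the multiplier of `³D₄(2)` is trivial.** -/
theorem not_two_dvd_card_ker (hK : Fintype.card K = 2 ^ 3) {Γ : Type*} [Group Γ] [Finite Γ]
    {σ : Γ →* ↥(twistedD4 K 2)} (hσ : Cfsg.IsStemExtension σ) : ¬ 2 ∣ Nat.card σ.ker := by
  have : CharP K 2 := charP_of_card_eq_prime_pow hK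
  have : Fact (Nat.Prime 2) := ⟨Nat.prime_two⟩
  obtain ⟨τ, g, b, hb, D⟩ := data_mem hK
  have hU : Nat.card ↥((chevD4.posUnipotent K).subgroupOf (twistedD4 K 2)) = 2 ^ (Nat.card ↥(twistedD4 K 2)).factorization 2 := by
    have e1 : Nat.card ↥((chevD4.posUnipotent K).subgroupOf (twistedD4 K 2)) = 2 ^ 12 := by
      rw [← Subgroup.inf_subgroupOf_right]
      exact (Nat.card_congr (Subgroup.subgroupOfEquivOfLe inf_le_right).toEquiv).trans
        (d4_card_pos Nat.prime_two.isPrimePow hK)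
    rw [e1, d4_card Nat.prime_two.isPrimePow hK]
    congr 1
    rw [show (2 : ℕ) ^ 12 * (2 ^ 2 - 1) * (2 ^ 6 - 1) * (2 ^ 8 + 2 ^ 4 + 1) = 2 ^ 12 * 51597 by norm_num,
      Nat.factorization_mul (by norm_num) (by norm_num), Finsupp.add_apply, Nat.Prime.factorization_pow Nat.prime_two,
      Finsupp.single_eq_same, Nat.factorization_eq_zero_of_not_dvd (by norm_num), add_zero]
  let P : Sylow 2 ↥(twistedD4 K 2) := Sylow.ofCard _ hU
  obtain ⟨Q₁⟩ : Nonempty (Sylow 2 Γ) := inferInstance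
  obtain ⟨P₁, hP₁⟩ := (Q₁.isPGroup'.map σ).exists_le_sylow
  obtain ⟨k, hk⟩ := MulAction.exists_smul_eq ↥(twistedD4 K 2) P P₁
  obtain ⟨γ, hγ⟩ := hσ.1 k
  refine not_dvd_card_ker hσ (γ⁻¹ • Q₁) fun a ha haσ => ?_
  have hle : ((γ⁻¹ • Q₁ : Sylow 2 Γ) : Subgroup Γ) ≤ (wSub K s₂ ⊔ Subgroup.zpowers b).comap σ := by
    intro y hy
    refine pos_le hK hb ?_
    rw [Sylow.coe_subgroup_smul, Subgroup.mem_pointwise_smul_iff_inv_smul_mem, ← map_inv, inv_inv, MulAut.smul_def,
      MulAut.conj_apply] at hy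
    have h1 : σ (γ * y * γ⁻¹) ∈ ((k • P : Sylow 2 ↥(twistedD4 K 2)) : Subgroup ↥(twistedD4 K 2)) := by
      rw [hk]; exact hP₁ (Subgroup.mem_map_of_mem σ hy)
    rw [Sylow.coe_subgroup_smul, Subgroup.mem_pointwise_smul_iff_inv_smul_mem, ← map_inv, MulAut.smul_def,
      MulAut.conj_apply, inv_inv] at h1
    have h2 : k⁻¹ * σ (γ * y * γ⁻¹) * k ∈ (P : Subgroup ↥(twistedD4 K 2)) := h1
    rw [map_mul, map_mul, map_inv, hγ, show k⁻¹ * (k * σ y * k⁻¹) * k = σ y by group] at h2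
    exact h2
  set S := (wSub K s₂ ⊔ Subgroup.zpowers b).comap σ
  have h147 : (a : Γ) ^ 147 = 1 := by
    refine D.commutator_pow hσ.1 hσ.2.1 ?_ haσ
    have h := Subgroup.mem_map_of_mem ((γ⁻¹ • Q₁ : Sylow 2 Γ) : Subgroup Γ).subtype ha
    rw [Subgroup.map_subtype_commutator] at h
    exact Subgroup.commutator_mono hle hle h
  obtain ⟨j, hj⟩ := IsPGroup.iff_orderOf.1 (γ⁻¹ • Q₁ : Sylow 2 Γ).isPGroup' a
  have hdvd : orderOf a ∣ 147 := orderOf_dvd_of_pow_eq_one (Subtype.ext (by simpa using h147))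
  rw [hj] at hdvd
  refine orderOf_eq_one_iff.1 (hj.trans ?_)
  exact Nat.eq_one_of_dvd_coprimes (Nat.Coprime.pow_left j (by norm_num : Nat.Coprime 2 147)) dvd_rfl hdvd

end Cfsg.Agent.Lib.Schur.TwistTwo
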