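import Cfsg.Agent.Lib.Schur.TwistD4Layers
import Cfsg.Agent.Lib.Schur.TwistD4Two
import Cfsg.Agent.Lib.Schur.TwistOrbRank
import Cfsg.Agent.Lib.Twisted.Aut.D4
import Cfsg.Agent.Lib.Twisted.Monomial

/-!
The multiplier of `³D₄(q)` is trivial.
-/

set_option autoImplicit false
set_option maxRecDepth 4000

namespace Cfsg.Agent.Lib.Schur.TwistD4P

open Cfsg.Lie Cfsg.Agent.Lib.Chev Cfsg.Agent.Lib.Twisted Cfsg.Agent.Lib.Twisted.Core
open Cfsg.Agent.Lib.Schur.TwistLift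
open scoped Matrix

variable {K : Type*} [Field K] [Fintype K] {φ : K ≃+* K}

omit [Fintype K] in
/-- The map of fixed diagonal parameters is injective. -/
theorem eqvHom_injective :
    (Orbits.eqvHom (hh := rootedD4) (hP := d4Graph_facts) (hc := chkGraph_D4) (φ := φ)).ker = ⊥ := by
  rw [eq_bot_iff]
  intro c hc
  have hv := Orbits.mem_ker_eqvHom.1 hc
  have c0 : ((d4v c) 0) ^ 2 = 1 := by
    have := ker_pow rootedD4.toChecked chkKer_D4 (c := Orbits.extTorus chevD4 K c.1) (MonoidHom.mem_ker.1 hc)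
      (show 0 < chevD4.rank by decide)
    simp [Orbits.extTorus] at this
    exact this (show 0 < chevD4.rank by decide)
  have e2 : ((d4v c) 2 : K) = φ ((d4v c) 0 : K) := c.2 (0 : Fin 4)
  have e3 : ((d4v c) 3 : K) = φ ((d4v c) 2 : K) := c.2 (2 : Fin 4)
  have c0' : ((d4v c) 0 : K) = 1 ∨ ((d4v c) 0 : K) = -1 := by
    refine sq_eq_one_iff.1 ?_
    rw [← Units.val_pow_eq_pow_val, c0, Units.val_one]
  have hfix : φ ((d4v c) 0 : K) = ((d4v c) 0 : K) := by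
    rcases c0' with w | w <;> simp [w]
  have v2 : (d4v c) 2 = (d4v c) 0 := Units.ext (by rw [e2, hfix])
  have v3 : (d4v c) 3 = (d4v c) 0 := Units.ext (by rw [e3, v2, hfix])
  have r0 := hv (0 : Fin 4)
  have r1 := hv (1 : Fin 4)
  change ∏ i : Fin 4, (d4v c) i ^ cm D4.cert i.val 0 = 1 at r0
  change ∏ i : Fin 4, (d4v c) i ^ cm D4.cert i.val 1 = 1 at r1
  simp only [Fin.prod_univ_succ, Fin.prod_univ_zero] at r0 r1
  change (d4v c) 0 ^ cm D4.cert 0 0 * ((d4v c) 1 ^ cm D4.cert 1 0 *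
    ((d4v c) 2 ^ cm D4.cert 2 0 * ((d4v c) 3 ^ cm D4.cert 3 0 * 1))) = 1 at r0
  change (d4v c) 0 ^ cm D4.cert 0 1 * ((d4v c) 1 ^ cm D4.cert 1 1 *
    ((d4v c) 2 ^ cm D4.cert 2 1 * ((d4v c) 3 ^ cm D4.cert 3 1 * 1))) = 1 at r1
  rw [show cm D4.cert 0 0 = 2 by decide +kernel, show cm D4.cert 1 0 = -1 by decide +kernel,
    show cm D4.cert 2 0 = 0 by decide +kernel, show cm D4.cert 3 0 = 0 by decide +kernel] at r0
  rw [show cm D4.cert 0 1 = -1 by decide +kernel, show cm D4.cert 1 1 = 2 by decide +kernel,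
    show cm D4.cert 2 1 = -1 by decide +kernel, show cm D4.cert 3 1 = -1 by decide +kernel, v2, v3] at r1
  simp only [zpow_zero, mul_one, zpow_neg, zpow_one, zpow_ofNat, pow_zero, pow_one, c0, one_mul, inv_eq_one] at r0
  rw [r0] at r1
  simp only [zpow_ofNat, pow_one, one_pow, one_mul, mul_one, zpow_neg, zpow_one] at r1
  have h0 : (d4v c) 0 = 1 := by
    calc (d4v c) 0 = ((d4v c) 0)⁻¹ := by rw [eq_inv_iff_mul_eq_one, ← sq, c0]
      _ = ((d4v c) 0)⁻¹ * (((d4v c) 0)⁻¹ * ((d4v c) 0)⁻¹) := by rw [← mul_inv, ← sq, c0, inv_one, mul_one]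
      _ = 1 := r1
  refine Subgroup.mem_bot.2 (Subtype.ext (funext fun i => ?_))
  match i with
  | ⟨0, _⟩ => exact h0
  | ⟨1, _⟩ => exact r0
  | ⟨2, _⟩ => exact v2.trans h0
  | ⟨3, _⟩ => exact v3.trans h0

universe u

/-- **The multiplier of `³D₄(q)` is trivial.** -/
theorem multiplier_trivial {K : Type u} [Field K] [Fintype K] {q : ℕ} (hq : IsPrimePow q)
    (hK : Fintype.card K = q ^ 3) : Cfsg.HasCyclicSchurMultiplier ↥(twistedD4 K q) 1 := by
  obtain ⟨φ, hφ, h3⟩ := d4_powAut hq hK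
  obtain ⟨p, k, hp, hk, hpk⟩ := (isPrimePow_nat_iff _).1 hq
  haveI : Fact p.Prime := ⟨hp⟩
  haveI : CharP K p := charP_of_card_eq_prime_pow (f := k * 3) (by rw [hK, ← hpk, pow_mul])
  refine Cfsg.Agent.Lib.Schur.hasCyclicSchurMultiplier_one_of_forall_prime _ fun Γ _ _ σ hσ r hr hdvd => ?_
  have hA : ¬ p ∣ Nat.card σ.ker := by
    rcases eq_or_lt_of_le hq.two_le with h2 | h2
    · subst h2
      obtain rfl : p = 2 := (Nat.prime_dvd_prime_iff_eq hp Nat.prime_two).1 (hpk ▸ dvd_pow_self p hk.ne')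
      exact TwistTwo.not_two_dvd_card_ker hK hσ
    · exact not_dvd_card_ker h3 hq hK hφ h2 p hσ
  have h := TwistLift.orbits_card_ker_le (d4Orbits hq hK φ hφ h3) (Twisted.Aut.d4_data hq hK φ hφ h3) p
    (σ := σ) hσ hA etaSigns_D4
  rw [eqvHom_injective, Subgroup.card_bot] at h
  exact absurd ((hr.two_le.trans (Nat.le_of_dvd Nat.card_pos hdvd)).trans h) (by norm_num)

end Cfsg.Agent.Lib.Schur.TwistD4P
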