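import Mathlib

/-!
Central extensions of a `2`-group `U = Q⟨b⟩` in which `Q` has layers `W₀ ≤ W ≤ Q` moved by two commuting elements
`τ`, `g` of orders dividing `7` and `3`: the kernel meets the derived group of the preimage in elements of exponent
`147`.  This is the situation of a Sylow `2`-subgroup of `³D₄(2)`.
-/

set_option autoImplicit false

namespace Cfsg.Agent.Lib.Schur.TwistTwo

open Subgroup
open scoped commutatorElement

variable {Γ G : Type*} [Group Γ] [Group G]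

/-- The data: `Q/W`, `W/W₀` and `W₀` with the identities satisfied by `τ` and `g` on them. -/
structure Data (W₀ W Q : Subgroup G) (τ g b : G) : Prop where
  le₁ : W₀ ≤ W
  le₂ : W ≤ Q
  τQ : ∀ x ∈ Q, τ * x * τ⁻¹ ∈ Q
  τW : ∀ x ∈ W, τ * x * τ⁻¹ ∈ W
  τW₀ : ∀ x ∈ W₀, τ * x * τ⁻¹ = x
  gQ : ∀ x ∈ Q, g * x * g⁻¹ ∈ Q
  gW : ∀ x ∈ W, g * x * g⁻¹ * x⁻¹ ∈ W₀
  bQ : ∀ x ∈ Q, b * x * b⁻¹ ∈ Q
  bW : ∀ x ∈ W, b * x * b⁻¹ ∈ W
  bW₀ : ∀ x ∈ W₀, b * x * b⁻¹ ∈ W₀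
  bb : b * b = 1
  ggg : g * g * g = 1
  τg : Commute τ g
  τb : Commute τ b
  bg : b * g * b⁻¹ = g⁻¹
  cen₀ : ∀ y ∈ Q, ∀ a ∈ W₀, Commute y a
  norm₀ : ∀ a ∈ W₀, a * (g * a * g⁻¹) * (g * g * a * (g * g)⁻¹) = 1
  comm₁ : ∀ x ∈ W, ∀ y ∈ W, Commute x y
  sq₁ : ∀ x ∈ W, x * x = 1
  qw : ∀ y ∈ Q, ∀ w ∈ W, ⁅y, w⁆ ∈ W₀
  gen₀ : W₀ ≤ closure {x | ∃ y ∈ Q, ∃ w ∈ W, x = ⁅y, w⁆}
  seven : τ ^ 7 = 1
  cube₁ : ∀ x ∈ W, τ⁻¹ * τ⁻¹ * τ⁻¹ * x * (τ⁻¹ * τ⁻¹ * τ⁻¹)⁻¹ * (τ⁻¹ * x * τ⁻¹⁻¹) * x ∈ W₀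
  qq : ∀ x ∈ Q, ∀ y ∈ Q, ⁅x, y⁆ ∈ W
  sq₂ : ∀ x ∈ Q, x * x ∈ W
  cube₂ : ∀ x ∈ Q, τ * τ * τ * x * (τ * τ * τ)⁻¹ * (τ * x * τ⁻¹) * x ∈ W
  norm₂ : ∀ x ∈ Q, x * (g * x * g⁻¹) * (g * g * x * (g * g)⁻¹) ∈ W

/-- Seven terms of a recurrence `a (i + 3) * a (i + 1) * a i = 1` in an elementary abelian section multiply to one. -/
theorem prod_seven_mem {H N : Subgroup G} (hcomm : ∀ x ∈ H, ∀ y ∈ H, ⁅x, y⁆ ∈ N)
    (hsq : ∀ x ∈ H, x * x ∈ N) (a : ℕ → G) (ha : ∀ i, a i ∈ H)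
    (h : ∀ i, i < 4 → a (i + 3) * a (i + 1) * a i ∈ N) {l : List ℕ} (hl : l.Perm (List.range 7)) :
    (l.map a).prod ∈ N := by
  have hn : (N.subgroupOf H).Normal := ⟨fun n hn x => by
    rw [mem_subgroupOf] at hn ⊢
    have := mul_mem (hcomm _ x.2 _ n.2) hn
    rwa [commutatorElement_def, inv_mul_cancel_right] at this⟩
  let π := QuotientGroup.mk' (N.subgroupOf H)
  have hcQ : ∀ x y : ↥H, π x * π y = π y * π x := fun x y => by
    rw [← commutatorElement_eq_one_iff_mul_comm, ← map_commutatorElement, ← MonoidHom.mem_ker,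
      QuotientGroup.ker_mk', mem_subgroupOf]
    exact hcomm _ x.2 _ y.2
  letI : CommGroup (↥H ⧸ N.subgroupOf H) :=
    { (inferInstance : Group (↥H ⧸ N.subgroupOf H)) with
      mul_comm := fun x y => by
        obtain ⟨x, rfl⟩ := QuotientGroup.mk'_surjective _ x
        obtain ⟨y, rfl⟩ := QuotientGroup.mk'_surjective _ y
        exact hcQ x y }
  let b : ℕ → ↥H ⧸ N.subgroupOf H := fun i => π ⟨a i, ha i⟩
  have hsq' : ∀ i, b i * b i = 1 := fun i => by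
    rw [← map_mul, ← MonoidHom.mem_ker, QuotientGroup.ker_mk', mem_subgroupOf]
    exact hsq _ (ha i)
  have hrec : ∀ i, i < 4 → b (i + 3) = b (i + 1) * b i := fun i hi => by
    have h1 : b (i + 3) * b (i + 1) * b i = 1 := by
      rw [← map_mul, ← map_mul, ← MonoidHom.mem_ker, QuotientGroup.ker_mk', mem_subgroupOf]
      exact h i hi
    calc b (i + 3) = b (i + 3) * b (i + 1) * b i * (b i)⁻¹ * (b (i + 1))⁻¹ := by group
      _ = _ := by rw [h1, one_mul, inv_eq_of_mul_eq_one_right (hsq' _), inv_eq_of_mul_eq_one_right (hsq' _), mul_comm]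
  have hprod : ((List.range 7).map b).prod = 1 := by
    have e : ∀ i x, b i * (b i * x) = x := fun i x => by rw [← mul_assoc, hsq', one_mul]
    simp only [List.range_succ, List.range_zero, List.nil_append, List.map_append, List.map_cons, List.map_nil,
      List.cons_append, List.prod_cons, List.prod_nil, mul_one]
    rw [hrec 3 (by norm_num), hrec 2 (by norm_num), hrec 1 (by norm_num), hrec 0 (by norm_num)]
    simp only [Nat.reduceAdd, hrec 0 (by norm_num : 0 < 4), hrec 1 (by norm_num : 1 < 4), mul_assoc,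
      mul_comm, mul_left_comm, e, hsq', mul_one]
  rw [← (hl.map b).prod_eq] at hprod
  have hm : ((l.map fun i => (⟨a i, ha i⟩ : ↥H)).prod : ↥H) ∈ π.ker := by
    rw [MonoidHom.mem_ker, map_list_prod, List.map_map]; exact hprod
  rw [QuotientGroup.ker_mk', mem_subgroupOf] at hm
  rwa [← H.subtype_apply, map_list_prod, List.map_map] at hm

/-- A pairing invariant under `f` in which `f ^ 3 = f + 1` on both sides and values are involutions is trivial. -/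
theorem pairing_eq_one {A : Type*} [Group A] {H : Subgroup Γ} (B : Γ → Γ → A) (f : Γ → Γ)
    (hf : ∀ x ∈ H, f x ∈ H) (hsq : ∀ x ∈ H, ∀ y ∈ H, B x y * B x y = 1)
    (hinv : ∀ x ∈ H, ∀ y ∈ H, B (f x) (f y) = B x y)
    (hl : ∀ x ∈ H, ∀ y ∈ H, B (f (f (f x))) y = B (f x) y * B x y)
    (hr : ∀ x ∈ H, ∀ y ∈ H, B x (f (f (f y))) = B x (f y) * B x y)
    {x y : Γ} (hx : x ∈ H) (hy : y ∈ H) : B x y = 1 := by
  have key : ∀ x ∈ H, ∀ y ∈ H, B (f x) y * B x (f y) * B x y = 1 := fun x hx y hy => by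
    have h := hinv _ (hf _ (hf _ hx)) _ (hf _ (hf _ hy))
    rw [hinv _ (hf _ hx) _ (hf _ hy), hinv _ hx _ hy, hl _ hx _ (hf _ (hf _ (hf _ hy))), hr _ (hf _ hx) _ hy,
      hr _ hx _ hy, hinv _ hx _ hy] at h
    calc B (f x) y * B x (f y) * B x y = (B x y)⁻¹ * (B x y * B (f x) y * (B x (f y) * B x y)) := by group
      _ = _ := by rw [h, inv_mul_cancel]
  have key' : ∀ x ∈ H, B (f (f x)) y = B (f x) y * B x y := fun x hx => by
    have h := key _ (hf _ hx) _ hy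
    rw [hinv _ hx _ hy] at h
    calc B (f (f x)) y = B (f (f x)) y * B x y * B (f x) y * (B (f x) y)⁻¹ * (B x y)⁻¹ := by group
      _ = _ := by
        rw [h, one_mul, inv_eq_of_mul_eq_one_right (hsq _ (hf _ hx) _ hy),
          inv_eq_of_mul_eq_one_right (hsq _ hx _ hy)]
  have h1 : ∀ x ∈ H, B (f x) y = 1 := fun x hx => by
    have h4 := key _ (hf _ (hf _ hx)) _ hy
    rw [hinv _ (hf _ hx) _ hy, key' _ hx, hl _ hx _ hy] at h4
    calc B (f x) y = B (f x) y * (B x y * B x y) := by rw [hsq _ hx _ hy, mul_one]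
      _ = B (f x) y * B x y * (B (f x) y * B (f x) y) * B x y := by rw [hsq _ (hf _ hx) _ hy]; group
      _ = _ := by rw [← h4]; group
  have h := key' _ hx
  rw [h1 _ (hf _ hx), h1 _ hx, one_mul] at h
  exact h.symm

namespace Data

variable {W₀ W Q : Subgroup G} {τ g b : G} (D : Data W₀ W Q τ g b)
include D

theorem gW_mem {x : G} (hx : x ∈ W) : g * x * g⁻¹ ∈ W := by
  have := mul_mem (D.le₁ (D.gW x hx)) hx
  rwa [inv_mul_cancel_right] at this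

theorem gW₀_mem {x : G} (hx : x ∈ W₀) : g * x * g⁻¹ ∈ W₀ := by
  have := mul_mem (D.gW x (D.le₁ hx)) hx
  rwa [inv_mul_cancel_right] at this

/-- Modulo `W` every element of `Q` is `[g, x]`. -/
theorem g_surj {y : G} (hy : y ∈ Q) :
    ∃ x ∈ Q, ∃ w ∈ W, y = g * x * g⁻¹ * x⁻¹ * w := by
  set y₁ := g * y * g⁻¹
  set y₂ := g * g * y * (g * g)⁻¹
  have h1 : y₁ ∈ Q := D.gQ y hy
  refine ⟨y₁, h1, (g * y₁ * g⁻¹ * y₁⁻¹)⁻¹ * y, ?_, by group⟩
  have e : g * y₁ * g⁻¹ = y₂ := by simp only [y₁, y₂]; group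
  rw [e]
  have h2 : y₂ ∈ Q := e ▸ D.gQ _ h1
  have hn : y * y₁ * y₂ ∈ W := D.norm₂ y hy
  have hconj : ∀ q ∈ Q, ∀ w ∈ W, q * w * q⁻¹ ∈ W := fun q hq w hw => by
    have := mul_mem (D.le₁ (D.qw q hq w hw)) hw
    rwa [commutatorElement_def, inv_mul_cancel_right] at this
  rw [show (y₂ * y₁⁻¹)⁻¹ * y = y₁ * y₂⁻¹ * y by group]
  -- `y₁ y₂ y ∈ W` and `y₂⁻² ∈ W`
  have e1 : y₁ * y₂⁻¹ * y = y₁ * (y₂ * y₂)⁻¹ * y₁⁻¹ * (y⁻¹ * (y * y₁ * y₂) * y) := by group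
  rw [e1]
  refine mul_mem (hconj _ h1 _ (inv_mem (D.sq₂ _ h2))) ?_
  have := hconj y⁻¹ (inv_mem hy) _ hn
  rwa [inv_inv] at this

/-- Every element of `Q` is a product of a `[τ, x]` and an element of `W`. -/
theorem τ_surj {y : G} (hy : y ∈ Q) :
    ∃ x₁ ∈ Q, ∃ x₂ ∈ Q, ∃ w ∈ W, y = (τ * x₁ * τ⁻¹ * x₁⁻¹) * (τ * x₂ * τ⁻¹ * x₂⁻¹) * w := by
  set t₁ := τ * y * τ⁻¹
  set t₂ := τ * t₁ * τ⁻¹
  set t₃ := τ * t₂ * τ⁻¹
  have h1 : t₁ ∈ Q := D.τQ _ hy
  have h2 : t₂ ∈ Q := D.τQ _ h1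
  have h3 : t₃ ∈ Q := D.τQ _ h2
  refine ⟨t₂, h2, t₁, h1, (t₃ * t₁⁻¹)⁻¹ * y, ?_, by simp only [t₂, t₃]; group⟩
  have hc : t₃ * t₁ * y ∈ W := by
    have := D.cube₂ y hy
    rwa [show τ * τ * τ * y * (τ * τ * τ)⁻¹ * (τ * y * τ⁻¹) * y = t₃ * t₁ * y by
      simp only [t₁, t₂, t₃]; group] at this
  have hconj : ∀ q ∈ Q, ∀ w ∈ W, q * w * q⁻¹ ∈ W := fun q hq w hw => by
    have := mul_mem (D.le₁ (D.qw q hq w hw)) hw
    rwa [commutatorElement_def, inv_mul_cancel_right] at this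
  rw [show (t₃ * t₁⁻¹)⁻¹ * y = t₁ * (t₃ * t₃)⁻¹ * t₁⁻¹ * (t₁ * t₃ * t₁⁻¹ * t₃⁻¹) * (t₃ * t₁ * y) by group]
  refine mul_mem (mul_mem (hconj _ h1 _ (inv_mem (D.sq₂ _ h3))) ?_) hc
  exact D.qq t₁ h1 t₃ h3

theorem τW_pow {x : G} (hx : x ∈ W) (n : ℕ) : τ ^ n * x * (τ ^ n)⁻¹ ∈ W := by
  induction n with
  | zero => simpa
  | succ n ih =>
    rw [pow_succ', show τ * τ ^ n * x * (τ * τ ^ n)⁻¹ = τ * (τ ^ n * x * (τ ^ n)⁻¹) * τ⁻¹ by group]
    exact D.τW _ ih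

theorem τQ_pow {x : G} (hx : x ∈ Q) (n : ℕ) : τ ^ n * x * (τ ^ n)⁻¹ ∈ Q := by
  induction n with
  | zero => simpa
  | succ n ih =>
    rw [pow_succ', show τ * τ ^ n * x * (τ * τ ^ n)⁻¹ = τ * (τ ^ n * x * (τ ^ n)⁻¹) * τ⁻¹ by group]
    exact D.τQ _ ih

theorem τ_inv : τ⁻¹ = τ ^ 6 :=
  inv_eq_of_mul_eq_one_right (by rw [← pow_succ']; exact D.seven)

theorem sum₁ {w : G} (hw : w ∈ W) : ((List.range 7).map fun i => τ ^ i * w * (τ ^ i)⁻¹).prod ∈ W₀ := by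
  have h := prod_seven_mem (H := W) (N := W₀)
    (fun x hx y hy => by rw [commutatorElement_eq_one_iff_mul_comm.2 (D.comm₁ x hx y hy).eq]; exact one_mem _)
    (fun x hx => by rw [D.sq₁ x hx]; exact one_mem _)
    (fun i => τ⁻¹ ^ i * w * (τ⁻¹ ^ i)⁻¹)
    (fun i => by simp only [D.τ_inv, ← pow_mul]; exact D.τW_pow hw _)
    (fun i _ => by
      have := D.cube₁ _ (show τ⁻¹ ^ i * w * (τ⁻¹ ^ i)⁻¹ ∈ W by rw [D.τ_inv, ← pow_mul]; exact D.τW_pow hw _)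
      convert this using 2
      congr 1 <;> simp only [pow_succ'] <;> group)
    (l := [0, 6, 5, 4, 3, 2, 1]) (by decide)
  convert h using 2
  simp only [List.range_succ, List.range_zero, List.nil_append, List.map_append, List.map_cons, List.map_nil,
    List.cons_append, List.prod_cons, List.prod_nil, D.τ_inv, ← pow_mul, Nat.reduceMul]
  have e : ∀ n, τ ^ n = τ ^ (n % 7) := fun n => pow_eq_pow_mod n D.seven
  rw [e 36, e 30, e 24, e 18, e 12]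

theorem sum₂ {y : G} (hy : y ∈ Q) : ((List.range 7).map fun i => τ ^ i * y * (τ ^ i)⁻¹).prod ∈ W :=
  prod_seven_mem D.qq D.sq₂ _ (D.τQ_pow hy) (fun i _ => by
    have := D.cube₂ _ (D.τQ_pow hy i)
    convert this using 2
    congr 1 <;> simp only [pow_succ'] <;> group) (List.Perm.refl _)

/-- Every element of `W` is a product of elements `[τ, x]` and an element of `W₀`. -/
theorem W_le : W ≤ W₀ ⊔ closure {x | ∃ w ∈ W, x = τ * w * τ⁻¹ * w⁻¹} := by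
  intro w hw
  set K := W₀ ⊔ closure {x | ∃ w ∈ W, x = τ * w * τ⁻¹ * w⁻¹}
  have hmem : ∀ i : ℕ, τ ^ i * w * (τ ^ i)⁻¹ ∈ W ∧ τ ^ i * w * (τ ^ i)⁻¹ * w⁻¹ ∈ K := by
    intro i
    induction i with
    | zero => simp [hw, one_mem]
    | succ i ih =>
      refine ⟨?_, ?_⟩
      · rw [pow_succ', show τ * τ ^ i * w * (τ * τ ^ i)⁻¹ = τ * (τ ^ i * w * (τ ^ i)⁻¹) * τ⁻¹ by group]
        exact D.τW _ ih.1
      · rw [show τ ^ (i + 1) * w * (τ ^ (i + 1))⁻¹ * w⁻¹ =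
            (τ * (τ ^ i * w * (τ ^ i)⁻¹) * τ⁻¹ * (τ ^ i * w * (τ ^ i)⁻¹)⁻¹) *
              (τ ^ i * w * (τ ^ i)⁻¹ * w⁻¹) by rw [pow_succ']; group]
        exact mul_mem (mem_sup_right (subset_closure ⟨_, ih.1, rfl⟩)) ih.2
  have hprod : ∀ n : ℕ, ((List.range n).map fun i => τ ^ i * w * (τ ^ i)⁻¹).prod * (w ^ n)⁻¹ ∈ K ∧
      ((List.range n).map fun i => τ ^ i * w * (τ ^ i)⁻¹).prod ∈ W := by
    intro n
    induction n with
    | zero => simp [one_mem]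
    | succ n ih =>
      obtain ⟨ih1, ih2⟩ := ih
      rw [List.range_succ, List.map_append, List.prod_append, List.map_singleton, List.prod_singleton]
      refine ⟨?_, mul_mem ih2 (hmem n).1⟩
      set P := ((List.range n).map fun i => τ ^ i * w * (τ ^ i)⁻¹).prod
      set a := τ ^ n * w * (τ ^ n)⁻¹
      have hc : Commute (w ^ n)⁻¹ (a * w⁻¹) :=
        D.comm₁ _ (inv_mem (pow_mem hw n)) _ (mul_mem (hmem n).1 (inv_mem hw))
      rw [show P * a * (w ^ (n + 1))⁻¹ = P * (a * w⁻¹ * (w ^ n)⁻¹) by rw [pow_succ]; group, ← hc.eq,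
        show P * ((w ^ n)⁻¹ * (a * w⁻¹)) = P * (w ^ n)⁻¹ * (a * w⁻¹) by group]
      exact mul_mem ih1 (hmem n).2
  have h7 := (hprod 7).1
  have e : w ^ 7 = w := by
    rw [show w ^ 7 = (w * w) * (w * w) * (w * w) * w by simp only [pow_succ, pow_zero, one_mul, mul_assoc],
      D.sq₁ w hw]
    simp
  rw [e] at h7
  have := mul_mem (inv_mem h7) (mem_sup_left (D.sum₁ hw))
  rw [mul_inv_rev, inv_inv, inv_mul_cancel_right] at this
  exact this

variable {σ : Γ →* G} (hs : Function.Surjective σ) (hc : σ.ker ≤ center Γ)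

omit D in
include hc in
theorem central_of {z : Γ} (hz : σ z = 1) (x : Γ) : Commute x z := mem_center_iff.1 (hc hz) x

omit D in
include hc in
theorem conj_congr {u u' : Γ} (h : σ u = σ u') (x : Γ) : u * x * u⁻¹ = u' * x * u'⁻¹ := by
  have hz : σ (u'⁻¹ * u) = 1 := by rw [map_mul, map_inv, h, inv_mul_cancel]
  calc u * x * u⁻¹ = u' * ((u'⁻¹ * u) * x * (u'⁻¹ * u)⁻¹) * u'⁻¹ := by group
    _ = _ := by rw [← (central_of hc hz x).eq, mul_inv_cancel_right]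

omit D in
include hc in
theorem comm_congr {x x' y y' : Γ} (hx : σ x = σ x') (hy : σ y = σ y') : ⁅x, y⁆ = ⁅x', y'⁆ := by
  have h1 := conj_congr hc hx y
  have h2 : ∀ u v : Γ, ⁅u, v⁆ = (u * v * u⁻¹) * v⁻¹ := fun u v => by rw [commutatorElement_def]
  have hz : σ (y'⁻¹ * y) = 1 := by rw [map_mul, map_inv, hy, inv_mul_cancel]
  rw [h2, h2, h1]
  calc x' * y * x'⁻¹ * y⁻¹ = x' * y' * ((y'⁻¹ * y) * x'⁻¹) * y⁻¹ := by group
    _ = x' * y' * (x'⁻¹ * (y'⁻¹ * y)) * y⁻¹ := by rw [(central_of hc hz x'⁻¹).eq]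
    _ = _ := by group

include hs hc in
/-- The preimage of `W₀` is centralised by the preimage of `Q`. -/
theorem comm₀ {y a : Γ} (hy : σ y ∈ Q) (ha : σ a ∈ W₀) : Commute y a := by
  obtain ⟨t, ht⟩ := hs τ
  have hker : ∀ y : Γ, σ y ∈ Q → σ ⁅y, a⁆ = 1 := fun y hy => by
    rw [map_commutatorElement, commutatorElement_eq_one_iff_mul_comm]
    exact (D.cen₀ _ hy _ ha).eq
  let φ : ↥(Q.comap σ) →* Γ :=
    { toFun := fun y => ⁅(y : Γ), a⁆
      map_one' := commutatorElement_one_left a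
      map_mul' := fun x y => by
        have hz := hker y y.2
        show ⁅(x : Γ) * y, a⁆ = ⁅(x : Γ), a⁆ * ⁅(y : Γ), a⁆
        rw [show ⁅(x : Γ) * y, a⁆ = (x : Γ) * ⁅(y : Γ), a⁆ * (x : Γ)⁻¹ * ⁅(x : Γ), a⁆ by
          simp only [commutatorElement_def]; group, (central_of hc hz (x : Γ)).eq, mul_inv_cancel_right]
        exact (central_of hc hz _).symm.eq }
  -- the images of the elements killed
  set M : Subgroup G := φ.ker.map (σ.comp (Q.comap σ).subtype)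
  suffices hM : Q ≤ M by
    obtain ⟨⟨y', hy'⟩, h1, e⟩ := hM hy
    have := comm_congr hc (show σ y' = σ y from e) (rfl : σ a = σ a)
    exact commutatorElement_eq_one_iff_mul_comm.1 (this ▸ h1)
  have hMt : ∀ x ∈ Q, τ * x * τ⁻¹ * x⁻¹ ∈ M := by
    intro x hx
    obtain ⟨u, rfl⟩ := hs x
    have hu' : σ (t * u * t⁻¹) ∈ Q := by rw [map_mul, map_mul, map_inv, ht]; exact D.τQ _ hx
    refine ⟨⟨t * u * t⁻¹, hu'⟩ * ⟨u, hx⟩⁻¹, ?_, ?_⟩
    · rw [SetLike.mem_coe, MonoidHom.mem_ker, map_mul, map_inv, mul_inv_eq_one]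
      show ⁅t * u * t⁻¹, a⁆ = ⁅u, a⁆
      have e1 : σ (t * a * t⁻¹) = σ a := by rw [map_mul, map_mul, map_inv, ht]; exact D.τW₀ _ ha
      rw [← comm_congr hc (rfl : σ (t * u * t⁻¹) = _) e1,
        show ⁅t * u * t⁻¹, t * a * t⁻¹⁆ = t * ⁅u, a⁆ * t⁻¹ by simp only [commutatorElement_def]; group,
        (central_of hc (hker u hx) t).eq, mul_inv_cancel_right]
    · simp [ht]
  have hMc : ∀ x ∈ Q, ∀ w ∈ Q, ⁅x, w⁆ ∈ M := by
    intro x hx w hw
    obtain ⟨u, rfl⟩ := hs x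
    obtain ⟨v, rfl⟩ := hs w
    refine ⟨⁅(⟨u, hx⟩ : ↥(Q.comap σ)), ⟨v, hw⟩⁆, ?_, ?_⟩
    · rw [SetLike.mem_coe, MonoidHom.mem_ker, map_commutatorElement, commutatorElement_eq_one_iff_mul_comm]
      exact (central_of hc (hker v hw) _).eq
    · simp [map_commutatorElement]
  have hW₀ : W₀ ≤ M := D.gen₀.trans ((closure_le _).2 (by
    rintro _ ⟨x, hx, w, hw, rfl⟩; exact hMc x hx w (D.le₂ hw)))
  have hW : W ≤ M := D.W_le.trans (sup_le hW₀ ((closure_le _).2 (by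
    rintro _ ⟨w, hw, rfl⟩; exact hMt w (D.le₂ hw))))
  intro x hx
  obtain ⟨x₁, h1, x₂, h2, w, hw, rfl⟩ := D.τ_surj hx
  exact mul_mem (mul_mem (hMt _ h1) (hMt _ h2)) (hW hw)

include hs hc in
/-- The preimage of `W` is commutative. -/
theorem comm₁' {x y : Γ} (hx : σ x ∈ W) (hy : σ y ∈ W) : Commute x y := by
  obtain ⟨t, ht⟩ := hs τ⁻¹
  have hz : ∀ x y : Γ, σ x ∈ W → σ y ∈ W → σ ⁅x, y⁆ = 1 := fun x y hx hy => by
    rw [map_commutatorElement, commutatorElement_eq_one_iff_mul_comm]; exact (D.comm₁ _ hx _ hy).eq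
  have hmul : ∀ x x' y : Γ, σ x' ∈ W → σ y ∈ W → ⁅x * x', y⁆ = ⁅x, y⁆ * ⁅x', y⁆ := fun x x' y hx' hy => by
    rw [show ⁅x * x', y⁆ = x * ⁅x', y⁆ * x⁻¹ * ⁅x, y⁆ by simp only [commutatorElement_def]; group,
      (central_of hc (hz _ _ hx' hy) x).eq, mul_inv_cancel_right]
    exact (central_of hc (hz _ _ hx' hy) _).symm.eq
  have h0 : ∀ x y : Γ, σ x ∈ W₀ → σ y ∈ W → ⁅x, y⁆ = 1 := fun x y hx hy =>
    commutatorElement_eq_one_iff_mul_comm.2 (D.comm₀ hs hc (D.le₂ hy) hx).symm.eq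
  have hsq : ∀ x y : Γ, σ x ∈ W → σ y ∈ W → ⁅x, y⁆ * ⁅x, y⁆ = 1 := fun x y hx hy => by
    rw [← hmul x x y hx hy]
    exact h0 _ _ (by rw [map_mul, D.sq₁ _ hx]; exact one_mem _) hy
  have hf : ∀ x : Γ, σ x ∈ W → σ (t * x * t⁻¹) ∈ W := fun x hx => by
    rw [map_mul, map_mul, map_inv, ht, D.τ_inv]; exact D.τW_pow hx 6
  have hcube : ∀ x y : Γ, σ x ∈ W → σ y ∈ W →
      ⁅t * (t * (t * x * t⁻¹) * t⁻¹) * t⁻¹, y⁆ = ⁅t * x * t⁻¹, y⁆ * ⁅x, y⁆ := fun x y hx hy => by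
    set r := t * (t * (t * x * t⁻¹) * t⁻¹) * t⁻¹
    have hr : σ (r * (t * x * t⁻¹) * x) ∈ W₀ := by
      have := D.cube₁ _ hx
      simp only [r, map_mul, map_inv, ht, mul_inv_rev, inv_inv, mul_assoc] at this ⊢
      exact this
    have h := h0 _ _ hr hy
    rw [hmul _ _ _ hx hy, hmul _ _ _ (hf x hx) hy, mul_assoc, mul_eq_one_iff_eq_inv, mul_inv_rev,
      inv_eq_of_mul_eq_one_right (hsq _ _ hx hy), inv_eq_of_mul_eq_one_right (hsq _ _ (hf x hx) hy)] at h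
    rw [h]; exact (central_of hc (hz _ _ hx hy) _).symm.eq
  refine commutatorElement_eq_one_iff_mul_comm.1 (pairing_eq_one (H := W.comap σ) (fun u v => ⁅u, v⁆)
    (fun u => t * u * t⁻¹) hf (fun u hu v hv => hsq u v hu hv) (fun u hu v hv => ?_)
    (fun u hu v hv => hcube u v hu hv) (fun u hu v hv => ?_) hx hy)
  · show ⁅t * u * t⁻¹, t * v * t⁻¹⁆ = _
    rw [show ⁅t * u * t⁻¹, t * v * t⁻¹⁆ = t * ⁅u, v⁆ * t⁻¹ by simp only [commutatorElement_def]; group,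
      (central_of hc (hz _ _ hu hv) t).eq, mul_inv_cancel_right]
  · show ⁅u, _⁆ = ⁅u, _⁆ * ⁅u, v⁆
    rw [← commutatorElement_inv, hcube v u hv hu, mul_inv_rev, ← commutatorElement_inv u (t * v * t⁻¹),
      ← commutatorElement_inv u v, inv_inv, inv_inv]
    exact (central_of hc (hz _ _ hu hv) _).symm.eq

omit D in
/-- The norm along `gg`. -/
def nrm (gg a : Γ) : Γ := a * (gg * a * gg⁻¹) * (gg * gg * a * (gg * gg)⁻¹)

omit D in
/-- The orbit product along `tt`. -/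
def orb (tt y : Γ) : Γ := ((List.range 7).map fun i => tt ^ i * y * (tt ^ i)⁻¹).prod

variable {tt gg bb : Γ} (ht : σ tt = τ) (hg : σ gg = g) (hb : σ bb = b)

include hs hc hg in
theorem nrm_mul {a a' : Γ} (ha : σ a ∈ W₀) (ha' : σ a' ∈ W₀) :
    nrm gg (a * a') = nrm gg a * nrm gg a' := by
  have hg1 : ∀ a, σ a ∈ W₀ → σ (gg * a * gg⁻¹) ∈ W₀ := fun a ha => by
    rw [map_mul, map_mul, map_inv, hg]; exact D.gW₀_mem ha
  have hg2 : ∀ a, σ a ∈ W₀ → σ (gg * gg * a * (gg * gg)⁻¹) ∈ W₀ := fun a ha => by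
    have := hg1 _ (hg1 a ha)
    rwa [show gg * (gg * a * gg⁻¹) * gg⁻¹ = gg * gg * a * (gg * gg)⁻¹ by group] at this
  have c : ∀ x y : Γ, σ x ∈ W₀ → σ y ∈ W₀ → Commute x y := fun x y hx hy =>
    D.comm₀ hs hc (D.le₂ (D.le₁ hx)) hy
  simp only [nrm]
  rw [show gg * (a * a') * gg⁻¹ = (gg * a * gg⁻¹) * (gg * a' * gg⁻¹) by group,
    show gg * gg * (a * a') * (gg * gg)⁻¹ = (gg * gg * a * (gg * gg)⁻¹) * (gg * gg * a' * (gg * gg)⁻¹) by group]
  set p := gg * a * gg⁻¹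
  set p' := gg * a' * gg⁻¹
  set q := gg * gg * a * (gg * gg)⁻¹
  set q' := gg * gg * a' * (gg * gg)⁻¹
  calc a * a' * (p * p') * (q * q') = a * (a' * p) * (p' * q) * q' := by group
    _ = a * (p * a') * (q * p') * q' := by
      rw [(c a' p ha' (hg1 a ha)).eq, (c p' q (hg1 a' ha') (hg2 a ha)).eq]
    _ = a * p * (a' * q) * p' * q' := by group
    _ = a * p * (q * a') * p' * q' := by rw [(c a' q ha' (hg2 a ha)).eq]
    _ = _ := by group

include hg in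
theorem nrm_ker {a : Γ} (ha : σ a ∈ W₀) : σ (nrm gg a) = 1 := by
  simp only [nrm, map_mul, map_inv, hg]
  exact D.norm₀ _ ha

omit D in
include hc in
theorem nrm_central {z : Γ} (hz : σ z = 1) : nrm gg z = z ^ 3 := by
  simp only [nrm]
  rw [(central_of hc hz gg).eq, mul_inv_cancel_right, (central_of hc hz (gg * gg)).eq, mul_inv_cancel_right,
    pow_succ, pow_succ, pow_one]

omit D in
include hc in
theorem nrm_conj {a u : Γ} (hu : σ (u * gg) = σ (gg * u)) : nrm gg (u * a * u⁻¹) = u * nrm gg a * u⁻¹ := by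
  have e1 : gg * (u * a * u⁻¹) * gg⁻¹ = u * (gg * a * gg⁻¹) * u⁻¹ := by
    rw [show gg * (u * a * u⁻¹) * gg⁻¹ = (gg * u) * a * (gg * u)⁻¹ by group, ← conj_congr hc hu a]
    group
  have hu2 : σ (u * (gg * gg)) = σ (gg * gg * u) := by
    simp only [map_mul] at hu ⊢
    rw [← mul_assoc, hu, mul_assoc, hu, ← mul_assoc]
  have e2 : gg * gg * (u * a * u⁻¹) * (gg * gg)⁻¹ = u * (gg * gg * a * (gg * gg)⁻¹) * u⁻¹ := by
    rw [show gg * gg * (u * a * u⁻¹) * (gg * gg)⁻¹ = (gg * gg * u) * a * (gg * gg * u)⁻¹ by group,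
      ← conj_congr hc hu2 a]
    group
  simp only [nrm]
  rw [e1, e2]
  group

include hs hc hg hb in
theorem nrm_conj_b {a : Γ} (ha : σ a ∈ W₀) : nrm gg (bb * a * bb⁻¹) = nrm gg a := by
  have hg' : g * g = g⁻¹ := eq_inv_of_mul_eq_one_left D.ggg
  have hgb : g * b = b * g⁻¹ := by
    calc g * b = (g⁻¹)⁻¹ * b := by rw [inv_inv]
      _ = (b * g * b⁻¹)⁻¹ * b := by rw [D.bg]
      _ = _ := by group
  have h1 : σ (gg * bb) = σ (bb * (gg * gg)) := by simp only [map_mul, hg, hb, hg', hgb]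
  have h2 : σ (gg * gg * bb) = σ (bb * gg) := by
    simp only [map_mul, hg, hb]
    calc g * g * b = g * b * g⁻¹ := by conv_lhs => rw [mul_assoc, hgb, ← mul_assoc]
      _ = b * (g * g)⁻¹ := by rw [hgb]; group
      _ = _ := by rw [hg', inv_inv]
  have e1 : gg * (bb * a * bb⁻¹) * gg⁻¹ = bb * (gg * gg * a * (gg * gg)⁻¹) * bb⁻¹ := by
    rw [show gg * (bb * a * bb⁻¹) * gg⁻¹ = (gg * bb) * a * (gg * bb)⁻¹ by group, conj_congr hc h1 a]
    group
  have e2 : gg * gg * (bb * a * bb⁻¹) * (gg * gg)⁻¹ = bb * (gg * a * gg⁻¹) * bb⁻¹ := by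
    rw [show gg * gg * (bb * a * bb⁻¹) * (gg * gg)⁻¹ = (gg * gg * bb) * a * (gg * gg * bb)⁻¹ by group,
      conj_congr hc h2 a]
    group
  have hg1 : σ (gg * a * gg⁻¹) ∈ W₀ := by rw [map_mul, map_mul, map_inv, hg]; exact D.gW₀_mem ha
  have hg2 : σ (gg * gg * a * (gg * gg)⁻¹) ∈ W₀ := by
    have := D.gW₀_mem hg1
    rwa [← hg, ← map_inv, ← map_mul, ← map_mul,
      show gg * (gg * a * gg⁻¹) * gg⁻¹ = gg * gg * a * (gg * gg)⁻¹ by group] at this
  simp only [nrm]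
  rw [e1, e2, show bb * a * bb⁻¹ * (bb * (gg * gg * a * (gg * gg)⁻¹) * bb⁻¹) * (bb * (gg * a * gg⁻¹) * bb⁻¹) =
      bb * (a * ((gg * gg * a * (gg * gg)⁻¹) * (gg * a * gg⁻¹))) * bb⁻¹ by group,
    (D.comm₀ hs hc (D.le₂ (D.le₁ hg2)) hg1).eq, ← mul_assoc a,
    (central_of hc (show σ (a * (gg * a * gg⁻¹) * (gg * gg * a * (gg * gg)⁻¹)) = 1 from D.nrm_ker hg ha) bb).eq,
    mul_inv_cancel_right]

include hs hc hg in
/-- Commutators of the preimages of `Q` and `W` have norm one. -/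
theorem nrm_comm {y v : Γ} (hy : σ y ∈ Q) (hv : σ v ∈ W) : nrm gg ⁅y, v⁆ = 1 := by
  have hmem : ∀ y : Γ, σ y ∈ Q → σ ⁅y, v⁆ ∈ W₀ := fun y hy => by
    rw [map_commutatorElement]; exact D.qw _ hy _ hv
  have hn : ∀ y : Γ, σ y ∈ Q → σ (nrm gg ⁅y, v⁆) = 1 := fun y hy => D.nrm_ker hg (hmem y hy)
  let φ : ↥(Q.comap σ) →* Γ :=
    { toFun := fun y => nrm gg ⁅(y : Γ), v⁆
      map_one' := by simp [nrm]
      map_mul' := fun x y => by
        have hy' := hmem y y.2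
        show nrm gg ⁅(x : Γ) * y, v⁆ = nrm gg ⁅(x : Γ), v⁆ * nrm gg ⁅(y : Γ), v⁆
        rw [show ⁅(x : Γ) * y, v⁆ = (x : Γ) * ⁅(y : Γ), v⁆ * (x : Γ)⁻¹ * ⁅(x : Γ), v⁆ by
          simp only [commutatorElement_def]; group, (D.comm₀ hs hc x.2 hy').eq, mul_inv_cancel_right,
          D.nrm_mul hs hc hg hy' (hmem x x.2)]
        exact (central_of hc (hn y y.2) _).symm.eq }
  set M : Subgroup G := φ.ker.map (σ.comp (Q.comap σ).subtype)
  suffices hM : Q ≤ M by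
    obtain ⟨⟨y', hy'⟩, h1, e⟩ := hM hy
    rw [← comm_congr hc (show σ y' = σ y from e) (rfl : σ v = σ v)]
    exact h1
  have hMc : ∀ x ∈ Q, ∀ w ∈ Q, ⁅x, w⁆ ∈ M := by
    intro x hx w hw
    obtain ⟨u, rfl⟩ := hs x
    obtain ⟨u', rfl⟩ := hs w
    refine ⟨⁅(⟨u, hx⟩ : ↥(Q.comap σ)), ⟨u', hw⟩⁆, ?_, ?_⟩
    · rw [SetLike.mem_coe, MonoidHom.mem_ker, map_commutatorElement, commutatorElement_eq_one_iff_mul_comm]
      exact (central_of hc (hn u' hw) _).eq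
    · simp [map_commutatorElement]
  have hW₀ : W₀ ≤ M := D.gen₀.trans ((closure_le _).2 (by
    rintro _ ⟨x, hx, w, hw, rfl⟩; exact hMc x hx w (D.le₂ hw)))
  have hW : W ≤ M := by
    intro w hw
    obtain ⟨u, rfl⟩ := hs w
    refine ⟨⟨u, D.le₂ hw⟩, ?_, rfl⟩
    rw [SetLike.mem_coe, MonoidHom.mem_ker]
    show nrm gg ⁅u, v⁆ = 1
    rw [commutatorElement_eq_one_iff_mul_comm.2 (D.comm₁' hs hc hw hv).eq]
    simp [nrm]
  intro x hx
  obtain ⟨u, hu, w, hw, rfl⟩ := D.g_surj hx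
  refine mul_mem ?_ (hW hw)
  obtain ⟨u, rfl⟩ := hs u
  have hu' : σ (gg * u * gg⁻¹) ∈ Q := by rw [map_mul, map_mul, map_inv, hg]; exact D.gQ _ hu
  refine ⟨⟨gg * u * gg⁻¹, hu'⟩ * ⟨u, hu⟩⁻¹, ?_, ?_⟩
  · rw [SetLike.mem_coe, MonoidHom.mem_ker, map_mul, map_inv, mul_inv_eq_one]
    show nrm gg ⁅gg * u * gg⁻¹, v⁆ = nrm gg ⁅u, v⁆
    set c := v⁻¹ * (gg⁻¹ * v * gg) with hc'
    have hcW : σ c ∈ W₀ := by
      have hw' : g⁻¹ * σ v * g ∈ W := by
        have h := D.gW_mem (D.gW_mem hv)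
        rwa [show g * (g * σ v * g⁻¹) * g⁻¹ = (g * g) * σ v * (g * g)⁻¹ by group,
          show g * g = g⁻¹ by rw [eq_inv_iff_mul_eq_one]; exact D.ggg, inv_inv] at h
      have h := inv_mem (D.gW _ hw')
      rw [mul_inv_rev, inv_inv, show g * (g⁻¹ * σ v * g) * g⁻¹ = σ v by group] at h
      rw [hc', map_mul, map_inv, map_mul, map_mul, map_inv, hg,
        (D.comm₁ _ (inv_mem hv) _ hw').eq]
      exact h
    have e : ⁅u, gg⁻¹ * v * gg⁆ = ⁅u, v⁆ := by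
      rw [show gg⁻¹ * v * gg = v * c by rw [hc']; group,
        show ⁅u, v * c⁆ = ⁅u, v⁆ * (v * ⁅u, c⁆ * v⁻¹) by simp only [commutatorElement_def]; group,
        commutatorElement_eq_one_iff_mul_comm.2 (D.comm₀ hs hc hu hcW).eq, mul_one, mul_inv_cancel, mul_one]
    rw [show ⁅gg * u * gg⁻¹, v⁆ = gg * ⁅u, gg⁻¹ * v * gg⁆ * gg⁻¹ by simp only [commutatorElement_def]; group, e,
      nrm_conj hc rfl, (central_of hc (hn u hu) gg).eq, mul_inv_cancel_right]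
  · simp [hg]

omit D in
/-- The norm of the orbit product. -/
def pp (tt gg w : Γ) : Γ := nrm gg (orb tt w)

include ht in
theorem conj_pow_W {w : Γ} (hw : σ w ∈ W) (i : ℕ) : σ (tt ^ i * w * (tt ^ i)⁻¹) ∈ W := by
  simp only [map_mul, map_inv, map_pow, ht]; exact D.τW_pow hw i

include ht in
theorem conj_pow_Q {w : Γ} (hw : σ w ∈ Q) (i : ℕ) : σ (tt ^ i * w * (tt ^ i)⁻¹) ∈ Q := by
  simp only [map_mul, map_inv, map_pow, ht]; exact D.τQ_pow hw i

omit D in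
include ht in
theorem map_orb (y : Γ) : σ (orb tt y) = ((List.range 7).map fun i => τ ^ i * σ y * (τ ^ i)⁻¹).prod := by
  rw [orb, map_list_prod, List.map_map]
  congr 2
  funext i
  simp only [Function.comp_apply, map_mul, map_inv, map_pow, ht]

include ht in
theorem orb_W₀ {w : Γ} (hw : σ w ∈ W) : σ (orb tt w) ∈ W₀ := by
  rw [map_orb ht]; exact D.sum₁ hw

include ht in
theorem orb_W {y : Γ} (hy : σ y ∈ Q) : σ (orb tt y) ∈ W := by
  rw [map_orb ht]; exact D.sum₂ hy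

include ht hg in
theorem pp_ker {w : Γ} (hw : σ w ∈ W) : σ (pp tt gg w) = 1 :=
  D.nrm_ker hg (D.orb_W₀ ht hw)

omit D in
include hc ht in
theorem orb_conj {u : Γ} (hu : Commute τ (σ u)) (y : Γ) :
    orb tt (u * y * u⁻¹) = u * orb tt y * u⁻¹ := by
  rw [orb, orb, ← MulAut.conj_apply, ← MulAut.conj_apply, map_list_prod, List.map_map]
  congr 2
  funext i
  simp only [Function.comp_apply, MulAut.conj_apply]
  have e : σ (tt ^ i * u) = σ (u * tt ^ i) := by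
    simp only [map_mul, map_pow, ht]; exact (hu.pow_left i).eq
  rw [show tt ^ i * (u * y * u⁻¹) * (tt ^ i)⁻¹ = (tt ^ i * u) * y * (tt ^ i * u)⁻¹ by group,
    conj_congr hc e y]
  group

omit D in
include hc in
theorem pp_central {z : Γ} (hz : σ z = 1) : pp tt gg z = z ^ 21 := by
  have e : orb tt z = z ^ 7 := by
    rw [orb, List.map_congr_left (g := fun _ => z) fun i _ => by
      rw [(central_of hc hz (tt ^ i)).eq, mul_inv_cancel_right]]
    simp [List.range_succ, pow_succ, mul_assoc]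
  rw [pp, e, nrm_central hc (by rw [map_pow, hz, one_pow]), ← pow_mul]

omit D in
theorem prod_map_mul_of_commute (l : List ℕ) (f h : ℕ → Γ) (hcm : ∀ i j, Commute (h i) (f j)) :
    (l.map fun i => f i * h i).prod = (l.map f).prod * (l.map h).prod := by
  induction l with
  | nil => simp
  | cons i l ih =>
    simp only [List.map_cons, List.prod_cons, ih]
    have e : Commute (h i) (l.map f).prod := Commute.list_prod_right _ _ fun x hx => by
      obtain ⟨j, _, rfl⟩ := List.mem_map.1 hx; exact hcm i j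
    rw [show f i * h i * ((l.map f).prod * (l.map h).prod) = f i * (h i * (l.map f).prod) * (l.map h).prod by group,
      e.eq]
    group

include hs hc ht hg in
theorem pp_mul {w w' : Γ} (hw : σ w ∈ W) (hw' : σ w' ∈ W) :
    pp tt gg (w * w') = pp tt gg w * pp tt gg w' := by
  rw [pp, pp, pp, ← D.nrm_mul hs hc hg (D.orb_W₀ ht hw) (D.orb_W₀ ht hw')]
  congr 1
  rw [orb, orb, orb, ← prod_map_mul_of_commute _ _ _
    fun i j => D.comm₁' hs hc (D.conj_pow_W ht hw' i) (D.conj_pow_W ht hw j)]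
  congr 2
  funext i
  group

include hc ht hg in
theorem pp_conj_t {w : Γ} (hw : σ w ∈ W) : pp tt gg (tt * w * tt⁻¹) = pp tt gg w := by
  rw [pp, orb_conj hc ht (by rw [ht]), nrm_conj hc (by simp only [map_mul, ht, hg]; exact D.τg.eq), ← pp,
    (central_of hc (D.pp_ker ht hg hw) tt).eq, mul_inv_cancel_right]

include hs hc ht hg hb in
theorem pp_conj_b {w : Γ} (hw : σ w ∈ W) : pp tt gg (bb * w * bb⁻¹) = pp tt gg w := by
  rw [pp, orb_conj hc ht (by rw [hb]; exact D.τb), D.nrm_conj_b hs hc hg hb (D.orb_W₀ ht hw), ← pp]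

include hs hc ht hg in
theorem pp_comm {y v : Γ} (hy : σ y ∈ Q) (hv : σ v ∈ W) : pp tt gg ⁅y, v⁆ = 1 := by
  refine (List.prod_induction (fun a => σ a ∈ W₀ ∧ nrm gg a = 1) (fun a a' h h' => ?_) ?_ ?_ :
    σ (orb tt ⁅y, v⁆) ∈ W₀ ∧ nrm gg (orb tt ⁅y, v⁆) = 1).2
  · exact ⟨by rw [map_mul]; exact mul_mem h.1 h'.1, by rw [D.nrm_mul hs hc hg h.1 h'.1, h.2, h'.2, one_mul]⟩
  · exact ⟨by rw [map_one]; exact one_mem _, by simp [nrm]⟩
  · intro a ha
    obtain ⟨i, _, rfl⟩ := List.mem_map.1 ha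
    rw [show tt ^ i * ⁅y, v⁆ * (tt ^ i)⁻¹ = ⁅tt ^ i * y * (tt ^ i)⁻¹, tt ^ i * v * (tt ^ i)⁻¹⁆ by
      simp only [commutatorElement_def]; group]
    exact ⟨by rw [map_commutatorElement]; exact D.qw _ (D.conj_pow_Q ht hy i) _ (D.conj_pow_W ht hv i),
      D.nrm_comm hs hc hg (D.conj_pow_Q ht hy i) (D.conj_pow_W ht hv i)⟩

include hs hc ht hg in
theorem pp_conj_q {y v : Γ} (hy : σ y ∈ Q) (hv : σ v ∈ W) :
    σ (y * v * y⁻¹) ∈ W ∧ pp tt gg (y * v * y⁻¹) = pp tt gg v := by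
  have e : y * v * y⁻¹ = ⁅y, v⁆ * v := by rw [commutatorElement_def, inv_mul_cancel_right]
  have h : σ ⁅y, v⁆ ∈ W := by rw [map_commutatorElement]; exact D.le₁ (D.qw _ hy _ hv)
  rw [e]
  exact ⟨by rw [map_mul]; exact mul_mem h hv, by rw [D.pp_mul hs hc ht hg h hv, D.pp_comm hs hc ht hg hy hv, one_mul]⟩

include hs hc ht hg in
theorem pp_inv {w : Γ} (hw : σ w ∈ W) : pp tt gg w⁻¹ = (pp tt gg w)⁻¹ := by
  apply eq_inv_of_mul_eq_one_left
  rw [← D.pp_mul hs hc ht hg (by rw [map_inv]; exact inv_mem hw) hw, inv_mul_cancel,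
    pp_central hc (map_one σ), one_pow]

include hs hc ht hg in
/-- The norm of the orbit product kills the commutators of the preimage of `Q`. -/
theorem pp_qq {x y : Γ} (hx : σ x ∈ Q) (hy : σ y ∈ Q) : pp tt gg ⁅x, y⁆ = 1 := by
  have hm : ∀ x y : Γ, σ x ∈ Q → σ y ∈ Q → σ ⁅x, y⁆ ∈ W := fun x y hx hy => by
    rw [map_commutatorElement]; exact D.qq _ hx _ hy
  have hz : ∀ x y : Γ, σ x ∈ Q → σ y ∈ Q → ∀ u, Commute u (pp tt gg ⁅x, y⁆) := fun x y hx hy =>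
    central_of hc (D.pp_ker ht hg (hm x y hx hy))
  have hmul : ∀ x x' y : Γ, σ x ∈ Q → σ x' ∈ Q → σ y ∈ Q →
      pp tt gg ⁅x * x', y⁆ = pp tt gg ⁅x, y⁆ * pp tt gg ⁅x', y⁆ := fun x x' y hx hx' hy => by
    obtain ⟨h1, h2⟩ := D.pp_conj_q hs hc ht hg hx (hm _ _ hx' hy)
    rw [show ⁅x * x', y⁆ = x * ⁅x', y⁆ * x⁻¹ * ⁅x, y⁆ by simp only [commutatorElement_def]; group,
      D.pp_mul hs hc ht hg h1 (hm _ _ hx hy), h2]
    exact (hz _ _ hx' hy _).symm.eq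
  have h0 : ∀ x y : Γ, σ x ∈ W → σ y ∈ Q → pp tt gg ⁅x, y⁆ = 1 := fun x y hx hy => by
    rw [← commutatorElement_inv, D.pp_inv hs hc ht hg (hm _ _ hy (D.le₂ hx)), D.pp_comm hs hc ht hg hy hx, inv_one]
  have hsq : ∀ x y : Γ, σ x ∈ Q → σ y ∈ Q → pp tt gg ⁅x, y⁆ * pp tt gg ⁅x, y⁆ = 1 := fun x y hx hy => by
    rw [← hmul x x y hx hx hy]
    exact h0 _ _ (by rw [map_mul]; exact D.sq₂ _ hx) hy
  have hf : ∀ x : Γ, σ x ∈ Q → σ (tt * x * tt⁻¹) ∈ Q := fun x hx => by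
    rw [map_mul, map_mul, map_inv, ht]; exact D.τQ _ hx
  have hcube : ∀ x y : Γ, σ x ∈ Q → σ y ∈ Q →
      pp tt gg ⁅tt * (tt * (tt * x * tt⁻¹) * tt⁻¹) * tt⁻¹, y⁆ =
        pp tt gg ⁅tt * x * tt⁻¹, y⁆ * pp tt gg ⁅x, y⁆ := fun x y hx hy => by
    have h3 := hf _ (hf _ (hf _ hx))
    set r := tt * (tt * (tt * x * tt⁻¹) * tt⁻¹) * tt⁻¹
    have hr : σ (r * (tt * x * tt⁻¹) * x) ∈ W := by
      have := D.cube₂ _ hx
      simp only [r, map_mul, map_inv, ht, mul_inv_rev, inv_inv, mul_assoc] at this ⊢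
      exact this
    have h := h0 _ _ hr hy
    rw [hmul _ _ _ (by rw [map_mul]; exact mul_mem h3 (hf x hx)) hx hy,
      hmul _ _ _ h3 (hf x hx) hy, mul_assoc, mul_eq_one_iff_eq_inv, mul_inv_rev,
      inv_eq_of_mul_eq_one_right (hsq _ _ hx hy), inv_eq_of_mul_eq_one_right (hsq _ _ (hf x hx) hy)] at h
    rw [h]; exact (hz _ _ hx hy _).symm.eq
  refine pairing_eq_one (H := Q.comap σ) (fun u v => pp tt gg ⁅u, v⁆)
    (fun u => tt * u * tt⁻¹) hf (fun u hu v hv => hsq u v hu hv) (fun u hu v hv => ?_)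
    (fun u hu v hv => hcube u v hu hv) (fun u hu v hv => ?_) hx hy
  · show pp tt gg ⁅tt * u * tt⁻¹, tt * v * tt⁻¹⁆ = _
    rw [show ⁅tt * u * tt⁻¹, tt * v * tt⁻¹⁆ = tt * ⁅u, v⁆ * tt⁻¹ by simp only [commutatorElement_def]; group,
      D.pp_conj_t hc ht hg (hm _ _ hu hv)]
  · show pp tt gg ⁅u, _⁆ = pp tt gg ⁅u, _⁆ * pp tt gg ⁅u, v⁆
    have e : ∀ x y : Γ, σ x ∈ Q → σ y ∈ Q → pp tt gg ⁅x, y⁆ = pp tt gg ⁅y, x⁆ := fun x y hx hy => by
      rw [← commutatorElement_inv, D.pp_inv hs hc ht hg (hm _ _ hy hx)]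
      exact inv_eq_of_mul_eq_one_right (hsq _ _ hy hx)
    rw [e _ _ hu (hf _ (hf _ (hf _ hv))), hcube v u hv hu, e _ _ hu (hf _ hv), e _ _ hu hv]

include hs hc ht hg in
theorem pp_orb_mul {y y' : Γ} (hy : σ y ∈ Q) (hy' : σ y' ∈ Q) :
    pp tt gg (orb tt (y * y')) = pp tt gg (orb tt y) * pp tt gg (orb tt y') := by
  set f := fun i => tt ^ i * y * (tt ^ i)⁻¹
  set h := fun i => tt ^ i * y' * (tt ^ i)⁻¹
  have hprod : ∀ (k : ℕ → Γ), (∀ i, σ (k i) ∈ Q) → ∀ l : List ℕ, σ (l.map k).prod ∈ Q := fun k hk l => by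
    induction l with
    | nil => rw [List.map_nil, List.prod_nil, map_one]; exact one_mem _
    | cons i l ih => rw [List.map_cons, List.prod_cons, map_mul]; exact mul_mem (hk i) ih
  have key : ∀ l : List ℕ, σ (((l.map f).prod * (l.map h).prod)⁻¹ * (l.map fun i => f i * h i).prod) ∈ W ∧
      pp tt gg (((l.map f).prod * (l.map h).prod)⁻¹ * (l.map fun i => f i * h i).prod) = 1 := by
    intro l
    induction l with
    | nil =>
      simp only [List.map_nil, List.prod_nil, mul_one, inv_one, map_one]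
      exact ⟨one_mem _, by rw [pp_central hc (map_one σ), one_pow]⟩
    | cons i l ih =>
      simp only [List.map_cons, List.prod_cons]
      set F := (l.map f).prod
      set H := (l.map h).prod
      set X := (l.map fun i => f i * h i).prod
      have hF : σ F⁻¹ ∈ Q := by rw [map_inv]; exact inv_mem (hprod f (D.conj_pow_Q ht hy) l)
      have hH : σ H⁻¹ ∈ Q := by rw [map_inv]; exact inv_mem (hprod h (D.conj_pow_Q ht hy') l)
      have hi : σ (h i)⁻¹ ∈ Q := by rw [map_inv]; exact inv_mem (D.conj_pow_Q ht hy' i)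
      have hm : σ ⁅(h i)⁻¹, F⁻¹⁆ ∈ W := by rw [map_commutatorElement]; exact D.qq _ hi _ hF
      obtain ⟨h1, h2⟩ := D.pp_conj_q hs hc ht hg hH hm
      rw [show (f i * F * (h i * H))⁻¹ * (f i * h i * X) = H⁻¹ * ⁅(h i)⁻¹, F⁻¹⁆ * H⁻¹⁻¹ * ((F * H)⁻¹ * X) by
        simp only [commutatorElement_def]; group]
      exact ⟨by rw [map_mul]; exact mul_mem h1 ih.1,
        by rw [D.pp_mul hs hc ht hg h1 ih.1, h2, ih.2, D.pp_qq hs hc ht hg hi hF, one_mul]⟩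
  obtain ⟨h1, h2⟩ := key (List.range 7)
  have e : orb tt (y * y') = ((List.range 7).map fun i => f i * h i).prod := by
    rw [orb]; congr 2; funext i; simp only [f, h]; group
  have hm : σ (orb tt y * orb tt y') ∈ W := by
    rw [map_mul]; exact mul_mem (D.orb_W ht hy) (D.orb_W ht hy')
  rw [show orb tt (y * y') = orb tt y * orb tt y' * (((orb tt y * orb tt y'))⁻¹ * orb tt (y * y')) by group,
    e, D.pp_mul hs hc ht hg hm, D.pp_mul hs hc ht hg (D.orb_W ht hy) (D.orb_W ht hy'),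
    show pp tt gg ((orb tt y * orb tt y')⁻¹ * ((List.range 7).map fun i => f i * h i).prod) = 1 from h2, mul_one]
  exact h1

include hs hc in
/-- The main result. -/
theorem commutator_pow {a : Γ}
    (ha : a ∈ ⁅(Q ⊔ zpowers b).comap σ, (Q ⊔ zpowers b).comap σ⁆) (hz : σ a = 1) : a ^ 147 = 1 := by
  obtain ⟨tt, ht⟩ := hs τ
  obtain ⟨gg, hg⟩ := hs g
  obtain ⟨c, hb⟩ := hs b
  set F := fun y => pp tt gg (orb tt y)
  have F1 : F 1 = 1 := by
    have e : orb tt (1 : Γ) = 1 := by simp [orb, List.range_succ]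
    show pp tt gg (orb tt 1) = 1
    rw [e, pp_central hc (map_one σ), one_pow]
  have Fmul : ∀ y y' : Γ, σ y ∈ Q → σ y' ∈ Q → F (y * y') = F y * F y' := fun y y' hy hy' =>
    D.pp_orb_mul hs hc ht hg hy hy'
  have Finv : ∀ y : Γ, σ y ∈ Q → F y⁻¹ = (F y)⁻¹ := fun y hy => by
    apply eq_inv_of_mul_eq_one_left
    rw [← Fmul _ _ (by rw [map_inv]; exact inv_mem hy) hy, inv_mul_cancel, F1]
  have Fc : ∀ y : Γ, σ y ∈ Q → ∀ u, Commute u (F y) := fun y hy =>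
    central_of hc (D.pp_ker ht hg (D.orb_W ht hy))
  have hcQ : ∀ y : Γ, σ y ∈ Q → σ (c * y * c⁻¹) ∈ Q := fun y hy => by
    rw [map_mul, map_mul, map_inv, hb]; exact D.bQ _ hy
  have Fb : ∀ y : Γ, σ y ∈ Q → F (c * y * c⁻¹) = F y := fun y hy => by
    show pp tt gg (orb tt _) = _
    rw [orb_conj hc ht (by rw [hb]; exact D.τb), D.pp_conj_b hs hc ht hg hb (D.orb_W ht hy)]
  -- the elements of the preimage
  let S : Subgroup G :=
    { carrier := {x | x ∈ Q ∨ x * b ∈ Q}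
      one_mem' := Or.inl (one_mem _)
      mul_mem' := fun {x y} hx hy => by
        have hbi : b⁻¹ = b := inv_eq_of_mul_eq_one_right D.bb
        rcases hx with hx | hx <;> rcases hy with hy | hy
        · exact Or.inl (mul_mem hx hy)
        · exact Or.inr (by rw [mul_assoc]; exact mul_mem hx hy)
        · refine Or.inr ?_
          have := mul_mem hx (D.bQ _ hy)
          rwa [hbi, show x * b * (b * y * b) = x * (b * b) * y * b by group, D.bb, mul_one] at this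
        · refine Or.inl ?_
          have := mul_mem hx (D.bQ _ hy)
          rwa [hbi, show x * b * (b * (y * b) * b) = x * (b * b) * y * (b * b) by group, D.bb, mul_one,
            mul_one] at this
      inv_mem' := fun {x} hx => by
        rcases hx with hx | hx
        · exact Or.inl (inv_mem hx)
        · refine Or.inr ?_
          have := D.bQ _ (inv_mem hx)
          rwa [mul_inv_rev, ← mul_assoc b, mul_inv_cancel, one_mul,
            inv_eq_of_mul_eq_one_right D.bb] at this }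
  have hU : Q ⊔ zpowers b ≤ S :=
    sup_le (fun x hx => Or.inl hx) (zpowers_le.2 (Or.inr (by rw [D.bb]; exact one_mem _)))
  let K : Subgroup Γ :=
    { carrier := {y | σ y ∈ Q ∧ F y = 1}
      one_mem' := ⟨by rw [map_one]; exact one_mem _, F1⟩
      mul_mem' := fun {x y} hx hy =>
        ⟨by rw [map_mul]; exact mul_mem hx.1 hy.1, by rw [Fmul _ _ hx.1 hy.1, hx.2, hy.2, one_mul]⟩
      inv_mem' := fun {x} hx =>
        ⟨by rw [map_inv]; exact inv_mem hx.1, by rw [Finv _ hx.1, hx.2, inv_one]⟩ }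
  -- every element is `q` or `q * c`
  have hform : ∀ u : Γ, σ u ∈ Q ⊔ zpowers b → σ u ∈ Q ∨ ∃ q, σ q ∈ Q ∧ u = q * c := fun u hu => by
    rcases hU hu with h | h
    · exact Or.inl h
    · refine Or.inr ⟨u * c⁻¹, ?_, by group⟩
      rwa [map_mul, map_inv, hb, inv_eq_of_mul_eq_one_right D.bb]
  have mem4 : ∀ p q r s : Γ, σ p ∈ Q → σ q ∈ Q → σ r ∈ Q → σ s ∈ Q → F p * F q * F r * F s = 1 →
      p * q * r * s ∈ K := fun p q r s hp hq hr hs' h => by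
    have h2 : σ (p * q) ∈ Q := by rw [map_mul]; exact mul_mem hp hq
    have h3 : σ (p * q * r) ∈ Q := by rw [map_mul]; exact mul_mem h2 hr
    exact ⟨by rw [map_mul]; exact mul_mem h3 hs',
      by rw [Fmul _ _ h3 hs', Fmul _ _ h2 hr, Fmul _ _ hp hq]; exact h⟩
  have hle : ⁅(Q ⊔ zpowers b).comap σ, (Q ⊔ zpowers b).comap σ⁆ ≤ K := by
    rw [commutator_le]
    intro u hu v hv
    rcases hform u hu with hu | ⟨q, hq, rfl⟩ <;> rcases hform v hv with hv | ⟨r, hr, rfl⟩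
    · rw [commutatorElement_def]
      refine mem4 _ _ _ _ hu hv (by rw [map_inv]; exact inv_mem hu) (by rw [map_inv]; exact inv_mem hv) ?_
      rw [Finv _ hu, Finv _ hv, (Fc _ hu (F v)).symm.eq]; group
    · rw [show ⁅u, r * c⁆ = u * r * (c * u⁻¹ * c⁻¹) * r⁻¹ by simp only [commutatorElement_def]; group]
      have hu' : σ u⁻¹ ∈ Q := by rw [map_inv]; exact inv_mem hu
      refine mem4 _ _ _ _ hu hr (hcQ _ hu') (by rw [map_inv]; exact inv_mem hr) ?_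
      rw [Fb _ hu', Finv _ hu, Finv _ hr, (Fc _ hu (F r)).symm.eq]; group
    · rw [show ⁅q * c, v⁆ = q * (c * v * c⁻¹) * q⁻¹ * v⁻¹ by simp only [commutatorElement_def]; group]
      refine mem4 _ _ _ _ hq (hcQ _ hv) (by rw [map_inv]; exact inv_mem hq) (by rw [map_inv]; exact inv_mem hv) ?_
      rw [Fb _ hv, Finv _ hq, Finv _ hv, (Fc _ hq (F v)).symm.eq]; group
    · rw [show ⁅q * c, r * c⁆ = q * (c * r * c⁻¹) * (c * q⁻¹ * c⁻¹) * r⁻¹ by
        simp only [commutatorElement_def]; group]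
      have hq' : σ q⁻¹ ∈ Q := by rw [map_inv]; exact inv_mem hq
      refine mem4 _ _ _ _ hq (hcQ _ hr) (hcQ _ hq') (by rw [map_inv]; exact inv_mem hr) ?_
      rw [Fb _ hr, Fb _ hq', Finv _ hq, Finv _ hr, (Fc _ hq (F r)).symm.eq]; group
  have h := (hle ha).2
  have e : orb tt a = a ^ 7 := by
    rw [orb, List.map_congr_left (g := fun _ => a) fun i _ => by
      rw [(central_of hc hz (tt ^ i)).eq, mul_inv_cancel_right]]
    simp [List.range_succ, pow_succ, mul_assoc]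
  rw [show F a = pp tt gg (orb tt a) from rfl, e, pp_central hc (by rw [map_pow, hz, one_pow]), ← pow_mul] at h
  exact h

end Data

end Cfsg.Agent.Lib.Schur.TwistTwo
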