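import Cfsg.Agent.S1079
import Cfsg.Agent.Lib.Schur.ChevUniv
import Cfsg.Agent.Lib.ChevMinuscule.E6
import Cfsg.Agent.Lib.Twisted.Core.E6Group

/-!
The covering group of `²E₆(q)` inside the group presented by Steinberg's relations of type `E₆`: a stem extension
with kernel cyclic of order `gcd(3, q + 1)`.
-/

set_option autoImplicit false
set_option maxRecDepth 8000

namespace Cfsg.Agent.Lib.Schur.TwistE6Cover

open Cfsg.Lie Cfsg.Agent.Lib.Chev Cfsg.Agent.Lib.Schur.ChevLift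
open scoped commutatorElement

universe u

variable {K : Type u} [Field K]

theorem e6_hc : Checked chevE6 E6.cert := Cfsg.Agent.Lib.Twisted.Core.rootedE6.toChecked

/-- The Steinberg elements of a fixed word. -/
def gens (K : Type u) [Field K] (q : ℕ) : Set (chevE6.SteinbergGroup K) :=
  {g | ∃ w ∈ e6Words K q, g = wordX (chevE6.stGen K) w}

/-- The subgroup generated by the fixed root elements. -/
def cover (K : Type u) [Field K] (q : ℕ) : Subgroup (chevE6.SteinbergGroup K) := Subgroup.closure (gens K q)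

/-- Pairs of roots whose root elements commute. -/
def commPairs : List (ℕ × ℕ) :=
  [(56, 36), (56, 35), (15, 36), (15, 35), (42, 37), (42, 34), (29, 37), (29, 34)]

theorem commPairs_ok : commPairs.all (fun p => decide (p.1 < chevE6.nroots) && decide (p.2 < chevE6.nroots) &&
    decide (p.2 ≠ p.1) && decide (p.2 ≠ ng chevE6 p.1) && (cTerms E6.cert p.1 p.2).isEmpty) = true := by
  decide +kernel

section lift

variable {C : Cert} {θ : chevE6.SteinbergGroup K →* ↥(chevE6.group K)}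
  (U : UnivMap chevE6 C K (chevE6.stGen K) θ)

local notation "X" => chevE6.stGen K

include U in
theorem commute_pair {a b : ℕ} (h : (a, b) ∈ commPairs) (t u : K) : Commute (X a t) (X b u) := by
  have hok := commPairs_ok
  simp only [List.all_eq_true, Bool.and_eq_true, decide_eq_true_eq, List.isEmpty_iff] at hok
  obtain ⟨⟨⟨⟨h1, h2⟩, h3⟩, h4⟩, h5⟩ := hok _ h
  have e := U.lift.comm a h1 b h2 h3 h4 t u
  rw [e6_hc.commWord_eq h1 h2, h5] at e
  simp only [List.map_nil, wordX, List.prod_nil, mul_one] at e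
  exact e.symm

/-- The element `h(c) h'(d)` as a product of fixed root elements. -/
theorem hX_pair_mem {i j p p' m m' : ℕ} (hp : chevE6.simple i = p) (hp' : chevE6.simple j = p')
    (hm : ng chevE6 p = m) (hm' : ng chevE6 p' = m')
    (hc : ∀ a ∈ [p, m], ∀ b ∈ [p', m'], ∀ t u : K, Commute (X a t) (X b u))
    (H : Subgroup (chevE6.SteinbergGroup K)) {σ : K → K} (hσ : ∀ t, σ (-t⁻¹) = -(σ t)⁻¹) (h1 : σ 1 = 1)
    (hP : ∀ t, X p t * X p' (σ t) ∈ H) (hM : ∀ t, X m t * X m' (σ t) ∈ H) (c : K) :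
    hX chevE6 X i c * hX chevE6 X j (σ c) ∈ H := by
  have hpp : ∀ t u : K, Commute (X p t) (X p' u) := fun t u => hc p (by simp) p' (by simp) t u
  have hpm : ∀ t u : K, Commute (X p t) (X m' u) := fun t u => hc p (by simp) m' (by simp) t u
  have hmp : ∀ t u : K, Commute (X m t) (X p' u) := fun t u => hc m (by simp) p' (by simp) t u
  have hmm : ∀ t u : K, Commute (X m t) (X m' u) := fun t u => hc m (by simp) m' (by simp) t u
  have hn : ∀ k : ℕ, ∀ r, chevE6.simple k = r → ∀ t : K,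
      nX chevE6 X k t = X r t * (X (ng chevE6 r) (-t⁻¹) * X r t) := fun k r e t => by
    simp [nX, wordX, e]
  have hN : ∀ c : K, nX chevE6 X i c * nX chevE6 X j (σ c) ∈ H := by
    intro c
    have e1 := hn i p hp c
    have e2 := hn j p' hp' (σ c)
    rw [hm] at e1
    rw [hm'] at e2
    have e : nX chevE6 X i c * nX chevE6 X j (σ c) =
        (X p c * X p' (σ c)) * (X m (-c⁻¹) * X m' (σ (-c⁻¹))) * (X p c * X p' (σ c)) := by
      rw [e1, e2, hσ]
      calc X p c * (X m (-c⁻¹) * X p c) * (X p' (σ c) * (X m' (-(σ c)⁻¹) * X p' (σ c)))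
          = X p c * X m (-c⁻¹) * (X p c * X p' (σ c)) * X m' (-(σ c)⁻¹) * X p' (σ c) := by group
        _ = X p c * X m (-c⁻¹) * (X p' (σ c) * X p c) * X m' (-(σ c)⁻¹) * X p' (σ c) := by rw [(hpp _ _).eq]
        _ = X p c * (X m (-c⁻¹) * X p' (σ c)) * (X p c * X m' (-(σ c)⁻¹)) * X p' (σ c) := by group
        _ = X p c * (X p' (σ c) * X m (-c⁻¹)) * (X m' (-(σ c)⁻¹) * X p c) * X p' (σ c) := by
          rw [(hmp _ _).eq, (hpm _ _).eq]
        _ = _ := by group
    rw [e]
    exact mul_mem (mul_mem (hP c) (hM _)) (hP c)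
  have hcm : Commute (nX chevE6 X i (-1)) (nX chevE6 X j (σ c)) := by
    rw [hn i p hp, hn j p' hp', hm, hm']
    have key : ∀ a ∈ [p, m], ∀ t, Commute (X a t) (X p' (σ c) * (X m' (-(σ c)⁻¹) * X p' (σ c))) := fun a ha t =>
      (hc a ha p' (by simp) _ _).mul_right ((hc a ha m' (by simp) _ _).mul_right (hc a ha p' (by simp) _ _))
    exact (key p (by simp) _).mul_left ((key m (by simp) _).mul_left (key p (by simp) _))
  have e : hX chevE6 X i c * hX chevE6 X j (σ c) =
      (nX chevE6 X i c * nX chevE6 X j (σ c)) * (nX chevE6 X i (-1) * nX chevE6 X j (-1)) := by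
    simp only [hX]
    calc nX chevE6 X i c * nX chevE6 X i (-1) * (nX chevE6 X j (σ c) * nX chevE6 X j (-1))
        = nX chevE6 X i c * (nX chevE6 X i (-1) * nX chevE6 X j (σ c)) * nX chevE6 X j (-1) := by group
      _ = _ := by rw [hcm.eq]; group
  have hm1 : σ (-1) = -1 := by simpa [h1] using hσ 1
  rw [e]
  exact mul_mem (hN c) (by simpa [hm1] using hN (-1))

/-- The element `h(c)` of a fixed root as a product of fixed root elements. -/
theorem hX_single_mem {i p m : ℕ} (hp : chevE6.simple i = p) (hm : ng chevE6 p = m)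
    (H : Subgroup (chevE6.SteinbergGroup K)) {c : K} (hP : ∀ t ∈ [c, -1], X p t ∈ H)
    (hM : ∀ t ∈ [c, -1], X m (-t⁻¹) ∈ H) : hX chevE6 X i c ∈ H := by
  have hn : ∀ t ∈ [c, -1], nX chevE6 X i t ∈ H := fun t ht => by
    have e : nX chevE6 X i t = X p t * (X m (-t⁻¹) * X p t) := by simp [nX, wordX, hp, hm]
    rw [e]
    exact mul_mem (hP t ht) (mul_mem (hM t ht) (hP t ht))
  exact mul_mem (hn c (by simp)) (hn (-1) (by simp))

end lift

theorem single_mem {q r : ℕ} (hr : r ∈ [e6p2, e6m2, e6p4, e6m4]) {t : K} (ht : t ^ q = t) :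
    chevE6.stGen K r t ∈ cover K q := by
  refine Subgroup.subset_closure ⟨[(r, t)], Or.inl ⟨t, ht, r, hr, rfl⟩, ?_⟩
  simp [wordX]

theorem pair_mem {q r r' : ℕ} (hr : (r, r') ∈ [(e6p1, e6p6), (e6m1, e6m6), (e6p3, e6p5), (e6m3, e6m5)]) (t : K) :
    chevE6.stGen K r t * chevE6.stGen K r' (t ^ q) ∈ cover K q := by
  refine Subgroup.subset_closure ⟨[(r, t), (r', t ^ q)], Or.inr ⟨t, _, hr, rfl⟩, ?_⟩
  simp [wordX]

theorem wgt_data :
    (((List.range chevE6.nroots).all fun s => decide ((chevE6.cartan 0 s + 2 * chevE6.cartan 5 s +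
      2 * chevE6.cartan 2 s + chevE6.cartan 4 s) % 3 = 0)) &&
    decide ((ChevMinuscule.wgtM chevE6 27 ChevMinuscule.tableE6 56 0 +
      2 * ChevMinuscule.wgtM chevE6 27 ChevMinuscule.tableE6 36 0 +
      2 * ChevMinuscule.wgtM chevE6 27 ChevMinuscule.tableE6 42 0 +
      ChevMinuscule.wgtM chevE6 27 ChevMinuscule.tableE6 37 0) % 3 = 1) &&
    decide (chevE6.simple 0 = 56 ∧ chevE6.simple 1 = 46 ∧ chevE6.simple 2 = 42 ∧ chevE6.simple 3 = 39 ∧
      chevE6.simple 4 = 37 ∧ chevE6.simple 5 = 36) &&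
    decide (ng chevE6 56 = 15 ∧ ng chevE6 46 = 25 ∧ ng chevE6 42 = 29 ∧ ng chevE6 39 = 32 ∧
      ng chevE6 37 = 34 ∧ ng chevE6 36 = 35) &&
    decide (chevE6.cartan 1 46 = 2 ∧ chevE6.cartan 3 39 = 2 ∧
      chevE6.cartan 0 56 + chevE6.cartan 5 56 = 2 ∧ chevE6.cartan 0 36 + chevE6.cartan 5 36 = 2 ∧
      chevE6.cartan 2 42 + chevE6.cartan 4 42 = 2 ∧ chevE6.cartan 2 37 + chevE6.cartan 4 37 = 2) &&
    decide (chevE6.cartan 1 25 = -2 ∧ chevE6.cartan 3 32 = -2 ∧
      chevE6.cartan 0 15 + chevE6.cartan 5 15 = -2 ∧ chevE6.cartan 0 35 + chevE6.cartan 5 35 = -2 ∧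
      chevE6.cartan 2 29 + chevE6.cartan 4 29 = -2 ∧ chevE6.cartan 2 34 + chevE6.cartan 4 34 = -2)) = true := by
  decide +kernel

section main

variable [Fintype K] {q : ℕ}

variable {C : Cert} {θ : chevE6.SteinbergGroup K →* ↥(chevE6.group K)}
  (U : UnivMap chevE6 C K (chevE6.stGen K) θ)

local notation "X" => chevE6.stGen K

omit [Fintype K] in
include U in
theorem map_gen {w : List (ℕ × K)} (hw : w ∈ e6Words K q) :
    (((θ (wordX X w) : ↥(chevE6.group K)) : GL chevE6.Idx K) : Matrix chevE6.Idx chevE6.Idx K) =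
      chevE6.wordMat K w :=
  U.lift.map_wordX w (by
    rcases hw with ⟨t, -, r, hr, rfl⟩ | ⟨t, rs, hrs, rfl⟩
    · simp only [List.mem_cons, List.not_mem_nil, or_false] at hr
      rcases hr with rfl | rfl | rfl | rfl <;> simp [e6p2, e6m2, e6p4, e6m4] <;> decide
    · simp only [List.mem_cons, List.not_mem_nil, or_false] at hrs
      rcases hrs with rfl | rfl | rfl | rfl <;>
        simp [e6p1, e6p6, e6m1, e6m6, e6p3, e6p5, e6m3, e6m5] <;> decide)

omit [Fintype K] in
include U in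
theorem map_cover : (cover K q).map ((chevE6.group K).subtype.comp θ) = twistedE6 K q := by
  rw [cover, MonoidHom.map_closure, twistedE6, ChevalleyDatum.genSubgroup]
  congr 1
  ext g
  constructor
  · rintro ⟨_, ⟨w, hw, rfl⟩, rfl⟩
    exact ⟨w, hw, map_gen U hw⟩
  · rintro ⟨w, hw, e⟩
    exact ⟨_, ⟨w, hw, rfl⟩, Units.ext ((map_gen U hw).trans e.symm)⟩

include U in
theorem torus_elts_mem (hq : IsPrimePow q) (hK : Fintype.card K = q ^ 2) (c : K) :
    hX chevE6 X 0 c * hX chevE6 X 5 (c ^ q) ∈ cover K q ∧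
    hX chevE6 X 2 c * hX chevE6 X 4 (c ^ q) ∈ cover K q ∧
    (c ^ q = c → hX chevE6 X 1 c ∈ cover K q ∧ hX chevE6 X 3 c ∈ cover K q) := by
  obtain ⟨φ, hφ, -⟩ := Cfsg.Agent.Lib.Twisted.Core.e6_powAut hq hK
  have hd := wgt_data
  simp only [Bool.and_eq_true, decide_eq_true_eq] at hd
  obtain ⟨⟨⟨⟨_, s0, s1, s2, s3, s4, s5⟩, n0, n1, n2, n3, n4, n5⟩, _⟩, _⟩ := hd
  have hσ : ∀ t : K, (-t⁻¹) ^ q = -(t ^ q)⁻¹ := fun t => by simp only [← hφ, map_neg, map_inv₀]
  refine ⟨?_, ?_, fun hc => ?_⟩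
  · refine hX_pair_mem s0 s5 n0 n5 ?_ (cover K q) (σ := fun t => t ^ q) hσ (one_pow q)
      (fun t => pair_mem (by simp [e6p1, e6p6]) t) (fun t => pair_mem (by simp [e6m1, e6m6]) t) c
    intro a ha b hb t u
    refine commute_pair U ?_ t u
    simp only [List.mem_cons, List.not_mem_nil, or_false] at ha hb
    rcases ha with rfl | rfl <;> rcases hb with rfl | rfl <;> simp [commPairs]
  · refine hX_pair_mem s2 s4 n2 n4 ?_ (cover K q) (σ := fun t => t ^ q) hσ (one_pow q)
      (fun t => pair_mem (by simp [e6p3, e6p5]) t) (fun t => pair_mem (by simp [e6m3, e6m5]) t) c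
    intro a ha b hb t u
    refine commute_pair U ?_ t u
    simp only [List.mem_cons, List.not_mem_nil, or_false] at ha hb
    rcases ha with rfl | rfl <;> rcases hb with rfl | rfl <;> simp [commPairs]
  · have h1 : ∀ t ∈ [c, -1], t ^ q = t ∧ (-t⁻¹) ^ q = -t⁻¹ := by
      intro t ht
      have e : t ^ q = t := by
        simp only [List.mem_cons, List.not_mem_nil, or_false] at ht
        rcases ht with rfl | rfl
        · exact hc
        · rw [← hφ]; simp
      exact ⟨e, by rw [hσ, e]⟩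
    exact ⟨hX_single_mem s1 n1 (cover K q) (fun t ht => single_mem (by simp [e6p2]) (h1 t ht).1)
        (fun t ht => single_mem (by simp [e6m2]) (h1 t ht).2),
      hX_single_mem s3 n3 (cover K q) (fun t ht => single_mem (by simp [e6p4]) (h1 t ht).1)
        (fun t ht => single_mem (by simp [e6m4]) (h1 t ht).2)⟩

omit [Fintype K] in
include U in
/-- An element scaling a fixed word by a fixed nontrivial scalar puts it into the derived subgroup. -/
theorem comm_of_scale {H : Subgroup (chevE6.SteinbergGroup K)} {T : chevE6.SteinbergGroup K} (hT : T ∈ H)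
    {r r' : ℕ} (hr : r < chevE6.nroots) (hr' : r' < chevE6.nroots) {k : K} (hk : k ≠ 1) (σ : K → K)
    (hσ : ∀ t, σ (k * t) = k * σ t) (hσd : ∀ t, σ (t / (k - 1)) = σ t / (k - 1))
    (h1 : ∀ t, T * X r t * T⁻¹ = X r (k * t)) (h2 : ∀ t, T * X r' t * T⁻¹ = X r' (k * t))
    (hmem : ∀ t, X r t * X r' (σ t) ∈ H) (hcomm : ∀ t u : K, Commute (X r t) (X r' u)) (t : K) :
    ∃ d ∈ (commutator ↥H).map H.subtype, X r t * X r' (σ t) = d := by
  refine ⟨_, ?_, rfl⟩
  set s := t / (k - 1)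
  have hk' : k - 1 ≠ 0 := sub_ne_zero.2 hk
  refine ⟨⁅(⟨T, hT⟩ : ↥H), ⟨_, hmem s⟩⁆, Subgroup.commutator_mem_commutator (Subgroup.mem_top _) (Subgroup.mem_top _), ?_⟩
  show T * (X r s * X r' (σ s)) * T⁻¹ * (X r s * X r' (σ s))⁻¹ = X r t * X r' (σ t)
  rw [show T * (X r s * X r' (σ s)) * T⁻¹ = (T * X r s * T⁻¹) * (T * X r' (σ s) * T⁻¹) by group, h1, h2,
    mul_inv_rev, ← U.lift.X_neg hr, ← U.lift.X_neg hr',
    show X r (k * s) * X r' (k * σ s) * (X r' (-σ s) * X r (-s)) =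
      X r (k * s) * ((X r' (k * σ s) * X r' (-σ s)) * X r (-s)) by group, U.lift.add r' hr',
    ← (hcomm _ _).eq, ← mul_assoc, U.lift.add r hr]
  simp only [s, hσd]
  congr 2 <;> field_simp <;> ring

include U in
theorem cover_commutator (hq : IsPrimePow q) (hK : Fintype.card K = q ^ 2) (h4 : 4 ≤ q) :
    commutator ↥(cover K q) = ⊤ := by
  classical
  obtain ⟨φ, hφ, -⟩ := Cfsg.Agent.Lib.Twisted.Core.e6_powAut hq hK
  have hd := wgt_data
  simp only [Bool.and_eq_true, decide_eq_true_eq] at hd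
  obtain ⟨⟨_, c1, c3, c56, c36, c42, c37⟩, d1, d3, d56, d36, d42, d37⟩ := hd
  -- a fixed scalar whose square is not one
  obtain ⟨b, hbq, hb2⟩ : ∃ b : Kˣ, (b : K) ^ q = b ∧ (b : K) ^ 2 ≠ 1 := by
    have hfix := Cfsg.Agent.Lib.Twisted.Core.e6_fix_card hq hK hφ
    by_contra hn
    push Not at hn
    have hsub : ∀ a : {a : K // φ a = a}, a.1 ∈ ({0, 1, -1} : Finset K) := by
      intro a
      by_cases h0 : a.1 = 0
      · simp [h0]
      have := hn (Units.mk0 a.1 h0) (by rw [← hφ]; exact a.2)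
      rw [Units.val_mk0, sq_eq_one_iff] at this
      rcases this with e | e <;> simp [e]
    have := Nat.card_le_card_of_injective (fun a => (⟨a.1, hsub a⟩ : ({0, 1, -1} : Finset K)))
      (fun a a' e => Subtype.ext (by simpa using e))
    rw [hfix, Nat.card_eq_fintype_card, Fintype.card_coe] at this
    have := this.trans Finset.card_le_three
    omega
  obtain ⟨m05, m24, m13⟩ := torus_elts_mem U hq hK (b : K)
  obtain ⟨m1, m3⟩ := m13 hbq
  rw [hbq] at m05 m24
  have hk : ∀ e : ℤ, e = 2 ∨ e = -2 → ((b ^ e : Kˣ) : K) ≠ 1 ∧ ((b ^ e : Kˣ) : K) ^ q = ((b ^ e : Kˣ) : K) := by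
    intro e he
    refine ⟨?_, ?_⟩
    · rcases he with rfl | rfl <;> simp [zpow_neg, zpow_ofNat, hb2]
    · rw [← hφ, Units.val_zpow_eq_zpow_val, map_zpow₀, hφ, hbq]
  have hσ : ∀ {k : K}, k ^ q = k → (∀ t : K, (k * t) ^ q = k * t ^ q) ∧
      ∀ t : K, (t / (k - 1)) ^ q = t ^ q / (k - 1) := fun {k} e =>
    ⟨fun t => by rw [mul_pow, e], fun t => by simp only [← hφ] at e ⊢; rw [map_div₀, map_sub, e, map_one]⟩
  have hlt : ∀ r ∈ [56, 15, 46, 25, 42, 29, 39, 32, 37, 34, 36, 35], r < chevE6.nroots := by decide +kernel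
  have single : ∀ {i r : ℕ}, i < 6 → r ∈ [56, 15, 46, 25, 42, 29, 39, 32, 37, 34, 36, 35] →
      r ∈ [e6p2, e6m2, e6p4, e6m4] → hX chevE6 X i b ∈ cover K q →
      (chevE6.cartan i r = 2 ∨ chevE6.cartan i r = -2) → ∀ t : K, t ^ q = t →
      X r t ∈ (commutator ↥(cover K q)).map (cover K q).subtype := by
    intro i r hi hr hr4 hm hc t ht
    obtain ⟨hk1, hkq⟩ := hk _ hc
    set k : K := ((b ^ chevE6.cartan i r : Kˣ) : K)
    have hs : (t / (k - 1)) ^ q = t / (k - 1) := by rw [(hσ hkq).2, ht]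
    refine ⟨⁅(⟨_, hm⟩ : ↥(cover K q)), ⟨_, single_mem hr4 hs⟩⁆,
      Subgroup.commutator_mem_commutator (Subgroup.mem_top _) (Subgroup.mem_top _), ?_⟩
    show hX chevE6 X i b * X r (t / (k - 1)) * (hX chevE6 X i (b : K))⁻¹ * (X r (t / (k - 1)))⁻¹ = X r t
    rw [U.lift.hX_conj hi (hlt r hr), ← U.lift.X_neg (hlt r hr), U.lift.add r (hlt r hr)]
    congr 1
    have := sub_ne_zero.2 hk1
    show k * (t / (k - 1)) + -(t / (k - 1)) = t
    field_simp
    ring
  have pair : ∀ {i j r r' : ℕ}, i < 6 → j < 6 → r ∈ [56, 15, 46, 25, 42, 29, 39, 32, 37, 34, 36, 35] →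
      r' ∈ [56, 15, 46, 25, 42, 29, 39, 32, 37, 34, 36, 35] → (r, r') ∈ commPairs →
      (r, r') ∈ [(e6p1, e6p6), (e6m1, e6m6), (e6p3, e6p5), (e6m3, e6m5)] →
      hX chevE6 X i b * hX chevE6 X j b ∈ cover K q → ∀ e : ℤ, (e = 2 ∨ e = -2) →
      chevE6.cartan i r + chevE6.cartan j r = e → chevE6.cartan i r' + chevE6.cartan j r' = e → ∀ t : K,
      X r t * X r' (t ^ q) ∈ (commutator ↥(cover K q)).map (cover K q).subtype := by
    intro i j r r' hi hj hr hr' hcm hrr hm e he e1 e2 t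
    obtain ⟨hk1, hkq⟩ := hk e he
    have hconj : ∀ s, s < chevE6.nroots → chevE6.cartan i s + chevE6.cartan j s = e → ∀ t : K,
        hX chevE6 X i b * hX chevE6 X j b * X s t * (hX chevE6 X i (b : K) * hX chevE6 X j (b : K))⁻¹ =
          X s (((b ^ e : Kˣ) : K) * t) := by
      intro s hs hse t
      rw [show hX chevE6 X i b * hX chevE6 X j b * X s t * (hX chevE6 X i (b : K) * hX chevE6 X j (b : K))⁻¹ =
        hX chevE6 X i b * (hX chevE6 X j b * X s t * (hX chevE6 X j (b : K))⁻¹) * (hX chevE6 X i (b : K))⁻¹ by group,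
        U.lift.hX_conj hj hs, U.lift.hX_conj hi hs, ← mul_assoc, ← Units.val_mul, ← zpow_add, hse]
    obtain ⟨d, hd', ed⟩ := comm_of_scale U hm (hlt r hr) (hlt r' hr') hk1 (fun t => t ^ q) (hσ hkq).1 (hσ hkq).2
      (hconj r (hlt r hr) e1) (hconj r' (hlt r' hr') e2) (fun t => pair_mem hrr t) (commute_pair U hcm) t
    exact ed ▸ hd'
  have key : cover K q ≤ (commutator ↥(cover K q)).map (cover K q).subtype := by
    refine (Subgroup.closure_le _).2 ?_
    rintro _ ⟨w, hw, rfl⟩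
    rcases hw with ⟨t, ht, r, hr, rfl⟩ | ⟨t, rs, hrs, rfl⟩
    · rw [show wordX X [(r, t)] = X r t by simp [wordX]]
      simp only [List.mem_cons, List.not_mem_nil, or_false] at hr
      rcases hr with rfl | rfl | rfl | rfl
      · exact single (i := 1) (by norm_num) (by decide) (by decide) m1 (Or.inl c1) t ht
      · exact single (i := 1) (by norm_num) (by decide) (by decide) m1 (Or.inr d1) t ht
      · exact single (i := 3) (by norm_num) (by decide) (by decide) m3 (Or.inl c3) t ht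
      · exact single (i := 3) (by norm_num) (by decide) (by decide) m3 (Or.inr d3) t ht
    · rw [show wordX X [(rs.1, t), (rs.2, t ^ q)] = X rs.1 t * X rs.2 (t ^ q) by simp [wordX]]
      simp only [List.mem_cons, List.not_mem_nil, or_false] at hrs
      rcases hrs with rfl | rfl | rfl | rfl
      · exact pair (i := 0) (j := 5) (by norm_num) (by norm_num) (by decide) (by decide)
          (by decide) (by decide) m05 2 (Or.inl rfl) c56 c36 t
      · exact pair (i := 0) (j := 5) (by norm_num) (by norm_num) (by decide) (by decide)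
          (by decide) (by decide) m05 (-2) (Or.inr rfl) d56 d36 t
      · exact pair (i := 2) (j := 4) (by norm_num) (by norm_num) (by decide) (by decide)
          (by decide) (by decide) m24 2 (Or.inl rfl) c42 c37 t
      · exact pair (i := 2) (j := 4) (by norm_num) (by norm_num) (by decide) (by decide)
          (by decide) (by decide) m24 (-2) (Or.inr rfl) d42 d37 t
  rw [eq_top_iff]
  intro x _
  obtain ⟨y, hy, e⟩ := key x.2
  rwa [← Subtype.ext (e : (y : chevE6.SteinbergGroup K) = x)]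

include U in
/-- A nontrivial central element of the cover. -/
theorem exists_central_mem (hq : IsPrimePow q) (hK : Fintype.card K = q ^ 2) (h3 : 3 ∣ q + 1) :
    ∃ z ∈ cover K q, z ∈ θ.ker ∧ z ≠ 1 := by
  have hcard : Nat.card Kˣ = (q + 1) * (q - 1) := by
    rw [Nat.card_units, Nat.card_eq_fintype_card, hK, ← Nat.sq_sub_sq, one_pow]
  obtain ⟨ζ, hζ⟩ := IsCyclic.exists_ofOrder_eq_natCard (α := Kˣ)
  have hdvd : 3 ∣ orderOf ζ := by rw [hζ, hcard]; exact h3.mul_right _
  set a := ζ ^ (orderOf ζ / 3) with ha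
  have ho : orderOf a = 3 := orderOf_pow_orderOf_div (orderOf_pos ζ).ne' hdvd
  have ha3 : a ^ 3 = 1 := ho ▸ pow_orderOf_eq_one a
  have ha1 : a ≠ 1 := fun e => by simp [e] at ho
  have haq : (a : K) ^ q = ((a ^ 2 : Kˣ) : K) := by
    rw [← Units.val_pow_eq_pow_val, Units.val_inj]
    obtain ⟨m, hm⟩ := h3
    calc a ^ q = a ^ q * a ^ 3 := by rw [ha3, mul_one]
      _ = a ^ (q + 1) * a ^ 2 := by rw [← pow_add, ← pow_add]
      _ = a ^ 2 := by rw [hm, pow_mul, ha3, one_pow, one_mul]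
  have haq2 : ((a ^ 2 : Kˣ) : K) ^ q = (a : K) := by
    rw [Units.val_pow_eq_pow_val, ← pow_mul, mul_comm, pow_mul, haq, ← Units.val_pow_eq_pow_val, Units.val_inj,
      ← pow_mul, show 2 * 2 = 3 + 1 from rfl, pow_succ, ha3, one_mul]
  have hd := wgt_data
  simp only [Bool.and_eq_true, List.all_eq_true, List.mem_range, decide_eq_true_eq] at hd
  obtain ⟨⟨⟨⟨⟨hs0, hwt⟩, s0, s1, s2, s3, s4, s5⟩, _⟩, _⟩, _⟩ := hd
  obtain ⟨m05, -, -⟩ := torus_elts_mem U hq hK (a : K)
  obtain ⟨-, m24, -⟩ := torus_elts_mem U hq hK ((a ^ 2 : Kˣ) : K)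
  rw [haq] at m05
  rw [haq2] at m24
  set z := hX chevE6 X 0 (a : K) * hX chevE6 X 5 ((a ^ 2 : Kˣ) : K) *
    (hX chevE6 X 2 ((a ^ 2 : Kˣ) : K) * hX chevE6 X 4 (a : K)) with hz
  have hlt : ∀ i < 6, i < chevE6.rank := fun i hi => by rwa [Cfsg.Agent.Lib.Twisted.Core.e6rank]
  refine ⟨z, mul_mem m05 m24, MonoidHom.mem_ker.2 (Subtype.ext (Units.ext ?_)), fun e => ha1 ?_⟩
  · have hmap : ∀ i < 6, ∀ c : Kˣ,
        (((θ (hX chevE6 X i (c : K)) : ↥(chevE6.group K)) : GL chevE6.Idx K) : Matrix chevE6.Idx chevE6.Idx K) =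
          chevE6.charDiag K (fun s => c ^ chevE6.cartan i s) := fun i hi c => by
      rw [← powDiag_eq_charDiag, ← U.lift.checked.hMat_simple (hlt i hi)]
      exact U.lift.map_hX (hlt i hi) _
    simp only [hz, map_mul, Subgroup.coe_mul, Units.val_mul, hmap 0 (by norm_num), hmap 5 (by norm_num),
      hmap 2 (by norm_num), hmap 4 (by norm_num), charDiag_mul, Subgroup.coe_one, Units.val_one]
    rw [← charDiag_one (D := chevE6) (F := K)]
    refine congrArg Matrix.diagonal (funext fun x => ?_)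
    rcases x with i | s
    · rfl
    · simp only [Sum.elim_inr, Units.val_eq_one, ← Units.val_inj.eq]
      obtain ⟨k, hk⟩ := Int.dvd_of_emod_eq_zero (hs0 s s.isLt)
      rw [← zpow_natCast a 2, ← zpow_mul, ← zpow_mul, ← zpow_add, ← zpow_add, ← zpow_add,
        show chevE6.cartan 0 s + (2 : ℕ) * chevE6.cartan 5 s + ((2 : ℕ) * chevE6.cartan 2 s + chevE6.cartan 4 s) =
          3 * k by push_cast; omega, zpow_mul, zpow_ofNat, ha3, one_zpow]
  · obtain ⟨ψ, hψ⟩ := ChevMinuscule.minuscOK_E6.exists_rep (F := K)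
    have hmk : ∀ i, i < chevE6.rank → ∀ c : Kˣ,
        ((ψ (hX chevE6 X i (c : K)) : GL (Fin 27) K) : Matrix (Fin 27) (Fin 27) K) = Matrix.diagonal
          fun j : Fin 27 => (c : K) ^ ChevMinuscule.wgtM chevE6 27 ChevMinuscule.tableE6 (chevE6.simple i) j := by
      intro i hi c
      have e : hX chevE6 X i (c : K) =
          PresentedGroup.mk (chevE6.steinbergRels K) (chevE6.stH (chevE6.simple i) (c : K)) := by
        simp [hX, nX, wordX, ChevalleyDatum.stH, ChevalleyDatum.stWord, ChevalleyDatum.stGen,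
          ChevalleyDatum.hWord, ChevalleyDatum.nWord, e6_hc.neg_eq (e6_hc.simple_lt hi), mul_assoc]
      rw [e, hψ, ChevMinuscule.minuscOK_E6.lift_stH (e6_hc.simple_lt hi) c.ne_zero]
    have h0 : Units.val (ψ z) = (1 : Matrix (Fin 27) (Fin 27) K) := by rw [e, map_one, Units.val_one]
    rw [hz, map_mul, map_mul, map_mul, Units.val_mul, Units.val_mul, Units.val_mul, hmk 0 (hlt 0 (by norm_num)),
      hmk 5 (hlt 5 (by norm_num)), hmk 2 (hlt 2 (by norm_num)), hmk 4 (hlt 4 (by norm_num)),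
      Matrix.diagonal_mul_diagonal, Matrix.diagonal_mul_diagonal, Matrix.diagonal_mul_diagonal] at h0
    have h1 := congrArg (fun M : Matrix (Fin 27) (Fin 27) K => M 0 0) h0
    simp only [Matrix.diagonal_apply_eq, Matrix.one_apply_eq, s0, s5, s2, s4, Fin.val_zero,
      ← Units.val_zpow_eq_zpow_val, ← Units.val_mul, Units.val_eq_one] at h1
    rw [← zpow_natCast a 2, ← zpow_mul, ← zpow_mul, ← zpow_add, ← zpow_add, ← zpow_add] at h1
    obtain ⟨k, hk⟩ := Int.dvd_of_emod_eq_zero (Int.emod_eq_emod_iff_emod_sub_eq_zero.1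
      (hwt.trans (show (1 : ℤ) % 3 = 1 from rfl).symm))
    rw [show (_ : ℤ) + (2 : ℕ) * _ + ((2 : ℕ) * _ + _) = 3 * k + 1 by push_cast; linarith [hk], zpow_add,
      zpow_mul, zpow_ofNat, ha3, one_zpow, one_mul, zpow_one] at h1
    exact h1

end main

/-- **The lower bound.** For `q ≠ 2` there is a finite stem extension of `²E₆(q)` with kernel cyclic of order
`gcd(3, q + 1)`. -/
theorem exists_stem_E6 [Fintype K] {q : ℕ} (hq : IsPrimePow q) (hK : Fintype.card K = q ^ 2) (h2 : q ≠ 2) :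
    ∃ (Γ : Type u) (_ : Group Γ) (_ : Finite Γ) (σ : Γ →* ↥(twistedE6 K q)),
      Cfsg.IsStemExtension σ ∧ Nonempty (σ.ker ≃* Multiplicative (ZMod (Nat.gcd 3 (q + 1)))) := by
  obtain ⟨φ, hφ, hφ2⟩ := Cfsg.Agent.Lib.Twisted.Core.e6_powAut hq hK
  rcases (Nat.dvd_prime Nat.prime_three).1 (Nat.gcd_dvd_left 3 (q + 1)) with hg | hg
  · rw [hg]
    have hcomm := Cfsg.Agent.Lib.Twisted.Core.e6_commutator hq hK φ hφ hφ2
    refine ⟨↥(twistedE6 K q), inferInstance, inferInstance, MonoidHom.id _,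
      ⟨Function.surjective_id, by simp, by simp⟩, ⟨?_⟩⟩
    haveI : Subsingleton (MonoidHom.id ↥(twistedE6 K q)).ker := by rw [MonoidHom.ker_id]; infer_instance
    exact { toFun := fun _ => 1, invFun := fun _ => 1, left_inv := fun _ => Subsingleton.elim _ _,
            right_inv := fun _ => Subsingleton.elim _ _, map_mul' := fun _ _ => Subsingleton.elim _ _ }
  rw [hg]
  have h3 : 3 ∣ q + 1 := hg ▸ Nat.gcd_dvd_right 3 (q + 1)
  have h4 : 4 ≤ q := by have := hq.two_le; omega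
  obtain ⟨C, θ, U⟩ := exists_univMap_group (F := K) (D := chevE6) (by simp [sevenTypes])
  set π := (chevE6.group K).subtype.comp θ
  let σ : ↥(cover K q) →* ↥(twistedE6 K q) :=
    (π.comp (cover K q).subtype).codRestrict _ fun x => by
      rw [← map_cover U]; exact Subgroup.mem_map_of_mem π x.2
  have hsurj : Function.Surjective σ := by
    rintro ⟨g, hg'⟩
    rw [← map_cover U] at hg'
    obtain ⟨x, hx, e⟩ := hg'
    exact ⟨⟨x, hx⟩, Subtype.ext e⟩
  have hker : ∀ x : ↥(cover K q), x ∈ σ.ker ↔ (x : chevE6.SteinbergGroup K) ∈ θ.ker := fun x => by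
    rw [← UnivMap.ker_comp (θ := θ), MonoidHom.mem_ker, MonoidHom.mem_ker, Subtype.ext_iff]
    rfl
  have hc3 : Nat.card (Subgroup.center (chevE6.SteinbergGroup K)) = 3 := by
    refine (Cfsg.Agent.S1079.result rfl (chevE6, 3) (by simp)).trans ?_
    rw [hK]
    refine Nat.gcd_eq_left (h3.trans ⟨q - 1, ?_⟩)
    rw [← Nat.sq_sub_sq, one_pow]
  obtain ⟨z, hzm, hz, hz1⟩ := exists_central_mem U hq hK h3
  let e : σ.ker → Subgroup.center (chevE6.SteinbergGroup K) := fun x =>
    ⟨(x.1 : chevE6.SteinbergGroup K), U.ker_eq_center ▸ (hker x.1).1 x.2⟩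
  have he : Function.Injective e := fun a b h => by
    refine Subtype.ext (Subtype.ext ?_)
    exact congrArg (fun w : Subgroup.center (chevE6.SteinbergGroup K) => (w : chevE6.SteinbergGroup K)) h
  haveI : Finite (Subgroup.center (chevE6.SteinbergGroup K)) := Nat.finite_of_card_ne_zero (by rw [hc3]; norm_num)
  haveI : Finite σ.ker := Finite.of_injective e he
  have hle : Nat.card σ.ker ≤ 3 := hc3 ▸ Nat.card_le_card_of_injective e he
  have hz' : (⟨z, hzm⟩ : ↥(cover K q)) ∈ σ.ker := (hker _).2 hz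
  have hord : orderOf (⟨⟨z, hzm⟩, hz'⟩ : σ.ker) = 3 := by
    have h1 : orderOf (⟨z, U.ker_eq_center ▸ hz⟩ : Subgroup.center (chevE6.SteinbergGroup K)) ∣ 3 :=
      hc3 ▸ orderOf_dvd_natCard _
    rw [Subgroup.orderOf_mk] at h1
    rw [Subgroup.orderOf_mk, Subgroup.orderOf_mk]
    exact ((Nat.dvd_prime Nat.prime_three).1 h1).resolve_left (mt orderOf_eq_one_iff.1 hz1)
  have hcard : Nat.card σ.ker = 3 :=
    le_antisymm hle (Nat.le_of_dvd Nat.card_pos (hord ▸ orderOf_dvd_natCard _))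
  have hstem : Cfsg.IsStemExtension σ := by
    refine ⟨hsurj, fun x hx => ?_, by rw [cover_commutator U hq hK h4]; exact le_top⟩
    have hc := U.ker_eq_center ▸ (hker x).1 hx
    exact Subgroup.mem_center_iff.2 fun g => Subtype.ext (Subgroup.mem_center_iff.1 hc _)
  haveI : Finite (↥(cover K q) ⧸ σ.ker) :=
    Finite.of_equiv _ (QuotientGroup.quotientKerEquivOfSurjective σ hsurj).symm.toEquiv
  haveI : Fact (Nat.Prime 3) := ⟨Nat.prime_three⟩
  haveI : IsCyclic σ.ker := isCyclic_of_prime_card hcard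
  exact ⟨↥(cover K q), inferInstance, Finite.of_subgroup_quotient σ.ker, σ, hstem,
    ⟨mulEquivOfCyclicCardEq (hcard.trans (by simp))⟩⟩

end Cfsg.Agent.Lib.Schur.TwistE6Cover
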