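import Cfsg.Agent.Lib.Schur.Cover
import Cfsg.Agent.Lib.Schur.TwistE6Cover
import Cfsg.Agent.Lib.Schur.TwistOrbRank
import Cfsg.Agent.Lib.Twisted.Aut.E6
import Cfsg.Agent.Lib.Twisted.Monomial

/-!
The odd part of the Schur multiplier of `²E₆(2)`: stem extensions with kernel of odd order have kernel of order at
most `3`, and the Steinberg cover gives one with kernel of order `3`.
-/

set_option autoImplicit false
set_option maxRecDepth 8000
set_option linter.style.haveILetI false

namespace Cfsg.Agent.Lib.Schur.TwistE6Odd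

open Cfsg.Lie Cfsg.Agent.Lib.Chev Cfsg.Agent.Lib.Schur.ChevLift Cfsg.Agent.Lib.Schur.TwistE6Cover

universe u

variable {K : Type u} [Field K] [Fintype K]

omit [Fintype K] in
private theorem gen_sq {C : Cert} {θ : chevE6.SteinbergGroup K →* ↥(chevE6.group K)}
    (U : UnivMap chevE6 C K (chevE6.stGen K) θ) (h2 : (2 : K) = 0) {q : ℕ} {w : List (ℕ × K)}
    (hw : w ∈ e6Words K q) :
    wordX (chevE6.stGen K) w * wordX (chevE6.stGen K) w = 1 := by
  have hlt : ∀ r ∈ [e6p1, e6m1, e6p2, e6m2, e6p3, e6m3, e6p4, e6m4, e6p5, e6m5, e6p6, e6m6],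
      r < chevE6.nroots := by decide +kernel
  have hs : ∀ r < chevE6.nroots, ∀ t : K, chevE6.stGen K r t * chevE6.stGen K r t = 1 := fun r hr t => by
    rw [U.lift.add r hr, show t + t = 0 by linear_combination t * h2, U.lift.X_zero hr]
  rcases hw with ⟨t, -, r, hr, rfl⟩ | ⟨t, rs, hrs, rfl⟩
  · simp only [wordX, List.map_cons, List.map_nil, List.prod_cons, List.prod_nil, mul_one]
    refine hs r (hlt r ?_) t
    simp only [List.mem_cons, List.not_mem_nil, or_false] at hr
    rcases hr with rfl | rfl | rfl | rfl <;> simp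
  · have hc : Commute (chevE6.stGen K rs.1 t) (chevE6.stGen K rs.2 (t ^ q)) := by
      refine commute_pair U ?_ _ _
      simp only [List.mem_cons, List.not_mem_nil, or_false] at hrs
      rcases hrs with rfl | rfl | rfl | rfl <;> decide
    obtain ⟨h1, h1'⟩ : rs.1 < chevE6.nroots ∧ rs.2 < chevE6.nroots := by
      simp only [List.mem_cons, List.not_mem_nil, or_false] at hrs
      rcases hrs with rfl | rfl | rfl | rfl <;> exact ⟨hlt _ (by simp), hlt _ (by simp)⟩
    simp only [wordX, List.map_cons, List.map_nil, List.prod_cons, List.prod_nil, mul_one]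
    rw [hc.symm.mul_mul_mul_comm, hs _ h1, hs _ h1', one_mul]

/-- A stem extension of `²E₆(2)` with kernel of odd order has kernel of order at most three. -/
theorem e6two_card_ker_le (hK : Fintype.card K = 4) {Γ : Type*} [Group Γ] [Finite Γ]
    (σ : Γ →* ↥(twistedE6 K 2)) (hσ : Cfsg.IsStemExtension σ) (hodd : ¬ 2 ∣ Nat.card σ.ker) :
    Nat.card σ.ker ≤ 3 := by
  have hq : IsPrimePow 2 := Nat.prime_two.isPrimePow
  have hK' : Fintype.card K = 2 ^ 2 := by rw [hK]; norm_num
  obtain ⟨φ, hφ, hφ2⟩ := Cfsg.Agent.Lib.Twisted.Core.e6_powAut hq hK'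
  haveI : Fact (Nat.Prime 2) := ⟨Nat.prime_two⟩
  haveI : CharP K 2 := charP_of_card_eq_prime_pow (f := 2) hK'
  let O := Cfsg.Agent.Lib.Twisted.Core.e6Orbits hq hK' φ hφ hφ2
  refine ((Cfsg.Agent.Lib.Schur.TwistLift.orbits_card_ker_le O
      (Cfsg.Agent.Lib.Twisted.Aut.e6_data hq hK' φ hφ hφ2) 2 hσ hodd
      Cfsg.Agent.Lib.Twisted.etaSigns_E6).trans
      (Cfsg.Agent.Lib.Twisted.Core.e6_card_ker hq hK' φ hφ hφ2).le).trans ?_
  norm_num

/-- The triple cover of `²E₆(2)` inside the Steinberg group. -/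
theorem e6two_exists_stem (hK : Fintype.card K = 4) :
    ∃ (Γ : Type u) (_ : Group Γ) (_ : Finite Γ) (σ : Γ →* ↥(twistedE6 K 2)),
      Cfsg.IsStemExtension σ ∧ Nonempty (σ.ker ≃* Multiplicative (ZMod 3)) := by
  have hq : IsPrimePow 2 := Nat.prime_two.isPrimePow
  have hK' : Fintype.card K = 2 ^ 2 := by rw [hK]; norm_num
  obtain ⟨φ, hφ, hφ2⟩ := Cfsg.Agent.Lib.Twisted.Core.e6_powAut hq hK'
  haveI : Fact (Nat.Prime 2) := ⟨Nat.prime_two⟩
  haveI : CharP K 2 := charP_of_card_eq_prime_pow (f := 2) hK'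
  have h2 : (2 : K) = 0 := CharTwo.two_eq_zero
  have hperf := Cfsg.Agent.Lib.Twisted.Core.e6_commutator hq hK' φ hφ hφ2
  have h3 : 3 ∣ 2 + 1 := by norm_num
  obtain ⟨C, θ, U⟩ := exists_univMap_group (F := K) (D := chevE6) (by simp [sevenTypes])
  set π := (chevE6.group K).subtype.comp θ
  let σ : ↥(cover K 2) →* ↥(twistedE6 K 2) :=
    (π.comp (cover K 2).subtype).codRestrict _ fun x => by
      rw [← map_cover U]; exact Subgroup.mem_map_of_mem π x.2
  have hsurj : Function.Surjective σ := by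
    rintro ⟨g, hg'⟩
    rw [← map_cover U] at hg'
    obtain ⟨x, hx, e⟩ := hg'
    exact ⟨⟨x, hx⟩, Subtype.ext e⟩
  have hker : ∀ x : ↥(cover K 2), x ∈ σ.ker ↔ (x : chevE6.SteinbergGroup K) ∈ θ.ker := fun x => by
    rw [← UnivMap.ker_comp (θ := θ), MonoidHom.mem_ker, MonoidHom.mem_ker, Subtype.ext_iff]
    rfl
  have hc3 : Nat.card (Subgroup.center (chevE6.SteinbergGroup K)) = 3 := by
    refine (Cfsg.Agent.S1079.result rfl (chevE6, 3) (by simp)).trans ?_
    rw [hK]; rfl
  obtain ⟨z, hzm, hz, hz1⟩ := exists_central_mem U hq hK' h3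
  let e : σ.ker → Subgroup.center (chevE6.SteinbergGroup K) := fun x =>
    ⟨(x.1 : chevE6.SteinbergGroup K), U.ker_eq_center ▸ (hker x.1).1 x.2⟩
  have he : Function.Injective e := fun a b h => by
    refine Subtype.ext (Subtype.ext ?_)
    exact congrArg (fun w : Subgroup.center (chevE6.SteinbergGroup K) => (w : chevE6.SteinbergGroup K)) h
  haveI : Finite (Subgroup.center (chevE6.SteinbergGroup K)) := Nat.finite_of_card_ne_zero (by rw [hc3]; norm_num)
  haveI : Finite σ.ker := Finite.of_injective e he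
  have hle : Nat.card σ.ker ≤ 3 := hc3 ▸ Nat.card_le_card_of_injective e he
  have hz' : (⟨z, hzm⟩ : ↥(cover K 2)) ∈ σ.ker := (hker _).2 hz
  have hord : orderOf (⟨⟨z, hzm⟩, hz'⟩ : σ.ker) = 3 := by
    have h1 : orderOf (⟨z, U.ker_eq_center ▸ hz⟩ : Subgroup.center (chevE6.SteinbergGroup K)) ∣ 3 :=
      hc3 ▸ orderOf_dvd_natCard _
    rw [Subgroup.orderOf_mk] at h1
    rw [Subgroup.orderOf_mk, Subgroup.orderOf_mk]
    exact ((Nat.dvd_prime Nat.prime_three).1 h1).resolve_left (mt orderOf_eq_one_iff.1 hz1)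
  have hcard : Nat.card σ.ker = 3 :=
    le_antisymm hle (Nat.le_of_dvd Nat.card_pos (hord ▸ orderOf_dvd_natCard _))
  -- the cover is perfect: it is generated by involutions and cubes lie in the derived subgroup
  have hpc : commutator ↥(cover K 2) = ⊤ := by
    have hcube : ∀ x : ↥(cover K 2), x ^ 3 ∈ commutator ↥(cover K 2) := by
      intro x
      have hm : (commutator ↥(cover K 2)).map σ = ⊤ := by
        rw [commutator_def, Subgroup.map_commutator, Subgroup.map_top_of_surjective σ hsurj, ← commutator_def,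
          hperf]
      obtain ⟨n, hn, hσn⟩ : σ x ∈ (commutator ↥(cover K 2)).map σ := hm ▸ Subgroup.mem_top _
      have hcK : n⁻¹ * x ∈ σ.ker := by rw [MonoidHom.mem_ker, map_mul, map_inv, hσn, inv_mul_cancel]
      have hc3' : (n⁻¹ * x) ^ 3 = 1 :=
        congrArg Subtype.val (hcard ▸ pow_card_eq_one' (G := σ.ker) (x := ⟨_, hcK⟩))
      have hcent : n⁻¹ * x ∈ Subgroup.center ↥(cover K 2) := Subgroup.mem_center_iff.2 fun g =>
        Subtype.ext (Subgroup.mem_center_iff.1 (U.ker_eq_center ▸ (hker _).1 hcK) _)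
      have hcm : Commute n (n⁻¹ * x) := Subgroup.mem_center_iff.1 hcent n
      have hx3 : x ^ 3 = n ^ 3 * (n⁻¹ * x) ^ 3 := by rw [← hcm.mul_pow, mul_inv_cancel_left]
      rw [hx3, hc3', mul_one]
      exact pow_mem hn 3
    have hgen : cover K 2 ≤ (commutator ↥(cover K 2)).map (cover K 2).subtype := by
      refine (Subgroup.closure_le _).2 ?_
      rintro _ ⟨w, hw, rfl⟩
      set g : ↥(cover K 2) := ⟨_, Subgroup.subset_closure ⟨w, hw, rfl⟩⟩
      have h2g : g * g = 1 := Subtype.ext (gen_sq U h2 hw)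
      exact ⟨g, by simpa [pow_succ, h2g] using hcube g, rfl⟩
    rw [eq_top_iff]
    intro x _
    obtain ⟨y, hy, ey⟩ := hgen x.2
    rwa [← Subtype.ext (ey : (y : chevE6.SteinbergGroup K) = x)]
  have hstem : Cfsg.IsStemExtension σ := by
    refine ⟨hsurj, fun x hx => ?_, by rw [hpc]; exact le_top⟩
    have hc := U.ker_eq_center ▸ (hker x).1 hx
    exact Subgroup.mem_center_iff.2 fun g => Subtype.ext (Subgroup.mem_center_iff.1 hc _)
  haveI : Finite (↥(cover K 2) ⧸ σ.ker) :=
    Finite.of_equiv _ (QuotientGroup.quotientKerEquivOfSurjective σ hsurj).symm.toEquiv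
  haveI : Fact (Nat.Prime 3) := ⟨Nat.prime_three⟩
  haveI : IsCyclic σ.ker := isCyclic_of_prime_card hcard
  exact ⟨↥(cover K 2), inferInstance, Finite.of_subgroup_quotient σ.ker, σ, hstem,
    ⟨mulEquivOfCyclicCardEq (hcard.trans (by simp))⟩⟩

end Cfsg.Agent.Lib.Schur.TwistE6Odd
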