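import Cfsg.Agent.Lib.Chev.SL2Hom
import Cfsg.Agent.Lib.Schur.SL2
import Cfsg.Agent.Lib.Schur.PLift
import Cfsg.Agent.Lib.Schur.Perfect

/-!
Rank one: homomorphisms on `SL(2, F)` lift uniquely through central extensions with kernel of order prime to the
characteristic.
-/

set_option autoImplicit false

namespace Cfsg.Agent.Lib.Schur.TwistLift

open Cfsg.Agent.Lib.Chev Subgroup
open scoped Matrix MatrixGroups
open RankOneData (upper lower wElt sl_ext mul_entry upper_entries lower_entries wElt_entries det_eq)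

variable {F : Type*} [Field F]

/-- A diagonal matrix of determinant one. -/
def dFun (a : Fˣ) : SL(2, F) := ⟨!![(a : F), 0; 0, ((a⁻¹ : Fˣ) : F)], by rw [Matrix.det_fin_two_of]; simp⟩

theorem dFun_entries (a : Fˣ) : dFun a 0 0 = (a : F) ∧ dFun a 0 1 = 0 ∧ dFun a 1 0 = 0 ∧
    dFun a 1 1 = ((a⁻¹ : Fˣ) : F) := ⟨rfl, rfl, rfl, rfl⟩

/-- The diagonal matrices. -/
def dHom : Fˣ →* SL(2, F) :=
  MonoidHom.mk' dFun fun a b => by
    refine sl_ext ?_ ?_ ?_ ?_ <;> simp [mul_entry, dFun_entries, mul_comm]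

theorem dHom_entries (a : Fˣ) : dHom a 0 0 = (a : F) ∧ dHom a 0 1 = 0 ∧ dHom a 1 0 = 0 ∧
    dHom a 1 1 = ((a⁻¹ : Fˣ) : F) := ⟨rfl, rfl, rfl, rfl⟩

/-- Conjugation by `diag (a, 1)`. -/
def scFun (a : Fˣ) (g : SL(2, F)) : SL(2, F) :=
  ⟨!![g 0 0, (a : F) * g 0 1; ((a⁻¹ : Fˣ) : F) * g 1 0, g 1 1], by
    rw [Matrix.det_fin_two_of]
    linear_combination det_eq g - g 0 1 * g 1 0 * a.mul_inv⟩

theorem scFun_entries (a : Fˣ) (g : SL(2, F)) :
    scFun a g 0 0 = g 0 0 ∧ scFun a g 0 1 = (a : F) * g 0 1 ∧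
      scFun a g 1 0 = ((a⁻¹ : Fˣ) : F) * g 1 0 ∧ scFun a g 1 1 = g 1 1 := ⟨rfl, rfl, rfl, rfl⟩

/-- Conjugation by `diag (a, 1)`, as a homomorphism. -/
def scHom (a : Fˣ) : SL(2, F) →* SL(2, F) :=
  MonoidHom.mk' (scFun a) fun g h => by
    refine sl_ext ?_ ?_ ?_ ?_ <;> simp only [mul_entry, scFun_entries]
    · linear_combination -g 0 1 * h 1 0 * a.mul_inv
    · ring
    · ring
    · linear_combination -g 1 0 * h 0 1 * a.mul_inv

theorem scHom_upper (a : Fˣ) (t : F) : scHom a (upper t) = upper ((a : F) * t) := by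
  refine sl_ext ?_ ?_ ?_ ?_ <;> simp [scHom, scFun_entries, upper_entries]

theorem scHom_lower (a : Fˣ) (t : F) : scHom a (lower t) = lower (((a⁻¹ : Fˣ) : F) * t) := by
  refine sl_ext ?_ ?_ ?_ ?_ <;> simp [scHom, scFun_entries, lower_entries]

theorem scHom_dHom (a b : Fˣ) : scHom a (dHom b) = dHom b := by
  refine sl_ext ?_ ?_ ?_ ?_ <;> simp [scHom, scFun_entries, dHom_entries]

theorem wElt_eq : (wElt : SL(2, F)) = upper 1 * lower (-1) * upper 1 := by
  refine sl_ext ?_ ?_ ?_ ?_ <;> simp [mul_entry, upper_entries, lower_entries, wElt_entries]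

theorem upper_add (s t : F) : upper (s + t) = upper s * upper t := by
  refine sl_ext ?_ ?_ ?_ ?_ <;> simp [mul_entry, upper_entries, add_comm]

theorem lower_add (s t : F) : lower (s + t) = lower s * lower t := by
  refine sl_ext ?_ ?_ ?_ ?_ <;> simp [mul_entry, lower_entries]

theorem upper_zero : upper (0 : F) = 1 := by
  refine sl_ext ?_ ?_ ?_ ?_ <;> simp [upper_entries]

theorem lower_zero : lower (0 : F) = 1 := by
  refine sl_ext ?_ ?_ ?_ ?_ <;> simp [lower_entries]

theorem wElt_conj_upper (t : F) : (wElt : SL(2, F)) * upper t * wElt⁻¹ = lower (-t) := by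
  rw [mul_inv_eq_iff_eq_mul]
  refine sl_ext ?_ ?_ ?_ ?_ <;> simp [mul_entry, upper_entries, lower_entries, wElt_entries]

theorem wElt_sq : (wElt : SL(2, F)) * wElt = dHom (-1) := by
  refine sl_ext ?_ ?_ ?_ ?_ <;> simp [mul_entry, wElt_entries, dHom_entries]

theorem wElt_mul_dHom (a : Fˣ) : (wElt : SL(2, F)) * dHom a = dHom a⁻¹ * wElt := by
  refine sl_ext ?_ ?_ ?_ ?_ <;> simp [mul_entry, wElt_entries, dHom_entries, -map_inv]

theorem dHom_conj_upper (a : Fˣ) (t : F) : dHom a * upper t * (dHom a)⁻¹ = upper (((a : F) * a) * t) := by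
  rw [mul_inv_eq_iff_eq_mul]
  refine sl_ext ?_ ?_ ?_ ?_ <;> simp [mul_entry, upper_entries, dHom_entries] <;> field_simp

/-- The big cell. -/
theorem exists_big_cell (g : SL(2, F)) (h : g 1 0 ≠ 0) :
    ∃ (b : F) (a : Fˣ) (c : F), g = upper b * (dHom a * wElt) * upper c := by
  refine ⟨g 0 0 / g 1 0, Units.mk0 (-(g 1 0)⁻¹) (neg_ne_zero.2 (inv_ne_zero h)), g 1 1 / g 1 0, ?_⟩
  have hd := det_eq g
  refine sl_ext ?_ ?_ ?_ ?_ <;> simp [mul_entry, upper_entries, dHom_entries, wElt_entries] <;> field_simp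
  linear_combination -hd

theorem exists_small_cell (g : SL(2, F)) (h : g 1 0 = 0) : ∃ (a : Fˣ) (c : F), g = dHom a * upper c := by
  have hd := det_eq g
  rw [h] at hd
  have ha : g 0 0 ≠ 0 := fun e => by rw [e] at hd; simp at hd
  refine ⟨Units.mk0 _ ha, g 0 1 / g 0 0, ?_⟩
  refine sl_ext ?_ ?_ ?_ ?_ <;> simp [mul_entry, upper_entries, dHom_entries, h] <;> field_simp
  linear_combination hd

theorem lower_eq_big (t : F) (ht : t ≠ 0) :
    ∃ (b : F) (a : Fˣ) (c : F), lower t = upper b * (dHom a * wElt) * upper c :=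
  exists_big_cell _ (by simpa [lower_entries] using ht)

/-- Two homomorphisms agreeing on the triangular unipotent matrices are equal. -/
theorem hom_ext_SL2 {M : Type*} [Group M] {a b : SL(2, F) →* M}
    (hu : ∀ t, a (upper t) = b (upper t)) (hl : ∀ t, a (lower t) = b (lower t)) : a = b := by
  refine MonoidHom.eq_of_eqOn_dense RankOneData.closure_gens ?_
  rintro g (⟨t, rfl⟩ | rfl)
  · exact hu t
  · rw [wElt_eq, map_mul, map_mul, map_mul, map_mul, hu, hl]

/-- Where the image lies. -/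
theorem range_le_SL2 {M : Type*} [Group M] (a : SL(2, F) →* M) (H : Subgroup M)
    (hu : ∀ t, a (upper t) ∈ H) (hl : ∀ t, a (lower t) ∈ H) : a.range ≤ H := by
  rw [MonoidHom.range_eq_map, ← RankOneData.closure_gens, MonoidHom.map_closure, Subgroup.closure_le]
  rintro _ ⟨g, (⟨t, rfl⟩ | rfl), rfl⟩
  · exact hu t
  · rw [SetLike.mem_coe, wElt_eq, map_mul, map_mul]
    exact mul_mem (mul_mem (hu _) (hl _)) (hu _)

theorem upper_pow (t : F) (n : ℕ) : upper t ^ n = upper ((n : F) * t) := by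
  induction n with
  | zero => rw [pow_zero, Nat.cast_zero, zero_mul, upper_zero]
  | succ n ih => rw [pow_succ, ih, ← upper_add, Nat.cast_succ, add_mul, one_mul]

theorem lower_pow (t : F) (n : ℕ) : lower t ^ n = lower ((n : F) * t) := by
  induction n with
  | zero => rw [pow_zero, Nat.cast_zero, zero_mul, lower_zero]
  | succ n ih => rw [pow_succ, ih, ← lower_add, Nat.cast_succ, add_mul, one_mul]

variable (p : ℕ) [Fact p.Prime] [CharP F p]

theorem isPElt_map_upper {M : Type*} [Group M] (f : SL(2, F) →* M) (t : F) : IsPElt p (f (upper t)) :=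
  ⟨1, by rw [pow_one, ← map_pow, upper_pow, CharP.cast_eq_zero, zero_mul, upper_zero, map_one]⟩

theorem isPElt_map_lower {M : Type*} [Group M] (f : SL(2, F) →* M) (t : F) : IsPElt p (f (lower t)) :=
  ⟨1, by rw [pow_one, ← map_pow, lower_pow, CharP.cast_eq_zero, zero_mul, lower_zero, map_one]⟩

/-- **Lifting.** A homomorphism on `SL(2, F)` lifts through a central extension with kernel prime to `p`. -/
theorem exists_lift_SL2 [Fintype F] {Γ G : Type*} [Group Γ] [Group G] [Finite Γ] {σ : Γ →* G}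
    (hs : Function.Surjective σ) (hc : σ.ker ≤ center Γ) (hA : ¬ p ∣ Nat.card σ.ker) (ψ : SL(2, F) →* G) :
    ∃ Ψ : SL(2, F) →* Γ, σ.comp Ψ = ψ := by
  classical
  have hp : p.Prime := Fact.out
  let P := pullback ψ σ
  let τ : P →* SL(2, F) := (MonoidHom.fst _ Γ).comp P.subtype
  obtain ⟨hτs, hτc⟩ := pullback_fst_central ψ σ hs hc
  let g : τ.ker →* σ.ker :=
    (((MonoidHom.snd SL(2, F) Γ).comp P.subtype).comp τ.ker.subtype).codRestrict _ fun x => by
      have h1 : x.1.1.1 = 1 := x.2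
      show σ x.1.1.2 = 1
      rw [← mem_pullback.mp x.1.2, h1, map_one]
  have hg : Function.Injective g := fun a b h =>
    Subtype.ext (Subtype.ext (Prod.ext ((a.2 : a.1.1.1 = 1).trans (b.2 : b.1.1.1 = 1).symm)
      (congrArg (fun y : σ.ker => (y : Γ)) h)))
  have hkp : ¬ p ∣ Nat.card τ.ker := fun h => hA (h.trans (Subgroup.card_dvd_of_injective g hg))
  let E : Subgroup P := pGen τ p ((⊤ : Subgroup SL(2, F)) : Set SL(2, F))
  let τ₀ : E →* SL(2, F) := τ.comp E.subtype
  have hτ₀s : Function.Surjective τ₀ := by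
    intro s
    have hle := le_map_pGen (σ := τ) (p := p) hτs (H := ⊤)
      (Set.range (upper (F := F)) ∪ Set.range (lower (F := F))) (fun x _ => by
        have h := range_le_SL2 (MonoidHom.id SL(2, F))
          (Subgroup.closure (Set.range (upper (F := F)) ∪ Set.range (lower (F := F))))
          (fun t => Subgroup.subset_closure (Or.inl ⟨t, rfl⟩)) fun t => Subgroup.subset_closure (Or.inr ⟨t, rfl⟩)
        exact h ⟨x, rfl⟩)
      (fun _ _ => Subgroup.mem_top _)
      (by
        rintro _ (⟨t, rfl⟩ | ⟨t, rfl⟩)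
        exacts [isPElt_map_upper p (MonoidHom.id _) t, isPElt_map_lower p (MonoidHom.id _) t])
    obtain ⟨y, hy, rfl⟩ := hle (Subgroup.mem_top s)
    exact ⟨⟨y, hy⟩, rfl⟩
  have hcard : Nat.card τ₀.ker ∣ Nat.card τ.ker := by
    let f : τ₀.ker →* τ.ker := (E.subtype.comp τ₀.ker.subtype).codRestrict _ fun x => x.2
    exact Subgroup.card_dvd_of_injective f fun a b h =>
      Subtype.ext (Subtype.ext (congrArg (fun y : τ.ker => (y : P)) h))
  have hstem : Cfsg.IsStemExtension τ₀ := by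
    refine ⟨hτ₀s, fun x hx => Subgroup.mem_center_iff.2 fun y => Subtype.ext
      (Subgroup.mem_center_iff.1 (hτc (hx : τ x.1 = 1)) y.1), fun x hx => ?_⟩
    refine mem_commutator_of_coprime (p := p) {s : E | IsPElt p s} ?_ (fun s hs => hs) ?_
    · rw [eq_top_iff]
      rintro ⟨y, hy⟩ -
      have hmap : E ≤ (Subgroup.closure {s : E | IsPElt p s}).map E.subtype := by
        rw [MonoidHom.map_closure]
        refine (Subgroup.closure_le _).2 fun z hz => Subgroup.subset_closure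
          ⟨⟨z, Subgroup.subset_closure hz⟩, ?_, rfl⟩
        obtain ⟨k, hk⟩ := hz.1
        exact ⟨k, Subtype.ext hk⟩
      obtain ⟨w, hw, e⟩ := hmap hy
      obtain rfl : w = ⟨y, hy⟩ := Subtype.ext e
      exact hw
    · exact fun h => hkp ((h.trans (Subgroup.orderOf_coe (⟨x, hx⟩ : τ₀.ker) ▸ orderOf_dvd_natCard _)).trans hcard)
  have hone : Nat.card τ₀.ker = 1 := by
    by_contra hne
    obtain ⟨r, hr, hrd⟩ := Nat.exists_prime_and_dvd hne
    haveI : Fact r.Prime := ⟨hr⟩
    rcases eq_or_ne r p with rfl | hrp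
    · exact hkp (hrd.trans hcard)
    · exact not_dvd_card_ker_SL2_ne_char p hrp hstem hrd
  have hinj : Function.Injective τ₀ :=
    (MonoidHom.ker_eq_bot_iff τ₀).1 (Subgroup.card_eq_one.1 hone)
  let e : E ≃* SL(2, F) := MulEquiv.ofBijective τ₀ ⟨hinj, hτ₀s⟩
  refine ⟨(((MonoidHom.snd SL(2, F) Γ).comp P.subtype).comp E.subtype).comp e.symm.toMonoidHom, ?_⟩
  refine MonoidHom.ext fun s => ?_
  show σ ((e.symm s).1.1.2) = ψ s
  rw [← mem_pullback.mp (e.symm s).1.2]
  exact congrArg ψ (e.apply_symm_apply s)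

end Cfsg.Agent.Lib.Schur.TwistLift
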