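import Cfsg.Agent.Lib.Schur.Cover
import Mathlib

/-!
Uniqueness of the Schur cover over `Q`: exactly when `|Qᵃᵇ|` is prime to the multiplier.
-/

universe u v

namespace Cfsg.Agent.Lib.Schur

open Subgroup
open scoped commutatorElement

variable {Q : Type u} [Group Q]

theorem commutator_image_le {X Y : Type*} [Group X] [Group Y] (f : X →* Y) :
    (_root_.commutator X).map f ≤ _root_.commutator Y := by
  rw [_root_.commutator_def, _root_.commutator_def, Subgroup.map_commutator]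
  exact Subgroup.commutator_mono le_top le_top

/-- Two lifts into a central extension agree on the derived subgroup. -/
theorem eq_on_commutator {X Y : Type*} [Group X] [Group Y] (σ : Y →* Q) (hc : σ.ker ≤ center Y)
    (f g : X →* Y) (h : σ.comp f = σ.comp g) :
    ∀ x ∈ _root_.commutator X, f x = g x := by
  have hd : ∀ y, (g y)⁻¹ * f y ∈ center Y := fun y => hc (by
    rw [MonoidHom.mem_ker, map_mul, map_inv, inv_mul_eq_one]
    exact (DFunLike.congr_fun h y).symm)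
  have hle : _root_.commutator X ≤ f.eqLocus g := by
    rw [_root_.commutator_def, Subgroup.commutator_le]
    intro a _ b _
    show f ⁅a, b⁆ = g ⁅a, b⁆
    rw [map_commutatorElement, map_commutatorElement]
    have := commutatorElement_mul_central (g a) (g b) (hd a) (hd b)
    simpa using this
  exact fun x hx => hle hx

/-- A complement of the commutator in the kernel gives a cover. -/
theorem cover_of_complement [Finite Q] {α : Type u} {π : FreeGroup α →* Q}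
    (hπ : Function.Surjective π) (C : Subgroup (cov π)) [C.Normal] (hC : C ≤ (covProj π).ker)
    (hdisj : Disjoint C (_root_.commutator (cov π)))
    (hsup : ∀ r, covProj π r = 1 → ∃ c ∈ C, c⁻¹ * r ∈ mult π) :
    ∃ σ : cov π ⧸ C →* Q, σ.comp (QuotientGroup.mk' C) = covProj π ∧ Finite (cov π ⧸ C) ∧
      Cfsg.IsStemExtension σ ∧ Nonempty (σ.ker ≃* mult π) := by
  let σ : cov π ⧸ C →* Q := QuotientGroup.lift C (covProj π) hC
  have hsplit : ∀ z : cov π ⧸ C, σ z = 1 → ∃ m ∈ mult π, QuotientGroup.mk' C m = z := fun z hz => by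
    obtain ⟨r, rfl⟩ := QuotientGroup.mk'_surjective C z
    obtain ⟨c, hc, hm⟩ := hsup r hz
    refine ⟨_, hm, ?_⟩
    rw [map_mul, (MonoidHom.mem_ker (f := QuotientGroup.mk' C)).mp
      (by rw [QuotientGroup.ker_mk']; exact inv_mem hc), one_mul]
  let g : mult π →* σ.ker := ((QuotientGroup.mk' C).comp (mult π).subtype).codRestrict _ fun m => m.2.1
  have hg : Function.Bijective g := by
    refine ⟨(injective_iff_map_eq_one g).mpr fun m hm => Subtype.ext ?_, fun r => ?_⟩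
    · exact Subgroup.disjoint_def.mp hdisj
        ((QuotientGroup.eq_one_iff _).mp (congrArg Subtype.val hm)) m.2.2
    · obtain ⟨m, hm, hmr⟩ := hsplit r.1 r.2
      exact ⟨⟨m, hm⟩, Subtype.ext hmr⟩
  have hstem : Cfsg.IsStemExtension σ := by
    refine ⟨fun q => ?_, fun r hr => ?_, fun r hr => ?_⟩
    · obtain ⟨x, rfl⟩ := covProj_surjective hπ q
      exact ⟨QuotientGroup.mk' C x, rfl⟩
    · obtain ⟨m, hm, rfl⟩ := hsplit r hr
      rw [Subgroup.mem_center_iff]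
      intro y
      obtain ⟨y, rfl⟩ := QuotientGroup.mk'_surjective C y
      rw [← map_mul, ← map_mul, Subgroup.mem_center_iff.mp (covProj_ker_le_center π hm.1) y]
    · obtain ⟨m, hm, rfl⟩ := hsplit r hr
      exact commutator_image_le (QuotientGroup.mk' C) ⟨m, hm.2, rfl⟩
  haveI := finite_mult π
  haveI : Finite σ.ker := Finite.of_surjective g hg.2
  have hfin : Finite (cov π ⧸ C) := by
    haveI : Finite ((cov π ⧸ C) ⧸ σ.ker) :=
      Finite.of_equiv _ (QuotientGroup.quotientKerEquivOfSurjective σ hstem.1).symm.toEquiv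
    exact Finite.of_subgroup_quotient σ.ker
  exact ⟨σ, MonoidHom.ext fun _ => rfl, hfin, hstem, ⟨(MulEquiv.ofBijective g hg).symm⟩⟩

/-- Lifts of the free central extension to a stem extension are surjective. -/
theorem surjective_lift_of_stem {α : Type*} {π : FreeGroup α →* Q} (hπ : Function.Surjective π)
    {Γ : Type*} [Group Γ] {σ : Γ →* Q} (hσ : Cfsg.IsStemExtension σ) (f : cov π →* Γ)
    (hf : σ.comp f = covProj π) : Function.Surjective f := by
  intro y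
  obtain ⟨x, hx⟩ := covProj_surjective hπ (σ y)
  have hk : (f x)⁻¹ * y ∈ σ.ker := by
    rw [MonoidHom.mem_ker, map_mul, map_inv, ← MonoidHom.comp_apply, hf, hx, inv_mul_cancel]
  obtain ⟨d, -, hd⟩ := (map_commutator_cov hπ σ hσ.2.1 f hf).ge (hσ.2.2 hk)
  exact ⟨x * d, by rw [map_mul, hd, mul_inv_cancel_left]⟩

/-- Coprimality gives uniqueness of covers over `Q`. -/
theorem cover_iso_of_coprime [Finite Q] {A : Type v} [CommGroup A] (hA : Cfsg.HasSchurMultiplier Q A)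
    (hcop : Nat.Coprime (Nat.card (Abelianization Q)) (Nat.card A))
    {Γ₁ Γ₂ : Type u} [Group Γ₁] [Finite Γ₁] [Group Γ₂] [Finite Γ₂] (σ₁ : Γ₁ →* Q) (σ₂ : Γ₂ →* Q)
    (h₁ : Cfsg.IsStemExtension σ₁) (h₂ : Cfsg.IsStemExtension σ₂)
    (e₁ : σ₁.ker ≃* A) (e₂ : σ₂.ker ≃* A) :
    ∃ e : Γ₁ ≃* Γ₂, σ₂.comp e.toMonoidHom = σ₁ := by
  classical
  set π := canon Q
  have hπ := canon_surjective Q
  obtain ⟨eA⟩ := hasSchurMultiplier_canon_iff.mp hA
  haveI := finite_mult π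
  obtain ⟨f₁, hf₁⟩ := exists_covLift π σ₁ h₁.1 h₁.2.1
  obtain ⟨f₂, hf₂⟩ := exists_covLift π σ₂ h₂.1 h₂.2.1
  have hone : ∀ {Γ : Type u} [Group Γ] (σ : Γ →* Q) (f : cov π →* Γ), σ.comp f = covProj π →
      ∀ r : (covProj π).ker, f r ∈ σ.ker := fun σ f hf r => by
    rw [MonoidHom.mem_ker, ← MonoidHom.comp_apply, hf]; exact r.2
  -- the multiplier maps isomorphically to both kernels
  have hiso : ∀ {Γ : Type u} [Group Γ] (σ : Γ →* Q) (f : cov π →* Γ) (_ : σ.comp f = covProj π)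
      (_ : Cfsg.IsStemExtension σ) (_ : σ.ker ≃* A),
      ∃ j : mult π ≃* σ.ker, ∀ m : mult π, ((j m : σ.ker) : Γ) = f m := by
    intro Γ _ σ f hf hσ e
    haveI := Finite.of_equiv _ (e.trans eA).toEquiv.symm
    let g : mult π →* σ.ker := (f.comp (mult π).subtype).codRestrict _ fun m => hone σ f hf ⟨m, m.2.1⟩
    have hg : Function.Surjective g := fun z => by
      have hz : (z : Γ) ∈ (mult π).map f := by
        rw [map_mult hπ σ hσ.2.1 f hf]; exact ⟨z.2, hσ.2.2 z.2⟩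
      obtain ⟨m, hm, hmz⟩ := hz
      exact ⟨⟨m, hm⟩, Subtype.ext hmz⟩
    exact ⟨MulEquiv.ofBijective g
      (hg.bijective_of_nat_card_le (Nat.card_congr (e.trans eA).toEquiv).ge), fun m => rfl⟩
  obtain ⟨j₁, hj₁⟩ := hiso σ₁ f₁ hf₁ h₁ e₁
  obtain ⟨j₂, hj₂⟩ := hiso σ₂ f₂ hf₂ h₂ e₂
  letI : CommGroup σ₂.ker :=
    { (inferInstance : Group σ₂.ker) with
      mul_comm := fun a b => Subtype.ext (Subgroup.mem_center_iff.mp (h₂.2.1 b.2) a) }
  let f₁' : (covProj π).ker →* σ₁.ker :=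
    (f₁.comp (covProj π).ker.subtype).codRestrict _ (hone σ₁ f₁ hf₁)
  let f₂' : (covProj π).ker →* σ₂.ker :=
    (f₂.comp (covProj π).ker.subtype).codRestrict _ (hone σ₂ f₂ hf₂)
  let δ : (covProj π).ker →* σ₂.ker :=
    ((j₂.toMonoidHom.comp j₁.symm.toMonoidHom).comp f₁') / f₂'
  have hδm : ∀ r : (covProj π).ker, (r : cov π) ∈ _root_.commutator (cov π) → δ r = 1 := fun r hr => by
    have h1 : f₁' r = j₁ ⟨r, r.2, hr⟩ := Subtype.ext (hj₁ ⟨r, r.2, hr⟩).symm
    have h2 : f₂' r = j₂ ⟨r, r.2, hr⟩ := Subtype.ext (hj₂ ⟨r, r.2, hr⟩).symm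
    simp [δ, h1, h2]
  set E := Nat.card (Abelianization Q)
  -- every element has its `E`-th power in the kernel modulo commutators
  have hex : ∀ x : cov π, ∃ r : (covProj π).ker,
      (r : cov π)⁻¹ * x ^ E ∈ _root_.commutator (cov π) := by
    intro x
    have h : covProj π x ^ E ∈ _root_.commutator Q := by
      rw [← Abelianization.ker_of, MonoidHom.mem_ker, map_pow]
      exact pow_card_eq_one'
    rw [← map_commutator_cov hπ (MonoidHom.id Q) (by simp) (covProj π) (MonoidHom.id_comp _)] at h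
    obtain ⟨d, hd, hdx⟩ := h
    refine ⟨⟨x ^ E * d⁻¹, ?_⟩, ?_⟩
    · rw [MonoidHom.mem_ker, map_mul, map_inv, map_pow, hdx, mul_inv_cancel]
    · show (x ^ E * d⁻¹)⁻¹ * x ^ E ∈ _
      rwa [show (x ^ E * d⁻¹)⁻¹ * x ^ E = d from by group]
  let ab : cov π →* Abelianization (cov π) := Abelianization.of
  have hab : ∀ a b : cov π, a⁻¹ * b ∈ _root_.commutator (cov π) ↔ ab a = ab b := fun a b => by
    rw [← Abelianization.ker_of, MonoidHom.mem_ker, map_mul, map_inv, inv_mul_eq_one]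
  choose r hr using hex
  have hrab : ∀ x, ab (r x) = ab x ^ E := fun x => by rw [(hab _ _).mp (hr x), map_pow]
  have hδab : ∀ a b : (covProj π).ker, ab a = ab b → δ a = δ b := fun a b h => by
    have h1 := hδm (a⁻¹ * b) ((hab _ _).mpr h)
    rwa [map_mul, map_inv, inv_mul_eq_one] at h1
  let ω₀ : cov π →* σ₂.ker := MonoidHom.mk' (fun x => δ (r x)) fun x y => by
    rw [← map_mul]
    refine hδab _ _ ?_
    rw [Subgroup.coe_mul, map_mul, hrab, hrab, hrab, map_mul, mul_pow]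
  have hωr : ∀ z : (covProj π).ker, ω₀ z = δ z ^ E := fun z => by
    rw [← map_pow]
    exact hδab _ _ (by rw [hrab, SubmonoidClass.coe_pow, map_pow])
  obtain ⟨E', hE'⟩ : ∃ E' : ℕ, ∀ z : σ₂.ker, (z ^ E) ^ E' = z := by
    haveI : Finite A := (finite_of_hasSchurMultiplier hA).2
    have hc : Nat.Coprime E (Nat.card σ₂.ker) := by rwa [Nat.card_congr e₂.toEquiv]
    refine ⟨(Nat.gcdA E (Nat.card σ₂.ker) % (Nat.card σ₂.ker : ℤ)).toNat, fun z => ?_⟩
    have hN : (Nat.card σ₂.ker : ℤ) ≠ 0 := Int.natCast_ne_zero.mpr Nat.card_pos.ne'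
    rw [← zpow_natCast (z ^ E), ← zpow_natCast z E, ← zpow_mul,
      Int.toNat_of_nonneg (Int.emod_nonneg _ hN), Int.emod_def]
    have hb := Nat.gcd_eq_gcd_ab E (Nat.card σ₂.ker)
    rw [hc.gcd_eq_one, Nat.cast_one] at hb
    rw [show (E : ℤ) * (Nat.gcdA E (Nat.card σ₂.ker) - (Nat.card σ₂.ker : ℤ) *
        (Nat.gcdA E (Nat.card σ₂.ker) / (Nat.card σ₂.ker : ℤ))) = 1 + (Nat.card σ₂.ker : ℤ) *
          (-(Nat.gcdB E (Nat.card σ₂.ker)) - E * (Nat.gcdA E (Nat.card σ₂.ker) / (Nat.card σ₂.ker : ℤ)))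
      from by linarith, zpow_add, zpow_one, zpow_mul, zpow_natCast, pow_card_eq_one', one_zpow, mul_one]
  let f : cov π →* Γ₂ := MonoidHom.mk' (fun x => f₂ x * ((ω₀ x ^ E' : σ₂.ker) : Γ₂)) fun x y => by
    rw [map_mul, map_mul, mul_pow, Subgroup.coe_mul, mul_assoc, mul_assoc, ← mul_assoc (f₂ y),
      Subgroup.mem_center_iff.mp (h₂.2.1 (ω₀ x ^ E').2) (f₂ y), mul_assoc]
  have hf : σ₂.comp f = covProj π := MonoidHom.ext fun x => by
    show σ₂ (f₂ x * _) = _
    rw [map_mul, MonoidHom.mem_ker.mp (ω₀ x ^ E').2, mul_one, ← MonoidHom.comp_apply, hf₂]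
  have hker : f₁.ker ≤ f.ker := fun x hx => by
    have hxk : covProj π x = 1 := by
      rw [← hf₁, MonoidHom.comp_apply, MonoidHom.mem_ker.mp hx, map_one]
    have h1 : f₁' ⟨x, hxk⟩ = 1 := Subtype.ext hx
    have h2 : δ ⟨x, hxk⟩ = (f₂' ⟨x, hxk⟩)⁻¹ := by simp [δ, h1]
    rw [MonoidHom.mem_ker]
    show f₂ x * ((ω₀ x ^ E' : σ₂.ker) : Γ₂) = 1
    rw [show ω₀ x = δ ⟨x, hxk⟩ ^ E from hωr ⟨x, hxk⟩, hE', h2, Subgroup.coe_inv]
    exact mul_inv_cancel _
  have hs₁ := surjective_lift_of_stem hπ h₁ f₁ hf₁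
  have hs := surjective_lift_of_stem hπ h₂ f hf
  let φ : Γ₁ →* Γ₂ := f₁.liftOfSurjective hs₁ ⟨f, hker⟩
  have hφ : ∀ x, φ (f₁ x) = f x := fun x => MonoidHom.liftOfRightInverse_comp_apply _ _ _ _ x
  have hφs : Function.Surjective φ := fun y => by
    obtain ⟨x, rfl⟩ := hs y
    exact ⟨f₁ x, hφ x⟩
  have hcard : Nat.card Γ₁ ≤ Nat.card Γ₂ := by
    rw [Subgroup.card_eq_card_quotient_mul_card_subgroup σ₁.ker,
      Subgroup.card_eq_card_quotient_mul_card_subgroup σ₂.ker,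
      Nat.card_congr (QuotientGroup.quotientKerEquivOfSurjective σ₁ h₁.1).toEquiv,
      Nat.card_congr (QuotientGroup.quotientKerEquivOfSurjective σ₂ h₂.1).toEquiv,
      Nat.card_congr (e₁.trans e₂.symm).toEquiv]
  refine ⟨MulEquiv.ofBijective φ (hφs.bijective_of_nat_card_le hcard), MonoidHom.ext fun y => ?_⟩
  obtain ⟨x, rfl⟩ := hs₁ y
  show σ₂ (φ (f₁ x)) = σ₁ (f₁ x)
  rw [hφ, ← MonoidHom.comp_apply, hf, ← MonoidHom.comp_apply, hf₁]

/-- A common prime gives two covers that differ over `Q`. -/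
theorem exists_two_covers [Finite Q] {A : Type v} [CommGroup A] (hA : Cfsg.HasSchurMultiplier Q A)
    (hcop : ¬ Nat.Coprime (Nat.card (Abelianization Q)) (Nat.card A)) :
    ∃ (Γ₁ Γ₂ : Type u) (_ : Group Γ₁) (_ : Finite Γ₁) (_ : Group Γ₂) (_ : Finite Γ₂)
      (σ₁ : Γ₁ →* Q) (σ₂ : Γ₂ →* Q), Cfsg.IsStemExtension σ₁ ∧ Cfsg.IsStemExtension σ₂ ∧
      Nonempty (σ₁.ker ≃* A) ∧ Nonempty (σ₂.ker ≃* A) ∧
      ∀ e : Γ₁ ≃* Γ₂, σ₂.comp e.toMonoidHom ≠ σ₁ := by
  classical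
  obtain ⟨p, hp, hpQ, hpA⟩ := Nat.Prime.not_coprime_iff_dvd.mp hcop
  haveI := Fact.mk hp
  set π := canon Q
  have hπ := canon_surjective Q
  haveI := finite_mult π
  obtain ⟨eA⟩ := hasSchurMultiplier_canon_iff.mp hA
  have hcen := covProj_ker_le_center π
  obtain ⟨C, hC, hdisj, hsup⟩ := exists_complement π
  have hnormal : ∀ D : Subgroup (cov π), D ≤ (covProj π).ker → D.Normal := fun D hD =>
    ⟨fun c hc g => by rwa [Subgroup.mem_center_iff.mp (hcen (hD hc)) g, mul_inv_cancel_right]⟩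
  haveI := hnormal C hC
  -- an element of order `p` in the commutator quotient
  obtain ⟨q₀, hq₀⟩ := exists_prime_orderOf_dvd_card' (G := Abelianization Q) p hpQ
  obtain ⟨q, rfl⟩ := QuotientGroup.mk_surjective q₀
  obtain ⟨x₀, rfl⟩ := covProj_surjective hπ q
  have hp0 : covProj π x₀ ∉ _root_.commutator Q := fun h => by
    rw [← Abelianization.ker_of, MonoidHom.mem_ker] at h
    exact hp.one_lt.ne ((orderOf_eq_one_iff.mpr h).symm.trans hq₀)
  have hpp : (covProj π x₀) ^ p ∈ _root_.commutator Q := by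
    rw [← Abelianization.ker_of, MonoidHom.mem_ker, map_pow]
    exact orderOf_dvd_iff_pow_eq_one.mp (dvd_of_eq hq₀)
  -- lattice of the kernel
  letI : CommGroup C :=
    { (inferInstance : Group C) with
      mul_comm := fun a b => Subtype.ext (Subgroup.mem_center_iff.mp (hcen (hC b.2)) a) }
  let l : Additive C →ₗ[ℤ] (Q → ℤ) :=
    (MonoidHom.toAdditiveLeft ((covAb π).comp C.subtype)).toIntLinearMap
  let b := Module.Free.chooseBasis ℤ (LinearMap.range l)
  set v : Q → ℤ := Multiplicative.toAdd (covAb π x₀) with hv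
  have hmap := map_commutator_cov hπ (MonoidHom.id Q) (by simp) (covProj π) (MonoidHom.id_comp _)
  obtain ⟨d, hd, hdx⟩ := hmap.ge hpp
  have hrC : ∃ c : C, l (Additive.ofMul c) = (p : ℤ) • v ∧
      (c : cov π)⁻¹ * x₀ ^ p ∈ _root_.commutator (cov π) := by
    obtain ⟨c, hc, hm⟩ := hsup (x₀ ^ p * d⁻¹) (by
      rw [map_mul, map_inv, map_pow, hdx, mul_inv_cancel])
    have hmem : c⁻¹ * x₀ ^ p ∈ _root_.commutator (cov π) := by
      have := mul_mem hm.2 hd
      rwa [mul_assoc, inv_mul_cancel_right] at this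
    refine ⟨⟨c, hc⟩, ?_, hmem⟩
    rw [← ker_covAb, MonoidHom.mem_ker, map_mul, map_inv, inv_mul_eq_one, map_pow] at hmem
    show Multiplicative.toAdd (covAb π c) = _
    rw [hmem, toAdd_pow, natCast_zsmul]
  obtain ⟨c₀, hc₀, hc₀x⟩ := hrC
  have hvL : v ∉ LinearMap.range l := by
    rintro ⟨c, hc⟩
    apply hp0
    have h : ((Additive.toMul c : C) : cov π)⁻¹ * x₀ ∈ _root_.commutator (cov π) := by
      rw [← ker_covAb, MonoidHom.mem_ker, map_mul, map_inv, inv_mul_eq_one]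
      exact Multiplicative.toAdd.injective hc
    have h2 := commutator_image_le (covProj π) ⟨_, h, rfl⟩
    rwa [map_mul, map_inv, show covProj π (Additive.toMul c : C) = 1 from hC (Additive.toMul c).2,
      inv_one, one_mul] at h2
  set w : LinearMap.range l := ⟨(p : ℤ) • v, _, hc₀⟩ with hw
  obtain ⟨i, hi⟩ : ∃ i, ¬ (p : ℤ) ∣ b.repr w i := by
    by_contra hall
    push Not at hall
    choose k hk using hall
    refine hvL ?_
    have hww : w = (p : ℤ) • ∑ i, k i • b i := by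
      conv_lhs => rw [← b.sum_repr w]
      rw [Finset.smul_sum]
      exact Finset.sum_congr rfl fun i _ => by rw [hk i, mul_smul]
    have := congrArg Subtype.val hww
    rw [Submodule.coe_smul] at this
    rw [smul_right_injective _ (Int.natCast_ne_zero.mpr hp.ne_zero) this]
    exact Subtype.prop _
  -- a multiplier element which is not a `p`-th power
  letI : CommGroup (mult π) :=
    { (inferInstance : Group (mult π)) with mul_comm := mult_commute π }
  obtain ⟨a, ha⟩ : ∃ a : mult π, ∀ z : mult π, z ^ p ≠ a := by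
    by_contra hall
    push Not at hall
    have hinj := (Finite.injective_iff_surjective (f := fun z : mult π => z ^ p)).mpr hall
    obtain ⟨z, hz⟩ := exists_prime_orderOf_dvd_card' (G := mult π) p
      (Nat.card_congr eA.toEquiv ▸ hpA)
    have h1 : z = 1 := hinj (by
      show z ^ p = 1 ^ p
      rw [← hz, pow_orderOf_eq_one, one_pow])
    rw [h1, orderOf_one] at hz
    exact hp.one_lt.ne hz
  let δ : C →* mult π := MonoidHom.mk' (fun c => a ^ (b.repr (l.rangeRestrict (Additive.ofMul c)) i))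
    fun c c' => by rw [ofMul_mul, map_add, map_add, Finsupp.add_apply, zpow_add]
  -- the twisted complement
  let τ : C →* cov π := MonoidHom.mk' (fun c => (c : cov π) * ((δ c : mult π) : cov π)⁻¹) fun c c' => by
    have hz : ((δ c : mult π) : cov π)⁻¹ ∈ center (cov π) := inv_mem (hcen (δ c).2.1)
    rw [map_mul, Subgroup.coe_mul, Subgroup.coe_mul, mul_inv_rev, mul_assoc, mul_assoc,
      ← Subgroup.mem_center_iff.mp hz, ← mul_assoc (c' : cov π),
      Subgroup.mem_center_iff.mp hz ((c' : cov π) * _)]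
  set C' := τ.range with hC'
  have hC'k : C' ≤ (covProj π).ker := by
    rintro _ ⟨c, rfl⟩
    exact mul_mem (hC c.2) (inv_mem (δ c).2.1)
  haveI := hnormal C' hC'k
  have hdisj' : Disjoint C' (_root_.commutator (cov π)) := by
    rw [Subgroup.disjoint_def]
    rintro _ ⟨c, rfl⟩ hcc
    have h1 : (c : cov π) ∈ _root_.commutator (cov π) := by
      have := mul_mem hcc (δ c).2.2
      simpa [τ] using this
    have : c = 1 := Subtype.ext (Subgroup.disjoint_def.mp hdisj c.2 h1)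
    rw [this, map_one]
  have hsup' : ∀ r, covProj π r = 1 → ∃ c ∈ C', c⁻¹ * r ∈ mult π := by
    intro r hr
    obtain ⟨c, hc, hm⟩ := hsup r hr
    refine ⟨τ ⟨c, hc⟩, ⟨_, rfl⟩, ?_⟩
    show (c * ((δ ⟨c, hc⟩ : mult π) : cov π)⁻¹)⁻¹ * r ∈ _
    rw [mul_inv_rev, inv_inv, mul_assoc]
    exact mul_mem (δ ⟨c, hc⟩).2 hm
  obtain ⟨σ₁, hσ₁, hf₁, h₁, ⟨k₁⟩⟩ := cover_of_complement hπ C hC hdisj hsup
  obtain ⟨σ₂, hσ₂, hf₂, h₂, ⟨k₂⟩⟩ := cover_of_complement hπ C' hC'k hdisj' hsup'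
  refine ⟨_, _, inferInstance, hf₁, inferInstance, hf₂, σ₁, σ₂, h₁, h₂, ⟨k₁.trans eA.symm⟩,
    ⟨k₂.trans eA.symm⟩, fun e he => ?_⟩
  set F₁ : cov π →* cov π ⧸ C' := e.toMonoidHom.comp (QuotientGroup.mk' C) with hF₁
  set F₂ : cov π →* cov π ⧸ C' := QuotientGroup.mk' C' with hF₂
  have hcomp : σ₂.comp F₁ = σ₂.comp F₂ := by
    rw [hF₁, ← MonoidHom.comp_assoc, he, hσ₁, hF₂, hσ₂]
  have hω : ∀ x, (F₂ x)⁻¹ * F₁ x ∈ σ₂.ker := fun x => by
    rw [MonoidHom.mem_ker, map_mul, map_inv, inv_mul_eq_one]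
    exact (DFunLike.congr_fun hcomp x).symm
  let ω : cov π →* σ₂.ker := MonoidHom.mk' (fun x => ⟨(F₂ x)⁻¹ * F₁ x, hω x⟩) fun x y => Subtype.ext (by
    show (F₂ (x * y))⁻¹ * F₁ (x * y) = (F₂ x)⁻¹ * F₁ x * ((F₂ y)⁻¹ * F₁ y)
    rw [map_mul, map_mul, mul_inv_rev, ← mul_assoc ((F₂ x)⁻¹ * F₁ x),
      ← Subgroup.mem_center_iff.mp (h₂.2.1 (hω x)) (F₂ y)⁻¹]
    group)
  have hωd : ∀ x ∈ _root_.commutator (cov π), ω x = 1 := fun x hx => Subtype.ext (by
    show (F₂ x)⁻¹ * F₁ x = 1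
    rw [eq_on_commutator σ₂ h₂.2.1 F₁ F₂ hcomp x hx, inv_mul_cancel])
  have hωC : ((ω (c₀ : cov π) : σ₂.ker) : cov π ⧸ C')⁻¹ = F₂ (δ c₀ : mult π) := by
    show ((F₂ c₀)⁻¹ * F₁ c₀)⁻¹ = _
    have h1 : F₁ c₀ = 1 := by
      show e (QuotientGroup.mk' C c₀) = 1
      rw [(QuotientGroup.eq_one_iff _).mpr c₀.2 |> fun h => (h : QuotientGroup.mk' C (c₀ : cov π) = 1),
        map_one]
    have h2 : F₂ (τ c₀) = 1 := (QuotientGroup.eq_one_iff _).mpr ⟨c₀, rfl⟩
    have h3 : F₂ c₀ * (F₂ (δ c₀ : mult π))⁻¹ = 1 := by rw [← map_inv, ← map_mul]; exact h2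
    rw [h1, mul_one, inv_inv]
    exact mul_inv_eq_one.mp h3
  have hpow : ω x₀ ^ p = ω (c₀ : cov π) := by
    have := hωd _ hc₀x
    rwa [map_mul, map_inv, map_pow, inv_mul_eq_one, eq_comm] at this
  -- pull back to the multiplier
  obtain ⟨z, hz⟩ : ∃ z : mult π, F₂ (z : cov π) = ((ω x₀ : σ₂.ker) : cov π ⧸ C')⁻¹ := by
    obtain ⟨r, hr⟩ := QuotientGroup.mk'_surjective C' ((ω x₀ : σ₂.ker) : cov π ⧸ C')⁻¹
    have hr1 : covProj π r = 1 := by
      rw [← hσ₂, MonoidHom.comp_apply, hr]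
      exact MonoidHom.mem_ker.mp (inv_mem (ω x₀).2)
    obtain ⟨c, hc, hm⟩ := hsup' r hr1
    refine ⟨⟨_, hm⟩, ?_⟩
    rw [map_mul, map_inv, show F₂ c = 1 from (QuotientGroup.eq_one_iff _).mpr hc, inv_one, one_mul]
    exact hr
  have hzp : z ^ p = δ c₀ := by
    have h : F₂ ((z ^ p : mult π) : cov π) = F₂ ((δ c₀ : mult π) : cov π) := by
      rw [SubmonoidClass.coe_pow, map_pow, hz, ← hωC, inv_pow, ← hpow, SubmonoidClass.coe_pow]
    have h' : F₂ (((z ^ p)⁻¹ * δ c₀ : mult π) : cov π) = 1 := by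
      rw [Subgroup.coe_mul, Subgroup.coe_inv, map_mul, map_inv, h, inv_mul_cancel]
    exact inv_mul_eq_one.mp (Subtype.ext (Subgroup.disjoint_def.mp hdisj'
      ((QuotientGroup.eq_one_iff _).mp h') ((z ^ p)⁻¹ * δ c₀ : mult π).2.2))
  have hk : IsCoprime (b.repr w i) (p : ℤ) :=
    ((Nat.prime_iff_prime_int.mp hp).coprime_iff_not_dvd.mpr hi).symm
  obtain ⟨s, t, hst⟩ := hk
  have hwc : l.rangeRestrict (Additive.ofMul c₀) = w := Subtype.ext hc₀
  refine ha (z ^ s * a ^ t) ?_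
  have e1 : z ^ (p : ℤ) = a ^ (b.repr w i) := by
    rw [zpow_natCast, hzp, ← hwc]
    rfl
  rw [← zpow_natCast, mul_zpow, ← zpow_mul, mul_comm s (p : ℤ), zpow_mul, e1, ← zpow_mul, ← zpow_mul,
    ← zpow_add, mul_comm (b.repr w i) s, hst, zpow_one]

end Cfsg.Agent.Lib.Schur
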