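import Mathlib

/-!
Valuations of the order of the unitary groups: `N q i = |(-q)^i - 1|`, `V r q n` the `r`-valuation of their product.
-/

set_option autoImplicit false

namespace Cfsg.Agent.Lib.Schur.UnitMult.Arith

/-- `q^i - (-1)^i`. -/
def N (q i : ℕ) : ℕ := ((-(q : ℤ)) ^ i - 1).natAbs

theorem N_eq {q i : ℕ} (hq : 1 ≤ q) : N q i = if Even i then q ^ i - 1 else q ^ i + 1 := by
  have h1 : 1 ≤ q ^ i := Nat.one_le_pow _ _ hq
  split_ifs with h
  · rw [N, h.neg_pow, show ((q : ℤ) ^ i - 1) = ((q ^ i - 1 : ℕ) : ℤ) by push_cast [h1]; ring,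
      Int.natAbs_natCast]
  · rw [N, (Nat.not_even_iff_odd.mp h).neg_pow,
      show (-(q : ℤ) ^ i - 1) = -((q ^ i + 1 : ℕ) : ℤ) by push_cast; ring, Int.natAbs_neg, Int.natAbs_natCast]

theorem N_one {q : ℕ} (hq : 1 ≤ q) : N q 1 = q + 1 := by
  rw [N_eq hq, if_neg (by simp), pow_one]

/-- The valuation of the product of the first `n`. -/
def V (r q n : ℕ) : ℕ := ∑ i ∈ Finset.range n, padicValNat r (N q (i + 1))

/-- The order of `-q` modulo `r`. -/
noncomputable def dd (r q : ℕ) : ℕ := orderOf (-(q : ZMod r))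

variable {r q : ℕ} [hr : Fact r.Prime] (hrq : ¬ r ∣ q) (hq : 2 ≤ q)

include hrq in
theorem cast_ne_zero : (-(q : ZMod r)) ≠ 0 :=
  neg_ne_zero.mpr fun h => hrq ((ZMod.natCast_eq_zero_iff q r).mp h)

include hrq in
theorem dd_dvd : dd r q ∣ r - 1 := ZMod.orderOf_dvd_card_sub_one (cast_ne_zero hrq)

include hrq in
theorem dd_pos : 0 < dd r q :=
  Nat.pos_of_dvd_of_pos (dd_dvd hrq) (Nat.sub_pos_of_lt hr.out.one_lt)

include hrq in
theorem dd_lt : dd r q < r :=
  lt_of_le_of_lt (Nat.le_of_dvd (Nat.sub_pos_of_lt hr.out.one_lt) (dd_dvd hrq)) (Nat.sub_lt hr.out.pos one_pos)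

theorem dvd_N_iff (i : ℕ) : r ∣ N q i ↔ dd r q ∣ i := by
  rw [N, ← Int.natCast_dvd, ← ZMod.intCast_zmod_eq_zero_iff_dvd, dd, orderOf_dvd_iff_pow_eq_one]
  push_cast
  exact sub_eq_zero

theorem vN_eq_zero {i : ℕ} (h : ¬ dd r q ∣ i) : padicValNat r (N q i) = 0 :=
  padicValNat.eq_zero_of_not_dvd fun h' => h ((dvd_N_iff i).mp h')

include hq in
theorem N_ne_zero {i : ℕ} (hi : 0 < i) : N q i ≠ 0 := by
  have : 2 ≤ q ^ i := le_trans hq (Nat.le_self_pow hi.ne' q)
  rw [N_eq (by omega)]
  split_ifs <;> omega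

include hq in
theorem emult_eq {i : ℕ} (hi : 0 < i) :
    emultiplicity (r : ℤ) ((-(q : ℤ)) ^ i - 1) = (padicValNat r (N q i) : ℕ∞) := by
  rw [padicValNat_eq_emultiplicity (N_ne_zero hq hi), N, Int.emultiplicity_natAbs]

include hrq in
theorem not_dvd_pow (d : ℕ) : ¬ (r : ℤ) ∣ (-(q : ℤ)) ^ d := fun h =>
  hrq (Int.natCast_dvd_natCast.mp ((dvd_neg).mp ((Nat.prime_iff_prime_int.mp hr.out).dvd_of_dvd_pow h)))

include hrq hq in
/-- Lifting the exponent, odd prime. -/
theorem vN_mul (hr2 : r ≠ 2) {k : ℕ} (hk : 0 < k) :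
    padicValNat r (N q (dd r q * k)) = padicValNat r (N q (dd r q)) + padicValNat r k := by
  have hd := dd_pos hrq
  have hdiv : (r : ℤ) ∣ (-(q : ℤ)) ^ dd r q - 1 := by
    rw [Int.natCast_dvd]; exact (dvd_N_iff _).mpr dvd_rfl
  have h := Int.emultiplicity_pow_sub_pow hr.out (hr.out.odd_of_ne_two hr2) hdiv (not_dvd_pow hrq _) k
  rw [one_pow, ← pow_mul, emult_eq hq (Nat.mul_pos hd hk), emult_eq hq hd,
    ← padicValNat_eq_emultiplicity hk.ne'] at h
  exact_mod_cast h

include hrq hq in
theorem vN_odd {i : ℕ} (hr2 : r = 2) (hi : Odd i) : padicValNat r (N q i) = padicValNat r (N q 1) := by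
  subst hr2
  have hdiv : ((2 : ℕ) : ℤ) ∣ (-(q : ℤ)) ^ 1 - 1 := by
    rw [Int.natCast_dvd]
    refine (dvd_N_iff (r := 2) 1).mpr ?_
    have := dd_lt hrq; have := dd_pos hrq
    rw [show dd 2 q = 1 by omega]
  rw [pow_one] at hdiv
  have h := emultiplicity_pow_sub_pow_of_prime (Nat.prime_iff_prime_int.mp hr.out) hdiv
    (by simpa using not_dvd_pow hrq 1) (n := i)
    (by rw [Int.natCast_dvd_natCast]; exact Nat.two_dvd_ne_zero.mpr (Nat.odd_iff.mp hi))
  rw [one_pow, emult_eq hq hi.pos] at h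
  have h1 := emult_eq (r := 2) hq (i := 1) one_pos
  rw [pow_one, ← h] at h1
  exact_mod_cast h1

include hrq hq in
theorem vN_even {i : ℕ} (hr2 : r = 2) (hi : Even i) (hi0 : 0 < i) :
    padicValNat r (N q i) + 1 =
      padicValNat r (q - 1) + padicValNat r (N q 1) + padicValNat r i := by
  subst hr2
  have hqo : ¬ (2 : ℤ) ∣ -(q : ℤ) := fun h => hrq (by exact_mod_cast dvd_neg.mp h)
  have hdiv : (2 : ℤ) ∣ -(q : ℤ) - 1 := by omega
  have h := Int.two_pow_sub_pow hdiv hqo hi (y := 1)
  rw [one_pow] at h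
  have e0 := emult_eq (r := 2) hq hi0
  have e1 := emult_eq (r := 2) hq (i := 1) one_pos
  rw [pow_one] at e1
  have e2 : emultiplicity (2 : ℤ) (-(q : ℤ) + 1) = (padicValNat 2 (q - 1) : ℕ∞) := by
    rw [padicValNat_eq_emultiplicity (by omega : q - 1 ≠ 0), show -(q : ℤ) + 1 = -((q - 1 : ℕ) : ℤ) by omega,
      emultiplicity_neg]
    exact Int.natCast_emultiplicity 2 (q - 1)
  have e3 : emultiplicity (2 : ℤ) (i : ℤ) = (padicValNat 2 i : ℕ∞) := by
    rw [padicValNat_eq_emultiplicity hi0.ne']; exact Int.natCast_emultiplicity 2 i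
  simp only [Nat.cast_ofNat] at e0 e1
  rw [e0, e1, e2, e3] at h
  exact_mod_cast h

include hrq hq in
/-- The valuation of `N q i` only depends on `dd ∣ i` and the valuation of `i`. -/
theorem vN_congr {i j : ℕ} (hi : 0 < i) (hj : 0 < j) (hd : dd r q ∣ i ↔ dd r q ∣ j)
    (hv : padicValNat r i = padicValNat r j) : padicValNat r (N q i) = padicValNat r (N q j) := by
  by_cases h : dd r q ∣ i
  · rcases eq_or_ne r 2 with hr2 | hr2
    · subst hr2
      have key : ∀ k : ℕ, 0 < k → (Odd k ↔ padicValNat 2 k = 0) := fun k hk =>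
        ⟨fun ho => padicValNat.eq_zero_of_not_dvd (Nat.two_dvd_ne_zero.mpr (Nat.odd_iff.mp ho)),
         fun h0 => by
          by_contra hne
          exact (dvd_iff_padicValNat_ne_zero hk.ne').mp (Nat.not_odd_iff_even.mp hne).two_dvd h0⟩
      rcases Nat.even_or_odd i with he | ho
      · have he' : Even j := Nat.not_odd_iff_even.mp fun ho =>
          (Nat.not_odd_iff_even.mpr he) ((key i hi).mpr (hv.trans ((key j hj).mp ho)))
        have h1 := vN_even hrq hq rfl he hi
        have h2 := vN_even hrq hq rfl he' hj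
        omega
      · rw [vN_odd hrq hq rfl ho, vN_odd hrq hq rfl ((key j hj).mpr (hv ▸ (key i hi).mp ho))]
    · obtain ⟨k, rfl⟩ := h
      obtain ⟨l, rfl⟩ := hd.mp (dvd_mul_right _ _)
      have hd0 := (dd_pos hrq).ne'
      have hk : 0 < k := Nat.pos_of_ne_zero fun e => by simp [e] at hi
      have hl : 0 < l := Nat.pos_of_ne_zero fun e => by simp [e] at hj
      rw [vN_mul hrq hq hr2 hk, vN_mul hrq hq hr2 hl]
      rw [padicValNat.mul hd0 hk.ne', padicValNat.mul hd0 hl.ne'] at hv
      omega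
  · rw [vN_eq_zero h, vN_eq_zero fun h' => h (hd.mpr h')]

include hrq hq in
theorem vN_mul_prime {i : ℕ} (hi : 0 < i) (hd : dd r q ∣ i) (h2 : r = 2 → Even i) :
    padicValNat r (N q (r * i)) = padicValNat r (N q i) + 1 := by
  have hrv : padicValNat r (r * i) = 1 + padicValNat r i := by
    rw [padicValNat.mul hr.out.ne_zero hi.ne', padicValNat_self]
  rcases eq_or_ne r 2 with hr2 | hr2
  · have h1 := vN_even hrq hq hr2 (h2 hr2) hi
    have h3 := vN_even hrq hq hr2 ((h2 hr2).mul_left r) (Nat.mul_pos hr.out.pos hi)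
    omega
  · obtain ⟨k, rfl⟩ := hd
    have hk : 0 < k := Nat.pos_of_ne_zero fun e => by simp [e] at hi
    rw [show r * (dd r q * k) = dd r q * (r * k) by ring, vN_mul hrq hq hr2 hk,
      vN_mul hrq hq hr2 (Nat.mul_pos hr.out.pos hk), padicValNat.mul hr.out.ne_zero hk.ne', padicValNat_self]
    omega

theorem V_succ (r q n : ℕ) : V r q (n + 1) = V r q n + padicValNat r (N q (n + 1)) :=
  Finset.sum_range_succ _ _

theorem V_eq_zero {n : ℕ} (h : n < dd r q) : V r q n = 0 :=
  Finset.sum_eq_zero fun i hi => vN_eq_zero fun hd => by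
    have := Nat.le_of_dvd (Nat.succ_pos _) hd
    have := Finset.mem_range.mp hi
    omega

/-- If `dd = n` only the last factor counts. -/
theorem V_eq_last {n : ℕ} (h : dd r q = n) (hn : 0 < n) : V r q n = padicValNat r (N q n) := by
  obtain ⟨m, rfl⟩ : ∃ m, n = m + 1 := ⟨n - 1, by omega⟩
  rw [V_succ, V_eq_zero (by omega), zero_add]

theorem val_add {a i : ℕ} (hi : 0 < i) (h : r ^ (padicValNat r i + 1) ∣ a) :
    padicValNat r (a + i) = padicValNat r i := by
  have h1 : r ^ padicValNat r i ∣ a + i := dvd_add ((pow_dvd_pow r (Nat.le_succ _)).trans h) pow_padicValNat_dvd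
  have h2 : ¬ r ^ (padicValNat r i + 1) ∣ a + i := fun h' =>
    pow_succ_padicValNat_not_dvd hi.ne' ((Nat.dvd_add_right h).mp h')
  rw [padicValNat_dvd_iff_le (by omega)] at h1 h2
  omega

include hrq hq in
/-- A direct sum decomposition containing a Sylow subgroup. -/
theorem exists_split {n : ℕ} (hdn : dd r q ≤ n) (hne : ∀ v, n ≠ dd r q * r ^ v) :
    ∃ a b, 0 < a ∧ 0 < b ∧ a + b = n ∧ V r q n = V r q a + V r q b := by
  have hd := dd_pos hrq
  obtain ⟨a, b, ha, hb, hab, hf⟩ : ∃ a b, 0 < a ∧ 0 < b ∧ a + b = n ∧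
      ∀ i, 0 < i → i ≤ b → padicValNat r (N q (a + i)) = padicValNat r (N q i) := by
    by_cases h : dd r q ∣ n
    · obtain ⟨k, rfl⟩ := h
      have hk : k ≠ 0 := fun e => by subst e; simp at hdn; omega
      set v := padicValNat r k with hv
      have hvk : r ^ v ∣ k := pow_padicValNat_dvd
      obtain ⟨c, hc⟩ := hvk
      have hc1 : 2 ≤ c := by
        rcases c with _ | _ | c
        · simp at hc; exact absurd hc hk
        · exact absurd (by rw [hc]; ring) (hne v)
        · omega
      have hpos : 0 < r ^ v := pow_pos hr.out.pos v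
      refine ⟨dd r q * r ^ v * (c - 1), dd r q * r ^ v, Nat.mul_pos (Nat.mul_pos hd hpos) (by omega),
        Nat.mul_pos hd hpos, ?_, fun i hi hib => ?_⟩
      · rw [hc, ← Nat.mul_succ, show (c - 1).succ = c by omega, mul_assoc]
      by_cases hdi : dd r q ∣ i
      · refine vN_congr hrq hq (by omega) hi ⟨fun _ => hdi, fun _ =>
          dvd_add (Dvd.dvd.mul_right (dvd_mul_right _ _) _) hdi⟩ ?_
        obtain ⟨t, rfl⟩ := hdi
        have ht : 0 < t := Nat.pos_of_ne_zero fun e => by simp [e] at hi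
        have htv : t ≤ r ^ v := Nat.le_of_mul_le_mul_left hib hd
        rcases htv.eq_or_lt with he | hlt
        · rw [he, show dd r q * r ^ v * (c - 1) + dd r q * r ^ v = dd r q * k by
            rw [hc, ← Nat.mul_succ, show (c - 1).succ = c by omega, mul_assoc],
            padicValNat.mul hd.ne' hk, padicValNat.mul hd.ne' hpos.ne', padicValNat.prime_pow]
        · have hvt : padicValNat r t < v := by
            by_contra hle
            exact absurd (Nat.le_of_dvd ht ((padicValNat_dvd_iff_le ht.ne').mpr (not_lt.mp hle))) (not_le.mpr hlt)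
          rw [mul_assoc, ← mul_add, padicValNat.mul hd.ne' (by omega), padicValNat.mul hd.ne' ht.ne',
            val_add ht ((pow_dvd_pow r hvt).trans (dvd_mul_right _ _))]
      · rw [vN_eq_zero hdi, vN_eq_zero fun h' => hdi ((Nat.dvd_add_right
          (Dvd.dvd.mul_right (dvd_mul_right _ _) _)).mp h')]
    · have hmod : n % dd r q ≠ 0 := fun e => h (Nat.dvd_of_mod_eq_zero e)
      have hlt := Nat.mod_lt n hd
      refine ⟨n - n % dd r q, n % dd r q, ?_, Nat.pos_of_ne_zero hmod, by omega, fun i hi hib => ?_⟩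
      · omega
      rw [vN_eq_zero, vN_eq_zero]
      · exact fun h' => by have := Nat.le_of_dvd hi h'; omega
      · intro h'
        have := Nat.le_of_dvd hi ((Nat.dvd_add_right (Nat.dvd_sub_mod n)).mp h')
        omega
  refine ⟨a, b, ha, hb, hab, ?_⟩
  subst hab
  rw [V, V, V, Finset.sum_range_add]
  congr 1
  exact Finset.sum_congr rfl fun i hi => by
    rw [add_assoc]; exact hf _ (Nat.succ_pos _) (Finset.mem_range.mp hi)

include hrq hq in
/-- The wreathed decomposition. -/
theorem V_wreath {j : ℕ} (h2 : r = 2 → 1 ≤ j) :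
    V r q (r * (dd r q * r ^ j)) = r * V r q (dd r q * r ^ j) + 1 := by
  have hd := dd_pos hrq
  set m := dd r q * r ^ j with hm
  have hm0 : 0 < m := Nat.mul_pos hd (pow_pos hr.out.pos j)
  have hvm : padicValNat r m = j := by
    rw [hm, padicValNat.mul hd.ne' (pow_pos hr.out.pos j).ne', padicValNat.prime_pow,
      padicValNat.eq_zero_of_not_dvd fun h => absurd (Nat.le_of_dvd hd h) (not_le.mpr (dd_lt hrq)), zero_add]
  -- the segment `(s m, (s+1) m]`
  have seg : ∀ s, s < r → ∑ t ∈ Finset.range m, padicValNat r (N q (s * m + t + 1)) =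
      V r q m + (if s + 1 = r then 1 else 0) := by
    intro s hs
    obtain ⟨m', hm'⟩ : ∃ m', m = m' + 1 := ⟨m - 1, by omega⟩
    have hlow : ∀ t ∈ Finset.range m', padicValNat r (N q (s * m + t + 1)) = padicValNat r (N q (t + 1)) := by
      intro t ht
      rw [Finset.mem_range] at ht
      by_cases hdi : dd r q ∣ t + 1
      · refine vN_congr hrq hq (by omega) (by omega) ⟨fun _ => hdi, fun _ => by
          rw [add_assoc]; exact dvd_add (Dvd.dvd.mul_left (dvd_mul_right _ _) _) hdi⟩ ?_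
        rw [add_assoc]
        refine val_add (by omega) ?_
        obtain ⟨u, hu⟩ := hdi
        have hu0 : 0 < u := Nat.pos_of_ne_zero fun e => by simp [e] at hu
        have hlt : u < r ^ j := Nat.lt_of_mul_lt_mul_left (a := dd r q) (by omega)
        have : padicValNat r u < j := by
          by_contra hle
          exact absurd (Nat.le_of_dvd hu0 ((padicValNat_dvd_iff_le hu0.ne').mpr (not_lt.mp hle))) (not_le.mpr hlt)
        rw [hu, padicValNat.mul hd.ne' hu0.ne',
          padicValNat.eq_zero_of_not_dvd fun h => absurd (Nat.le_of_dvd hd h) (not_le.mpr (dd_lt hrq)), zero_add]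
        exact ((pow_dvd_pow r this).trans (dvd_mul_left _ _)).mul_left s
      · rw [vN_eq_zero hdi, vN_eq_zero]
        rw [add_assoc]
        exact fun h' => hdi ((Nat.dvd_add_right (Dvd.dvd.mul_left (dvd_mul_right _ _) _)).mp h')
    have htop : padicValNat r (N q ((s + 1) * m)) = padicValNat r (N q m) + if s + 1 = r then 1 else 0 := by
      split_ifs with he
      · rw [he]
        exact vN_mul_prime hrq hq hm0 (dvd_mul_right _ _) fun h => by
          rw [hm, h, Nat.even_mul]; exact Or.inr ((Nat.even_pow).mpr ⟨even_two, by have := h2 h; omega⟩)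
      · rw [add_zero]
        refine vN_congr hrq hq (Nat.mul_pos (Nat.succ_pos _) hm0) hm0
          ⟨fun _ => dvd_mul_right _ _, fun _ => Dvd.dvd.mul_left (dvd_mul_right _ _) _⟩ ?_
        rw [padicValNat.mul (Nat.succ_ne_zero _) hm0.ne', padicValNat.eq_zero_of_not_dvd fun h =>
          absurd (Nat.le_of_dvd (Nat.succ_pos _) h) (by omega), zero_add]
    rw [hm', Finset.sum_range_succ, V_succ, V, ← hm', Finset.sum_congr rfl hlow,
      show s * m + m' + 1 = (s + 1) * m by rw [add_mul, one_mul]; omega, htop, add_assoc]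
  have main : ∀ s, s ≤ r → V r q (s * m) = s * V r q m + if s = r then 1 else 0 := by
    intro s
    induction s with
    | zero => intro _; simp [V, Ne.symm hr.out.ne_zero]
    | succ s ih =>
      intro hs
      have h0 := ih (by omega)
      rw [if_neg (by omega), add_zero] at h0
      have h := seg s (by omega)
      rw [V, add_mul, one_mul, Finset.sum_range_add, ← V, h0]
      rw [h]; ring
  simpa using main r le_rfl

end Cfsg.Agent.Lib.Schur.UnitMult.Arith
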