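import Mathlib

/-!
A biadditive pairing of a finite field with itself, invariant under `(x, y) ↦ (ν x, ν y)`, vanishes when `ν⁻¹` is
not a Galois conjugate of `ν`.
-/

set_option autoImplicit false

namespace Cfsg.Agent.Lib.Schur.UnitMult

open Polynomial

theorem biadd_eq_one {F : Type*} [Field F] [Fintype F] (p : ℕ) [Fact p.Prime] [CharP F p] {A : Type*} [CommGroup A]
    (b : F → F → A) (hl : ∀ x y z, b (x + y) z = b x z * b y z) (hr : ∀ x y z, b x (y + z) = b x y * b x z)
    {ν : F} (hν : ν ≠ 0) (hinv : ∀ x y, b (ν * x) (ν * y) = b x y)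
    (hnot : ∀ d : ℕ, d ∣ Fintype.card F → d < Fintype.card F → ν ^ (d + 1) ≠ 1) : ∀ x y, b x y = 1 := by
  letI : Algebra (ZMod p) F := ZMod.algebra F p
  set P := minpoly (ZMod p) ν with hP
  have hint : IsIntegral (ZMod p) ν := IsIntegral.of_finite (ZMod p) ν
  have hl0 : ∀ y, b 0 y = 1 := fun y => by
    have := hl 0 0 y
    rwa [add_zero, left_eq_mul] at this
  have hr0 : ∀ x, b x 0 = 1 := fun x => by
    have := hr x 0 0
    rwa [add_zero, left_eq_mul] at this
  have hnl : ∀ (k : ℕ) x y, b ((k : F) * x) y = b x y ^ k := by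
    intro k x y
    induction k with
    | zero => rw [Nat.cast_zero, zero_mul, hl0, pow_zero]
    | succ k ih => rw [Nat.cast_succ, add_mul, one_mul, hl, ih, pow_succ]
  have hnr : ∀ (k : ℕ) x y, b x ((k : F) * y) = b x y ^ k := by
    intro k x y
    induction k with
    | zero => rw [Nat.cast_zero, zero_mul, hr0, pow_zero]
    | succ k ih => rw [Nat.cast_succ, add_mul, one_mul, hr, ih, pow_succ]
  have hpow : ∀ (k : ℕ) x y, b (ν ^ k * x) y = b x (ν⁻¹ ^ k * y) := by
    intro k
    induction k with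
    | zero => intro x y; simp
    | succ k ih =>
      intro x y
      rw [pow_succ', mul_assoc]
      calc b (ν * (ν ^ k * x)) y = b (ν * (ν ^ k * x)) (ν * (ν⁻¹ * y)) := by
            rw [← mul_assoc ν ν⁻¹, mul_inv_cancel₀ hν, one_mul]
        _ = b x (ν⁻¹ ^ k * (ν⁻¹ * y)) := by rw [hinv, ih]
        _ = _ := by rw [← mul_assoc, ← pow_succ]
  have haev : ∀ (Q : (ZMod p)[X]) x y, b (aeval ν Q * x) y = b x (aeval ν⁻¹ Q * y) := by
    intro Q
    induction Q using Polynomial.induction_on' with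
    | add Q R hQ hR => intro x y; rw [map_add, map_add, add_mul, add_mul, hl, hr, hQ, hR]
    | monomial k a =>
      intro x y
      obtain ⟨a, rfl⟩ := ZMod.natCast_zmod_surjective (n := p) a
      rw [aeval_monomial, aeval_monomial, map_natCast, mul_assoc, mul_assoc, hnl, hpow, hnr]
  have hne : aeval ν⁻¹ P ≠ 0 := by
    intro h0
    have hconj : IsConjRoot (ZMod p) ν ν⁻¹ := by
      rw [isConjRoot_def]
      exact minpoly.eq_of_irreducible_of_monic (minpoly.irreducible hint) h0 (minpoly.monic hint)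
    obtain ⟨s, hs⟩ := isConjRoot_iff_exists_algEquiv.mp hconj.symm
    obtain ⟨⟨k, hk⟩, rfl⟩ := (FiniteField.bijective_frobeniusAlgEquivOfAlgebraic_pow (ZMod p) F).2 s
    rw [AlgEquiv.coe_pow, FiniteField.coe_frobeniusAlgEquivOfAlgebraic_iterate] at hs
    simp only [ZMod.card] at hs
    have hcard : Fintype.card F = p ^ Module.finrank (ZMod p) F := by
      rw [Module.card_eq_pow_finrank (K := ZMod p), ZMod.card]
    refine hnot (p ^ k) (hcard ▸ pow_dvd_pow p hk.le) (hcard ▸ Nat.pow_lt_pow_right (Fact.out : p.Prime).one_lt hk) ?_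
    rw [pow_succ, hs, inv_mul_cancel₀ hν]
  intro x y
  have h1 := haev P x ((aeval ν⁻¹ P)⁻¹ * y)
  rw [hP, minpoly.aeval, zero_mul, hl0, ← hP, ← mul_assoc, mul_inv_cancel₀ hne, one_mul] at h1
  exact h1.symm

end Cfsg.Agent.Lib.Schur.UnitMult
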