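import Cfsg.Agent.Lib.Schur.UnitCoord
import Cfsg.Agent.Lib.Schur.PLift
import Cfsg.Agent.Lib.Classical.UnitaryTwo
import Cfsg.Agent.Lib.LinGroup.Generation

/-!
The coordinate subgroups of `SU_n(q)` are generated by elements of `p`-power order.
-/

set_option autoImplicit false
set_option linter.unusedSectionVars false

namespace Cfsg.Agent.Lib.Schur.UnitMult

open Matrix Cfsg.Agent.Lib.Forms Cfsg.Agent.Lib.FormMax Cfsg.Agent.Lib.UnitaryMax Cfsg.Agent.Lib.Schur

/-- A product of a subgroup with a complementing subgroup normalising it. -/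
theorem natCard_sup {G : Type*} [Group G] {M L : Subgroup G} (hn : L ≤ Subgroup.normalizer (M : Set G))
    (hd : M ⊓ L = ⊥) : Nat.card (M ⊔ L : Subgroup G) = Nat.card M * Nat.card L := by
  rw [← Nat.card_prod]
  refine (Nat.card_eq_of_bijective
    (fun x : M × L => (⟨x.1.1 * x.2.1, Subgroup.mul_mem_sup x.1.2 x.2.2⟩ : (M ⊔ L : Subgroup G))) ⟨?_, ?_⟩).symm
  · rintro ⟨a, b⟩ ⟨a', b'⟩ e
    have e' : (a : G) * b = a' * b' := congrArg Subtype.val e
    have h : (a' : G)⁻¹ * a ∈ M ⊓ L := by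
      refine ⟨Subgroup.mul_mem _ (Subgroup.inv_mem _ a'.2) a.2, ?_⟩
      rw [show (a' : G)⁻¹ * a = b' * (b : G)⁻¹ by
        rw [eq_mul_inv_iff_mul_eq, mul_assoc, e', inv_mul_cancel_left]]
      exact Subgroup.mul_mem _ b'.2 (Subgroup.inv_mem _ b.2)
    rw [hd, Subgroup.mem_bot, inv_mul_eq_one] at h
    obtain rfl : a' = a := Subtype.ext h
    rw [Prod.mk.injEq]
    exact ⟨rfl, Subtype.ext (mul_left_cancel e')⟩
  · rintro ⟨x, hx⟩
    have hx' : x ∈ ((M ⊔ L : Subgroup G) : Set G) := hx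
    rw [Subgroup.coe_mul_of_right_le_normalizer_left M L hn] at hx'
    obtain ⟨a, ha, b, hb, rfl⟩ := hx'
    exact ⟨⟨⟨a, ha⟩, ⟨b, hb⟩⟩, rfl⟩

/-- Being generated by `p`-elements is transported by isomorphisms. -/
theorem closure_pElt_congr {G H : Type*} [Group G] [Group H] (e : G ≃* H) {p : ℕ}
    (hG : Subgroup.closure {x : G | IsPElt p x} = ⊤) : Subgroup.closure {x : H | IsPElt p x} = ⊤ := by
  refine top_le_iff.mp ?_
  rw [← Subgroup.map_top_of_surjective e.toMonoidHom e.surjective, ← hG, MonoidHom.map_closure]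
  refine Subgroup.closure_mono ?_
  rintro _ ⟨x, ⟨k, hk⟩, rfl⟩
  exact ⟨k, by rw [← map_pow, hk, map_one]⟩

variable {F : Type*} [Field F] [Fintype F] {n q : ℕ} (p : ℕ) [Fact p.Prime] [CharP F p]

local notation "Vs" => (Fin n → F)
local notation "h" => Cfsg.hermForm n F q

theorem exists_q_eq (hF : Fintype.card F = q ^ 2) : ∃ f, 0 < f ∧ q = p ^ f := by
  obtain ⟨N, hp, hN⟩ := FiniteField.card F p
  obtain ⟨f, -, hf⟩ := (Nat.dvd_prime_pow hp).mp (show q ∣ p ^ (N : ℕ) by
    rw [← hN, hF]; exact dvd_pow_self q two_ne_zero)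
  refine ⟨f, Nat.pos_of_ne_zero ?_, hf⟩
  rintro rfl
  have := Forms.two_le_of_card_sq hF
  rw [hf, pow_zero] at this
  omega

theorem T_pow (hF : Fintype.card F = q ^ 2) (v : Vs) (c : F) (hv : h v v = 0) (k : ℕ) :
    T v c hv ^ k = T v ((k : F) * c) hv := by
  induction k with
  | zero =>
    rw [pow_zero]
    exact gl_ext fun x => by rw [T_mulVec, Nat.cast_zero, zero_mul, zero_mul, zero_smul, add_zero, Units.val_one, one_mulVec]
  | succ k ih =>
    refine gl_ext fun x => ?_
    rw [pow_succ, ih, Units.val_mul, ← mulVec_mulVec, T_mulVec, T_mulVec, T_mulVec, Nat.cast_succ,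
      herm_add_left hF, herm_smul_left hF, hv, mul_zero, add_zero, add_mul, one_mul, add_mul, add_smul]
    abel

theorem isPElt_T (hF : Fintype.card F = q ^ 2) (v : Vs) (c : F) (hv : h v v = 0) : IsPElt p (T v c hv) := by
  refine ⟨1, ?_⟩
  rw [pow_one, T_pow hF, CharP.cast_eq_zero, zero_mul]
  exact gl_ext fun x => by rw [T_mulVec, zero_mul, zero_smul, add_zero, Units.val_one, one_mulVec]

theorem closure_pElt_SU_two (hF : Fintype.card F = q ^ 2) :
    Subgroup.closure {x : suGL 2 F q | IsPElt p x} = ⊤ := by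
  obtain ⟨f, hf, hq⟩ := exists_q_eq (F := F) p hF
  letI : Fintype (GaloisField p f) := Fintype.ofFinite _
  obtain ⟨e⟩ := Classical.nonempty_SU_two_mulEquiv hF (K := GaloisField p f)
    (by rw [← Nat.card_eq_fintype_card, GaloisField.card p f hf.ne', hq])
  refine closure_pElt_congr (e.symm.trans (suEquiv 2 F q)) (LinGroup.eq_top_of_transvection_mem _ ?_)
  intro i j hij c
  refine Subgroup.subset_closure ⟨1, Subtype.ext ?_⟩
  rw [pow_one, Matrix.SpecialLinearGroup.coe_pow]
  show Matrix.transvection i j c ^ p = 1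
  have hpow : ∀ k : ℕ, Matrix.transvection i j c ^ k = Matrix.transvection i j ((k : GaloisField p f) * c) := by
    intro k
    induction k with
    | zero => simp
    | succ k ih => rw [pow_succ, ih, Matrix.transvection_mul_transvection_same _ _ hij, Nat.cast_succ, add_mul, one_mul]
  rw [hpow, CharP.cast_eq_zero, zero_mul, Matrix.transvection_zero]

theorem natCard_suGL (hF : Fintype.card F = q ^ 2) (hn : 1 ≤ n) :
    (q + 1) * Nat.card (suGL n F q) = Nat.card (Cfsg.GU n F q) := by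
  rw [← Nat.card_congr (suEquiv n F q).toEquiv, Classical.succ_mul_natCard_SU hF n hn]

/-- The coordinate subgroup on two coordinates is inside anything containing the `p`-elements. -/
theorem SUS_pair_le (hF : Fintype.card F = q ^ 2) {i j : Fin n} (hij : i ≠ j) {N : Subgroup (GL (Fin n) F)}
    (hN : ∀ x ∈ suGL n F q, IsPElt p x → x ∈ N) : SUS F q ({i, j} : Finset (Fin n)) ≤ N := by
  have hc : ({i, j} : Finset (Fin n)).card = 2 := Finset.card_pair hij
  set f := (({i, j} : Finset (Fin n)).orderEmbOfFin hc).toEmbedding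
  rw [← Finset.map_orderEmbOfFin_univ _ hc]
  have := closure_pElt_congr (susEquiv hF f) (closure_pElt_SU_two p hF)
  intro x hx
  have hle : Subgroup.closure {y : SUS F q (Finset.univ.map f) | IsPElt p y} ≤
      N.comap (SUS F q (Finset.univ.map f)).subtype := by
    rw [Subgroup.closure_le]
    rintro y ⟨k, hk⟩
    exact hN _ y.2.1 ⟨k, congrArg Subtype.val hk⟩
  rw [this] at hle
  exact hle (Subgroup.mem_top (⟨x, hx⟩ : SUS F q (Finset.univ.map f)))

/-- `SU_3(2)` is generated by its elements of 2-power order. -/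
theorem closure_pElt_SU_three (hF : Fintype.card F = q ^ 2) (hq : q = 2) :
    Subgroup.closure {x : suGL 3 F q | IsPElt p x} = ⊤ := by
  classical
  subst hq
  haveI hp2 : Fact (Nat.Prime 2) := ⟨Nat.prime_two⟩
  obtain ⟨f, -, hpf⟩ := exists_q_eq (F := F) p hF
  obtain rfl : p = 2 :=
    (Nat.prime_dvd_prime_iff_eq Fact.out Nat.prime_two).mp (hpf ▸ dvd_pow_self p (by rintro rfl; simp at hpf))
  set N0 := Subgroup.closure {x : suGL 3 F 2 | IsPElt 2 x} with hN0
  set N := N0.map (suGL 3 F 2).subtype with hN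
  have hp : ∀ x ∈ suGL 3 F 2, IsPElt 2 x → x ∈ N := fun x hx hx2 =>
    ⟨⟨x, hx⟩, Subgroup.subset_closure (hx2.imp fun k hk => Subtype.ext hk), rfl⟩
  have hpair : ∀ i j : Fin 3, i ≠ j → SUS F 2 {i, j} ≤ N := fun i j hij => SUS_pair_le 2 hF hij hp
  have h2 : (2 : F) = 0 := by exact_mod_cast CharP.cast_eq_zero F 2
  have hsign : ∀ (π : Equiv.Perm (Fin 3)), ((Equiv.Perm.sign π : ℤ) : F) * ∏ _k : Fin 3, (1 : F) = 1 := by
    intro π
    rcases Int.units_eq_one_or (Equiv.Perm.sign π) with e | e <;> rw [e] <;> simp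
    linear_combination -h2
  have hswap : ∀ i j : Fin 3, i ≠ j → monoGL (Equiv.swap i j) (fun _ => (1 : F)) (hsign _) ∈ N := fun i j hij =>
    hpair i j hij (monoGL_mem hF _ (fun _ => one_pow _) (fun k hk => by
      simp only [Finset.mem_insert, Finset.mem_singleton, not_or] at hk
      exact Equiv.swap_apply_of_ne_of_ne hk.1 hk.2) (fun _ _ => rfl))
  set P := monoGL (Equiv.swap (0 : Fin 3) 1 * Equiv.swap 1 2) (fun _ => (1 : F)) (hsign _) with hP
  have hPN : P ∈ N := by
    have : P = monoGL (Equiv.swap (0 : Fin 3) 1) (fun _ => (1 : F)) (hsign _) *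
        monoGL (Equiv.swap (1 : Fin 3) 2) (fun _ => (1 : F)) (hsign _) := gl_ext_single fun k => by
      rw [Units.val_mul, ← mulVec_mulVec, monoGL_single, monoGL_single, mulVec_smul, monoGL_single, one_smul,
        one_smul, one_smul]
      rfl
    rw [this]
    exact mul_mem (hswap 0 1 (by decide)) (hswap 1 2 (by decide))
  have hdgN : dg F 2 (Finset.univ : Finset (Fin 3)) ≤ N := by
    rintro _ ⟨d, ⟨h1, -, h3⟩, rfl⟩
    have hd : d = delta 0 2 (d 0) * delta 1 2 (d 1) := by
      rw [Fin.prod_univ_three] at h3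
      funext k
      fin_cases k <;> simp [delta]
      rw [eq_inv_of_mul_eq_one_right h3, _root_.mul_inv_rev, mul_comm]
    rw [hd, map_mul]
    exact mul_mem (hpair 0 2 (by decide) (dg_le_SUS hF _ ⟨_, delta_mem _ _ (h1 0), rfl⟩))
      (hpair 1 2 (by decide) (dg_le_SUS hF _ ⟨_, delta_mem _ _ (h1 1), rfl⟩))
  have hmP : ∀ k, ∃ c : F, c ≠ 0 ∧ (P : Matrix (Fin 3) (Fin 3) F) *ᵥ Pi.single k 1 =
      c • (Pi.single ((Equiv.swap (0 : Fin 3) 1 * Equiv.swap 1 2 : Equiv.Perm (Fin 3)) k) 1 : Fin 3 → F) := fun k =>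
    ⟨1, one_ne_zero, monoGL_single _ _ _ k⟩
  have hconj : ∀ d ∈ dg F 2 (Finset.univ : Finset (Fin 3)), P * d * P⁻¹ ∈ dg F 2 Finset.univ := by
    rintro _ ⟨d, hd, rfl⟩
    rw [conj_diag hmP]
    exact ⟨_, by have := DS_comp hd (Equiv.swap (0 : Fin 3) 1 * Equiv.swap 1 2); rwa [Finset.map_univ_equiv] at this,
      rfl⟩
  have hP3 : P ^ 3 = 1 := gl_ext_single fun k => by
    rw [pow_succ, pow_two, Units.val_mul, Units.val_mul, ← mulVec_mulVec, ← mulVec_mulVec, monoGL_single, one_smul,
      monoGL_single, one_smul, monoGL_single, one_smul, Units.val_one, one_mulVec]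
    congr 1
    revert k; decide
  have hP1 : P ≠ 1 := fun e => by
    have := congrArg (fun g : GL (Fin 3) F => ((g : Matrix (Fin 3) (Fin 3) F) *ᵥ Pi.single 1 1) 1) e
    simp only [monoGL_single, hP, Units.val_one, one_mulVec, one_smul] at this
    rw [show (Equiv.swap (0 : Fin 3) 1 * Equiv.swap 1 2 : Equiv.Perm (Fin 3)) 1 = 2 by decide] at this
    simp at this
  set D := dg F 2 (Finset.univ : Finset (Fin 3))
  have hcardP : Nat.card (Subgroup.zpowers P) = 3 := by
    rw [Nat.card_zpowers]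
    haveI : Fact (Nat.Prime 3) := ⟨Nat.prime_three⟩
    exact orderOf_eq_prime hP3 hP1
  have hnorm : Subgroup.zpowers P ≤ Subgroup.normalizer (D : Set (GL (Fin 3) F)) := by
    rw [Subgroup.zpowers_le, Subgroup.mem_normalizer_iff]
    refine fun d => ⟨hconj d, fun hd => ?_⟩
    have := hconj _ (hconj _ hd)
    have e : P * (P * (P * d * P⁻¹) * P⁻¹) * P⁻¹ = d := by
      calc _ = P ^ 3 * d * (P ^ 3)⁻¹ := by simp only [pow_succ, pow_zero, one_mul, _root_.mul_inv_rev, mul_assoc]
        _ = d := by rw [hP3, one_mul, inv_one, mul_one]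
    rwa [e] at this
  have hdisj : D ⊓ Subgroup.zpowers P = ⊥ := by
    rw [eq_bot_iff]
    rintro g ⟨⟨d, -, rfl⟩, hgP⟩
    have hk : ∀ g ∈ Subgroup.zpowers P, ∃ π : Equiv.Perm (Fin 3), ∀ k,
        (g : Matrix (Fin 3) (Fin 3) F) *ᵥ Pi.single k 1 = (Pi.single (π k) 1 : Fin 3 → F) := by
      intro g hg
      rw [← (isOfFinOrder_of_finite P).mem_powers_iff_mem_zpowers] at hg
      obtain ⟨a, rfl⟩ := hg
      refine ⟨(Equiv.swap (0 : Fin 3) 1 * Equiv.swap 1 2) ^ a, ?_⟩
      induction a with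
      | zero => intro k; simp only [pow_zero, Units.val_one, one_mulVec, Equiv.Perm.one_apply]
      | succ a ih =>
        intro k
        beta_reduce at *
        rw [pow_succ', Units.val_mul, ← mulVec_mulVec, ih, monoGL_single, one_smul, pow_succ']
        rfl
    obtain ⟨π, hπ⟩ := hk _ hgP
    rw [Subgroup.mem_bot]
    refine gl_ext_single fun k => ?_
    have h1 := congrFun (hπ k) k
    rw [diagGL_single, Pi.smul_apply, Pi.single_eq_same, smul_eq_mul, mul_one, Pi.single_apply] at h1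
    split at h1
    · rw [diagGL_single, h1, one_smul, Units.val_one, one_mulVec]
    · exact absurd h1 (d k).ne_zero
  have h27 : 27 ∣ Nat.card N := by
    have hh := Subgroup.card_dvd_of_le (sup_le hdgN (Subgroup.zpowers_le.mpr hPN))
    rw [natCard_sup hnorm hdisj, natCard_dg hF Finset.univ_nonempty, hcardP, Finset.card_univ, Fintype.card_fin] at hh
    norm_num [-Nat.card_eq_fintype_card] at hh
    exact hh
  have hcard : Nat.card (suGL 3 F 2) = 216 := by
    have := natCard_suGL (n := 3) hF (by norm_num)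
    rw [Classical.natCard_GU hF] at this
    generalize Nat.card (suGL 3 F 2) = X at this ⊢
    norm_num [Finset.prod_range_succ, Nat.even_iff] at this
    omega
  have h8 : 8 ∣ Nat.card N0 := by
    obtain ⟨S⟩ : Nonempty (Sylow 2 (suGL 3 F 2)) := inferInstance
    have hle : (S : Subgroup (suGL 3 F 2)) ≤ N0 := fun x hx => by
      obtain ⟨k, hk⟩ := S.isPGroup' ⟨x, hx⟩
      exact Subgroup.subset_closure ⟨k, congrArg Subtype.val hk⟩
    refine Dvd.dvd.trans ?_ (Subgroup.card_dvd_of_le hle)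
    rw [S.card_eq_multiplicity, hcard]
    exact pow_dvd_pow 2 (show 3 ≤ (216 : ℕ).factorization 2 from
      (Nat.Prime.pow_dvd_iff_le_factorization Nat.prime_two (by norm_num)).mp (by norm_num))
  rw [Subgroup.card_map_of_injective (Subgroup.subtype_injective _)] at h27
  refine Subgroup.eq_top_of_card_eq _ (Nat.dvd_antisymm (Subgroup.card_subgroup_dvd_card _) ?_)
  rw [hcard]
  exact (show Nat.Coprime 8 27 by norm_num).mul_dvd_of_dvd_of_dvd h8 h27

/-- `SU_m(q)` is generated by elements of `p`-power order. -/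
theorem closure_pElt_SU (hF : Fintype.card F = q ^ 2) (hn : 2 ≤ n) :
    Subgroup.closure {x : suGL n F q | IsPElt p x} = ⊤ := by
  rcases hn.eq_or_lt with rfl | hlt
  · exact closure_pElt_SU_two p hF
  by_cases h32 : n = 3 ∧ q = 2
  · obtain ⟨rfl, hq⟩ := h32
    exact closure_pElt_SU_three p hF hq
  obtain ⟨k, rfl⟩ : ∃ k, n = k + 2 := ⟨n - 2, by omega⟩
  refine closure_pElt_congr (suEquiv (k + 2) F q) (top_le_iff.mp ?_)
  rw [← Classical.closure_transvections_SU hF k (by omega) (by omega)]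
  refine Subgroup.closure_mono ?_
  rintro A ⟨v, c, hv, hA⟩
  obtain ⟨a, ha⟩ := isPElt_T p hF v c hv
  refine ⟨a, (suEquiv (k + 2) F q).injective (Subtype.ext ?_)⟩
  rw [map_pow, map_one, Subgroup.coe_pow, Subgroup.coe_one,
    show ((suEquiv (k + 2) F q A : suGL (k + 2) F q) : GL (Fin (k + 2)) F) = T v c hv from
      Units.ext (hA.trans (T_val v c hv).symm), ha]

/-- The coordinate subgroups are generated by elements of `p`-power order. -/
theorem SUS_le_closure (hF : Fintype.card F = q ^ 2) (S : Finset (Fin n)) :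
    SUS F q S ≤ Subgroup.closure {g | g ∈ SUS F q S ∧ IsPElt p g} := by
  rcases S.card.eq_zero_or_pos with h0 | hpos
  · rw [Finset.card_eq_zero] at h0
    subst h0
    rw [SUS_empty hF]; exact bot_le
  rcases (Nat.one_le_iff_ne_zero.mpr hpos.ne').eq_or_lt with h1 | h2
  · obtain ⟨i, rfl⟩ := Finset.card_eq_one.mp h1.symm
    rw [SUS_singleton hF]; exact bot_le
  intro x hx
  set f := (S.orderEmbOfFin rfl).toEmbedding
  have hS : Finset.univ.map f = S := Finset.map_orderEmbOfFin_univ _ _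
  have hgen := closure_pElt_congr ((susEquiv hF f).trans (MulEquiv.subgroupCongr (by rw [hS])))
    (closure_pElt_SU (n := S.card) p hF h2) (H := SUS F q S)
  have hle : Subgroup.closure {y : SUS F q S | IsPElt p y} ≤
      (Subgroup.closure {g | g ∈ SUS F q S ∧ IsPElt p g}).comap (SUS F q S).subtype := by
    rw [Subgroup.closure_le]
    rintro y ⟨k, hk⟩
    exact Subgroup.subset_closure ⟨y.2, k, congrArg Subtype.val hk⟩
  rw [hgen] at hle
  exact hle (Subgroup.mem_top (⟨x, hx⟩ : SUS F q S))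

end Cfsg.Agent.Lib.Schur.UnitMult
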