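import Cfsg.Agent.Lib.Schur.UnitCentre
import Cfsg.Agent.Lib.Schur.UnitBiadd
import Cfsg.Agent.Lib.Schur.UnitGen

/-!
Central extensions with kernel of exponent `p`: the derived subgroup of the lifted radical misses the kernel.
-/

set_option autoImplicit false
set_option linter.unusedSectionVars false

namespace Cfsg.Agent.Lib.Schur.UnitMult

open Matrix Cfsg.Agent.Lib.Schur Cfsg.Agent.Lib.Forms Cfsg.Agent.Lib.FormMax Cfsg.Agent.Lib.UnitaryMax
open scoped commutatorElement

universe w

variable {F : Type*} [Field F] [Fintype F] {n q : ℕ}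

local notation "Vs" => (Fin n → F)
local notation "h" => Cfsg.hermForm n F q

theorem units_orderOf (hF : Fintype.card F = q ^ 2) :
    ∃ g : Fˣ, orderOf g = q ^ 2 - 1 := by
  obtain ⟨g, hg⟩ := IsCyclic.exists_generator (α := Fˣ)
  exact ⟨g, by rw [orderOf_eq_card_of_forall_mem_zpowers hg, Nat.card_units, Nat.card_eq_fintype_card, hF]⟩

theorem exists_fixed_scalar (hF : Fintype.card F = q ^ 2) (hq : 3 ≤ q) :
    ∃ l : F, l ≠ 0 ∧ l ^ q = l ∧ l ≠ 1 ∧ (4 ≤ q → l ^ 2 ≠ 1) := by
  obtain ⟨g, hg⟩ := units_orderOf hF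
  have hsq : q ^ 2 - 1 = (q + 1) * (q - 1) := by rw [← Nat.sq_sub_sq, one_pow]
  have hord : orderOf (g ^ (q + 1)) = q - 1 := by
    rw [orderOf_pow_of_dvd (by omega) ⟨q - 1, hg.trans hsq⟩, hg, hsq, Nat.mul_div_cancel_left _ (by omega)]
  refine ⟨((g ^ (q + 1) : Fˣ) : F), Units.ne_zero _, ?_, fun e => ?_, fun h4 e => ?_⟩
  · have h1 : (g ^ (q + 1)) ^ q = g ^ (q + 1) := by
      conv_lhs => rw [show q = (q - 1) + 1 by omega, pow_succ]
      rw [show q - 1 + 1 = q by omega]
      conv_lhs => arg 1; rw [← hord, pow_orderOf_eq_one]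
      rw [one_mul]
    rw [← Units.val_pow_eq_pow_val, h1]
  · rw [Units.val_eq_one] at e
    rw [e, orderOf_one] at hord
    omega
  · rw [← Units.val_pow_eq_pow_val, Units.val_eq_one] at e
    have := Nat.le_of_dvd (by norm_num) (orderOf_dvd_of_pow_eq_one e)
    omega

section

variable {Γ : Type w} [Group Γ] {σ : Γ →* GL (Fin n) F}
  (hF : Fintype.card F = q ^ 2) (hr : σ.range = suGL n F q) (hc : σ.ker ≤ Subgroup.center Γ)
  {i j : Fin n} {e f : Fin n → F} (hp : HP q i j e f)
include hF hr hp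

theorem scale_mem_Wsp {γ : Γ} {l μ : F} (hl : l ≠ 0) (hμ : μ ≠ 0)
    (he : (σ γ : Matrix (Fin n) (Fin n) F) *ᵥ e = l • e) (hf : (σ γ : Matrix (Fin n) (Fin n) F) *ᵥ f = μ • f)
    {w : Vs} (hw : w ∈ Wsp F i j) : (σ γ : Matrix (Fin n) (Fin n) F) *ᵥ w ∈ Wsp F i j := by
  have hγ : σ γ ∈ suGL n F q := hr.le ⟨γ, rfl⟩
  refine mem_Wsp_of_perp hF hp ?_ ?_
  · have h1 := apply_K hγ w e
    rw [he, herm_smul_right hF, (herm_W_left hF hp hw).1] at h1
    exact (mul_eq_zero.mp h1).resolve_left (pow_ne_zero _ hl)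
  · have h1 := apply_K hγ w f
    rw [hf, herm_smul_right hF, (herm_W_left hF hp hw).2] at h1
    exact (mul_eq_zero.mp h1).resolve_left (pow_ne_zero _ hμ)

/-- Elements scaling the pair commute modulo the kernel with those acting as a scalar on the orthogonal. -/
theorem sigma_commute {τ γ : Γ} {l l' μ μ' c : F} (hl' : l' ≠ 0) (hμ' : μ' ≠ 0)
    (hτe : (σ τ : Matrix (Fin n) (Fin n) F) *ᵥ e = l • e) (hτf : (σ τ : Matrix (Fin n) (Fin n) F) *ᵥ f = μ • f)
    (hτW : ∀ w ∈ Wsp F i j, (σ τ : Matrix (Fin n) (Fin n) F) *ᵥ w = c • w)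
    (hγe : (σ γ : Matrix (Fin n) (Fin n) F) *ᵥ e = l' • e) (hγf : (σ γ : Matrix (Fin n) (Fin n) F) *ᵥ f = μ' • f) :
    σ γ * σ τ = σ τ * σ γ := by
  refine gl_ext fun x => ?_
  obtain ⟨a, b, w, hw, rfl⟩ : ∃ a b w, w ∈ Wsp F i j ∧ x = a • e + b • f + w :=
    ⟨h x f, h x e, _, sub_plane_mem hF hp x, by abel⟩
  rw [Units.val_mul, Units.val_mul, ← mulVec_mulVec, ← mulVec_mulVec]
  simp only [mulVec_add, mulVec_smul, hτe, hτf, hγe, hγf, hτW w hw,
    hτW _ (scale_mem_Wsp hF hr hp hl' hμ' hγe hγf hw)]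
  module

variable (hn : 3 ≤ n) (h32 : ¬ (n = 3 ∧ q = 2))
include hc hn h32

/-- An element of the kernel is fixed by conjugation. -/
theorem cW_inv_of_ker {γ : Γ} {l μ : F} (hl : l ≠ 0) (hμ : μ ≠ 0)
    (he : (σ γ : Matrix (Fin n) (Fin n) F) *ᵥ e = l • e) (hf : (σ γ : Matrix (Fin n) (Fin n) F) *ᵥ f = μ • f)
    {a b : Vs} (ha : a ∈ Wsp F i j) (hb : b ∈ Wsp F i j) (h0 : h a b - h b a = 0) :
    cW σ q i j e (l ^ q • ((σ γ : Matrix (Fin n) (Fin n) F) *ᵥ a))
      (l ^ q • ((σ γ : Matrix (Fin n) (Fin n) F) *ᵥ b)) = cW σ q i j e a b := by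
  have h1 := cW_spec hF hr hc hp hn h32 ha hb
  rw [h0] at h1
  rw [← cW_conj hF hr hc hp hn h32 hl hμ he hf ha hb,
    Subgroup.mem_center_iff.mp (hc (MonoidHom.mem_ker.mpr (ker_of_El hF hp h1))) γ, mul_inv_cancel_right]

/-- At least four: the derived subgroup of the lifted radical misses the kernel. -/
theorem bracket_big (p : ℕ) [Fact p.Prime] [CharP F p] (hq : 4 ≤ q) :
    ⁅(radGroup hF hp).comap σ, (radGroup hF hp).comap σ⁆ ⊓ σ.ker = ⊥ := by
  classical
  obtain ⟨l, hl0, hlq, -, hl2⟩ := exists_fixed_scalar hF (show 3 ≤ q by omega)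
  have hl2' := hl2 hq
  obtain ⟨τ, hτe, hτf, hτW'⟩ := exists_lift_tor hF hr hp hl0 (fun _ => 1) rfl rfl (fun _ => one_pow _)
    (by rw [hlq, mul_inv_cancel₀ hl0, Finset.prod_const_one, one_mul])
  have hτW : ∀ w ∈ Wsp F i j, (σ τ : Matrix (Fin n) (Fin n) F) *ᵥ w = (1 : F) • w := fun w hw =>
    funext fun k => by rw [hτW' w hw k, Pi.smul_apply, smul_eq_mul]
  have hτl : (l ^ q)⁻¹ ≠ 0 := inv_ne_zero (pow_ne_zero _ hl0)
  let Zt : Subgroup Γ :=
    { carrier := {z | ∃ t, IsE q i j e (σ z) 0 t}
      one_mem' := ⟨0, El_of_ker hF hp (map_one σ)⟩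
      mul_mem' := by
        rintro a b ⟨s, ha⟩ ⟨t, hb⟩
        have := El_mul hF hp ha hb
        rw [add_zero] at this
        exact ⟨_, this⟩
      inv_mem' := by
        rintro a ⟨s, ha⟩
        have := El_inv hF hp ha
        rw [neg_zero] at this
        exact ⟨_, this⟩ }
  have hτz : ∀ {z : Γ} {t : F}, IsE q i j e (σ z) 0 t → IsE q i j e (σ ⁅τ, z⁆) 0 ((l ^ 2 - 1) * t) := by
    intro z t hz
    have h1 := hz.of_conj hF hp (hr.le ⟨τ, rfl⟩) hl0 hτl hτe hτf
    rw [mulVec_zero, smul_zero] at h1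
    have h2 := El_mul hF hp h1 (El_inv hF hp hz)
    rw [neg_zero, add_zero, h_zero_left hF, sub_zero, sub_zero,
      show τ * z * τ⁻¹ * z⁻¹ = ⁅τ, z⁆ from (commutatorElement_def τ z).symm] at h2
    convert h2 using 1
    rw [show l ^ (q + 1) = l * l by rw [pow_succ, hlq]]; ring
  let φ : Zt →* Γ := MonoidHom.mk' (fun z => ⁅τ, (z : Γ)⁆) (by
    rintro ⟨a, s, ha⟩ ⟨b, t, hb⟩
    show ⁅τ, a * b⁆ = ⁅τ, a⁆ * ⁅τ, b⁆
    have hcm := zt_commute hF hr hc hp hn (hτz hb) ha
    calc ⁅τ, a * b⁆ = ⁅τ, a⁆ * (a * ⁅τ, b⁆ * a⁻¹) := by simp only [commutatorElement_def]; group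
      _ = _ := by rw [← hcm.eq, mul_inv_cancel_right])
  have hφle : φ.range ≤ Zt := by
    rintro _ ⟨⟨z, t, hz⟩, rfl⟩
    exact ⟨_, hτz hz⟩
  have hφk : φ.range ⊓ σ.ker = ⊥ := by
    rw [eq_bot_iff]
    rintro _ ⟨⟨⟨z, t, hz⟩, rfl⟩, hk⟩
    have h0 := (hτz hz).inj hF hp (El_of_ker hF hp hk)
    have ht : t = 0 := (mul_eq_zero.mp h0.2).resolve_left (sub_ne_zero.mpr hl2')
    subst ht
    have hzk := Subgroup.mem_center_iff.mp (hc (MonoidHom.mem_ker.mpr (ker_of_El hF hp hz))) τ
    rw [Subgroup.mem_bot]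
    show ⁅τ, z⁆ = 1
    rw [commutatorElement_eq_one_iff_commute]
    exact hzk
  -- decomposition
  have hdec : ∀ {z : Γ} {t : F}, IsE q i j e (σ z) 0 t → ∃ z0 : Zt, σ ((φ z0)⁻¹ * z) = 1 := by
    intro z t hz
    have hne : l ^ 2 - 1 ≠ 0 := sub_ne_zero.mpr hl2'
    have hcd := hz.cond
    rw [h_zero_left hF, add_zero] at hcd
    obtain ⟨z0, hz0⟩ := exists_El hF hr hp (Submodule.zero_mem (Wsp F i j)) (t := (l ^ 2 - 1)⁻¹ * t) (by
      rw [h_zero_left hF, add_zero, mul_pow, inv_pow, q_sub hF, one_pow, ← pow_mul, mul_comm 2 q, pow_mul, hlq]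
      linear_combination (l ^ 2 - 1)⁻¹ * hcd)
    refine ⟨⟨z0, _, hz0⟩, ?_⟩
    have h1 := hτz hz0
    rw [← mul_assoc, mul_inv_cancel₀ hne, one_mul] at h1
    show σ (⁅τ, z0⁆⁻¹ * z) = 1
    rw [map_mul, map_inv, h1.congr hz, inv_mul_cancel]
  -- scaling elements act trivially modulo `φ.range`
  have hinvZ : ∀ {γ : Γ} {l' μ' : F}, l' ≠ 0 → μ' ≠ 0 → (σ γ : Matrix (Fin n) (Fin n) F) *ᵥ e = l' • e →
      (σ γ : Matrix (Fin n) (Fin n) F) *ᵥ f = μ' • f → ∀ {z : Γ} {t : F}, IsE q i j e (σ z) 0 t →
      γ * z * γ⁻¹ * z⁻¹ ∈ φ.range := by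
    intro γ l' μ' hl' hμ' hγe hγf z t hz
    obtain ⟨z0, hk⟩ := hdec hz
    have hkc := Subgroup.mem_center_iff.mp (hc (MonoidHom.mem_ker.mpr hk))
    obtain ⟨z1, t1, hz1⟩ := z0
    set u := ⁅τ, z1⁆
    have hkc' : γ * (u⁻¹ * z) = (u⁻¹ * z) * γ := hkc γ
    have hd : γ * z * γ⁻¹ * z⁻¹ = (γ * u * γ⁻¹) * u⁻¹ := by
      calc γ * z * γ⁻¹ * z⁻¹ = (γ * u * γ⁻¹) * ((γ * (u⁻¹ * z)) * γ⁻¹) * z⁻¹ := by group
        _ = _ := by rw [hkc']; group
    rw [hd]
    refine mul_mem ?_ (inv_mem ⟨⟨z1, t1, hz1⟩, rfl⟩)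
    have hcomm : σ (τ⁻¹ * (γ * τ * γ⁻¹)) = 1 := by
      rw [map_mul, map_mul, map_mul, map_inv, map_inv,
        sigma_commute hF hr hp hl' hμ' hτe hτf hτW hγe hγf]
      group
    have h1 := hz1.of_conj hF hp (hr.le ⟨γ, rfl⟩) hl' hμ' hγe hγf
    rw [mulVec_zero, smul_zero] at h1
    refine ⟨⟨_, _, h1⟩, ?_⟩
    show ⁅τ, γ * z1 * γ⁻¹⁆ = γ * ⁅τ, z1⁆ * γ⁻¹
    have := commutatorElement_mul_central τ (γ * z1 * γ⁻¹) (hc (MonoidHom.mem_ker.mpr hcomm)) (one_mem _)
    rw [mul_inv_cancel_left, mul_one] at this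
    rw [← this]
    simp only [commutatorElement_def]; group
  letI : CommGroup Zt := { (inferInstance : Group Zt) with
    mul_comm := fun a b => Subtype.ext (by
      obtain ⟨a, s, ha⟩ := a
      obtain ⟨b, t, hb⟩ := b
      exact (zt_commute hF hr hc hp hn ha hb).eq) }
  set mk := QuotientGroup.mk' (φ.range.subgroupOf Zt)
  have hmk : ∀ {z : Zt}, mk z = 1 → (z : Γ) ∈ φ.range := fun {z} hz =>
    Subgroup.mem_subgroupOf.mp ((QuotientGroup.eq_one_iff z).mp hz)
  let bb : Vs → Vs → Zt ⧸ φ.range.subgroupOf Zt := fun a b =>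
    if hab : a ∈ Wsp F i j ∧ b ∈ Wsp F i j then mk ⟨cW σ q i j e a b, _, cW_spec hF hr hc hp hn h32 hab.1 hab.2⟩
    else 1
  have bb_eq : ∀ {a b : Vs} (ha : a ∈ Wsp F i j) (hb : b ∈ Wsp F i j),
      bb a b = mk ⟨cW σ q i j e a b, _, cW_spec hF hr hc hp hn h32 ha hb⟩ := fun ha hb => dif_pos ⟨ha, hb⟩
  have bb_l : ∀ {a a' b : Vs}, a ∈ Wsp F i j → a' ∈ Wsp F i j → b ∈ Wsp F i j →
      bb (a + a') b = bb a b * bb a' b := fun {a a' b} ha ha' hb => by
    rw [bb_eq (Submodule.add_mem _ ha ha') hb, bb_eq ha hb, bb_eq ha' hb, ← map_mul]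
    exact congrArg mk (Subtype.ext (cW_add_left hF hr hc hp hn h32 ha ha' hb))
  have bb_r : ∀ {a b b' : Vs}, a ∈ Wsp F i j → b ∈ Wsp F i j → b' ∈ Wsp F i j →
      bb a (b + b') = bb a b * bb a b' := fun {a b b'} ha hb hb' => by
    rw [bb_eq ha (Submodule.add_mem _ hb hb'), bb_eq ha hb, bb_eq ha hb', ← map_mul]
    exact congrArg mk (Subtype.ext (cW_add_right hF hr hc hp hn h32 ha hb hb'))
  have bb_inv : ∀ {γ : Γ} {l' μ' : F}, l' ≠ 0 → μ' ≠ 0 → (σ γ : Matrix (Fin n) (Fin n) F) *ᵥ e = l' • e →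
      (σ γ : Matrix (Fin n) (Fin n) F) *ᵥ f = μ' • f → ∀ {a b : Vs}, a ∈ Wsp F i j → b ∈ Wsp F i j →
      bb (l' ^ q • ((σ γ : Matrix (Fin n) (Fin n) F) *ᵥ a)) (l' ^ q • ((σ γ : Matrix (Fin n) (Fin n) F) *ᵥ b))
        = bb a b := by
    intro γ l' μ' hl' hμ' hγe hγf a b ha hb
    rw [bb_eq (Submodule.smul_mem _ _ (scale_mem_Wsp hF hr hp hl' hμ' hγe hγf ha))
      (Submodule.smul_mem _ _ (scale_mem_Wsp hF hr hp hl' hμ' hγe hγf hb)), bb_eq ha hb, ← mul_inv_eq_one,
      ← map_inv, ← map_mul]
    refine (QuotientGroup.eq_one_iff _).mpr (Subgroup.mem_subgroupOf.mpr ?_)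
    show cW σ q i j e _ _ * (cW σ q i j e a b)⁻¹ ∈ φ.range
    rw [← cW_conj hF hr hc hp hn h32 hl' hμ' hγe hγf ha hb]
    exact hinvZ hl' hμ' hγe hγf (cW_spec hF hr hc hp hn h32 ha hb)
  have hle : ⁅(radGroup hF hp).comap σ, (radGroup hF hp).comap σ⁆ ≤ φ.range := by
    refine commutator_le_of_coord hF hr hc hp hn h32 fun k m hki hkj hmi hmj x y => ?_
    have hk : ∀ a : F, a • (Pi.single k 1 : Vs) ∈ Wsp F i j := single_mem_Wsp hki hkj
    have hm : ∀ a : F, a • (Pi.single m 1 : Vs) ∈ Wsp F i j := single_mem_Wsp hmi hmj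
    suffices h0 : bb (x • Pi.single k 1) (y • Pi.single m 1) = 1 by
      rw [bb_eq (hk x) (hm y)] at h0
      exact hmk h0
    have hsingle : ∀ (γ : Γ) (D : Fin n → F), (∀ w ∈ Wsp F i j, ∀ u,
        ((σ γ : Matrix (Fin n) (Fin n) F) *ᵥ w) u = D u * w u) → ∀ (v : Fin n), v ≠ i → v ≠ j → ∀ (c a : F),
        c • ((σ γ : Matrix (Fin n) (Fin n) F) *ᵥ (a • Pi.single v 1)) = (c * D v * a) • (Pi.single v 1 : Vs) := by
      intro γ D hD v hvi hvj c a
      funext u
      rw [Pi.smul_apply, hD _ (single_mem_Wsp hvi hvj a) u, Pi.smul_apply, Pi.smul_apply, smul_eq_mul, smul_eq_mul,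
        smul_eq_mul]
      rcases eq_or_ne u v with rfl | huv
      · ring
      · simp [huv]
    obtain ⟨g, hg⟩ := units_orderOf hF
    rcases eq_or_ne k m with rfl | hkm
    · -- one line
      refine biadd_eq_one p (fun a b => bb (a • Pi.single k 1) (b • Pi.single k 1)) (ν := ?_)
        (fun a a' b => by rw [add_smul, bb_l (hk a) (hk a') (hk b)])
        (fun a b b' => by rw [add_smul, bb_r (hk a) (hk b) (hk b')]) ?_ ?_ ?_ x y
      · exact if n = 3 then (g : F) ^ (2 * q - 1) else (g : F) ^ q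
      · split_ifs <;> exact pow_ne_zero _ g.ne_zero
      · have hgq : ((g : F) ^ (q - 1)) ^ (q + 1) = 1 := by
          rw [← pow_mul, ← Units.val_pow_eq_pow_val, mul_comm, ← Nat.sq_sub_sq, one_pow, ← hg, pow_orderOf_eq_one,
            Units.val_one]
        have hgd : (g : F) * ((g : F) ^ q)⁻¹ * (g : F) ^ (q - 1) = 1 := by
          have h1 : (g : F) * (g : F) ^ (q - 1) = (g : F) ^ q := by
            rw [← pow_succ', Nat.sub_add_cancel (by omega)]
          rw [mul_assoc, mul_comm ((g : F) ^ q)⁻¹, ← mul_assoc, h1, mul_inv_cancel₀ (pow_ne_zero _ g.ne_zero)]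
        intro a b
        by_cases hn3 : n = 3
        · rw [if_pos hn3]
          obtain ⟨γ, h1, h2, h3⟩ := exists_lift_tor hF hr hp g.ne_zero
            (Function.update (fun _ => (1 : F)) k ((g : F) ^ (q - 1)))
            (Function.update_of_ne hki.symm _ _) (Function.update_of_ne hkj.symm _ _)
            (fun u => by
              rcases eq_or_ne u k with rfl | hu
              · rw [Function.update_self, hgq]
              · rw [Function.update_of_ne hu, one_pow])
            (by rw [Finset.prod_update_of_mem (Finset.mem_univ k)]; simpa using hgd)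
          have := bb_inv g.ne_zero (inv_ne_zero (pow_ne_zero _ g.ne_zero)) h1 h2 (hk a) (hk b)
          rwa [hsingle γ _ h3 k hki hkj, hsingle γ _ h3 k hki hkj, Function.update_self, ← pow_add,
            show q + (q - 1) = 2 * q - 1 by omega] at this
        · rw [if_neg hn3]
          obtain ⟨r, hri, hrj, hrk⟩ := exists_fourth (show 4 ≤ n by omega) i j k
          obtain ⟨γ, h1, h2, h3⟩ := exists_lift_tor hF hr hp g.ne_zero
            (Function.update (fun _ => (1 : F)) r ((g : F) ^ (q - 1)))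
            (Function.update_of_ne hri.symm _ _) (Function.update_of_ne hrj.symm _ _)
            (fun u => by
              rcases eq_or_ne u r with rfl | hu
              · rw [Function.update_self, hgq]
              · rw [Function.update_of_ne hu, one_pow])
            (by rw [Finset.prod_update_of_mem (Finset.mem_univ r)]; simpa using hgd)
          have := bb_inv g.ne_zero (inv_ne_zero (pow_ne_zero _ g.ne_zero)) h1 h2 (hk a) (hk b)
          rwa [hsingle γ _ h3 k hki hkj, hsingle γ _ h3 k hki hkj, Function.update_of_ne hrk.symm, mul_one] at this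
      · intro d hd hdlt hone
        rw [hF] at hd hdlt
        have hQ : 16 ≤ q ^ 2 := by nlinarith
        obtain ⟨c, hc'⟩ := hd
        have hc2 : 2 ≤ c := by
          rcases c with _ | _ | c
          · simp at hc'; omega
          · simp at hc'; omega
          · omega
        have hhalf : 2 * d ≤ q ^ 2 := by rw [hc']; nlinarith
        by_cases hn3 : n = 3
        · rw [if_pos hn3, ← pow_mul, ← Units.val_pow_eq_pow_val, Units.val_eq_one, ← orderOf_dvd_iff_pow_eq_one,
            hg] at hone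
          have h3d : q ^ 2 - 1 ∣ 3 * (d + 1) := by
            have e1 : (2 * q - 1) * (d + 1) * (2 * q + 1) + 0 + 0 = (4 * q ^ 2 - 1) * (d + 1) := by
              have e2 : (2 * q - 1) * (2 * q + 1) = 4 * q ^ 2 - 1 := by
                have h2 := Nat.sq_sub_sq (2 * q) 1
                rw [one_pow, mul_pow] at h2
                norm_num at h2
                rw [mul_comm, ← h2]
              rw [add_zero, add_zero, mul_right_comm, e2]
            have e3 : (4 * q ^ 2 - 1) * (d + 1) = 4 * (q ^ 2 - 1) * (d + 1) + 3 * (d + 1) := by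
              rw [← Nat.add_mul]; congr 1; omega
            have h1 : q ^ 2 - 1 ∣ (4 * q ^ 2 - 1) * (d + 1) := by
              rw [← e1, add_zero, add_zero]; exact hone.mul_right _
            rw [e3] at h1
            exact (Nat.dvd_add_right (Dvd.dvd.mul_right (dvd_mul_left _ _) _)).mp h1
          obtain ⟨u, hu⟩ := h3d
          have hu2 : u = 1 := by
            rcases u with _ | _ | u
            · omega
            · rfl
            · exfalso
              have : (q ^ 2 - 1) * 2 ≤ (q ^ 2 - 1) * (u + 1 + 1) := Nat.mul_le_mul_left _ (by omega)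
              omega
          subst hu2
          rw [mul_one] at hu
          have hdd : d ∣ 4 := ⟨c - 3, by
            have : d * c = 3 * d + 4 := by omega
            rw [Nat.mul_sub, this]
            omega⟩
          have hd4 := Nat.le_of_dvd (by norm_num) hdd
          have hq4 : q = 4 := by nlinarith [show q ^ 2 ≤ 16 by omega]
          subst hq4
          have hd4' : d = 4 := by omega
          subst hd4'
          norm_num at hone
        · rw [if_neg hn3, ← pow_mul, ← Units.val_pow_eq_pow_val, Units.val_eq_one, ← orderOf_dvd_iff_pow_eq_one,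
            hg] at hone
          have hcop : Nat.Coprime (q ^ 2 - 1) q := by
            have hcop' : Nat.Coprime (q ^ 2 - 1) (q ^ 2) := by
              conv => arg 2; rw [show q ^ 2 = (q ^ 2 - 1) + 1 by omega]
              exact Nat.coprime_self_add_right.mpr (Nat.coprime_one_right _)
            exact hcop'.coprime_dvd_right (dvd_pow_self q two_ne_zero)
          have := Nat.le_of_dvd (Nat.succ_pos d) (hcop.dvd_of_dvd_mul_left hone)
          omega
    · -- two lines
      obtain ⟨γ, l', μ', hl', hμ', h1, h2, D, h3, hx1, hy1⟩ : ∃ (γ : Γ) (l' μ' : F), l' ≠ 0 ∧ μ' ≠ 0 ∧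
          (σ γ : Matrix (Fin n) (Fin n) F) *ᵥ e = l' • e ∧ (σ γ : Matrix (Fin n) (Fin n) F) *ᵥ f = μ' • f ∧
          ∃ D : Fin n → F, (∀ w ∈ Wsp F i j, ∀ u, ((σ γ : Matrix (Fin n) (Fin n) F) *ᵥ w) u = D u * w u) ∧
            l' ^ q * D k ≠ 1 ∧ l' ^ q * D m = 1 := by
        have hn4 : 4 ≤ n := by
          by_contra hlt
          have h3 : ({i, j, k, m} : Finset (Fin n)).card = 4 := by
            rw [Finset.card_insert_of_notMem (by simp [hp.ne, hki.symm, hmi.symm]),
              Finset.card_insert_of_notMem (by simp [hkj.symm, hmj.symm]), Finset.card_pair hkm]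
          have := Finset.card_le_univ ({i, j, k, m} : Finset (Fin n))
          simp only [Fintype.card_fin] at this
          omega
        rcases hn4.eq_or_lt with hn4 | hn5
        · obtain ⟨t, ht⟩ := IsCyclic.exists_generator (α := normOne F q)
          have hto : orderOf (t : Fˣ) = q + 1 := by
            rw [Subgroup.orderOf_coe, orderOf_eq_card_of_forall_mem_zpowers ht, natCard_normOne hF]
          set L : F := ((t : Fˣ) : F) with hLdef
          have hL : L ^ (q + 1) = 1 := mem_normOne.mp t.2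
          have hL0 : L ≠ 0 := Units.ne_zero _
          have hLq : L ^ q = L⁻¹ := eq_inv_of_mul_eq_one_left (by rw [← pow_succ, hL])
          have hL4 : L ^ 4 ≠ 1 := fun e0 => by
            rw [hLdef, ← Units.val_pow_eq_pow_val, Units.val_eq_one] at e0
            have := Nat.le_of_dvd (by norm_num) (orderOf_dvd_of_pow_eq_one e0)
            omega
          let D := Function.update (Function.update (fun _ : Fin n => (1 : F)) m L) k (L⁻¹ ^ 3)
          obtain ⟨γ, h1, h2, h3⟩ := exists_lift_tor hF hr hp hL0 D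
            (by simp [D, Function.update_of_ne hki.symm, Function.update_of_ne hmi.symm])
            (by simp [D, Function.update_of_ne hkj.symm, Function.update_of_ne hmj.symm])
            (fun u => by
              simp only [D]
              rcases eq_or_ne u k with rfl | hu
              · rw [Function.update_self, ← pow_mul, mul_comm, pow_mul, inv_pow, hL, inv_one, one_pow]
              rw [Function.update_of_ne hu]
              rcases eq_or_ne u m with rfl | hu'
              · rw [Function.update_self, hL]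
              · rw [Function.update_of_ne hu', one_pow])
            (by
              simp only [D]
              rw [Finset.prod_update_of_mem (Finset.mem_univ k), Finset.prod_update_of_mem (by simp [hkm.symm])]
              simp only [Finset.prod_const_one, mul_one, hLq, inv_inv]
              field_simp)
          refine ⟨γ, L, _, hL0, inv_ne_zero (pow_ne_zero _ hL0), h1, h2, D, h3, ?_, ?_⟩
          · simp only [D, Function.update_self, hLq]
            rw [← pow_succ', inv_pow, ne_eq, inv_eq_one]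
            exact hL4
          · simp only [D, Function.update_of_ne hkm.symm, Function.update_self, hLq]
            exact inv_mul_cancel₀ hL0
        · obtain ⟨r, hri, hrj, hrk, hrm⟩ : ∃ r, r ≠ i ∧ r ≠ j ∧ r ≠ k ∧ r ≠ m := by
            by_contra hne
            push Not at hne
            have h1 : (Finset.univ : Finset (Fin n)) ⊆ {i, j, k, m} := fun u _ => by
              simp only [Finset.mem_insert, Finset.mem_singleton]
              by_cases a : u = i
              · exact Or.inl a
              by_cases b : u = j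
              · exact Or.inr (Or.inl b)
              by_cases c : u = k
              · exact Or.inr (Or.inr (Or.inl c))
              exact Or.inr (Or.inr (Or.inr (hne u a b c)))
            have h2 := (Finset.card_le_card h1).trans Finset.card_le_four
            simp at h2
            omega
          obtain ⟨μ, hμ, hμ1, hμ0⟩ := exists_norm_one hF
          have hμ' : μ ^ (q + 1) = 1 := by rw [pow_succ']; exact hμ
          let D := Function.update (Function.update (fun _ : Fin n => (1 : F)) r μ⁻¹) k μ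
          obtain ⟨γ, h1, h2, h3⟩ := exists_lift_tor hF hr hp (l := 1) one_ne_zero D
            (by simp [D, Function.update_of_ne hki.symm, Function.update_of_ne hri.symm])
            (by simp [D, Function.update_of_ne hkj.symm, Function.update_of_ne hrj.symm])
            (fun u => by
              simp only [D]
              rcases eq_or_ne u k with rfl | hu
              · rw [Function.update_self, hμ']
              rw [Function.update_of_ne hu]
              rcases eq_or_ne u r with rfl | hu'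
              · rw [Function.update_self, inv_pow, hμ', inv_one]
              · rw [Function.update_of_ne hu', one_pow])
            (by
              simp only [D, one_pow, inv_one, mul_one, one_mul]
              rw [Finset.prod_update_of_mem (Finset.mem_univ k), Finset.prod_update_of_mem (by simp [hrk])]
              simp [mul_inv_cancel₀ hμ0])
          refine ⟨γ, 1, _, one_ne_zero, inv_ne_zero (pow_ne_zero _ one_ne_zero), h1, h2, D, h3, ?_, ?_⟩
          · simp only [D, Function.update_self, one_pow, one_mul]; exact hμ1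
          · simp only [D, Function.update_of_ne hkm.symm, Function.update_of_ne hrm.symm, one_pow, mul_one]
      set s := l' ^ q * D k with hs
      have hinv : ∀ a b : F, bb ((s * a) • Pi.single k 1) (b • Pi.single m 1) =
          bb (a • Pi.single k 1) (b • Pi.single m 1) := by
        intro a b
        have := bb_inv hl' hμ' h1 h2 (hk a) (hm b)
        rwa [hsingle γ D h3 k hki hkj, hsingle γ D h3 m hmi hmj, hy1, one_mul] at this
      have h1' := hinv ((s - 1)⁻¹ * x) y
      have hne : s - 1 ≠ 0 := sub_ne_zero.mpr hx1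
      rw [show s * ((s - 1)⁻¹ * x) = x + (s - 1)⁻¹ * x by field_simp; ring, add_smul, bb_l (hk _) (hk _) (hm y),
        mul_eq_right] at h1'
      exact h1'
  exact le_bot_iff.mp (le_trans (inf_le_inf_right _ hle) hφk.le)

/-- `q` prime: the derived subgroup of the lifted radical misses the kernel. -/
theorem bracket_small (hq : q ≤ 3) (hn5 : n = 3 ∨ 5 ≤ n) (p : ℕ) [Fact p.Prime] [CharP F p]
    (hexp : ∀ z ∈ σ.ker, z ^ p = 1) :
    ⁅(radGroup hF hp).comap σ, (radGroup hF hp).comap σ⁆ ⊓ σ.ker = ⊥ := by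
  classical
  have hq2 := Forms.two_le_of_card_sq hF
  obtain ⟨f0, hf0, hqf⟩ := exists_q_eq (F := F) p hF
  have hpq : p = q := by
    have hp2 : 2 ≤ p := (Fact.out : p.Prime).two_le
    rcases (show f0 = 1 ∨ 2 ≤ f0 by omega) with rfl | h2
    · rw [hqf, pow_one]
    · exfalso
      have := (Nat.pow_le_pow_left hp2 f0).trans (hqf ▸ hq)
      have := (Nat.pow_le_pow_right (show 0 < 2 by norm_num) h2).trans this
      omega
  subst hpq
  obtain ⟨ω, hω⟩ := exists_moved hF
  have hcast : ∀ a : ℕ, (a : F) ^ p = a := fun a => by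
    rw [← qPowHom_apply hF, map_natCast]
  -- every element is `a + b ω`
  have hbasis : ∀ x : F, ∃ a b : ℕ, x = (a : F) + (b : F) * ω := by
    intro x
    let g : Fin p × Fin p → F := fun c => ((c.1 : ℕ) : F) + ((c.2 : ℕ) : F) * ω
    have hg : Function.Injective g := by
      rintro ⟨a, b⟩ ⟨a', b'⟩ e
      simp only [g] at e
      have hb : ((b : ℕ) : F) = ((b' : ℕ) : F) := by
        by_contra hne
        have hne' : ((b : ℕ) : F) - (b' : ℕ) ≠ 0 := sub_ne_zero.mpr hne
        have he : ω = (((a' : ℕ) : F) - (a : ℕ)) / (((b : ℕ) : F) - (b' : ℕ)) := by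
          rw [eq_div_iff hne']; linear_combination e
        apply hω
        rw [he, div_pow, q_sub hF, q_sub hF, hcast, hcast, hcast, hcast]
      rw [hb, add_left_inj] at e
      have key : ∀ {u v : Fin p}, ((u : ℕ) : F) = ((v : ℕ) : F) → u = v := fun {u v} huv => by
        rw [CharP.natCast_eq_natCast F p, Nat.ModEq, Nat.mod_eq_of_lt u.2, Nat.mod_eq_of_lt v.2] at huv
        exact Fin.ext huv
      exact Prod.ext (key e) (key hb)
    obtain ⟨c, hc'⟩ := ((Fintype.bijective_iff_injective_and_card g).mpr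
      ⟨hg, by rw [Fintype.card_prod, Fintype.card_fin, hF, pow_two]⟩).2 x
    exact ⟨c.1, c.2, hc'.symm⟩
  have hnat : ∀ {a b : Vs}, a ∈ Wsp F i j → b ∈ Wsp F i j → ∀ N : ℕ,
      cW σ p i j e ((N : F) • a) b = cW σ p i j e a b ^ N ∧ cW σ p i j e a ((N : F) • b) = cW σ p i j e a b ^ N := by
    intro a b ha hb N
    induction N with
    | zero =>
      simp only [Nat.cast_zero, zero_smul, pow_zero]
      exact ⟨cW_zero_left hF hr hc hp hn h32 hb, cW_zero_right hF hr hc hp hn h32 ha⟩
    | succ N ih =>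
      constructor
      · rw [Nat.cast_succ, add_smul, one_smul, cW_add_left hF hr hc hp hn h32 (Submodule.smul_mem _ _ ha) ha hb,
          ih.1, pow_succ]
      · rw [Nat.cast_succ, add_smul, one_smul, cW_add_right hF hr hc hp hn h32 ha (Submodule.smul_mem _ _ hb) hb,
          ih.2, pow_succ]
  obtain ⟨k0, hk0i, hk0j⟩ := exists_third hn i j
  set d : Fin n → Γ := fun k => cW σ p i j e (ω • Pi.single k 1) ((1 : F) • Pi.single k 1) with hd
  have hdspec : ∀ {k}, k ≠ i → k ≠ j → IsE p i j e (σ (d k)) 0 (ω - ω ^ p) := by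
    intro k hki hkj
    have h1 := cW_spec hF hr hc hp hn h32 (single_mem_Wsp hki hkj ω) (single_mem_Wsp hki hkj (1 : F))
    convert h1 using 1
    simp [herm_smul_left hF, herm_smul_right hF, herm_single_right hF]
  have hdp : ∀ {k}, k ≠ i → k ≠ j → d k ^ p = 1 := by
    intro k hki hkj
    rw [hd, ← (hnat (single_mem_Wsp hki hkj ω) (single_mem_Wsp hki hkj (1 : F)) p).1, CharP.cast_eq_zero, zero_smul,
      cW_zero_left hF hr hc hp hn h32 (single_mem_Wsp hki hkj 1)]
  have hline : ∀ {k}, k ≠ i → k ≠ j → ∀ x y : F,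
      cW σ p i j e (x • Pi.single k 1) (y • Pi.single k 1) ∈ Subgroup.zpowers (d k) := by
    intro k hki hkj x y
    obtain ⟨a, b, rfl⟩ := hbasis x
    obtain ⟨a', b', rfl⟩ := hbasis y
    have hu := single_mem_Wsp (F := F) hki hkj (1 : F)
    have hw := single_mem_Wsp (F := F) hki hkj ω
    have hsplit : ∀ c c' : ℕ, ((c : F) + (c' : F) * ω) • (Pi.single k 1 : Vs) =
        (c : F) • ((1 : F) • Pi.single k 1) + (c' : F) • (ω • Pi.single k 1) := fun c c' => by module
    rw [hsplit, hsplit, cW_add_left hF hr hc hp hn h32 (Submodule.smul_mem _ _ hu) (Submodule.smul_mem _ _ hw)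
      (Submodule.add_mem _ (Submodule.smul_mem _ _ hu) (Submodule.smul_mem _ _ hw)),
      (hnat hu (Submodule.add_mem _ (Submodule.smul_mem _ _ hu) (Submodule.smul_mem _ _ hw)) a).1,
      (hnat hw (Submodule.add_mem _ (Submodule.smul_mem _ _ hu) (Submodule.smul_mem _ _ hw)) b).1,
      cW_add_right hF hr hc hp hn h32 hu (Submodule.smul_mem _ _ hu) (Submodule.smul_mem _ _ hw),
      cW_add_right hF hr hc hp hn h32 hw (Submodule.smul_mem _ _ hu) (Submodule.smul_mem _ _ hw),
      (hnat hu hu a').2, (hnat hu hw b').2, (hnat hw hu a').2, (hnat hw hw b').2,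
      cW_self hF hr hc hp hn h32, cW_self hF hr hc hp hn h32, cW_swap hF hr hc hp hn h32]
    simp only [one_pow, one_mul, mul_one]
    exact mul_mem (pow_mem (pow_mem (inv_mem (Subgroup.mem_zpowers _)) _) _)
      (pow_mem (pow_mem (Subgroup.mem_zpowers _) _) _)
  -- orthogonal lines
  have horth : ∀ {k m}, k ≠ i → k ≠ j → m ≠ i → m ≠ j → k ≠ m → ∀ x y : F,
      cW σ p i j e (x • Pi.single k 1) (y • Pi.single m 1) = 1 := by
    intro k m hki hkj hmi hmj hkm x y
    have hn' : 5 ≤ n := by
      rcases hn5 with h3 | h5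
      · exfalso
        have h4 : ({i, j, k, m} : Finset (Fin n)).card = 4 := by
          rw [Finset.card_insert_of_notMem (by simp [hp.ne, hki.symm, hmi.symm]),
            Finset.card_insert_of_notMem (by simp [hkj.symm, hmj.symm]), Finset.card_pair hkm]
        have := Finset.card_le_univ ({i, j, k, m} : Finset (Fin n))
        simp only [Fintype.card_fin] at this
        omega
      · exact h5
    obtain ⟨r, hr0⟩ : ∃ r, r ∉ ({i, j, k, m} : Finset (Fin n)) := by
      by_contra hne
      push Not at hne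
      have h2 := (Finset.card_le_card (s := Finset.univ) fun u _ => hne u).trans Finset.card_le_four
      simp at h2
      omega
    simp only [Finset.mem_insert, Finset.mem_singleton, not_or] at hr0
    obtain ⟨hri, hrj, hrk, hrm⟩ := hr0
    obtain ⟨μ, hμ, hμ1, hμ0⟩ := exists_norm_one hF
    have hμ' : μ ^ (p + 1) = 1 := by rw [pow_succ']; exact hμ
    let D := Function.update (Function.update (fun _ : Fin n => (1 : F)) r μ⁻¹) k μ
    obtain ⟨γ, h1, h2, h3⟩ := exists_lift_tor hF hr hp (l := 1) one_ne_zero D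
      (by simp [D, Function.update_of_ne hki.symm, Function.update_of_ne (Ne.symm hri)])
      (by simp [D, Function.update_of_ne hkj.symm, Function.update_of_ne (Ne.symm hrj)])
      (fun u => by
        simp only [D]
        rcases eq_or_ne u k with rfl | hu
        · rw [Function.update_self, hμ']
        rw [Function.update_of_ne hu]
        rcases eq_or_ne u r with rfl | hu'
        · rw [Function.update_self, inv_pow, hμ', inv_one]
        · rw [Function.update_of_ne hu', one_pow])
      (by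
        simp only [D, one_pow, inv_one, mul_one, one_mul]
        rw [Finset.prod_update_of_mem (Finset.mem_univ k), Finset.prod_update_of_mem (by simp [hrk])]
        simp [mul_inv_cancel₀ hμ0])
    have hγv : ∀ (v : Fin n), v ≠ i → v ≠ j → ∀ a : F,
        (1 : F) ^ p • ((σ γ : Matrix (Fin n) (Fin n) F) *ᵥ (a • Pi.single v 1)) = (D v * a) • (Pi.single v 1 : Vs) := by
      intro v hvi hvj a
      funext u
      rw [one_pow, one_smul, h3 _ (single_mem_Wsp hvi hvj a) u, Pi.smul_apply, Pi.smul_apply, smul_eq_mul, smul_eq_mul]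
      rcases eq_or_ne u v with rfl | huv
      · ring
      · simp [huv]
    have hz : ∀ a b : F, Cfsg.hermForm n F p (a • Pi.single k 1) (b • Pi.single m 1) -
        Cfsg.hermForm n F p (b • Pi.single m 1) (a • Pi.single k 1) = 0 := by
      intro a b
      simp [herm_smul_left hF, herm_smul_right hF, herm_single_right hF, hkm, hkm.symm]
    have hne : μ - 1 ≠ 0 := sub_ne_zero.mpr hμ1
    have hinv := cW_inv_of_ker hF hr hc hp hn h32 one_ne_zero (inv_ne_zero (pow_ne_zero _ one_ne_zero)) h1 h2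
      (single_mem_Wsp hki hkj ((μ - 1)⁻¹ * x)) (single_mem_Wsp hmi hmj y) (hz _ _)
    rw [hγv k hki hkj, hγv m hmi hmj] at hinv
    simp only [D, Function.update_self, Function.update_of_ne hkm.symm, Function.update_of_ne (Ne.symm hrm),
      one_mul] at hinv
    rw [show μ * ((μ - 1)⁻¹ * x) = x + (μ - 1)⁻¹ * x by field_simp; ring, add_smul,
      cW_add_left hF hr hc hp hn h32 (single_mem_Wsp hki hkj _) (single_mem_Wsp hki hkj _)
        (single_mem_Wsp hmi hmj _), mul_eq_right] at hinv
    exact hinv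
  -- all lines give the same element
  have hall : ∀ {k}, k ≠ i → k ≠ j → d k = d k0 := by
    intro k hki hkj
    rcases eq_or_ne k k0 with rfl | hkk
    · rfl
    have hn' : 5 ≤ n := by
      rcases hn5 with h3 | h5
      · exfalso
        have h4 : ({i, j, k, k0} : Finset (Fin n)).card = 4 := by
          rw [Finset.card_insert_of_notMem (by simp [hp.ne, hki.symm, hk0i.symm]),
            Finset.card_insert_of_notMem (by simp [hkj.symm, hk0j.symm]), Finset.card_pair hkk]
        have := Finset.card_le_univ ({i, j, k, k0} : Finset (Fin n))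
        simp only [Fintype.card_fin] at this
        omega
      · exact h5
    obtain ⟨r, hr0⟩ : ∃ r, r ∉ ({i, j, k, k0} : Finset (Fin n)) := by
      by_contra hne
      push Not at hne
      have h2 := (Finset.card_le_card (s := Finset.univ) fun u _ => hne u).trans Finset.card_le_four
      simp at h2
      omega
    simp only [Finset.mem_insert, Finset.mem_singleton, not_or] at hr0
    obtain ⟨hri, hrj, hrk, hrk0⟩ := hr0
    -- a monomial element of order prime to `p` carrying `k0` to `k`
    obtain ⟨π, c, N, hdet, hcn, hπ0, hc0, hπij, hcij, hN, hcop⟩ : ∃ (π : Equiv.Perm (Fin n)) (c : Fin n → F) (N : ℕ)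
        (hdet : ((Equiv.Perm.sign π : ℤ) : F) * ∏ u, c u = 1), (∀ u, c u ^ (p + 1) = 1) ∧ π k0 = k ∧ c k0 = 1 ∧
        (π i = i ∧ π j = j) ∧ (c i = 1 ∧ c j = 1) ∧ monoGL π c hdet ^ N = 1 ∧ Nat.Coprime N p := by
      rcases (show p = 2 ∨ p = 3 by omega) with h2 | h3
      · refine ⟨Equiv.swap k r * Equiv.swap k0 r, fun _ => 1, 3, ?_, fun _ => one_pow _, ?_, rfl, ⟨?_, ?_⟩, ⟨rfl, rfl⟩,
          ?_, ?_⟩
        · rw [Equiv.Perm.sign_mul, Equiv.Perm.sign_swap (Ne.symm hrk), Equiv.Perm.sign_swap (Ne.symm hrk0)]; simp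
        · rw [Equiv.Perm.mul_apply, Equiv.swap_apply_left, Equiv.swap_apply_right]
        · rw [Equiv.Perm.mul_apply, Equiv.swap_apply_of_ne_of_ne hk0i.symm (Ne.symm hri),
            Equiv.swap_apply_of_ne_of_ne hki.symm (Ne.symm hri)]
        · rw [Equiv.Perm.mul_apply, Equiv.swap_apply_of_ne_of_ne hk0j.symm (Ne.symm hrj),
            Equiv.swap_apply_of_ne_of_ne hkj.symm (Ne.symm hrj)]
        · refine gl_ext_single fun u => ?_
          rw [pow_succ, pow_two, Units.val_mul, Units.val_mul, ← mulVec_mulVec, ← mulVec_mulVec, monoGL_single,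
            one_smul, monoGL_single, one_smul, monoGL_single, one_smul, Units.val_one, one_mulVec]
          congr 1
          by_cases hu : u = k
          · subst hu; simp [Equiv.swap_apply_def, hkk, hkk.symm, hrk, Ne.symm hrk, hrk0, Ne.symm hrk0]
          by_cases hu0 : u = k0
          · subst hu0; simp [Equiv.swap_apply_def, hkk, hkk.symm, hrk, Ne.symm hrk, hrk0, Ne.symm hrk0]
          by_cases hur : u = r
          · subst hur; simp [Equiv.swap_apply_def, hkk, hkk.symm, hrk, Ne.symm hrk, hrk0, Ne.symm hrk0]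
          simp [Equiv.swap_apply_of_ne_of_ne, hu, hu0, hur]
        · rw [h2]; norm_num
      · have hn1 : (-1 : F) ^ (p + 1) = 1 := by rw [pow_succ, q_neg hF, one_pow]; ring
        refine ⟨Equiv.swap k0 k, Function.update (fun _ => (1 : F)) k (-1), 4, ?_, fun u => ?_,
          Equiv.swap_apply_left _ _, Function.update_of_ne hkk.symm _ _,
          ⟨Equiv.swap_apply_of_ne_of_ne hk0i.symm hki.symm, Equiv.swap_apply_of_ne_of_ne hk0j.symm hkj.symm⟩,
          ⟨Function.update_of_ne hki.symm _ _, Function.update_of_ne hkj.symm _ _⟩, ?_, ?_⟩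
        · rw [Equiv.Perm.sign_swap hkk.symm, Finset.prod_update_of_mem (Finset.mem_univ k)]; simp
        · rcases eq_or_ne u k with rfl | hu
          · rw [Function.update_self, hn1]
          · rw [Function.update_of_ne hu, one_pow]
        · refine gl_ext_single fun u => ?_
          simp only [pow_succ, pow_zero, one_mul, Units.val_mul, ← mulVec_mulVec, monoGL_single, mulVec_smul,
            Units.val_one, one_mulVec, smul_smul]
          by_cases hu : u = k
          · subst hu; simp [hkk, hkk.symm]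
          by_cases hu0 : u = k0
          · subst hu0; simp [hkk, hkk.symm]
          simp [Equiv.swap_apply_of_ne_of_ne, hu, hu0]
        · rw [h3]; norm_num
    have hmem : monoGL π c hdet ∈ suGL n F p := (monoGL_mem (S := Finset.univ) hF hdet hcn
      (fun u hu => absurd (Finset.mem_univ u) hu) (fun u hu => absurd (Finset.mem_univ u) hu)).1
    obtain ⟨γ, hγ⟩ := (hr.ge hmem : _ ∈ σ.range)
    have hfix : ∀ v : Vs, (∀ u, u ≠ i → u ≠ j → v u = 0) →
        (σ γ : Matrix (Fin n) (Fin n) F) *ᵥ v = (1 : F) • v := by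
      intro v hv
      conv_lhs => rw [eq_sum_single v, mulVec_sum]
      rw [one_smul]
      conv_rhs => rw [eq_sum_single v]
      refine Finset.sum_congr rfl fun u _ => ?_
      rw [mulVec_smul, hγ, monoGL_single]
      by_cases hui : u = i
      · rw [hui, hcij.1, hπij.1, one_smul]
      by_cases huj : u = j
      · rw [huj, hcij.2, hπij.2, one_smul]
      rw [hv u hui huj, zero_smul, zero_smul]
    have hconj : γ * d k0 * γ⁻¹ = d k := by
      rw [hd, cW_conj hF hr hc hp hn h32 one_ne_zero one_ne_zero (hfix e hp.se) (hfix f hp.sf)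
        (single_mem_Wsp hk0i hk0j ω) (single_mem_Wsp hk0i hk0j (1 : F))]
      congr 1 <;>
        rw [one_pow, one_smul, mulVec_smul, hγ, monoGL_single, hc0, hπ0, one_smul]
    set χ := (d k0)⁻¹ * d k with hχ
    have hχk : σ χ = 1 := by
      rw [hχ, map_mul, map_inv, (hdspec hk0i hk0j).congr (hdspec hki hkj), inv_mul_cancel]
    have hχc := Subgroup.mem_center_iff.mp (hc (MonoidHom.mem_ker.mpr hχk))
    have hiter : ∀ M : ℕ, γ ^ M * d k0 * (γ ^ M)⁻¹ = d k0 * χ ^ M := by
      intro M
      induction M with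
      | zero => simp
      | succ M ih =>
        have hχM : γ * χ ^ M = χ ^ M * γ := (Commute.pow_right (hχc γ) M).eq
        calc γ ^ (M + 1) * d k0 * (γ ^ (M + 1))⁻¹ = γ * (γ ^ M * d k0 * (γ ^ M)⁻¹) * γ⁻¹ := by
              rw [pow_succ']; group
          _ = γ * d k0 * (χ ^ M * γ⁻¹) := by rw [ih]; group
          _ = (γ * d k0 * γ⁻¹) * χ ^ M := by
              rw [show χ ^ M * γ⁻¹ = γ⁻¹ * χ ^ M from ((Commute.pow_right (hχc γ⁻¹) M).eq).symm]; group
          _ = d k0 * χ ^ (M + 1) := by rw [hconj, hχ, pow_succ', ← mul_assoc, mul_inv_cancel_left]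
    have h1 := hiter N
    have hγN : γ ^ N ∈ σ.ker := MonoidHom.mem_ker.mpr (by rw [map_pow, hγ, hN])
    rw [← Subgroup.mem_center_iff.mp (hc hγN) (d k0), mul_inv_cancel_right, left_eq_mul] at h1
    have h2 : orderOf χ ∣ N := orderOf_dvd_of_pow_eq_one h1
    have h3 : orderOf χ ∣ p := orderOf_dvd_of_pow_eq_one (hexp χ (MonoidHom.mem_ker.mpr hχk))
    have h4 : χ = 1 := orderOf_eq_one_iff.mp (Nat.eq_one_of_dvd_coprimes hcop h2 h3)
    rw [hχ, inv_mul_eq_one] at h4
    exact h4.symm
  have hle : ⁅(radGroup hF hp).comap σ, (radGroup hF hp).comap σ⁆ ≤ Subgroup.zpowers (d k0) := by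
    refine commutator_le_of_coord hF hr hc hp hn h32 fun k m hki hkj hmi hmj x y => ?_
    rcases eq_or_ne k m with rfl | hkm
    · rw [← hall hki hkj]; exact hline hki hkj x y
    · rw [horth hki hkj hmi hmj hkm]; exact one_mem _
  rw [eq_bot_iff]
  rintro z ⟨hz, hzk⟩
  obtain ⟨M, rfl⟩ := Subgroup.mem_zpowers_iff.mp (hle hz)
  have hne : σ (d k0) ≠ 1 := fun e0 => by
    have := ((hdspec hk0i hk0j).inj hF hp (El_of_ker hF hp e0)).2
    exact hω (sub_eq_zero.mp this).symm
  have hord : orderOf (σ (d k0)) = p :=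
    orderOf_eq_prime (by rw [← map_pow, hdp hk0i hk0j, map_one]) hne
  have hM : (p : ℤ) ∣ M := by
    rw [← hord, orderOf_dvd_iff_zpow_eq_one, ← map_zpow]
    exact hzk
  obtain ⟨M', rfl⟩ := hM
  rw [Subgroup.mem_bot, _root_.zpow_mul, zpow_natCast, hdp hk0i hk0j, _root_.one_zpow]

end

end Cfsg.Agent.Lib.Schur.UnitMult
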