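import Cfsg.Agent.Lib.Schur.UnitRad
import Cfsg.Agent.Lib.Schur.Hopf

/-!
Central extensions with kernel of exponent `p`: the centre of the lifted radical, and the commutator of two lifts as
a biadditive function of the vectors.
-/

set_option autoImplicit false
set_option linter.unusedSectionVars false

namespace Cfsg.Agent.Lib.Schur.UnitMult

open Matrix Cfsg.Agent.Lib.Schur Cfsg.Agent.Lib.Forms Cfsg.Agent.Lib.FormMax Cfsg.Agent.Lib.UnitaryMax
open scoped commutatorElement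

universe w

variable {F : Type*} [Field F] [Fintype F] {n q : ℕ}

local notation "Vs" => (Fin n → F)
local notation "h" => Cfsg.hermForm n F q

/-- Membership in the orthogonal of the plane, coordinatewise. -/
theorem Wsp_induction {i j : Fin n} {P : (Fin n → F) → Prop} (h0 : P 0)
    (hadd : ∀ a b, a ∈ Wsp F i j → b ∈ Wsp F i j → P a → P b → P (a + b))
    (hsing : ∀ k, k ≠ i → k ≠ j → ∀ a : F, P (a • Pi.single k 1)) {w : Fin n → F} (hw : w ∈ Wsp F i j) : P w := by
  classical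
  have key : ∀ J : Finset (Fin n), (∑ k ∈ J, w k • (Pi.single k 1 : Fin n → F)) ∈ Wsp F i j ∧
      P (∑ k ∈ J, w k • (Pi.single k 1 : Fin n → F)) := by
    intro J
    induction J using Finset.induction with
    | empty => simpa using h0
    | @insert a J ha ih =>
      rw [Finset.sum_insert ha]
      by_cases hai : a = i
      · rw [hai, hw.1, zero_smul, zero_add]; exact ih
      by_cases haj : a = j
      · rw [haj, hw.2, zero_smul, zero_add]; exact ih
      exact ⟨Submodule.add_mem _ (single_mem_Wsp hai haj _) ih.1,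
        hadd _ _ (single_mem_Wsp hai haj _) ih.1 (hsing a hai haj _) ih.2⟩
  rw [eq_sum_single w]
  exact (key Finset.univ).2

theorem exists_third {m : ℕ} (hm : 3 ≤ m) (i j : Fin m) : ∃ k, k ≠ i ∧ k ≠ j := by
  classical
  by_contra hne
  push Not at hne
  have h1 : (Finset.univ : Finset (Fin m)) ⊆ {i, j} := fun k _ => by
    simp only [Finset.mem_insert, Finset.mem_singleton]
    exact Classical.or_iff_not_imp_left.mpr (hne k)
  have h2 := (Finset.card_le_card h1).trans Finset.card_le_two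
  simp at h2
  omega

theorem exists_fourth {m : ℕ} (hm : 4 ≤ m) (i j k : Fin m) : ∃ l, l ≠ i ∧ l ≠ j ∧ l ≠ k := by
  classical
  by_contra hne
  push Not at hne
  have h1 : (Finset.univ : Finset (Fin m)) ⊆ {i, j, k} := fun l _ => by
    simp only [Finset.mem_insert, Finset.mem_singleton]
    by_cases a : l = i
    · exact Or.inl a
    by_cases b : l = j
    · exact Or.inr (Or.inl b)
    exact Or.inr (Or.inr (hne l a b))
  have h2 := (Finset.card_le_card h1).trans Finset.card_le_three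
  simp at h2
  omega

/-- A norm one element with non-trivial cube, `q ≠ 2`. -/
theorem exists_norm_one_cube (hF : Fintype.card F = q ^ 2) (hq : 3 ≤ q) :
    ∃ l : F, l ^ (q + 1) = 1 ∧ l ^ 3 ≠ 1 := by
  obtain ⟨t, ht⟩ := IsCyclic.exists_generator (α := normOne F q)
  have hto : orderOf (t : Fˣ) = q + 1 := by
    rw [Subgroup.orderOf_coe, orderOf_eq_card_of_forall_mem_zpowers ht, natCard_normOne hF]
  refine ⟨((t : Fˣ) : F), mem_normOne.mp t.2, fun e => ?_⟩
  have h1 : orderOf (t : Fˣ) ∣ 3 := orderOf_dvd_of_pow_eq_one (Units.ext (by simpa using e))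
  rw [hto] at h1
  have := Nat.le_of_dvd (by norm_num) h1
  omega

section

variable {Γ : Type w} [Group Γ] {σ : Γ →* GL (Fin n) F}
  (hF : Fintype.card F = q ^ 2) (hr : σ.range = suGL n F q) (hc : σ.ker ≤ Subgroup.center Γ)
  {i j : Fin n} {e f : Fin n → F} (hp : HP q i j e f)
include hF hr hp

theorem exists_El {w : Vs} (hw : w ∈ Wsp F i j) {t : F} (ht : t ^ q + t + h w w = 0) :
    ∃ x : Γ, IsE q i j e (σ x) w t := by
  obtain ⟨g, hg⟩ := exists_isE hF hp hw ht
  obtain ⟨x, rfl⟩ := (hr.ge (hg.mem_suGL hF hp) : g ∈ σ.range)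
  exact ⟨x, hg⟩

theorem exists_El_w {w : Vs} (hw : w ∈ Wsp F i j) : ∃ (x : Γ) (t : F), IsE q i j e (σ x) w t := by
  obtain ⟨τ, hτ⟩ := exists_trace_one hF
  obtain ⟨x, hx⟩ := exists_El hF hr hp hw (t := -(h w w) * τ) (by
    rw [mul_pow, q_neg hF, herm_conj hF]; linear_combination -(h w w) * hτ)
  exact ⟨x, _, hx⟩

theorem exists_lift_tor {l : F} (hl : l ≠ 0) (D : Fin n → F) (hDi : D i = 1) (hDj : D j = 1)
    (hD : ∀ k, D k ^ (q + 1) = 1) (hdet : l * (l ^ q)⁻¹ * ∏ k, D k = 1) :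
    ∃ γ : Γ, (σ γ : Matrix (Fin n) (Fin n) F) *ᵥ e = l • e ∧
      (σ γ : Matrix (Fin n) (Fin n) F) *ᵥ f = (l ^ q)⁻¹ • f ∧
      ∀ w ∈ Wsp F i j, ∀ k, ((σ γ : Matrix (Fin n) (Fin n) F) *ᵥ w) k = D k * w k := by
  obtain ⟨g, hg, h1, h2, h3⟩ := exists_tor hF hp hl D hDi hDj hD hdet
  obtain ⟨γ, rfl⟩ := (hr.ge hg : g ∈ σ.range)
  exact ⟨γ, h1, h2, h3⟩

/-- A centre element is the image of a commutator of lifts. -/
theorem exists_comm_El (hn : 3 ≤ n) {t : F} (ht : t + t ^ q = 0) :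
    ∃ x y : Γ, ∃ a b : Vs, ∃ s s' : F, IsE q i j e (σ x) a s ∧ IsE q i j e (σ y) b s' ∧
      IsE q i j e (σ ⁅x, y⁆) 0 t := by
  obtain ⟨k, hki, hkj⟩ := exists_third hn i j
  obtain ⟨τ, hτ⟩ := exists_trace_one hF
  obtain ⟨x, s, hx⟩ := exists_El_w hF hr hp (single_mem_Wsp hki hkj (τ * t))
  obtain ⟨y, s', hy⟩ := exists_El_w hF hr hp (single_mem_Wsp hki hkj (1 : F))
  refine ⟨x, y, _, _, s, s', hx, hy, ?_⟩
  have h1 := hx.commutator hF hp hy
  rw [← map_commutatorElement] at h1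
  simp only [herm_smul_left hF, herm_smul_right hF, herm_single_right hF, Pi.single_eq_same, one_pow, one_mul,
    mul_one, mul_pow] at h1
  convert h1 using 1
  linear_combination (-t) * hτ + τ ^ q * ht

omit hr

theorem IsE.of_conj {x γ : Γ} {w : Vs} {t : F} (hx : IsE q i j e (σ x) w t) (hγ : σ γ ∈ suGL n F q) {l μ : F}
    (hl : l ≠ 0) (hμ : μ ≠ 0) (he : (σ γ : Matrix (Fin n) (Fin n) F) *ᵥ e = l • e)
    (hf : (σ γ : Matrix (Fin n) (Fin n) F) *ᵥ f = μ • f) :
    IsE q i j e (σ (γ * x * γ⁻¹)) (l ^ q • ((σ γ : Matrix (Fin n) (Fin n) F) *ᵥ w)) (l ^ (q + 1) * t) := by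
  rw [map_mul, map_mul, map_inv]
  exact hx.conj hF hp hγ hl hμ he hf

theorem El_of_ker {z : Γ} (hz : σ z = 1) : IsE q i j e (σ z) 0 0 := hz ▸ isE_one hF hp

theorem ker_of_El {z : Γ} (hz : IsE q i j e (σ z) 0 0) : σ z = 1 := hz.congr (isE_one hF hp)

theorem El_mul {x y : Γ} {a b : Vs} {s t : F} (hx : IsE q i j e (σ x) a s) (hy : IsE q i j e (σ y) b t) :
    IsE q i j e (σ (x * y)) (a + b) (s + t - h b a) := by
  rw [map_mul]; exact hx.mul hF hp hy

theorem El_inv {x : Γ} {a : Vs} {s : F} (hx : IsE q i j e (σ x) a s) :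
    IsE q i j e (σ x⁻¹) (-a) (-s - h a a) := by
  rw [map_inv]; exact hx.inv hF hp

theorem El_comm {x y : Γ} {a b : Vs} {s t : F} (hx : IsE q i j e (σ x) a s) (hy : IsE q i j e (σ y) b t) :
    IsE q i j e (σ ⁅x, y⁆) 0 (h a b - h b a) := by
  rw [map_commutatorElement]; exact hx.commutator hF hp hy

theorem El_centre_comm_ker {z x : Γ} {a : Vs} {s t : F} (hz : IsE q i j e (σ z) 0 t)
    (hx : IsE q i j e (σ x) a s) : σ ⁅z, x⁆ = 1 := by
  refine ker_of_El hF hp ?_
  have := El_comm hF hp hz hx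
  rwa [h_zero_left hF, h_zero_right hF, sub_zero] at this

include hr hc in
/-- The lifted centre is commutative. -/
theorem zt_commute (hn : 3 ≤ n) {z z' : Γ} {t t' : F} (hz : IsE q i j e (σ z) 0 t)
    (hz' : IsE q i j e (σ z') 0 t') : Commute z z' := by
  have hcond := hz'.cond
  rw [h_zero_left hF, add_zero, add_comm] at hcond
  obtain ⟨x, y, a, b, s, s', hx, hy, hxy⟩ := exists_comm_El hF hr hp hn hcond
  have hk : σ (⁅x, y⁆⁻¹ * z') = 1 := by rw [map_mul, map_inv, hxy.congr hz', inv_mul_cancel]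
  have hkc := Subgroup.mem_center_iff.mp (hc (MonoidHom.mem_ker.mpr hk))
  have h1 : Commute z ⁅x, y⁆ := by
    have hx0 := El_centre_comm_ker hF hp hz hx
    have hy0 := El_centre_comm_ker hF hp hz hy
    have e1 : z * x * z⁻¹ = x * ⁅z, x⁆ := by
      rw [(Subgroup.mem_center_iff.mp (hc (MonoidHom.mem_ker.mpr hx0)) x), commutatorElement_def]; group
    have e2 : z * y * z⁻¹ = y * ⁅z, y⁆ := by
      rw [(Subgroup.mem_center_iff.mp (hc (MonoidHom.mem_ker.mpr hy0)) y), commutatorElement_def]; group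
    have : z * ⁅x, y⁆ * z⁻¹ = ⁅x, y⁆ := by
      rw [show z * ⁅x, y⁆ * z⁻¹ = ⁅z * x * z⁻¹, z * y * z⁻¹⁆ by simp only [commutatorElement_def]; group, e1, e2,
        commutatorElement_mul_central x y (hc (MonoidHom.mem_ker.mpr hx0)) (hc (MonoidHom.mem_ker.mpr hy0))]
    exact mul_inv_eq_iff_eq_mul.mp this
  have h2 : Commute z (⁅x, y⁆⁻¹ * z') := hkc z
  have := h1.mul_right h2
  rwa [mul_inv_cancel_left] at this

include hr hc in
/-- The lifted centre is central in the lifted radical. -/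
theorem zt_central (hn : 3 ≤ n) (h32 : ¬ (n = 3 ∧ q = 2)) {z x : Γ} {t s : F} {w : Vs}
    (hz : IsE q i j e (σ z) 0 t) (hx : IsE q i j e (σ x) w s) : Commute z x := by
  classical
  have hq := Forms.two_le_of_card_sq hF
  -- only depends on `w`
  let A : (Fin n → F) → Prop := fun a => ∀ (x : Γ) (s : F), IsE q i j e (σ x) a s → Commute z x
  have hA : ∀ {a : Vs} {x : Γ} {s : F}, IsE q i j e (σ x) a s → Commute z x → A a := by
    intro a x s hx hzx y s' hy
    have h1 := El_mul hF hp (El_inv hF hp hx) hy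
    rw [neg_add_cancel] at h1
    simpa using hzx.mul_right (zt_commute hF hr hc hp hn hz h1)
  suffices A w from this x s hx
  refine Wsp_induction (i := i) (j := j) ?_ ?_ ?_ hx.mem
  · exact hA (El_of_ker hF hp (map_one σ)) (Commute.one_right z)
  · intro a b ha hb hAa hAb
    obtain ⟨x, s, hx⟩ := exists_El_w hF hr hp ha
    obtain ⟨y, s', hy⟩ := exists_El_w hF hr hp hb
    exact hA (El_mul hF hp hx hy) ((hAa x s hx).mul_right (hAb y s' hy))
  -- a moving element
  have move : ∀ (γ : Γ) (l μ : F), l ^ (q + 1) = 1 → μ ≠ 0 → (σ γ : Matrix (Fin n) (Fin n) F) *ᵥ e = l • e →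
      (σ γ : Matrix (Fin n) (Fin n) F) *ᵥ f = μ • f → ∀ a ∈ Wsp F i j,
        A (l ^ q • ((σ γ : Matrix (Fin n) (Fin n) F) *ᵥ a) - a) := by
    intro γ l μ hl hμ he hf a ha
    have hl0 : l ≠ 0 := fun e0 => by rw [e0, zero_pow (by omega)] at hl; exact zero_ne_one hl
    have hγ : σ γ ∈ suGL n F q := hr.le ⟨γ, rfl⟩
    obtain ⟨x, s, hx⟩ := exists_El_w hF hr hp ha
    have hx' := hx.of_conj hF hp hγ hl0 hμ he hf
    have hz' := hz.of_conj hF hp hγ hl0 hμ he hf
    rw [mulVec_zero, smul_zero, hl, one_mul] at hz'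
    set k := z⁻¹ * (γ * z * γ⁻¹) with hk
    have hkk : σ k = 1 := by rw [hk, map_mul, map_inv, hz'.congr hz, inv_mul_cancel]
    have hkc := Subgroup.mem_center_iff.mp (hc (MonoidHom.mem_ker.mpr hkk))
    set u := ⁅z, x⁆ with hu
    have hu1 : σ u = 1 := El_centre_comm_ker hF hp hz hx
    have huc := Subgroup.mem_center_iff.mp (hc (MonoidHom.mem_ker.mpr hu1))
    set y := γ * x * γ⁻¹ with hy
    have hzy : ⁅z, y⁆ = u := by
      have h1 : γ * u * γ⁻¹ = u := by rw [huc γ, mul_inv_cancel_right]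
      rw [hu, show γ * ⁅z, x⁆ * γ⁻¹ = ⁅z * k, y⁆ by simp only [hk, hy, commutatorElement_def]; group, ← hu] at h1
      rwa [show ⁅z * k, y⁆ = ⁅z, y⁆ by
        simpa using commutatorElement_mul_central z y (hc (MonoidHom.mem_ker.mpr hkk)) (one_mem _)] at h1
    have hd := El_mul hF hp hx' (El_inv hF hp hx)
    rw [← sub_eq_add_neg] at hd
    refine hA hd ?_
    show z * (y * x⁻¹) = y * x⁻¹ * z
    have e1 : z * y = u * (y * z) := by rw [← hzy, commutatorElement_def]; group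
    have e2 : z * x = u * (x * z) := by rw [hu, commutatorElement_def]; group
    have e3 : x⁻¹ * z = u * (z * x⁻¹) := by
      calc x⁻¹ * z = x⁻¹ * (z * x) * x⁻¹ := by group
        _ = (x⁻¹ * u) * x * z * x⁻¹ := by rw [e2]; group
        _ = (u * x⁻¹) * x * z * x⁻¹ := by rw [huc x⁻¹]
        _ = u * (z * x⁻¹) := by group
    calc z * (y * x⁻¹) = (z * y) * x⁻¹ := by group
      _ = u * y * (z * x⁻¹) := by rw [e1]; group
      _ = y * (u * (z * x⁻¹)) := by rw [← huc y]; group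
      _ = y * x⁻¹ * z := by rw [← e3, ← mul_assoc]
  intro k hki hkj a
  rcases (show n = 3 ∨ 4 ≤ n by omega) with hn3 | hn4
  · obtain ⟨l, hl, hl3⟩ := exists_norm_one_cube hF (show 3 ≤ q by omega)
    have hl0 : l ≠ 0 := fun e0 => by rw [e0, zero_pow (by omega)] at hl; exact zero_ne_one hl
    have hlq : l ^ q = l⁻¹ := eq_inv_of_mul_eq_one_left (by rw [← pow_succ, hl])
    have hl2 : (l⁻¹ ^ 2) ^ (q + 1) = 1 := by
      rw [← pow_mul, mul_comm, pow_mul, inv_pow, hl, inv_one, one_pow]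
    obtain ⟨γ, h1, h2, h3⟩ := exists_lift_tor hF hr hp hl0 (Function.update (fun _ => 1) k (l⁻¹ ^ 2))
      (Function.update_of_ne hki.symm _ _) (Function.update_of_ne hkj.symm _ _)
      (fun m => by
        rcases eq_or_ne m k with rfl | hm
        · rw [Function.update_self, hl2]
        · rw [Function.update_of_ne hm, one_pow])
      (by
        rw [Finset.prod_update_of_mem (Finset.mem_univ k), hlq, inv_inv]
        simp only [Finset.prod_const_one, mul_one]
        field_simp)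
    have hne : l⁻¹ ^ 3 - 1 ≠ 0 := sub_ne_zero.mpr (by simpa [inv_pow] using hl3)
    have := move γ l _ hl (inv_ne_zero (pow_ne_zero _ hl0)) h1 h2 _
      (single_mem_Wsp hki hkj ((l⁻¹ ^ 3 - 1)⁻¹ * a))
    convert this using 1
    funext m
    rw [Pi.sub_apply, Pi.smul_apply, Pi.smul_apply, smul_eq_mul, smul_eq_mul,
      h3 _ (single_mem_Wsp hki hkj _), hlq, Pi.smul_apply, smul_eq_mul]
    rcases eq_or_ne m k with rfl | hm
    · rw [Function.update_self, Pi.single_eq_same]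
      field_simp
    · simp [hm]
  · obtain ⟨k', hk'i, hk'j, hk'k⟩ := exists_fourth hn4 i j k
    obtain ⟨μ, hμ, hμ1, hμ0⟩ := exists_norm_one hF
    have hμ' : μ ^ (q + 1) = 1 := by rw [pow_succ']; exact hμ
    let D := Function.update (Function.update (fun _ : Fin n => (1 : F)) k' μ⁻¹) k μ
    obtain ⟨γ, h1, h2, h3⟩ := exists_lift_tor hF hr hp (l := 1) one_ne_zero D
      (by simp [D, Function.update_of_ne hki.symm, Function.update_of_ne hk'i.symm])
      (by simp [D, Function.update_of_ne hkj.symm, Function.update_of_ne hk'j.symm])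
      (fun m => by
        simp only [D]
        rcases eq_or_ne m k with rfl | hm
        · rw [Function.update_self, hμ']
        rw [Function.update_of_ne hm]
        rcases eq_or_ne m k' with rfl | hm'
        · rw [Function.update_self, inv_pow, hμ', inv_one]
        · rw [Function.update_of_ne hm', one_pow])
      (by
        simp only [D, one_pow, inv_one, mul_one, one_mul]
        rw [Finset.prod_update_of_mem (Finset.mem_univ k), Finset.prod_update_of_mem (by simp [hk'k])]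
        simp [mul_inv_cancel₀ hμ0])
    have hne : μ - 1 ≠ 0 := sub_ne_zero.mpr hμ1
    have := move γ 1 _ (one_pow _) (inv_ne_zero (pow_ne_zero _ one_ne_zero)) h1 h2 _
      (single_mem_Wsp hki hkj ((μ - 1)⁻¹ * a))
    convert this using 1
    funext m
    rw [Pi.sub_apply, Pi.smul_apply, Pi.smul_apply, smul_eq_mul, smul_eq_mul,
      h3 _ (single_mem_Wsp hki hkj _), one_pow, one_mul, Pi.smul_apply, smul_eq_mul]
    rcases eq_or_ne m k with rfl | hm
    · simp only [D, Function.update_self, Pi.single_eq_same]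
      field_simp
    · simp [hm]

end

section

variable {Γ : Type w} [Group Γ] {σ : Γ →* GL (Fin n) F}

/-- A chosen lift over a vector. -/
noncomputable def El (σ : Γ →* GL (Fin n) F) (q : ℕ) (i j : Fin n) (e w : Fin n → F) : Γ :=
  haveI := Classical.propDecidable (∃ (x : Γ) (t : F), IsE q i j e (σ x) w t)
  if hx : ∃ (x : Γ) (t : F), IsE q i j e (σ x) w t then hx.choose else 1

/-- The commutator of the lifts of two vectors. -/
noncomputable def cW (σ : Γ →* GL (Fin n) F) (q : ℕ) (i j : Fin n) (e a b : Fin n → F) : Γ := ⁅El σ q i j e a, El σ q i j e b⁆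

variable (hF : Fintype.card F = q ^ 2) (hr : σ.range = suGL n F q) (hc : σ.ker ≤ Subgroup.center Γ)
  {i j : Fin n} {e f : Fin n → F} (hp : HP q i j e f) (hn : 3 ≤ n) (h32 : ¬ (n = 3 ∧ q = 2))
include hF hr hc hp hn h32

theorem El_spec {w : Vs} (hw : w ∈ Wsp F i j) : ∃ t : F, IsE q i j e (σ (El σ q i j e w)) w t := by
  have hx := exists_El_w hF hr hp hw
  rw [El, dif_pos hx]
  exact hx.choose_spec

/-- The commutator only depends on the vectors. -/
theorem cW_eq {x y : Γ} {a b : Vs} {s t : F} (hx : IsE q i j e (σ x) a s) (hy : IsE q i j e (σ y) b t) :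
    ⁅x, y⁆ = cW σ q i j e a b := by
  obtain ⟨s', hx'⟩ := El_spec hF hr hc hp hn h32 hx.mem
  obtain ⟨t', hy'⟩ := El_spec hF hr hc hp hn h32 hy.mem
  set u := El σ q i j e a
  set v := El σ q i j e b
  have hz := El_mul hF hp (El_inv hF hp hx') hx
  have hz' := El_mul hF hp (El_inv hF hp hy') hy
  rw [neg_add_cancel] at hz hz'
  have c1 := zt_central hF hr hc hp hn h32 hz hy
  have c2 := zt_central hF hr hc hp hn h32 hz' hx'
  show ⁅x, y⁆ = ⁅u, v⁆
  calc ⁅x, y⁆ = u * ((u⁻¹ * x) * y * (u⁻¹ * x)⁻¹) * u⁻¹ * y⁻¹ := by rw [commutatorElement_def]; group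
    _ = u * y * u⁻¹ * y⁻¹ := by rw [c1.eq, mul_inv_cancel_right]
    _ = u * v * ((v⁻¹ * y) * u⁻¹) * y⁻¹ := by group
    _ = u * v * (u⁻¹ * (v⁻¹ * y)) * y⁻¹ := by rw [(c2.inv_right).eq]
    _ = ⁅u, v⁆ := by rw [commutatorElement_def]; group

theorem cW_spec {a b : Vs} (ha : a ∈ Wsp F i j) (hb : b ∈ Wsp F i j) :
    IsE q i j e (σ (cW σ q i j e a b)) 0 (h a b - h b a) := by
  obtain ⟨s, hx⟩ := El_spec hF hr hc hp hn h32 ha
  obtain ⟨t, hy⟩ := El_spec hF hr hc hp hn h32 hb
  exact El_comm hF hp hx hy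

theorem cW_swap {a b : Vs} : cW σ q i j e b a = (cW σ q i j e a b)⁻¹ := (commutatorElement_inv _ _).symm

theorem cW_self {a : Vs} : cW σ q i j e a a = 1 := commutatorElement_self _

theorem cW_commute {a b a' b' : Vs} (ha : a ∈ Wsp F i j) (hb : b ∈ Wsp F i j) (ha' : a' ∈ Wsp F i j)
    (hb' : b' ∈ Wsp F i j) : Commute (cW σ q i j e a b) (cW σ q i j e a' b') :=
  zt_commute hF hr hc hp hn (cW_spec hF hr hc hp hn h32 ha hb) (cW_spec hF hr hc hp hn h32 ha' hb')

theorem cW_add_left {a a' b : Vs} (ha : a ∈ Wsp F i j) (ha' : a' ∈ Wsp F i j) (hb : b ∈ Wsp F i j) :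
    cW σ q i j e (a + a') b = cW σ q i j e a b * cW σ q i j e a' b := by
  obtain ⟨s, hx⟩ := El_spec hF hr hc hp hn h32 ha
  obtain ⟨s', hx'⟩ := El_spec hF hr hc hp hn h32 ha'
  obtain ⟨t, hy⟩ := El_spec hF hr hc hp hn h32 hb
  rw [← cW_eq hF hr hc hp hn h32 (El_mul hF hp hx hx') hy]
  set x := El σ q i j e a
  set x' := El σ q i j e a'
  set y := El σ q i j e b
  have h1 := zt_central hF hr hc hp hn h32 (El_comm hF hp hx' hy) hx
  have h2 := zt_commute hF hr hc hp hn (El_comm hF hp hx' hy) (El_comm hF hp hx hy)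
  show ⁅x * x', y⁆ = ⁅x, y⁆ * ⁅x', y⁆
  rw [← h2.eq]
  calc ⁅x * x', y⁆ = x * ⁅x', y⁆ * x⁻¹ * ⁅x, y⁆ := by simp only [commutatorElement_def]; group
    _ = ⁅x', y⁆ * ⁅x, y⁆ := by rw [← h1.eq, mul_inv_cancel_right]

theorem cW_add_right {a b b' : Vs} (ha : a ∈ Wsp F i j) (hb : b ∈ Wsp F i j) (hb' : b' ∈ Wsp F i j) :
    cW σ q i j e a (b + b') = cW σ q i j e a b * cW σ q i j e a b' := by
  rw [cW_swap hF hr hc hp hn h32, cW_add_left hF hr hc hp hn h32 hb hb' ha,
    _root_.mul_inv_rev, ← cW_swap hF hr hc hp hn h32, ← cW_swap hF hr hc hp hn h32,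
    (cW_commute hF hr hc hp hn h32 ha hb' ha hb).eq]

theorem cW_zero_left {b : Vs} (hb : b ∈ Wsp F i j) : cW σ q i j e 0 b = 1 := by
  have := cW_add_left hF hr hc hp hn h32 (Submodule.zero_mem _) (Submodule.zero_mem _) hb
  rwa [add_zero, left_eq_mul] at this

theorem cW_zero_right {a : Vs} (ha : a ∈ Wsp F i j) : cW σ q i j e a 0 = 1 := by
  rw [cW_swap hF hr hc hp hn h32, cW_zero_left hF hr hc hp hn h32 ha, inv_one]

theorem cW_conj {γ : Γ} {l μ : F} (hl : l ≠ 0) (hμ : μ ≠ 0)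
    (he : (σ γ : Matrix (Fin n) (Fin n) F) *ᵥ e = l • e) (hf : (σ γ : Matrix (Fin n) (Fin n) F) *ᵥ f = μ • f)
    {a b : Vs} (ha : a ∈ Wsp F i j) (hb : b ∈ Wsp F i j) :
    γ * cW σ q i j e a b * γ⁻¹ = cW σ q i j e (l ^ q • ((σ γ : Matrix (Fin n) (Fin n) F) *ᵥ a))
      (l ^ q • ((σ γ : Matrix (Fin n) (Fin n) F) *ᵥ b)) := by
  obtain ⟨s, hx⟩ := El_spec hF hr hc hp hn h32 ha
  obtain ⟨t, hy⟩ := El_spec hF hr hc hp hn h32 hb
  rw [← cW_eq hF hr hc hp hn h32 (hx.of_conj hF hp (hr.le ⟨γ, rfl⟩) hl hμ he hf)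
    (hy.of_conj hF hp (hr.le ⟨γ, rfl⟩) hl hμ he hf)]
  simp only [cW, commutatorElement_def]
  group

/-- The derived subgroup of the lifted radical lies in a subgroup as soon as the commutators of coordinate lifts do. -/
theorem commutator_le_of_coord {M : Subgroup Γ}
    (hM : ∀ k l, k ≠ i → k ≠ j → l ≠ i → l ≠ j → ∀ a b : F,
      cW σ q i j e (a • Pi.single k 1) (b • Pi.single l 1) ∈ M) :
    ⁅(radGroup hF hp).comap σ, (radGroup hF hp).comap σ⁆ ≤ M := by
  rw [Subgroup.commutator_le]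
  rintro x ⟨a, s, hx⟩ y ⟨b, t, hy⟩
  rw [cW_eq hF hr hc hp hn h32 hx hy]
  refine Wsp_induction (i := i) (j := j) (P := fun a => cW σ q i j e a b ∈ M) ?_ ?_ ?_ hx.mem
  · rw [cW_zero_left hF hr hc hp hn h32 hy.mem]; exact one_mem M
  · intro a a' ha ha' h1 h2
    rw [cW_add_left hF hr hc hp hn h32 ha ha' hy.mem]
    exact mul_mem h1 h2
  intro k hki hkj c
  refine Wsp_induction (i := i) (j := j) (P := fun b => cW σ q i j e (c • Pi.single k 1) b ∈ M) ?_ ?_ ?_ hy.mem
  · rw [cW_zero_right hF hr hc hp hn h32 (single_mem_Wsp hki hkj c)]; exact one_mem M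
  · intro b b' hb hb' h1 h2
    rw [cW_add_right hF hr hc hp hn h32 (single_mem_Wsp hki hkj c) hb hb']
    exact mul_mem h1 h2
  exact fun l hli hlj d => hM k l hki hkj hli hlj c d

end

end Cfsg.Agent.Lib.Schur.UnitMult
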