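import Cfsg.Agent.Lib.UnitaryMax.Basic
import Cfsg.Agent.Lib.Classical.UnitaryOrder

/-!
Coordinate subgroups of `SU_n(q)` for the standard hermitian form, monomial and diagonal elements.
-/

set_option autoImplicit false
set_option linter.unusedSectionVars false

namespace Cfsg.Agent.Lib.Schur.UnitMult

open Matrix Cfsg.Agent.Lib.Forms Cfsg.Agent.Lib.FormMax Cfsg.Agent.Lib.UnitaryMax

variable {F : Type*} [Field F] [Fintype F] {n m q : ℕ}

local notation "Vs" => (Fin n → F)
local notation "h" => Cfsg.hermForm n F q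
local notation "ev" => (fun i : Fin n => (Pi.single i (1 : F) : Fin n → F))

section basic

variable (hF : Fintype.card F = q ^ 2)
include hF

theorem herm_single_right (u : Vs) (i : Fin n) : h u (Pi.single i 1) = u i := by
  simp [Cfsg.hermForm, Pi.single_apply, ite_pow, zero_pow (q_ne_zero hF)]

theorem herm_single_left (v : Vs) (i : Fin n) : h (Pi.single i 1) v = v i ^ q := by
  rw [← herm_conj hF v, herm_single_right hF]

end basic

/-- Elements fixing the coordinate vectors outside `S`. -/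
def fixOff (F : Type*) [Field F] [Fintype F] (S : Finset (Fin n)) : Subgroup (GL (Fin n) F) where
  carrier := {g | ∀ i ∉ S, (g : Matrix (Fin n) (Fin n) F) *ᵥ Pi.single i 1 = Pi.single i 1}
  one_mem' := fun i _ => by rw [Units.val_one, one_mulVec]
  mul_mem' := fun {a b} ha hb i hi => by rw [Units.val_mul, ← mulVec_mulVec, hb i hi, ha i hi]
  inv_mem' := fun {a} ha i hi => by
    conv_lhs => rw [← ha i hi]
    rw [inv_mulVec_mulVec]

/-- The coordinate subgroup of `SU_n(q)` on the coordinates in `S`. -/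
def SUS (F : Type*) [Field F] [Fintype F] (q : ℕ) (S : Finset (Fin n)) : Subgroup (GL (Fin n) F) :=
  suGL n F q ⊓ fixOff F S

theorem mem_SUS {S : Finset (Fin n)} {g : GL (Fin n) F} : g ∈ SUS F q S ↔
    g ∈ suGL n F q ∧ ∀ i ∉ S, (g : Matrix (Fin n) (Fin n) F) *ᵥ Pi.single i 1 = Pi.single i 1 := Iff.rfl

theorem SUS_mono {S T : Finset (Fin n)} (hST : S ⊆ T) : SUS F q S ≤ SUS F q T :=
  fun _ hg => ⟨hg.1, fun i hi => hg.2 i fun h' => hi (hST h')⟩

theorem SUS_univ : SUS F q (Finset.univ : Finset (Fin n)) = suGL n F q :=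
  le_antisymm inf_le_left fun _ hg => ⟨hg, fun i hi => absurd (Finset.mem_univ i) hi⟩

theorem eq_sum_single (v : Vs) : v = ∑ k, v k • (Pi.single k 1 : Vs) := by
  funext i; simp [Finset.sum_apply, Pi.single_apply]

/-- Two elements agreeing on the coordinate vectors are equal. -/
theorem gl_ext_single {g g' : GL (Fin n) F}
    (e : ∀ k, (g : Matrix (Fin n) (Fin n) F) *ᵥ Pi.single k 1 =
      (g' : Matrix (Fin n) (Fin n) F) *ᵥ Pi.single k 1) : g = g' :=
  Units.ext (Matrix.ext_of_mulVec_single e)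

theorem apply_of_off {S : Finset (Fin n)} {g : GL (Fin n) F} (hg : g ∈ SUS F q S) {v : Vs}
    (hv : ∀ i ∈ S, v i = 0) : (g : Matrix (Fin n) (Fin n) F) *ᵥ v = v := by
  rw [eq_sum_single v, mulVec_sum]
  refine Finset.sum_congr rfl fun k _ => ?_
  rw [mulVec_smul]
  by_cases hk : k ∈ S
  · rw [hv k hk, zero_smul, zero_smul]
  · rw [hg.2 k hk]

section coord

variable (hF : Fintype.card F = q ^ 2) {S : Finset (Fin n)}
include hF

theorem apply_off {g : GL (Fin n) F} (hg : g ∈ SUS F q S) (v : Vs) {i : Fin n} (hi : i ∉ S) :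
    ((g : Matrix (Fin n) (Fin n) F) *ᵥ v) i = v i := by
  rw [← herm_single_right hF ((g : Matrix (Fin n) (Fin n) F) *ᵥ v) i]
  conv_lhs => rw [← hg.2 i hi]
  rw [apply_K hg.1, herm_single_right hF]

theorem SUS_inter {T : Finset (Fin n)} : SUS F q S ⊓ SUS F q T = SUS F q (S ∩ T) := by
  refine le_antisymm ?_ (le_inf (SUS_mono Finset.inter_subset_left) (SUS_mono Finset.inter_subset_right))
  rintro g ⟨hS, hT⟩
  refine ⟨hS.1, fun i hi => ?_⟩
  rw [Finset.mem_inter, not_and_or] at hi
  exact hi.elim (hS.2 i) (hT.2 i)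

theorem SUS_empty : SUS F q (∅ : Finset (Fin n)) = ⊥ := by
  rw [eq_bot_iff]
  exact fun g hg => Subgroup.mem_bot.mpr
    (gl_ext_single fun k => by rw [hg.2 k (Finset.notMem_empty k), Units.val_one, one_mulVec])

theorem SUS_singleton (i : Fin n) : SUS F q ({i} : Finset (Fin n)) = ⊥ := by
  rw [eq_bot_iff]
  intro g hg
  rw [Subgroup.mem_bot]
  set M := (g : Matrix (Fin n) (Fin n) F)
  have hM : M = diagonal fun k => M k k := by
    ext a b
    rcases eq_or_ne a b with rfl | hab
    · rw [diagonal_apply_eq]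
    · rw [diagonal_apply_ne _ hab]
      rcases eq_or_ne b i with rfl | hb
      · have := apply_off hF hg (Pi.single b 1) (i := a) (by simpa using hab)
        rwa [mulVec_single_one, Pi.single_apply, if_neg hab] at this
      · have := congrFun (hg.2 b (by simpa using hb)) a
        rwa [mulVec_single_one, Pi.single_apply, if_neg hab] at this
  have hone : ∀ k, k ≠ i → M k k = 1 := fun k hk => by
    have := congrFun (hg.2 k (by simpa using hk)) k
    rwa [mulVec_single_one, Pi.single_eq_same] at this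
  have hdet : M.det = 1 := (mem_suGL_iff.mp hg.1).2
  rw [hM, det_diagonal, Finset.prod_eq_single i (fun k _ hk => hone k hk) (by simp)] at hdet
  refine Units.ext ?_
  show M = 1
  rw [hM, ← diagonal_one]
  exact congrArg diagonal (funext fun k => (eq_or_ne k i).elim (fun e => e ▸ hdet) (hone k))

theorem commute_of_disjoint {T : Finset (Fin n)} (hd : Disjoint S T) {g g' : GL (Fin n) F}
    (hg : g ∈ SUS F q S) (hg' : g' ∈ SUS F q T) : Commute g g' := by
  refine gl_ext_single fun k => ?_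
  rw [Units.val_mul, Units.val_mul, ← mulVec_mulVec, ← mulVec_mulVec]
  by_cases hk : k ∈ S
  · rw [hg'.2 k (Finset.disjoint_left.mp hd hk), apply_of_off hg' fun i hi => ?_]
    rw [apply_off hF hg _ fun hS => Finset.disjoint_left.mp hd hS hi, Pi.single_apply, if_neg]
    rintro rfl
    exact Finset.disjoint_left.mp hd hk hi
  · rw [hg.2 k hk, apply_of_off hg fun i hi => ?_]
    rw [apply_off hF hg' _ (Finset.disjoint_left.mp hd hi), Pi.single_apply, if_neg]
    rintro rfl
    exact hk hi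

end coord

/-! ### The embedding along an injection -/

/-- The selection matrix of an injection. -/
def sel (F : Type*) [Field F] (f : Fin m ↪ Fin n) : Matrix (Fin n) (Fin m) F :=
  Matrix.of fun i a => if i = f a then 1 else 0

theorem sel_mulVec_apply (f : Fin m ↪ Fin n) (x : Fin m → F) (a : Fin m) : (sel F f *ᵥ x) (f a) = x a := by
  simp [sel, mulVec, dotProduct]

theorem sel_mulVec_off (f : Fin m ↪ Fin n) (x : Fin m → F) {i : Fin n} (hi : i ∉ Finset.univ.map f) :
    (sel F f *ᵥ x) i = 0 := by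
  have : ∀ a, i ≠ f a := fun a e => hi (by simp [e])
  simp [sel, mulVec, dotProduct, this]

theorem selT_mulVec (f : Fin m ↪ Fin n) (v : Vs) : (sel F f)ᵀ *ᵥ v = v ∘ f := by
  funext a; simp [sel, mulVec, dotProduct]

theorem selT_mul_sel (f : Fin m ↪ Fin n) : (sel F f)ᵀ * sel F f = 1 := by
  ext a b; simp [sel, Matrix.mul_apply, Matrix.one_apply, eq_comm]

theorem sel_single (f : Fin m ↪ Fin n) (a : Fin m) :
    sel F f *ᵥ Pi.single a 1 = (Pi.single (f a) 1 : Vs) := by
  funext i; simp [sel, Pi.single_apply]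

/-- The block embedding of matrices. -/
def embMat (F : Type*) [Field F] [Fintype F] (f : Fin m ↪ Fin n) :
    Matrix (Fin m) (Fin m) F →* Matrix (Fin n) (Fin n) F where
  toFun M := 1 + sel F f * (M - 1) * (sel F f)ᵀ
  map_one' := by simp
  map_mul' M N := by
    set P := sel F f with hP
    have e : P * (M - 1) * Pᵀ * (P * (N - 1) * Pᵀ) = P * ((M - 1) * (N - 1)) * Pᵀ := by
      rw [show P * (M - 1) * Pᵀ * (P * (N - 1) * Pᵀ) = P * (M - 1) * (Pᵀ * P) * ((N - 1) * Pᵀ) by
        simp only [Matrix.mul_assoc], hP, selT_mul_sel, Matrix.mul_one]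
      simp only [Matrix.mul_assoc]
    rw [add_mul, one_mul, mul_add, mul_one, e]
    conv_lhs => rw [show M * N - 1 = (N - 1) + ((M - 1) + (M - 1) * (N - 1)) by noncomm_ring]
    rw [Matrix.mul_add, Matrix.mul_add, Matrix.add_mul, Matrix.add_mul]
    abel

theorem det_embMat (f : Fin m ↪ Fin n) (M : Matrix (Fin m) (Fin m) F) : (embMat F f M).det = M.det := by
  show (1 + sel F f * (M - 1) * (sel F f)ᵀ).det = _
  rw [det_one_add_mul_comm, ← Matrix.mul_assoc, selT_mul_sel, Matrix.one_mul, add_sub_cancel]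

theorem embMat_mulVec (f : Fin m ↪ Fin n) (M : Matrix (Fin m) (Fin m) F) (v : Vs) :
    embMat F f M *ᵥ v = v + sel F f *ᵥ (M *ᵥ (v ∘ f) - v ∘ f) := by
  show (1 + sel F f * (M - 1) * (sel F f)ᵀ) *ᵥ v = _
  rw [add_mulVec, one_mulVec, ← mulVec_mulVec, selT_mulVec, ← mulVec_mulVec, sub_mulVec, one_mulVec]

theorem embMat_mul_sel (f : Fin m ↪ Fin n) (M : Matrix (Fin m) (Fin m) F) :
    embMat F f M * sel F f = sel F f * M := by
  show (1 + sel F f * (M - 1) * (sel F f)ᵀ) * sel F f = _
  rw [Matrix.add_mul, Matrix.one_mul, Matrix.mul_assoc, selT_mul_sel, Matrix.mul_one, Matrix.mul_sub,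
    Matrix.mul_one, add_sub_cancel]

/-- The block embedding of invertible matrices. -/
def embGL (F : Type*) [Field F] [Fintype F] (f : Fin m ↪ Fin n) : GL (Fin m) F →* GL (Fin n) F := Units.map (embMat F f)

theorem embGL_val (f : Fin m ↪ Fin n) (g : GL (Fin m) F) :
    (embGL F f g : Matrix (Fin n) (Fin n) F) = embMat F f g := rfl

theorem embGL_injective (f : Fin m ↪ Fin n) : Function.Injective (embGL F f) := fun g g' e => by
  have h1 : sel F f * (g : Matrix (Fin m) (Fin m) F) = sel F f * (g' : Matrix (Fin m) (Fin m) F) := by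
    rw [← embMat_mul_sel, ← embMat_mul_sel, ← embGL_val, ← embGL_val, e]
  have h2 := congrArg ((sel F f)ᵀ * ·) h1
  simp only [← Matrix.mul_assoc, selT_mul_sel, Matrix.one_mul] at h2
  exact Units.ext h2

section emb

variable (hF : Fintype.card F = q ^ 2)
include hF

theorem herm_sel_left (f : Fin m ↪ Fin n) (x : Fin m → F) (v : Vs) :
    h (sel F f *ᵥ x) v = Cfsg.hermForm m F q x (v ∘ f) := by
  rw [show h (sel F f *ᵥ x) v = ∑ i, (sel F f *ᵥ x) i * v i ^ q from rfl,
    ← Finset.sum_subset (Finset.subset_univ (Finset.univ.map f))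
      (fun i _ hi => by rw [sel_mulVec_off f x hi, zero_mul]), Finset.sum_map]
  exact Finset.sum_congr rfl fun a _ => by rw [sel_mulVec_apply]; rfl

theorem herm_sel_right (f : Fin m ↪ Fin n) (x : Fin m → F) (v : Vs) :
    h v (sel F f *ᵥ x) = Cfsg.hermForm m F q (v ∘ f) x := by
  rw [← herm_conj hF (sel F f *ᵥ x) v, herm_sel_left hF, herm_conj hF]

theorem map_suGL (f : Fin m ↪ Fin n) :
    (suGL m F q).map (embGL F f) = SUS F q (Finset.univ.map f) := by
  apply le_antisymm
  · rintro _ ⟨g, hg, rfl⟩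
    refine ⟨mem_suGL_iff.mpr ⟨fun u v => ?_, ?_⟩, fun i hi => ?_⟩
    · rw [embGL_val, embMat_mulVec, embMat_mulVec]
      set a := u ∘ f
      set b := v ∘ f
      have hb : (sel F f *ᵥ ((g : Matrix (Fin m) (Fin m) F) *ᵥ b - b)) ∘ f =
          (g : Matrix (Fin m) (Fin m) F) *ᵥ b - b := funext fun c => sel_mulVec_apply f _ c
      rw [herm_add_left hF, herm_add_right hF, herm_add_right hF, herm_sel_left hF, herm_sel_left hF,
        herm_sel_right hF, hb]
      simp only [h_sub_left hF, h_sub_right hF, apply_K hg]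
      ring
    · rw [embGL_val, det_embMat, (mem_suGL_iff.mp hg).2]
    · rw [embGL_val, embMat_mulVec, show (Pi.single i (1 : F) : Vs) ∘ f = 0 from funext fun a => by
        show (Pi.single i (1 : F) : Vs) (f a) = 0
        rw [Pi.single_apply, if_neg fun e : f a = i => hi (by rw [← e]; simp)], mulVec_zero, sub_self,
        mulVec_zero, add_zero]
  · intro g hg
    set P := sel F f
    set G := (g : Matrix (Fin n) (Fin n) F)
    set M := Pᵀ * G * P with hM
    -- the columns in the block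
    have hcol : G * P = P * M := by
      refine Matrix.ext_of_mulVec_single fun a => funext fun i => ?_
      rw [← mulVec_mulVec, ← mulVec_mulVec, hM, ← mulVec_mulVec, sel_single, ← mulVec_mulVec, selT_mulVec]
      by_cases hi : i ∈ Finset.univ.map f
      · obtain ⟨c, -, rfl⟩ := Finset.mem_map.mp hi
        rw [sel_mulVec_apply]; rfl
      · rw [sel_mulVec_off f _ hi, apply_off hF hg _ hi, Pi.single_apply, if_neg]
        rintro rfl; simp at hi
    have hG : G = embMat F f M := by
      refine Matrix.ext_of_mulVec_single fun k => ?_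
      rw [embMat_mulVec]
      by_cases hk : k ∈ Finset.univ.map f
      · obtain ⟨c, -, rfl⟩ := Finset.mem_map.mp hk
        have hc : (Pi.single (f c) (1 : F) : Vs) ∘ f = Pi.single c 1 := funext fun a => by
          show (Pi.single (f c) (1 : F) : Vs) (f a) = _
          simp [Pi.single_apply]
        rw [hc, mulVec_sub, sel_single, add_sub_cancel, mulVec_mulVec, ← hcol, ← mulVec_mulVec, sel_single]
      · have hk0 : (Pi.single k (1 : F) : Vs) ∘ f = 0 := funext fun a => by
          show (Pi.single k (1 : F) : Vs) (f a) = 0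
          rw [Pi.single_apply, if_neg fun e : f a = k => hk (by rw [← e]; simp)]
        rw [hk0, mulVec_zero, sub_self, mulVec_zero, add_zero, hg.2 k hk]
    have hd : M.det = 1 := by rw [← det_embMat f M, ← hG]; exact (mem_suGL_iff.mp hg.1).2
    refine ⟨glMk M hd, glMk_mem M hd fun x y => ?_, Units.ext hG.symm⟩
    have h1 := apply_K hg.1 (P *ᵥ x) (P *ᵥ y)
    rw [show G *ᵥ (P *ᵥ x) = P *ᵥ (M *ᵥ x) by rw [mulVec_mulVec, hcol, ← mulVec_mulVec],
      show G *ᵥ (P *ᵥ y) = P *ᵥ (M *ᵥ y) by rw [mulVec_mulVec, hcol, ← mulVec_mulVec], herm_sel_left hF,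
      herm_sel_left hF, show (P *ᵥ (M *ᵥ y)) ∘ f = M *ᵥ y from funext (sel_mulVec_apply f _),
      show (P *ᵥ y) ∘ f = y from funext (sel_mulVec_apply f _)] at h1
    exact h1

/-- The coordinate subgroup is a smaller special unitary group. -/
noncomputable def susEquiv (f : Fin m ↪ Fin n) :
    suGL m F q ≃* SUS F q (Finset.univ.map f) :=
  ((suGL m F q).equivMapOfInjective _ (embGL_injective f)).trans (MulEquiv.subgroupCongr (map_suGL hF f))

end emb

/-- `SU_n(q)` as a subgroup of `GL_n`. -/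
def suEquiv (n : ℕ) (F : Type*) [Field F] (q : ℕ) : Cfsg.SU n F q ≃* suGL n F q where
  toFun A := ⟨Matrix.SpecialLinearGroup.toGL A.1,
    ⟨A.2, MonoidHom.mem_ker.mpr (Units.ext A.1.2)⟩⟩
  invFun g := ⟨⟨(g.1 : Matrix (Fin n) (Fin n) F), congrArg Units.val (MonoidHom.mem_ker.mp g.2.2)⟩, g.2.1⟩
  left_inv _ := rfl
  right_inv g := Subtype.ext (Units.ext rfl)
  map_mul' A B := Subtype.ext (map_mul _ _ _)

theorem natCard_SUS (hF : Fintype.card F = q ^ 2) (S : Finset (Fin n)) :
    Nat.card (SUS F q S) = Nat.card (Cfsg.SU S.card F q) := by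
  conv_lhs => rw [← Finset.map_orderEmbOfFin_univ S rfl]
  exact Nat.card_congr ((susEquiv hF _).symm.trans (suEquiv S.card F q).symm).toEquiv

/-! ### Elements preserving a block with determinant one on it -/

/-- The elements mapping the block of `f` to itself by a matrix of determinant one. -/
def blockOne (F : Type*) [Field F] (f : Fin m ↪ Fin n) : Subgroup (GL (Fin n) F) where
  carrier := {g | ∃ M : Matrix (Fin m) (Fin m) F, M.det = 1 ∧ (g : Matrix (Fin n) (Fin n) F) * sel F f = sel F f * M}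
  one_mem' := ⟨1, det_one, by simp⟩
  mul_mem' := by
    rintro a b ⟨M, hM, ha⟩ ⟨N, hN, hb⟩
    exact ⟨M * N, by rw [det_mul, hM, hN, one_mul],
      by rw [Units.val_mul, Matrix.mul_assoc, hb, ← Matrix.mul_assoc, ha, Matrix.mul_assoc]⟩
  inv_mem' := by
    rintro a ⟨M, hM, ha⟩
    refine ⟨M⁻¹, by rw [det_nonsing_inv, hM]; simp, ?_⟩
    have h2 := congrArg (fun X => ((a⁻¹ : GL (Fin n) F) : Matrix (Fin n) (Fin n) F) * X * M⁻¹) ha
    simp only [← Matrix.mul_assoc, Units.inv_mul, Matrix.one_mul] at h2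
    rw [Matrix.mul_assoc _ M M⁻¹, mul_nonsing_inv M (by rw [hM]; exact isUnit_one), Matrix.mul_one] at h2
    exact h2.symm

theorem SUS_le_blockOne (hF : Fintype.card F = q ^ 2) (f : Fin m ↪ Fin n) :
    SUS F q (Finset.univ.map f) ≤ blockOne F f := by
  rw [← map_suGL hF f]
  rintro _ ⟨g, hg, rfl⟩
  exact ⟨_, (mem_suGL_iff.mp hg).2, by rw [embGL_val, embMat_mul_sel]⟩

theorem SUS_le_blockOne_of_disjoint {S : Finset (Fin n)} (f : Fin m ↪ Fin n)
    (hd : Disjoint (Finset.univ.map f) S) : SUS F q S ≤ blockOne F f := fun g hg =>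
  ⟨1, det_one, by
    rw [Matrix.mul_one]
    refine Matrix.ext_of_mulVec_single fun a => ?_
    rw [← mulVec_mulVec, sel_single]
    exact hg.2 _ fun hS => Finset.disjoint_left.mp hd (by simp) hS⟩

/-! ### Diagonal elements -/

/-- Diagonal matrices as elements of `GL`. -/
noncomputable def diagGL (F : Type*) [Field F] (n : ℕ) : (Fin n → Fˣ) →* GL (Fin n) F :=
  (Units.map ((Matrix.diagonalRingHom (Fin n) F).toMonoidHom)).comp MulEquiv.piUnits.symm.toMonoidHom

theorem diagGL_val (d : Fin n → Fˣ) :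
    (diagGL F n d : Matrix (Fin n) (Fin n) F) = diagonal fun i => (d i : F) := rfl

theorem diagGL_single (d : Fin n → Fˣ) (k : Fin n) :
    (diagGL F n d : Matrix (Fin n) (Fin n) F) *ᵥ Pi.single k 1 = (d k : F) • (Pi.single k 1 : Vs) := by
  funext i
  rw [diagGL_val, mulVec_diagonal]
  rcases eq_or_ne i k with rfl | hik <;> simp [*]

theorem diagGL_injective : Function.Injective (diagGL F n) := fun d d' e => funext fun k => Units.ext (by
  have := congrArg (fun g : GL (Fin n) F => (g : Matrix (Fin n) (Fin n) F) k k) e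
  simpa [diagGL_val] using this)

theorem diagGL_blockOne {f : Fin m ↪ Fin n} {d : Fin n → Fˣ} (hd : diagGL F n d ∈ blockOne F f) :
    ∏ a, d (f a) = 1 := by
  obtain ⟨M, hM, hd⟩ := hd
  have h1 : sel F f * M = sel F f * diagonal (fun a => (d (f a) : F)) := by
    rw [← hd, diagGL_val]
    refine Matrix.ext fun i a => ?_
    simp only [diagonal_mul, mul_diagonal, sel, Matrix.of_apply]
    split
    · next e => rw [e, mul_one, one_mul]
    · rw [mul_zero, zero_mul]
  have h2 := congrArg ((sel F f)ᵀ * ·) h1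
  simp only [← Matrix.mul_assoc, selT_mul_sel, Matrix.one_mul] at h2
  rw [h2, det_diagonal] at hM
  exact Units.ext (by rw [Units.coe_prod, hM, Units.val_one])

/-- The norm one elements. -/
def normOne (F : Type*) [Field F] (q : ℕ) : Subgroup Fˣ := (powMonoidHom (q + 1)).ker

theorem mem_normOne {t : Fˣ} : t ∈ normOne F q ↔ (t : F) ^ (q + 1) = 1 := by
  rw [normOne, MonoidHom.mem_ker, powMonoidHom_apply, Units.ext_iff, Units.val_pow_eq_pow_val, Units.val_one]

theorem natCard_normOne (hF : Fintype.card F = q ^ 2) : Nat.card (normOne F q) = q + 1 := by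
  rw [← Classical.natCard_normOne hF]
  refine Nat.card_congr
    { toFun := fun t => ⟨((t : Fˣ) : F), mem_normOne.mp t.2⟩
      invFun := fun x => ⟨Units.mk0 x.1 fun e => zero_ne_one (α := F)
        ((zero_pow (by omega : q + 1 ≠ 0)).symm.trans (e ▸ x.2)), mem_normOne.mpr x.2⟩
      left_inv := fun t => Subtype.ext (Units.ext rfl)
      right_inv := fun x => rfl }

/-- Diagonals of norm one entries, trivial outside `S`, of determinant one. -/
def DS (F : Type*) [Field F] (q : ℕ) (S : Finset (Fin n)) : Subgroup (Fin n → Fˣ) where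
  carrier := {d | (∀ i, d i ∈ normOne F q) ∧ (∀ i ∉ S, d i = 1) ∧ ∏ i, d i = 1}
  one_mem' := ⟨fun _ => one_mem _, fun _ _ => rfl, Finset.prod_const_one⟩
  mul_mem' := fun {a b} ha hb => ⟨fun i => mul_mem (ha.1 i) (hb.1 i),
    fun i hi => by rw [Pi.mul_apply, ha.2.1 i hi, hb.2.1 i hi, one_mul],
    by simp [Finset.prod_mul_distrib, ha.2.2, hb.2.2]⟩
  inv_mem' := fun {a} ha => ⟨fun i => inv_mem (ha.1 i),
    fun i hi => by rw [Pi.inv_apply, ha.2.1 i hi, inv_one],
    by simp [Finset.prod_inv_distrib, ha.2.2]⟩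

/-- The diagonal torus of `SUS S`. -/
noncomputable def dg (F : Type*) [Field F] (q : ℕ) (S : Finset (Fin n)) : Subgroup (GL (Fin n) F) :=
  (DS F q S).map (diagGL F n)

theorem dg_le_SUS (hF : Fintype.card F = q ^ 2) (S : Finset (Fin n)) : dg F q S ≤ SUS F q S := by
  rintro _ ⟨d, ⟨h1, h2, h3⟩, rfl⟩
  refine ⟨mem_suGL_iff.mpr ⟨fun u v => ?_, ?_⟩, fun i hi => ?_⟩
  · rw [diagGL_val]; exact Classical.diagonal_mem_GU hF _ (fun i => mem_normOne.mp (h1 i)) u v
  · rw [diagGL_val, det_diagonal, ← Units.coe_prod, h3, Units.val_one]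
  · rw [diagGL_single, h2 i hi, Units.val_one, one_smul]

theorem natCard_dg (hF : Fintype.card F = q ^ 2) {S : Finset (Fin n)} (hS : S.Nonempty) :
    Nat.card (dg F q S) = (q + 1) ^ (S.card - 1) := by
  classical
  obtain ⟨b, hb⟩ := hS
  rw [dg, Nat.card_congr ((DS F q S).equivMapOfInjective _ diagGL_injective).toEquiv.symm,
    ← natCard_normOne hF, ← Finset.card_erase_of_mem hb]
  rw [← Fintype.card_coe (S.erase b), ← Nat.card_eq_fintype_card (α := ↥(S.erase b)), ← Nat.card_fun]
  refine Nat.card_eq_of_bijective (fun d i => ⟨d.1 i.1, d.2.1 i.1⟩) ⟨fun d d' e => ?_, fun t => ?_⟩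
  · apply Subtype.ext
    have hne : ∀ i, i ≠ b → d.1 i = d'.1 i := fun i hi => by
      by_cases hiS : i ∈ S
      · exact congrArg Subtype.val (congrFun e ⟨i, Finset.mem_erase.mpr ⟨hi, hiS⟩⟩)
      · rw [d.2.2.1 i hiS, d'.2.2.1 i hiS]
    funext i
    rcases eq_or_ne i b with rfl | hi
    · have h1 := d.2.2.2
      have h2 := d'.2.2.2
      rw [← Finset.mul_prod_erase _ _ (Finset.mem_univ i)] at h1 h2
      rw [Finset.prod_congr rfl (fun j hj => hne j (Finset.ne_of_mem_erase hj))] at h1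
      exact mul_right_cancel (h1.trans h2.symm)
    · exact hne i hi
  · let d0 : Fin n → Fˣ := fun i => if hi : i ∈ S.erase b then (t ⟨i, hi⟩ : Fˣ) else 1
    have hd0 : ∀ i, d0 i ∈ normOne F q := fun i => by
      simp only [d0]; split
      · exact (t _).2
      · exact one_mem _
    let d : Fin n → Fˣ := Function.update d0 b (∏ i, d0 i)⁻¹
    have hb0 : d0 b = 1 := dif_neg (Finset.notMem_erase b S)
    refine ⟨⟨d, fun i => ?_, fun i hi => ?_, ?_⟩, funext fun i => Subtype.ext ?_⟩
    · rcases eq_or_ne i b with rfl | hib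
      · rw [show d i = _ from Function.update_self _ _ _]; exact inv_mem (prod_mem fun j _ => hd0 j)
      · rw [show d i = _ from Function.update_of_ne hib _ _]; exact hd0 i
    · rw [show d i = _ from Function.update_of_ne (fun e => hi (by rwa [e])) _ _]
      exact dif_neg fun h' => hi (Finset.mem_of_mem_erase h')
    · rw [show ∏ i, d i = _ from Finset.prod_update_of_mem (Finset.mem_univ b) _ _]
      rw [Finset.sdiff_singleton_eq_erase, Finset.prod_erase _ hb0, inv_mul_cancel]
    · show d i.1 = _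
      rw [show d i.1 = _ from Function.update_of_ne (Finset.ne_of_mem_erase i.2) _ _]
      exact dif_pos i.2

/-- `t` at `i` and `t⁻¹` at `j`. -/
def delta (i j : Fin n) (t : Fˣ) : Fin n → Fˣ := Pi.mulSingle i t * (Pi.mulSingle j t)⁻¹

theorem delta_mem (i j : Fin n) {t : Fˣ} (ht : t ∈ normOne F q) : delta i j t ∈ DS F q {i, j} := by
  refine ⟨fun k => ?_, fun k hk => ?_, ?_⟩
  · refine mul_mem ?_ (inv_mem ?_) <;> (rw [Pi.mulSingle_apply]; split; exacts [ht, one_mem _])
  · simp only [Finset.mem_insert, Finset.mem_singleton, not_or] at hk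
    simp [delta, hk.1, hk.2]
  · simp [delta, Finset.prod_mul_distrib]

/-! ### Monomial elements -/

/-- The monomial matrix sending `e_k` to `c_k e_(π k)`. -/
def monoMat (π : Equiv.Perm (Fin n)) (c : Fin n → F) : Matrix (Fin n) (Fin n) F :=
  Matrix.of fun i k => if i = π k then c k else 0

theorem monoMat_single (π : Equiv.Perm (Fin n)) (c : Fin n → F) (k : Fin n) :
    monoMat π c *ᵥ Pi.single k 1 = c k • (Pi.single (π k) 1 : Vs) := by
  funext i
  rw [mulVec_single_one, Pi.smul_apply, Pi.single_apply]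
  simp [monoMat]

theorem monoMat_mulVec (π : Equiv.Perm (Fin n)) (c : Fin n → F) (v : Vs) (k : Fin n) :
    (monoMat π c *ᵥ v) (π k) = c k * v k := by
  simp [monoMat, mulVec, dotProduct]

theorem det_monoMat (π : Equiv.Perm (Fin n)) (c : Fin n → F) :
    (monoMat π c).det = ((Equiv.Perm.sign π : ℤ) : F) * ∏ k, c k := by
  have : monoMat π c = (diagonal c).submatrix π.symm id := by
    ext i k
    simp only [monoMat, Matrix.of_apply, submatrix_apply, id, diagonal_apply, Equiv.symm_apply_eq]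
    split
    · next e => rw [e, Equiv.symm_apply_apply]
    · rfl
  rw [this, det_permute, det_diagonal, Equiv.Perm.sign_symm]

/-- The monomial element with permutation `π` and coefficients `c`. -/
noncomputable def monoGL (π : Equiv.Perm (Fin n)) (c : Fin n → F)
    (hd : ((Equiv.Perm.sign π : ℤ) : F) * ∏ k, c k = 1) : GL (Fin n) F :=
  glMk (monoMat π c) (by rw [det_monoMat, hd])

theorem monoGL_single (π : Equiv.Perm (Fin n)) (c : Fin n → F)
    (hd : ((Equiv.Perm.sign π : ℤ) : F) * ∏ k, c k = 1) (k : Fin n) :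
    (monoGL π c hd : Matrix (Fin n) (Fin n) F) *ᵥ Pi.single k 1 = c k • (Pi.single (π k) 1 : Vs) := by
  rw [monoGL, glMk_val, monoMat_single]

theorem monoGL_mem (hF : Fintype.card F = q ^ 2) {π : Equiv.Perm (Fin n)} {c : Fin n → F}
    (hd : ((Equiv.Perm.sign π : ℤ) : F) * ∏ k, c k = 1) (hc : ∀ k, c k ^ (q + 1) = 1)
    {S : Finset (Fin n)} (hπ : ∀ k ∉ S, π k = k) (hcS : ∀ k ∉ S, c k = 1) :
    monoGL π c hd ∈ SUS F q S := by
  refine ⟨glMk_mem _ _ fun u v => ?_, fun k hk => by rw [monoGL_single, hπ k hk, hcS k hk, one_smul]⟩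
  show ∑ i, _ = _
  rw [← Equiv.sum_comp π]
  refine Finset.sum_congr rfl fun k _ => ?_
  rw [monoMat_mulVec, monoMat_mulVec, mul_pow]
  have := hc k
  rw [pow_succ] at this
  linear_combination (u k * v k ^ q) * this

/-- Conjugation by an element permuting the coordinate lines. -/
theorem conj_SUS {g : GL (Fin n) F} (hg : g ∈ suGL n F q) {π : Equiv.Perm (Fin n)}
    (hm : ∀ k, ∃ c : F, c ≠ 0 ∧
      (g : Matrix (Fin n) (Fin n) F) *ᵥ Pi.single k 1 = c • (Pi.single (π k) 1 : Vs))
    {T : Finset (Fin n)} {a : GL (Fin n) F} (ha : a ∈ SUS F q T) :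
    g * a * g⁻¹ ∈ SUS F q (T.map π.toEmbedding) := by
  refine ⟨Subgroup.mul_mem _ (Subgroup.mul_mem _ hg ha.1) (Subgroup.inv_mem _ hg), fun k hk => ?_⟩
  obtain ⟨c, hc, hk'⟩ := hm (π.symm k)
  rw [π.apply_symm_apply] at hk'
  have hk0 : π.symm k ∉ T := fun h' => hk (Finset.mem_map.mpr ⟨_, h', π.apply_symm_apply k⟩)
  have e : (Pi.single k (1 : F) : Vs) = (g : Matrix (Fin n) (Fin n) F) *ᵥ (c⁻¹ • Pi.single (π.symm k) 1) := by
    rw [mulVec_smul, hk', smul_smul, inv_mul_cancel₀ hc, one_smul]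
  rw [e, Units.val_mul, Units.val_mul, ← mulVec_mulVec, inv_mulVec_mulVec, ← mulVec_mulVec, mulVec_smul,
    ha.2 _ hk0]

/-- Conjugation of diagonals by such elements. -/
theorem conj_diag {g : GL (Fin n) F} {π : Equiv.Perm (Fin n)}
    (hm : ∀ k, ∃ c : F, c ≠ 0 ∧
      (g : Matrix (Fin n) (Fin n) F) *ᵥ Pi.single k 1 = c • (Pi.single (π k) 1 : Vs))
    (d : Fin n → Fˣ) : g * diagGL F n d * g⁻¹ = diagGL F n (d ∘ π.symm) := by
  rw [mul_inv_eq_iff_eq_mul]
  refine gl_ext_single fun k => ?_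
  obtain ⟨c, -, hk⟩ := hm k
  rw [Units.val_mul, Units.val_mul, ← mulVec_mulVec, ← mulVec_mulVec, diagGL_single, mulVec_smul, hk,
    mulVec_smul, diagGL_single, smul_smul, smul_smul, Function.comp_apply, π.symm_apply_apply, mul_comm]

theorem DS_comp {S : Finset (Fin n)} {d : Fin n → Fˣ} (hd : d ∈ DS F q S) (π : Equiv.Perm (Fin n)) :
    d ∘ π.symm ∈ DS F q (S.map π.toEmbedding) := by
  refine ⟨fun i => hd.1 _, fun i hi => hd.2.1 _ fun h' => hi (Finset.mem_map.mpr ⟨_, h', π.apply_symm_apply i⟩),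
    ?_⟩
  rw [← hd.2.2]
  exact Equiv.prod_comp π.symm d

end Cfsg.Agent.Lib.Schur.UnitMult
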