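import Cfsg.Agent.Lib.Schur.UnitSetup
import Cfsg.Agent.Lib.UnitaryPairDerange.Frame
import Cfsg.Agent.Lib.ElementOrders.Singer

/-!
The case where `-q` has order `n` modulo `r`: the Sylow `r`-subgroups are cyclic.
-/

set_option autoImplicit false
set_option linter.unusedSectionVars false

namespace Cfsg.Agent.Lib.Schur.UnitMult

open Matrix Cfsg.Agent.Lib.Forms Cfsg.Agent.Lib.FormMax Cfsg.Agent.Lib.UnitaryMax Cfsg.Agent.Lib.Schur

universe w

variable {F : Type*} [Field F] [Fintype F] {n m q r : ℕ} [Fact r.Prime]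

/-- Two complementary totally singular subspaces in even dimension. -/
theorem exists_singular_pair (hF : Fintype.card F = q ^ 2) (hn : 2 * m = n) :
    ∃ A B : Submodule F (Fin n → F), (∀ u ∈ A, ∀ v ∈ A, Cfsg.hermForm n F q u v = 0) ∧
      (∀ u ∈ B, ∀ v ∈ B, Cfsg.hermForm n F q u v = 0) ∧ A ⊔ B = ⊤ ∧ A ⊓ B = ⊥ ∧ Module.finrank F A = m := by
  classical
  have hq := Forms.two_le_of_card_sq hF
  obtain ⟨z, z', hz, hz', hzz⟩ : ∃ z z' : F, z ^ (q + 1) = -1 ∧ z' ^ (q + 1) = -1 ∧ z ≠ z' := by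
    have h := S0754.result hF (-1 : F) (neg_ne_zero.2 one_ne_zero) (by
      rw [← Forms.qPowHom_apply hF, map_neg, map_one])
    rw [Nat.card_eq_fintype_card] at h
    obtain ⟨u, v, huv⟩ := Fintype.exists_pair_of_one_lt_card
      (α := {x : F // x ^ (q + 1) = -1}) (by omega)
    exact ⟨u.1, v.1, u.2, v.2, fun e => huv (Subtype.ext e)⟩
  let ι : Fin 2 × Fin m ≃ Fin n := finProdFinEquiv.trans (finCongr hn)
  let L : F → (Fin m → F) →ₗ[F] (Fin n → F) := fun c =>
    { toFun := fun x i => (if (ι.symm i).1 = 0 then 1 else c) * x (ι.symm i).2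
      map_add' := fun x y => funext fun i => by simp [mul_add]
      map_smul' := fun a x => funext fun i => by simp [mul_left_comm] }
  have hL0 : ∀ c x a, L c x (ι (0, a)) = x a := fun c x a => by simp [L]
  have hL1 : ∀ c x a, L c x (ι (1, a)) = c * x a := fun c x a => by simp [L]
  have hinj : ∀ c, Function.Injective (L c) := fun c x y e => funext fun a => by
    rw [← hL0 c x, ← hL0 c y, e]
  have hsing : ∀ c : F, c ^ (q + 1) = -1 → ∀ x y, Cfsg.hermForm n F q (L c x) (L c y) = 0 := by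
    intro c hc x y
    show ∑ i, _ = 0
    rw [← Equiv.sum_comp ι, Fintype.sum_prod_type, Fin.sum_univ_two, ← Finset.sum_add_distrib]
    refine Finset.sum_eq_zero fun a _ => ?_
    rw [hL0, hL0, hL1, hL1, mul_pow]
    rw [pow_succ] at hc
    linear_combination (x a * y a ^ q) * hc
  have hinf : LinearMap.range (L z) ⊓ LinearMap.range (L z') = ⊥ := by
    rw [eq_bot_iff]
    rintro _ ⟨⟨x, rfl⟩, ⟨y, hy⟩⟩
    have hx : x = 0 := funext fun a => by
      have h0 := congrFun hy (ι (0, a))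
      have h1 := congrFun hy (ι (1, a))
      rw [hL0, hL0] at h0
      rw [hL1, hL1, h0] at h1
      exact (mul_eq_zero.mp (show (z' - z) * x a = 0 by linear_combination h1)).resolve_left
        (sub_ne_zero.mpr hzz.symm)
    rw [hx, map_zero]; exact Submodule.zero_mem _
  have hdim : ∀ c, Module.finrank F (LinearMap.range (L c)) = m := fun c => by
    rw [LinearMap.finrank_range_of_inj (hinj c), Module.finrank_fin_fun]
  refine ⟨LinearMap.range (L z), LinearMap.range (L z'), ?_, ?_, ?_, hinf, hdim z⟩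
  · rintro _ ⟨x, rfl⟩ _ ⟨y, rfl⟩; exact hsing z hz x y
  · rintro _ ⟨x, rfl⟩ _ ⟨y, rfl⟩; exact hsing z' hz' x y
  · refine Submodule.eq_top_of_finrank_eq ?_
    have h1 := Submodule.finrank_sup_add_finrank_inf_eq (LinearMap.range (L z)) (LinearMap.range (L z'))
    rw [hinf, finrank_bot, add_zero, hdim, hdim] at h1
    rw [h1, Module.finrank_fin_fun]; omega

/-- An element of `SU_n` of maximal `r`-power order, `n` even. -/
theorem exists_elt_even (hF : Fintype.card F = q ^ 2) (hn : 2 * m = n) (hm : 1 ≤ m) (hrq1 : ¬ r ∣ q + 1) :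
    ∃ g ∈ suGL n F q, padicValNat r (q ^ n - 1) ≤ padicValNat r (orderOf g) := by
  obtain ⟨A, B, hA, hB, hsup, hinf, hdim⟩ := exists_singular_pair hF hn
  obtain ⟨Ψ, -, hinj, hGU, -, -, -, -⟩ := UnitaryPairDerange.exists_pairHom hF A B hA hB hsup hinf hdim hn
  obtain ⟨a, ha⟩ := ElementOrders.exists_orderOf_eq_pow_card_sub_one (F := F) (n := m) hm le_rfl
  rw [hF, ← pow_mul, hn] at ha
  have hord : orderOf (Ψ a) = q ^ n - 1 := by rw [orderOf_injective Ψ hinj, ha]
  refine ⟨Ψ a ^ (q + 1), ⟨Subgroup.pow_mem _ (hGU a) _, ?_⟩, ?_⟩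
  · have h1 := Classical.det_norm_one hF ⟨Ψ a, hGU a⟩
    refine MonoidHom.mem_ker.mpr (Units.ext ?_)
    rw [map_pow, Units.val_pow_eq_pow_val, Units.val_one]
    exact h1
  · have hg : ¬ r ∣ Nat.gcd (orderOf (Ψ a)) (q + 1) := fun h => hrq1 (h.trans (Nat.gcd_dvd_right _ _))
    rw [orderOf_pow, padicValNat.div_of_dvd (Nat.gcd_dvd_left _ _), padicValNat.eq_zero_of_not_dvd hg, Nat.sub_zero, hord]

/-- An element of `SU_n` of maximal `r`-power order, when `q²` has order `n` modulo `r`. -/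
theorem exists_elt_singer (hF : Fintype.card F = q ^ 2) (hn : 1 ≤ n) (hrq : ¬ r ∣ q)
    (hord : ∀ i, 0 < i → i < n → ¬ r ∣ (q ^ 2) ^ i - 1) :
    ∃ g ∈ suGL n F q, padicValNat r (Nat.card (suGL n F q)) ≤ padicValNat r (orderOf g) := by
  classical
  have hrpr : r.Prime := Fact.out
  obtain ⟨a, ha⟩ := ElementOrders.exists_orderOf_eq_pow_card_sub_one (F := F) (n := n) hn le_rfl
  have hQ1 : 1 < Fintype.card F := Fintype.one_lt_card
  have hfac : (Nat.card (GL (Fin n) F)).factorization r = (Fintype.card F ^ n - 1).factorization r := by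
    rw [Matrix.card_GL_field]
    obtain ⟨k, rfl⟩ : ∃ k, n = k + 1 := ⟨n - 1, by omega⟩
    rw [Fin.prod_univ_succ, Fin.val_zero, pow_zero]
    have hz : ∀ i : Fin k, ¬ r ∣ Fintype.card F ^ (k + 1) - Fintype.card F ^ (i.succ : ℕ) := by
      intro i hi
      have hik : (i.succ : ℕ) ≤ k + 1 := (i.succ).isLt.le
      rw [show Fintype.card F ^ (k + 1) = Fintype.card F ^ (i.succ : ℕ) * Fintype.card F ^ (k + 1 - (i.succ : ℕ)) by
        rw [← pow_add, Nat.add_sub_cancel' hik], ← Nat.mul_sub_one] at hi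
      rcases hrpr.dvd_mul.mp hi with h | h
      · exact hrq (hrpr.dvd_of_dvd_pow (hF ▸ hrpr.dvd_of_dvd_pow h))
      · rw [hF] at h
        exact hord _ (by have := i.isLt; simp only [Fin.val_succ]; omega) (by simp only [Fin.val_succ]; omega) h
    have hne : ¬ r ∣ ∏ i : Fin k, (Fintype.card F ^ (k + 1) - Fintype.card F ^ (i.succ : ℕ)) := fun h => by
      obtain ⟨i, -, hi⟩ := (Prime.dvd_finset_prod_iff (Nat.prime_iff.mp hrpr) _).mp h
      exact hz i hi
    rw [Nat.factorization_mul (Nat.sub_ne_zero_of_lt (Nat.one_lt_pow (Nat.succ_ne_zero k) hQ1))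
      (fun h => hne (by rw [h]; exact dvd_zero r)), Finsupp.add_apply, Nat.factorization_eq_zero_of_not_dvd hne, add_zero]
  have hN : 0 < Fintype.card F ^ n - 1 := by have := Nat.one_lt_pow (by omega : n ≠ 0) hQ1; omega
  set v := (Fintype.card F ^ n - 1).factorization r with hv
  set c := a ^ ((Fintype.card F ^ n - 1) / r ^ v)
  have hc : orderOf c = r ^ v := by
    have hd := Nat.ordProj_dvd (Fintype.card F ^ n - 1) r
    rw [orderOf_pow_of_dvd ((Nat.div_pos (Nat.le_of_dvd hN hd) (pow_pos hrpr.pos v)).ne')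
      (by rw [ha]; exact Nat.div_dvd_of_dvd hd), ha]
    exact Nat.div_div_self hd hN.ne'
  let P : Sylow r (GL (Fin n) F) := Sylow.ofCard (Subgroup.zpowers c) (by rw [Nat.card_zpowers, hc, hfac])
  obtain ⟨R⟩ : Nonempty (Sylow r (suGL n F q)) := inferInstance
  set R' := (R : Subgroup (suGL n F q)).map (suGL n F q).subtype
  have hR' : IsPGroup r R' := R.isPGroup'.map _
  obtain ⟨Q, hQ⟩ := hR'.exists_le_sylow
  haveI : IsCyclic P := inferInstanceAs (IsCyclic (Subgroup.zpowers c))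
  haveI : IsCyclic Q := isCyclic_of_surjective _ (Sylow.equiv P Q).surjective
  haveI : IsCyclic R' := isCyclic_of_surjective _ (Subgroup.subgroupOfEquivOfLe hQ).surjective
  obtain ⟨g, hg⟩ := IsCyclic.exists_generator (α := R')
  refine ⟨g, Subgroup.map_subtype_le _ g.2, le_of_eq ?_⟩
  rw [Subgroup.orderOf_coe, orderOf_eq_card_of_forall_mem_zpowers hg,
    Subgroup.card_map_of_injective (Subgroup.subtype_injective _), R.card_eq_multiplicity, padicValNat.prime_pow,
    Nat.factorization_def _ hrpr]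

section

variable {Γ : Type w} [Group Γ] [Finite Γ] {σ : Γ →* GL (Fin n) F} {p : ℕ} [Fact p.Prime] [CharP F p]
  (hF : Fintype.card F = q ^ 2) {S : Finset (Fin n)} (hr : σ.range = SUS F q S)
  (hc : σ.ker ≤ Subgroup.center Γ) (hd : σ.ker ≤ commutator Γ)

include hF hr hc hd

/-- No `r`-part if the order of `-q` modulo `r` is at least the size of the support. -/
theorem not_dvd_cyclic (hrp : r ≠ p) (hS : 2 ≤ S.card) (hdd : S.card ≤ Arith.dd r q) : ¬ r ∣ Nat.card σ.ker := by
  have hrq : ¬ r ∣ q := not_dvd_q (F := F) hrp hF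
  have hq := Forms.two_le_of_card_sq hF
  have hne : S.Nonempty := Finset.card_pos.mp (by omega)
  have hv1 := val_SUS (r := r) hrp hF hne
  rcases hdd.lt_or_eq with hlt | heq
  · refine not_dvd_of_zpowers hc hd 1 ?_
    rw [Arith.V_eq_zero hlt] at hv1
    rw [hr]
    omega
  set k := S.card with hk
  have hrq1 : ¬ r ∣ q + 1 := fun h => by
    rw [← Arith.N_one (by omega : 1 ≤ q), Arith.dvd_N_iff, ← heq, Nat.dvd_one] at h
    omega
  set f := (S.orderEmbOfFin hk.symm).toEmbedding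
  have hfS : Finset.univ.map f = S := Finset.map_orderEmbOfFin_univ _ _
  rw [Arith.V_eq_last heq.symm (by omega), padicValNat.eq_zero_of_not_dvd hrq1, add_zero] at hv1
  suffices h : ∃ g ∈ suGL k F q, padicValNat r (Nat.card σ.range) ≤ padicValNat r (orderOf g) by
    obtain ⟨g, hg, hgv⟩ := h
    have hgS : embGL F f g ∈ SUS F q S := by rw [← hfS, ← map_suGL hF f]; exact ⟨g, hg, rfl⟩
    obtain ⟨c, hcg⟩ := (hr.ge hgS : _ ∈ σ.range)
    refine not_dvd_of_zpowers hc hd c ?_
    rwa [hcg, orderOf_injective _ (embGL_injective f)]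
  rw [hr, hv1, Arith.N_eq (by omega : 1 ≤ q)]
  rcases Nat.even_or_odd k with ⟨j, hj⟩ | hodd
  · rw [if_pos ⟨j, hj⟩]
    exact exists_elt_even (m := j) hF (by omega) (by omega) hrq1
  · obtain ⟨g, hg, hgv⟩ := exists_elt_singer (n := k) (r := r) hF (by omega) hrq fun i hi hik h => by
      have h1 : r ∣ Arith.N q (2 * i) := by
        rw [Arith.N_eq (by omega : 1 ≤ q), if_pos (even_two_mul i), pow_mul]; exact h
      rw [Arith.dvd_N_iff, ← heq] at h1
      have := Nat.le_of_dvd hi ((Nat.Coprime.dvd_mul_left (Nat.coprime_two_right.mpr hodd)).mp h1)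
      omega
    refine ⟨g, hg, le_trans (le_of_eq ?_) hgv⟩
    rw [← Nat.card_congr (suEquiv k F q).toEquiv, hk, ← natCard_SUS hF S, hv1, Arith.N_eq (by omega : 1 ≤ q), hk]

end

end Cfsg.Agent.Lib.Schur.UnitMult
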