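import Cfsg.Agent.Lib.Schur.UnitSplit

/-!
A Sylow subgroup inside the stabiliser of a decomposition into `r` equal coordinate blocks, permuted cyclically.
-/

set_option autoImplicit false
set_option linter.unusedSectionVars false

namespace Cfsg.Agent.Lib.Schur.UnitMult

open Matrix Cfsg.Agent.Lib.Forms Cfsg.Agent.Lib.FormMax Cfsg.Agent.Lib.UnitaryMax Cfsg.Agent.Lib.Schur
open scoped commutatorElement

universe w

theorem mem_normalizer_of_conj {G : Type*} [Group G] [Finite G] {D : Subgroup G} {a : G}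
    (h : ∀ x ∈ D, a * x * a⁻¹ ∈ D) : a ∈ Subgroup.normalizer (D : Set G) := by
  rw [Subgroup.mem_normalizer_iff]
  refine fun x => ⟨h x, fun hx => ?_⟩
  obtain ⟨⟨y, hy⟩, hyx⟩ := (Finite.injective_iff_surjective.mp
    (show Function.Injective (fun y : D => (⟨a * y.1 * a⁻¹, h y.1 y.2⟩ : D)) from fun y z e => Subtype.ext (by
      simpa using congrArg Subtype.val e))) ⟨_, hx⟩
  have : y = x := by simpa using congrArg Subtype.val hyx
  exact this ▸ hy

variable {F : Type*} [Field F] [Fintype F] {n q m r : ℕ}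

/-- The `j`-th block. -/
def blk (e : Fin r × Fin m ↪ Fin n) (j : Fin r) : Fin m ↪ Fin n :=
  ⟨fun a => e (j, a), fun a b h => by simpa using e.injective h⟩

/-- The set of coordinates of the `j`-th block. -/
def B (e : Fin r × Fin m ↪ Fin n) (j : Fin r) : Finset (Fin n) := Finset.univ.map (blk e j)

/-- One coordinate in each block. -/
def T0 (e : Fin r × Fin m ↪ Fin n) (a0 : Fin m) : Finset (Fin n) :=
  Finset.univ.map ⟨fun j => e (j, a0), fun a b h => by simpa using e.injective h⟩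

/-- The cyclic permutation of the blocks. -/
def bperm (e : Fin r × Fin m ↪ Fin n) : Equiv.Perm (Fin n) :=
  Equiv.Perm.viaFintypeEmbedding (Equiv.prodCongrLeft fun _ : Fin m => finRotate r) e

theorem bperm_apply (e : Fin r × Fin m ↪ Fin n) (j : Fin r) (a : Fin m) :
    bperm e (e (j, a)) = e (finRotate r j, a) := by
  rw [bperm, Equiv.Perm.viaFintypeEmbedding_apply_image, Equiv.prodCongrLeft_apply]

theorem bperm_off (e : Fin r × Fin m ↪ Fin n) {k : Fin n} (hk : k ∉ Finset.univ.map e) : bperm e k = k :=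
  Equiv.Perm.viaFintypeEmbedding_apply_notMem_range _ _ fun ⟨x, hx⟩ => hk (by simp [← hx])

theorem sign_bperm (e : Fin r × Fin m ↪ Fin n) (hpar : Even ((r - 1) * m)) :
    Equiv.Perm.sign (bperm e) = 1 := by
  rw [bperm, Equiv.Perm.viaFintypeEmbedding_sign, Equiv.Perm.sign_prodCongrLeft, Finset.prod_const,
    Finset.card_univ, Fintype.card_fin, sign_finRotate, ← pow_mul, hpar.neg_one_pow]

theorem rot_iterate (j : Fin r) (k : ℕ) : (((finRotate r) ^ k) j : ℕ) = (j + k) % r := by
  induction k with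
  | zero => simp [Nat.mod_eq_of_lt j.2]
  | succ k ih =>
    obtain ⟨r', rfl⟩ : ∃ r', r = r' + 1 := ⟨r - 1, by have := j.2; omega⟩
    rw [pow_succ', Equiv.Perm.mul_apply, finRotate_succ_apply, Fin.val_add, ih, Fin.val_one', Nat.add_mod_mod,
      Nat.mod_add_mod, add_assoc]

theorem bperm_pow (e : Fin r × Fin m ↪ Fin n) (j : Fin r) (a : Fin m) (k : ℕ) :
    (bperm e ^ k) (e (j, a)) = e ((finRotate r ^ k) j, a) := by
  induction k with
  | zero => simp
  | succ k ih => rw [pow_succ', Equiv.Perm.mul_apply, ih, bperm_apply, pow_succ', Equiv.Perm.mul_apply]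

theorem B_disjoint (e : Fin r × Fin m ↪ Fin n) {i j : Fin r} (h : i ≠ j) : Disjoint (B e i) (B e j) := by
  rw [Finset.disjoint_left]
  intro x hx hx'
  obtain ⟨a, -, rfl⟩ := Finset.mem_map.mp hx
  obtain ⟨b, -, hb⟩ := Finset.mem_map.mp hx'
  have := e.injective (show e (j, b) = e (i, a) from hb)
  exact h (Prod.mk.inj this).1.symm

theorem B_subset (e : Fin r × Fin m ↪ Fin n) (j : Fin r) : B e j ⊆ Finset.univ.map e := by
  intro x hx
  obtain ⟨a, -, rfl⟩ := Finset.mem_map.mp hx
  exact Finset.mem_map.mpr ⟨(j, a), Finset.mem_univ _, rfl⟩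

theorem T0_subset (e : Fin r × Fin m ↪ Fin n) (a0 : Fin m) : T0 e a0 ⊆ Finset.univ.map e := by
  intro x hx
  obtain ⟨j, -, rfl⟩ := Finset.mem_map.mp hx
  exact Finset.mem_map.mpr ⟨(j, a0), Finset.mem_univ _, rfl⟩

theorem map_B (e : Fin r × Fin m ↪ Fin n) (j : Fin r) :
    (B e j).map (bperm e).toEmbedding = B e (finRotate r j) := by
  rw [B, Finset.map_map, B]
  congr 1
  ext a
  exact congrArg Fin.val (bperm_apply e j a)

theorem map_T0 (e : Fin r × Fin m ↪ Fin n) (a0 : Fin m) :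
    (T0 e a0).map (bperm e).toEmbedding = T0 e a0 := by
  ext x
  constructor
  · intro hx
    obtain ⟨y, hy, rfl⟩ := Finset.mem_map.mp hx
    obtain ⟨j, -, rfl⟩ := Finset.mem_map.mp hy
    exact Finset.mem_map.mpr ⟨finRotate r j, Finset.mem_univ _, (bperm_apply e j a0).symm⟩
  · intro hx
    obtain ⟨j, -, rfl⟩ := Finset.mem_map.mp hx
    refine Finset.mem_map.mpr ⟨e ((finRotate r).symm j, a0), Finset.mem_map.mpr ⟨_, Finset.mem_univ _, rfl⟩, ?_⟩
    show bperm e _ = _
    rw [bperm_apply, Equiv.apply_symm_apply]; rfl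

section

variable {Γ : Type w} [Group Γ] [Finite Γ] {σ : Γ →* GL (Fin n) F} {p : ℕ} [Fact p.Prime] [CharP F p]
  [Fact r.Prime] (hF : Fintype.card F = q ^ 2) {S : Finset (Fin n)} (hr : σ.range = SUS F q S)
  (hc : σ.ker ≤ Subgroup.center Γ) (hA : ¬ p ∣ Nat.card σ.ker) (hd : σ.ker ≤ commutator Γ)
  {e : Fin r × Fin m ↪ Fin n} (he : Finset.univ.map e = S) (hB : ∀ j, Triv.{w} F q p (B e j))

include hF hr hc hA he hB in
theorem blocks (J : Finset (Fin r)) :
    (J.sup fun j => X σ q p (B e j)).map σ ≤ SUS F q (J.biUnion (B e)) ∧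
    (J.sup fun j => X σ q p (B e j)) ⊓ σ.ker = ⊥ ∧
    Nat.card ((J.sup fun j => X σ q p (B e j)).map σ) = Nat.card (suGL m F q) ^ J.card := by
  classical
  induction J using Finset.induction with
  | empty => simp [SUS_empty hF]
  | @insert a J ha ih =>
    obtain ⟨i1, i2, i3⟩ := ih
    rw [Finset.sup_insert, Finset.biUnion_insert, Subgroup.map_sup, Finset.card_insert_of_notMem ha]
    have hsub : B e a ⊆ S := he ▸ B_subset e a
    have hdisj : Disjoint (B e a) (J.biUnion (B e)) := by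
      rw [Finset.disjoint_biUnion_right]
      exact fun j hj => B_disjoint e fun h => ha (h ▸ hj)
    have hd0 : SUS F q (B e a) ⊓ (J.sup fun j => X σ q p (B e j)).map σ = ⊥ := by
      rw [eq_bot_iff]
      refine (inf_le_inf_left _ i1).trans ?_
      rw [SUS_inter hF, Finset.disjoint_iff_inter_eq_empty.mp hdisj, SUS_empty hF]
    rw [map_X hF hr hsub]
    refine ⟨sup_le (SUS_mono Finset.subset_union_left) (i1.trans (SUS_mono Finset.subset_union_right)),
      sup_inf_ker ?_ (X_inf_ker hF hr hc hA hsub (hB a)) i2 (by rw [map_X hF hr hsub]; exact hd0), ?_⟩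
    · refine Finset.sup_le fun j hj => le_normalizer_of_conj fun y hy x hx => ?_
      rw [(X_commute hF hr hc hA (B_disjoint e fun h => ha (by rwa [← h])) hy hx).eq, mul_inv_cancel_right]
      exact hx
    · rw [natCard_sup ?_ hd0, i3, pow_succ', Nat.card_congr (susEquiv hF (blk e a)).toEquiv, B]
      refine le_normalizer_of_conj fun y hy x hx => ?_
      rw [(commute_of_disjoint hF hdisj.symm (i1 hy) hx).eq, mul_inv_cancel_right]
      exact hx

include hF hr hc hA hd he hB in
theorem not_dvd_wreath (hrp : r ≠ p) (hpar : Even ((r - 1) * m)) (a0 : Fin m) (Hh : Subgroup Γ)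
    (hHm : Hh.map σ = dg F q (T0 e a0)) (hHk : Hh ⊓ σ.ker = ⊥)
    (hHs : ∀ γ : Γ, (∀ k, ∃ c : F, c ≠ 0 ∧ (σ γ : Matrix (Fin n) (Fin n) F) *ᵥ Pi.single k 1 =
      c • (Pi.single (bperm e k) 1 : Fin n → F)) → ∀ x ∈ Hh, γ * x * γ⁻¹ ∈ Hh)
    (hV : Arith.V r q (r * m) = r * Arith.V r q m + 1) : ¬ r ∣ Nat.card σ.ker := by
  classical
  have hrpr : r.Prime := Fact.out
  set j0 : Fin r := ⟨0, hrpr.pos⟩
  set DD := Finset.univ.sup fun j => X σ q p (B e j) with hDD
  obtain ⟨d1, d2, d3⟩ := blocks hF hr hc hA he hB Finset.univ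
  rw [← hDD] at d1 d2 d3
  rw [Finset.card_univ, Fintype.card_fin] at d3
  set P := monoGL (bperm e) (fun _ => (1 : F)) (by rw [sign_bperm e hpar]; simp) with hP
  have hPS : P ∈ SUS F q S :=
    monoGL_mem hF _ (fun _ => one_pow _) (fun k hk => bperm_off e (he.symm ▸ hk)) fun _ _ => rfl
  obtain ⟨s, hs⟩ := (hr.ge hPS : P ∈ σ.range)
  have hmP : ∀ k, ∃ c : F, c ≠ 0 ∧ (σ s : Matrix (Fin n) (Fin n) F) *ᵥ Pi.single k 1 =
      c • (Pi.single (bperm e k) 1 : Fin n → F) := fun k => ⟨1, one_ne_zero, by rw [hs, hP, monoGL_single]⟩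
  -- the torus normalises the blocks
  have hHD : Hh ≤ Subgroup.normalizer (DD : Set Γ) := le_normalizer_of_conj fun a ha x hx => by
    obtain ⟨d, -, hda⟩ := hHm.le ⟨a, ha, rfl⟩
    have hle : DD.map (MulAut.conj a).toMonoidHom ≤ DD := by
      rw [Subgroup.map_le_iff_le_comap, hDD]
      refine Finset.sup_le fun j _ y hy => ?_
      have := conj_X hF hr (diag_mono hda.symm) hy
      show a * y * a⁻¹ ∈ Finset.univ.sup fun j => X σ q p (B e j)
      exact (Finset.le_sup (f := fun j => X σ q p (B e j)) (Finset.mem_univ j))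
        (by simpa [Finset.map_refl, Equiv.Perm.one_def] using this)
    exact hle ⟨x, hx, rfl⟩
  have hSB : ∀ j : Fin r, DD.map σ ≤ blockOne F (blk e j) := fun j => by
    rw [Subgroup.map_le_iff_le_comap, hDD]
    refine Finset.sup_le fun i _ x hx => ?_
    have hx' : σ x ∈ SUS F q (B e i) := sigma_mem_of_mem_pGen hx
    rcases eq_or_ne i j with rfl | hij
    · exact SUS_le_blockOne hF (blk e i) hx'
    · exact SUS_le_blockOne_of_disjoint (blk e j) (B_disjoint e hij.symm) hx'
  have hdisj1 : DD.map σ ⊓ dg F q (T0 e a0) = ⊥ := by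
    rw [eq_bot_iff]
    rintro g ⟨hg, d, ⟨-, hd2, -⟩, rfl⟩
    have h1 : d = 1 := funext fun k => by
      by_cases hk : k ∈ T0 e a0
      · obtain ⟨j, -, rfl⟩ := Finset.mem_map.mp hk
        have h := diagGL_blockOne (hSB j hg)
        rw [Finset.prod_eq_single a0 (fun b _ hb => hd2 _ fun hT => by
          obtain ⟨i, -, hi⟩ := Finset.mem_map.mp hT
          exact hb (Prod.mk.inj (e.injective hi)).2.symm) (fun h' => absurd (Finset.mem_univ _) h')] at h
        exact h
      · exact hd2 k hk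
    rw [h1, map_one]; exact one_mem _
  set M := DD ⊔ Hh with hM
  have hMk : M ⊓ σ.ker = ⊥ := sup_inf_ker hHD d2 hHk (by rw [hHm]; exact hdisj1)
  have hsM : s ∈ Subgroup.normalizer (M : Set Γ) := by
    refine mem_normalizer_of_conj fun x hx => ?_
    have hle : M.map (MulAut.conj s).toMonoidHom ≤ M := by
      rw [Subgroup.map_le_iff_le_comap, hM, hDD]
      refine sup_le (Finset.sup_le fun j _ y hy => ?_) fun y hy => ?_
      · show s * y * s⁻¹ ∈ (Finset.univ.sup fun j => X σ q p (B e j)) ⊔ Hh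
        refine Subgroup.mem_sup_left ?_
        have := conj_X hF hr hmP hy
        rw [map_B] at this
        exact (Finset.le_sup (f := fun j => X σ q p (B e j)) (Finset.mem_univ _)) this
      · exact Subgroup.mem_sup_right (hHs s hmP y hy)
    exact hle ⟨x, hx, rfl⟩
  have hPn : ∀ (k : ℕ) (x : Fin n), ((P ^ k : GL (Fin n) F) : Matrix (Fin n) (Fin n) F) *ᵥ Pi.single x 1 =
      (Pi.single ((bperm e ^ k) x) 1 : Fin n → F) := by
    intro k
    induction k with
    | zero => intro x; simp only [pow_zero, Units.val_one, one_mulVec, Equiv.Perm.one_apply]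
    | succ k ih =>
      intro x
      rw [pow_succ', Units.val_mul, ← mulVec_mulVec, ih, hP, monoGL_single, one_smul, pow_succ']
      rfl
  have hPr : P ^ r = 1 := gl_ext_single fun x => by
    rw [hPn, Units.val_one, one_mulVec]
    congr 1
    by_cases hx : x ∈ Finset.univ.map e
    · obtain ⟨⟨j, a⟩, -, rfl⟩ := Finset.mem_map.mp hx
      rw [bperm_pow]
      congr 2
      exact Fin.ext (by rw [rot_iterate, Nat.add_mod_right, Nat.mod_eq_of_lt j.2])
    · exact Equiv.Perm.pow_apply_eq_self_of_apply_eq_self (bperm_off e hx) r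
  have hP1 : P ≠ 1 := fun h1 => by
    have h2 := hPn 1 (e (j0, a0))
    rw [pow_one, h1, Units.val_one, one_mulVec, bperm_pow] at h2
    have h3 := congrFun h2 (e (j0, a0))
    rw [Pi.single_eq_same, Pi.single_apply] at h3
    split at h3
    · next h4 =>
      have h5 := congrArg Fin.val (Prod.mk.inj (e.injective h4)).1
      rw [rot_iterate] at h5
      simp [j0, Nat.mod_eq_of_lt hrpr.one_lt] at h5
    · exact one_ne_zero h3
  have hcardP : Nat.card (Subgroup.zpowers P) = r := by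
    rw [Nat.card_zpowers]; exact orderOf_eq_prime hPr hP1
  have hnP : Subgroup.zpowers P ≤ Subgroup.normalizer ((M.map σ : Subgroup (GL (Fin n) F)) : Set (GL (Fin n) F)) := by
    rw [Subgroup.zpowers_le]
    refine mem_normalizer_of_conj ?_
    rintro _ ⟨x, hx, rfl⟩
    exact ⟨s * x * s⁻¹, ((Subgroup.mem_normalizer_iff.mp hsM) x).mp hx, by simp [hs]⟩
  have hdisj2 : M.map σ ⊓ Subgroup.zpowers P = ⊥ := by
    rw [eq_bot_iff]
    rintro g ⟨⟨x, hx, rfl⟩, hgP⟩
    replace hgP : σ x ∈ Subgroup.zpowers P := hgP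
    rw [← (isOfFinOrder_of_finite P).mem_powers_iff_mem_zpowers] at hgP
    obtain ⟨k, hk⟩ := hgP
    have hx' : x ∈ ((DD ⊔ Hh : Subgroup Γ) : Set Γ) := hx
    rw [Subgroup.coe_mul_of_right_le_normalizer_left DD Hh hHD] at hx'
    obtain ⟨y, hy, z, hz, rfl⟩ := hx'
    obtain ⟨d, -, hdz⟩ := hHm.le ⟨z, hz, rfl⟩
    obtain ⟨N, -, hN⟩ := hSB j0 ⟨y, hy, rfl⟩
    have h1 := hPn k (e (j0, a0))
    rw [show P ^ k = σ y * σ z by rw [← map_mul]; exact hk, ← hdz, Units.val_mul, ← mulVec_mulVec,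
      diagGL_single, mulVec_smul, bperm_pow,
      show (Pi.single (e (j0, a0)) (1 : F) : Fin n → F) = sel F (blk e j0) *ᵥ Pi.single a0 1 by
        rw [sel_single]; rfl, mulVec_mulVec, hN, ← mulVec_mulVec] at h1
    have h2 : (k : ℕ) % r = 0 := by
      by_contra hne
      have h3 := congrFun h1 (e ((finRotate r ^ k) j0, a0))
      rw [Pi.single_eq_same, Pi.smul_apply, sel_mulVec_off, smul_zero] at h3
      · exact zero_ne_one h3
      · intro hmem
        obtain ⟨b, -, hb⟩ := Finset.mem_map.mp hmem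
        have h5 := congrArg Fin.val (Prod.mk.inj (e.injective hb)).1
        rw [rot_iterate] at h5
        simp [j0] at h5
        exact hne h5.symm
    rw [Subgroup.mem_bot, show σ (y * z) = P ^ k from hk.symm, ← Nat.mod_add_div k r, h2, zero_add, pow_mul, hPr,
      one_pow]
  refine not_dvd_of_subgroup hc hd (M ⊔ Subgroup.zpowers s) ?_ ?_
  · have hT : (T0 e a0).Nonempty := ⟨_, Finset.mem_map.mpr ⟨j0, Finset.mem_univ _, rfl⟩⟩
    rw [Subgroup.map_sup, MonoidHom.map_zpowers, hs, natCard_sup hnP hdisj2, hcardP, hM, Subgroup.map_sup, hHm,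
      natCard_sup ?_ hdisj1, d3, natCard_dg hF hT, show (T0 e a0).card = r by simp [T0], hr,
      padicValNat.mul (mul_ne_zero (pow_ne_zero _ Nat.card_pos.ne') (pow_ne_zero _ (by omega))) hrpr.ne_zero,
      padicValNat.mul (pow_ne_zero _ Nat.card_pos.ne') (pow_ne_zero _ (by omega)), padicValNat.pow,
      padicValNat.pow, padicValNat_self]
    · have hBne : (B e j0).Nonempty := ⟨_, Finset.mem_map.mpr ⟨a0, Finset.mem_univ _, rfl⟩⟩
      have h1 := val_SUS (p := p) (r := r) hrp hF hBne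
      rw [show (B e j0).card = m by simp [B], B, ← Nat.card_congr (susEquiv hF (blk e j0)).toEquiv] at h1
      have hSne : S.Nonempty := hBne.mono (he ▸ B_subset e j0)
      have h2 := val_SUS (p := p) (r := r) hrp hF hSne
      rw [show S.card = r * m by simp [← he], hV, ← h1] at h2
      have h4 : (r - 1) * padicValNat r (q + 1) + padicValNat r (q + 1) = r * padicValNat r (q + 1) := by
        conv_lhs => rw [← Nat.succ_mul, show (r - 1).succ = r by have := hrpr.pos; omega]
      rw [mul_add] at h2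
      omega
    · rw [← hHm]
      refine le_normalizer_of_conj ?_
      rintro _ ⟨a, ha, rfl⟩ _ ⟨x, hx, rfl⟩
      exact ⟨a * x * a⁻¹, ((Subgroup.mem_normalizer_iff.mp (hHD ha)) x).mp hx, by simp⟩
  · refine le_bot_iff.mp (le_trans (inf_le_inf_right _ (commutator_sup_le (Subgroup.zpowers_le.mpr hsM) ?_)) hMk.le)
    intro a ha b hb
    obtain ⟨i, rfl⟩ := Subgroup.mem_zpowers_iff.mp ha
    obtain ⟨j, rfl⟩ := Subgroup.mem_zpowers_iff.mp hb
    exact (Commute.refl s).zpow_zpow i j

include hF hr hc hA hd he hB in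
/-- Blocks of size at least two: the torus lies in a lifted coordinate subgroup. -/
theorem not_dvd_wreath_big (hrp : r ≠ p) (hpar : Even ((r - 1) * m)) (a0 : Fin m)
    (hT : Triv.{w} F q p (T0 e a0)) (hV : Arith.V r q (r * m) = r * Arith.V r q m + 1) :
    ¬ r ∣ Nat.card σ.ker := by
  have hTS : T0 e a0 ⊆ S := he ▸ T0_subset e a0
  refine not_dvd_wreath hF hr hc hA hd he hB hrp hpar a0
    (X σ q p (T0 e a0) ⊓ (dg F q (T0 e a0)).comap σ) ?_ ?_ ?_ hV
  · refine le_antisymm ?_ fun g hg => ?_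
    · rintro _ ⟨x, hx, rfl⟩
      exact hx.2
    · obtain ⟨γ, hγ, rfl⟩ := exists_X (p := p) hF hr hTS (dg_le_SUS hF _ hg)
      exact ⟨γ, ⟨hγ, hg⟩, rfl⟩
  · rw [eq_bot_iff, ← X_inf_ker hF hr hc hA hTS hT]
    exact inf_le_inf_right _ inf_le_left
  · intro γ hm x hx
    refine ⟨by have := conj_X hF hr hm hx.1; rwa [map_T0] at this, ?_⟩
    obtain ⟨d, hd', hdx⟩ := hx.2
    show σ (γ * x * γ⁻¹) ∈ dg F q (T0 e a0)
    rw [map_mul, map_mul, map_inv, ← hdx, conj_diag hm]
    exact ⟨_, map_T0 e a0 ▸ DS_comp hd' (bperm e), rfl⟩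

end

end Cfsg.Agent.Lib.Schur.UnitMult
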