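import Cfsg.Agent.Lib.Schur.UnitBracket
import Cfsg.Agent.Lib.Schur.UnitTriples
import Cfsg.Agent.Lib.Schur.UnitWreath

/-!
Central extensions with kernel of exponent `p`: a complement of the kernel in the lifted radical, normalised by the
lifts of the coordinate subgroup on the other coordinates.
-/

set_option autoImplicit false
set_option linter.unusedSectionVars false

namespace Cfsg.Agent.Lib.Schur.UnitMult

open Matrix Cfsg.Agent.Lib.Schur Cfsg.Agent.Lib.Forms Cfsg.Agent.Lib.FormMax Cfsg.Agent.Lib.UnitaryMax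
open scoped commutatorElement

universe w

variable {F : Type*} [Field F] [Fintype F] {n q : ℕ}

local notation "Vs" => (Fin n → F)
local notation "h" => Cfsg.hermForm n F q

section

variable {Γ : Type w} [Group Γ] [Finite Γ] {σ : Γ →* GL (Fin n) F}
  (hF : Fintype.card F = q ^ 2) (hr : σ.range = suGL n F q) (hc : σ.ker ≤ Subgroup.center Γ)
  {i j : Fin n} {e f : Fin n → F} (hp : HP q i j e f)

/-- The lifted radical. -/
abbrev Nt (hF : Fintype.card F = q ^ 2) (hp : HP q i j e f) (σ : Γ →* GL (Fin n) F) : Subgroup Γ :=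
  (radGroup hF hp).comap σ

/-- The candidate complement cut out by `τ`. -/
def Qt (hF : Fintype.card F = q ^ 2) (hp : HP q i j e f) (σ : Γ →* GL (Fin n) F) (τ : Γ) : Subgroup Γ :=
  ⁅Nt hF hp σ, Nt hF hp σ⁆ ⊔ Subgroup.closure ((fun y => ⁅τ, y⁆) '' (Nt hF hp σ : Set Γ))

theorem bracket_le (hF : Fintype.card F = q ^ 2) (hp : HP q i j e f) :
    ⁅Nt hF hp σ, Nt hF hp σ⁆ ≤ Nt hF hp σ := by
  rw [Subgroup.commutator_le]
  intro a ha b hb
  rw [commutatorElement_def]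
  exact Subgroup.mul_mem _ (Subgroup.mul_mem _ (Subgroup.mul_mem _ ha hb) (Subgroup.inv_mem _ ha))
    (Subgroup.inv_mem _ hb)

include hF hr hp

/-- An element scaling the pair normalises the lifted radical. -/
theorem conj_Nt {γ : Γ} {l μ : F} (hl : l ≠ 0) (hμ : μ ≠ 0)
    (he : (σ γ : Matrix (Fin n) (Fin n) F) *ᵥ e = l • e) (hf : (σ γ : Matrix (Fin n) (Fin n) F) *ᵥ f = μ • f)
    {y : Γ} (hy : y ∈ Nt hF hp σ) : γ * y * γ⁻¹ ∈ Nt hF hp σ := by
  obtain ⟨w, t, hw⟩ := hy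
  exact ⟨_, _, hw.of_conj hF hp (hr.le ⟨γ, rfl⟩) hl hμ he hf⟩

theorem conj_bracket {γ : Γ} {l μ : F} (hl : l ≠ 0) (hμ : μ ≠ 0)
    (he : (σ γ : Matrix (Fin n) (Fin n) F) *ᵥ e = l • e) (hf : (σ γ : Matrix (Fin n) (Fin n) F) *ᵥ f = μ • f)
    {x : Γ} (hx : x ∈ ⁅Nt hF hp σ, Nt hF hp σ⁆) : γ * x * γ⁻¹ ∈ ⁅Nt hF hp σ, Nt hF hp σ⁆ := by
  have key : ⁅Nt hF hp σ, Nt hF hp σ⁆ ≤
      Subgroup.comap (MulAut.conj γ).toMonoidHom ⁅Nt hF hp σ, Nt hF hp σ⁆ := ?_
  · exact key hx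
  rw [Subgroup.commutator_le]
  intro a ha b hb
  show γ * ⁅a, b⁆ * γ⁻¹ ∈ ⁅Nt hF hp σ, Nt hF hp σ⁆
  rw [show γ * ⁅a, b⁆ * γ⁻¹ = ⁅γ * a * γ⁻¹, γ * b * γ⁻¹⁆ by simp only [commutatorElement_def]; group]
  exact Subgroup.commutator_mem_commutator (conj_Nt hF hr hp hl hμ he hf ha) (conj_Nt hF hr hp hl hμ he hf hb)

theorem mem_Qt {τ : Γ} {l μ : F} (hl : l ≠ 0) (hμ : μ ≠ 0)
    (he : (σ τ : Matrix (Fin n) (Fin n) F) *ᵥ e = l • e) (hf : (σ τ : Matrix (Fin n) (Fin n) F) *ᵥ f = μ • f)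
    {x : Γ} (hx : x ∈ Qt hF hp σ τ) :
    ∃ y ∈ Nt hF hp σ, ∃ d ∈ ⁅Nt hF hp σ, Nt hF hp σ⁆, x = ⁅τ, y⁆ * d := by
  set N := Nt hF hp σ with hN
  set D := ⁅N, N⁆ with hD
  have hτy : ∀ {y}, y ∈ N → ⁅τ, y⁆ ∈ N := fun {y} hy => by
    rw [commutatorElement_def]
    exact Subgroup.mul_mem _ (conj_Nt hF hr hp hl hμ he hf hy) (Subgroup.inv_mem _ hy)
  have hcj : ∀ {a d}, a ∈ N → d ∈ D → a * d * a⁻¹ ∈ D := fun {a d} ha hd => by
    rw [show a * d * a⁻¹ = ⁅a, d⁆ * d by rw [commutatorElement_def]; group]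
    exact Subgroup.mul_mem _ (Subgroup.commutator_mem_commutator ha (bracket_le hF hp hd)) hd
  let M : Subgroup Γ :=
    { carrier := {x | ∃ y ∈ N, ∃ d ∈ D, x = ⁅τ, y⁆ * d}
      one_mem' := ⟨1, one_mem _, 1, one_mem _, by simp⟩
      mul_mem' := by
        rintro _ _ ⟨y, hy, d, hd, rfl⟩ ⟨y', hy', d', hd', rfl⟩
        refine ⟨y * y', Subgroup.mul_mem _ hy hy', ⁅⁅τ, y'⁆⁻¹, y⁆⁻¹ * ⁅(⁅τ, y'⁆)⁻¹, d⁆ * d * d', ?_, ?_⟩
        · refine Subgroup.mul_mem _ (Subgroup.mul_mem _ (Subgroup.mul_mem _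
            (Subgroup.inv_mem _ (Subgroup.commutator_mem_commutator (Subgroup.inv_mem _ (hτy hy')) hy)) ?_) hd) hd'
          exact Subgroup.commutator_mem_commutator (Subgroup.inv_mem _ (hτy hy')) (bracket_le hF hp hd)
        · simp only [commutatorElement_def]; group
      inv_mem' := by
        rintro _ ⟨y, hy, d, hd, rfl⟩
        refine ⟨y⁻¹, Subgroup.inv_mem _ hy, ⁅y⁻¹, ⁅τ, y⁆⁆ * (⁅τ, y⁆ * d⁻¹ * ⁅τ, y⁆⁻¹), ?_, ?_⟩
        · exact Subgroup.mul_mem _ (Subgroup.commutator_mem_commutator (Subgroup.inv_mem _ hy)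
            (hτy hy)) (hcj (hτy hy) (Subgroup.inv_mem _ hd))
        · simp only [commutatorElement_def]; group }
  suffices Qt hF hp σ τ ≤ M from this hx
  refine sup_le (fun d hd => ⟨1, one_mem _, d, hd, by simp⟩) ((Subgroup.closure_le _).mpr ?_)
  rintro _ ⟨y, hy, rfl⟩
  exact ⟨y, hy, 1, one_mem _, by simp⟩

include hc

/-- It is a complement of the kernel. -/
theorem Qt_complement (hn : 3 ≤ n) (hD : ⁅Nt hF hp σ, Nt hF hp σ⁆ ⊓ σ.ker = ⊥) {τ : Γ} {l μ : F} (hl : l ≠ 0)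
    (hμ : μ ≠ 0) (he : (σ τ : Matrix (Fin n) (Fin n) F) *ᵥ e = l • e)
    (hf : (σ τ : Matrix (Fin n) (Fin n) F) *ᵥ f = μ • f)
    (hfix : ∀ w ∈ Wsp F i j, l ^ q • ((σ τ : Matrix (Fin n) (Fin n) F) *ᵥ w) = w → w = 0) :
    (Qt hF hp σ τ).map σ = radGroup hF hp ∧ Qt hF hp σ τ ⊓ σ.ker = ⊥ := by
  set N := Nt hF hp σ with hN
  set D := ⁅N, N⁆ with hDdef
  have hσ : σ τ ∈ suGL n F q := hr.le ⟨τ, rfl⟩
  have hz : ∀ {z : Γ} {t : F}, IsE q i j e (σ z) 0 t → ∃ d ∈ D, σ d = σ z := by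
    intro z t hz
    have hcond := hz.cond
    rw [h_zero_left hF, add_zero, add_comm] at hcond
    obtain ⟨x, y, a, b, s, s', hx, hy, hxy⟩ := exists_comm_El hF hr hp hn hcond
    exact ⟨⁅x, y⁆, Subgroup.commutator_mem_commutator ⟨a, s, hx⟩ ⟨b, s', hy⟩, hxy.congr hz⟩
  have hτy : ∀ {y : Γ} {w : Vs} {t : F}, IsE q i j e (σ y) w t → ∃ s : F,
      IsE q i j e (σ ⁅τ, y⁆) (l ^ q • ((σ τ : Matrix (Fin n) (Fin n) F) *ᵥ w) - w) s := by
    intro y w t hy
    have h1 := El_mul hF hp (hy.of_conj hF hp hσ hl hμ he hf) (El_inv hF hp hy)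
    rw [← sub_eq_add_neg, ← commutatorElement_def] at h1
    exact ⟨_, h1⟩
  constructor
  · refine le_antisymm ?_ fun g hg => ?_
    · rintro _ ⟨x, hx, rfl⟩
      obtain ⟨y, hy, d, hd, rfl⟩ := mem_Qt hF hr hp hl hμ he hf hx
      obtain ⟨w, t, hy⟩ := hy
      obtain ⟨s, hs⟩ := hτy hy
      have hd' : σ d ∈ radGroup hF hp := bracket_le hF hp hd
      rw [map_mul]
      exact Subgroup.mul_mem _ ⟨_, _, hs⟩ hd'
    obtain ⟨w, t, hw⟩ := hg
    let L : Wsp F i j → Wsp F i j := fun v =>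
      ⟨l ^ q • ((σ τ : Matrix (Fin n) (Fin n) F) *ᵥ (v : Vs)) - v,
        Submodule.sub_mem _ (Submodule.smul_mem _ _ (scale_mem_Wsp hF hr hp hl hμ he hf v.2)) v.2⟩
    have hinj : Function.Injective L := by
      rintro ⟨a, ha⟩ ⟨b, hb⟩ hab
      have hab' := congrArg Subtype.val hab
      simp only [L] at hab'
      refine Subtype.ext (sub_eq_zero.mp (hfix (a - b) (Submodule.sub_mem _ ha hb) ?_))
      rw [mulVec_sub, smul_sub]
      exact (sub_eq_sub_iff_sub_eq_sub.mp hab')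
    obtain ⟨⟨a, ha⟩, hLa⟩ := (Finite.injective_iff_surjective.mp hinj) ⟨w, hw.mem⟩
    obtain ⟨y, t0, hy⟩ := exists_El_w hF hr hp ha
    obtain ⟨s, hs⟩ := hτy hy
    have hLa' : l ^ q • ((σ τ : Matrix (Fin n) (Fin n) F) *ᵥ a) - a = w := congrArg Subtype.val hLa
    rw [hLa'] at hs
    obtain ⟨x, rfl⟩ := (hr.ge (hw.mem_suGL hF hp) : g ∈ σ.range)
    have hdiff := El_mul hF hp (El_inv hF hp hs) hw
    rw [neg_add_cancel] at hdiff
    obtain ⟨d, hd, hσd⟩ := hz hdiff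
    refine ⟨⁅τ, y⁆ * d, Subgroup.mul_mem _ (Subgroup.mem_sup_right (Subgroup.subset_closure ⟨y, ⟨a, t0, hy⟩, rfl⟩))
      (Subgroup.mem_sup_left hd), ?_⟩
    rw [map_mul, hσd, map_mul, map_inv, mul_inv_cancel_left]
  · rw [eq_bot_iff]
    rintro x ⟨hx, hxk⟩
    obtain ⟨y, hy, d, hd, rfl⟩ := mem_Qt hF hr hp hl hμ he hf hx
    obtain ⟨a, t, hy'⟩ := hy
    obtain ⟨s, hs⟩ := hτy hy'
    have hd' := bracket_le hF hp hd
    obtain ⟨b, s', hd''⟩ := hd'
    have hb : b = 0 := by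
      have hle : D ≤ ((radGroup hF hp).comap σ) ⊓ (Subgroup.closure {g | ∃ t, IsE q i j e g 0 t}).comap σ := by
        rw [hDdef, Subgroup.commutator_le]
        intro u hu v hv
        refine ⟨bracket_le hF hp (Subgroup.commutator_mem_commutator hu hv), ?_⟩
        obtain ⟨u1, u2, hu'⟩ := hu
        obtain ⟨v1, v2, hv'⟩ := hv
        exact Subgroup.subset_closure ⟨_, El_comm hF hp hu' hv'⟩
      obtain ⟨t', ht'⟩ : ∃ t', IsE q i j e (σ d) 0 t' := by
        refine Subgroup.closure_induction (p := fun g _ => ∃ t, IsE q i j e g 0 t) (fun _ hg => hg)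
          ⟨0, isE_one hF hp⟩ ?_ ?_ (hle hd).2
        · rintro g g' - - ⟨t1, h1⟩ ⟨t2, h2⟩
          have := h1.mul hF hp h2
          rw [add_zero] at this
          exact ⟨_, this⟩
        · rintro g - ⟨t1, h1⟩
          have := h1.inv hF hp
          rw [neg_zero] at this
          exact ⟨_, this⟩
      exact (hd''.inj hF hp ht').1
    have h0 := (El_mul hF hp hs hd'').inj hF hp (El_of_ker hF hp hxk)
    rw [hb, add_zero, sub_eq_zero] at h0
    have ha : a = 0 := hfix a hy'.mem h0.1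
    subst ha
    obtain ⟨d0, hd0, hσd0⟩ := hz hy'
    have hk : σ (d0⁻¹ * y) = 1 := by rw [map_mul, map_inv, hσd0, inv_mul_cancel]
    have hτd : ⁅τ, y⁆ = ⁅τ, d0⁆ := by
      have := commutatorElement_mul_central τ d0 (one_mem (Subgroup.center Γ)) (hc (MonoidHom.mem_ker.mpr hk))
      rw [mul_one, mul_inv_cancel_left] at this
      exact this
    have hmem : ⁅τ, d0⁆ ∈ D := by
      rw [commutatorElement_def]
      exact Subgroup.mul_mem _ (conj_bracket hF hr hp hl hμ he hf hd0) (Subgroup.inv_mem _ hd0)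
    rw [← hD]
    exact ⟨hτd ▸ Subgroup.mul_mem _ (hτd ▸ hmem) hd, hxk⟩

/-- Elements scaling the pair and commuting with `τ` modulo the kernel normalise it. -/
theorem Qt_conj {τ γ : Γ} {l μ : F} (hl : l ≠ 0) (hμ : μ ≠ 0)
    (he : (σ γ : Matrix (Fin n) (Fin n) F) *ᵥ e = l • e) (hf : (σ γ : Matrix (Fin n) (Fin n) F) *ᵥ f = μ • f)
    (hcomm : σ γ * σ τ = σ τ * σ γ) : γ ∈ Subgroup.normalizer (Qt hF hp σ τ : Set Γ) := by
  refine mem_normalizer_of_conj ?_
  have key : Qt hF hp σ τ ≤ Subgroup.comap (MulAut.conj γ).toMonoidHom (Qt hF hp σ τ) := ?_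
  · exact fun x hx => key hx
  refine sup_le (fun d hd => Subgroup.mem_sup_left (conj_bracket hF hr hp hl hμ he hf hd))
    ((Subgroup.closure_le _).mpr ?_)
  rintro _ ⟨y, hy, rfl⟩
  show γ * ⁅τ, y⁆ * γ⁻¹ ∈ Qt hF hp σ τ
  have hk : σ (τ⁻¹ * (γ * τ * γ⁻¹)) = 1 := by
    rw [map_mul, map_mul, map_mul, map_inv, map_inv, hcomm]; group
  have h1 := commutatorElement_mul_central τ (γ * y * γ⁻¹) (hc (MonoidHom.mem_ker.mpr hk)) (one_mem _)
  rw [mul_inv_cancel_left, mul_one] at h1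
  rw [show γ * ⁅τ, y⁆ * γ⁻¹ = ⁅γ * τ * γ⁻¹, γ * y * γ⁻¹⁆ by simp only [commutatorElement_def]; group, h1]
  exact Subgroup.mem_sup_right (Subgroup.subset_closure ⟨_, conj_Nt hF hr hp hl hμ he hf hy, rfl⟩)

/-- Commuting elements cut out the same complement. -/
theorem Qt_eq {τ τ' : Γ} {l μ : F} (hl : l ≠ 0) (hμ : μ ≠ 0)
    (he : (σ τ' : Matrix (Fin n) (Fin n) F) *ᵥ e = l • e) (hf : (σ τ' : Matrix (Fin n) (Fin n) F) *ᵥ f = μ • f)
    (hcomm : σ τ' * σ τ = σ τ * σ τ') (h1 : (Qt hF hp σ τ).map σ = radGroup hF hp)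
    (h2 : Qt hF hp σ τ ⊓ σ.ker = ⊥) (h1' : (Qt hF hp σ τ').map σ = radGroup hF hp) :
    Qt hF hp σ τ' = Qt hF hp σ τ := by
  have hn := Subgroup.mem_normalizer_iff.mp (Qt_conj hF hr hc hp hl hμ he hf hcomm)
  have hle : Qt hF hp σ τ' ≤ Qt hF hp σ τ := by
    refine sup_le le_sup_left ((Subgroup.closure_le _).mpr ?_)
    rintro _ ⟨y, hy, rfl⟩
    obtain ⟨y0, hy0, hy0'⟩ := (h1.ge hy : σ y ∈ (Qt hF hp σ τ).map σ)
    have hk : σ (y0⁻¹ * y) = 1 := by rw [map_mul, map_inv, hy0', inv_mul_cancel]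
    have h3 := commutatorElement_mul_central τ' y0 (one_mem (Subgroup.center Γ)) (hc (MonoidHom.mem_ker.mpr hk))
    rw [mul_one, mul_inv_cancel_left] at h3
    show ⁅τ', y⁆ ∈ Qt hF hp σ τ
    rw [h3, commutatorElement_def]
    exact Subgroup.mul_mem _ ((hn y0).mp hy0) (Subgroup.inv_mem _ hy0)
  refine le_antisymm hle fun x hx => ?_
  obtain ⟨x', hx', he'⟩ := (h1'.ge (h1.le ⟨x, hx, rfl⟩) : σ x ∈ (Qt hF hp σ τ').map σ)
  have h3 : x'⁻¹ * x ∈ Qt hF hp σ τ ⊓ σ.ker := ⟨Subgroup.mul_mem _ (Subgroup.inv_mem _ (hle hx')) hx,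
    MonoidHom.mem_ker.mpr (by rw [map_mul, map_inv, he', inv_mul_cancel])⟩
  rw [h2, Subgroup.mem_bot, inv_mul_eq_one] at h3
  exact h3 ▸ hx'

omit hc hr

/-- The other coordinates fix the pair. -/
theorem compl_fix {g : GL (Fin n) F} (hg : g ∈ SUS F q ({i, j}ᶜ : Finset (Fin n))) {v : Vs}
    (hv : ∀ k, k ≠ i → k ≠ j → v k = 0) : (g : Matrix (Fin n) (Fin n) F) *ᵥ v = v :=
  apply_of_off hg fun k hk => by
    simp only [Finset.mem_compl, Finset.mem_insert, Finset.mem_singleton, not_or] at hk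
    exact hv k hk.1 hk.2

theorem diag_lift {g : GL (Fin n) F} {D : Fin n → F} (hDi : D i = 1) (hDj : D j = 1)
    (he : (g : Matrix (Fin n) (Fin n) F) *ᵥ e = e) (hf : (g : Matrix (Fin n) (Fin n) F) *ᵥ f = f)
    (hW : ∀ w ∈ Wsp F i j, ∀ k, ((g : Matrix (Fin n) (Fin n) F) *ᵥ w) k = D k * w k) (k : Fin n) :
    (g : Matrix (Fin n) (Fin n) F) *ᵥ Pi.single k 1 = D k • (Pi.single k 1 : Vs) := by
  by_cases hk : k = i ∨ k = j
  · have hD : D k = 1 := hk.elim (fun e' => e' ▸ hDi) (fun e' => e' ▸ hDj)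
    have hv : ∀ m, m ≠ i → m ≠ j → (Pi.single k 1 : Vs) m = 0 := fun m hmi hmj =>
      Pi.single_eq_of_ne (fun e' => hk.elim (fun e'' => hmi (e'.trans e'')) fun e'' => hmj (e'.trans e'')) _
    set v := (Pi.single k 1 : Vs)
    have h0 : v - h v f • e - h v e • f = 0 := by
      obtain ⟨hwi, hwj⟩ := sub_plane_mem hF hp v
      funext m
      by_cases hmi : m = i
      · rw [hmi]; exact hwi
      by_cases hmj : m = j
      · rw [hmj]; exact hwj
      simp [hv m hmi hmj, hp.se m hmi hmj, hp.sf m hmi hmj]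
    rw [sub_sub, sub_eq_zero] at h0
    rw [hD, one_smul, h0, mulVec_add, mulVec_smul, mulVec_smul, he, hf]
  · push Not at hk
    funext m
    have := hW _ (single_mem_Wsp hk.1 hk.2 (1 : F)) m
    rw [one_smul] at this
    rw [this, Pi.smul_apply, smul_eq_mul]
    by_cases hm : m = k
    · rw [hm]
    · simp [hm]

end

/-! ### The diagonal elements used over the field of four elements -/

/-- Non-trivial cube roots of unity with product one on any set not a singleton. -/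
theorem exists_fpf {α : Type*} [DecidableEq α] {F : Type*} [Field F] {ω : F} (hω : ω ^ 3 = 1) (R : Finset α)
    (hR : R.card ≠ 1) :
    ∃ D : α → F, (∀ k, D k = ω ∨ D k = ω ^ 2) ∧ ∏ k ∈ R, D k = 1 := by
  obtain ⟨A, hA, hAc⟩ := Finset.exists_subset_card_eq (s := R) (n := 2 * R.card % 3) (by omega)
  refine ⟨fun k => if k ∈ A then ω else ω ^ 2, fun k => by by_cases hk : k ∈ A <;> simp [hk], ?_⟩
  rw [← Finset.prod_sdiff hA, Finset.prod_congr rfl (fun k hk => if_neg (Finset.mem_sdiff.mp hk).2),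
    Finset.prod_congr rfl (fun k hk => if_pos hk), Finset.prod_const, Finset.prod_const,
    Finset.card_sdiff_of_subset hA, hAc, ← pow_mul, ← pow_add]
  obtain ⟨m, hm⟩ : 3 ∣ 2 * (R.card - 2 * R.card % 3) + 2 * R.card % 3 := by omega
  rw [hm, pow_mul, hω, one_pow]

/-- A complement of the kernel in the lifted radical, normalised by the other coordinates. -/
theorem exists_radLift {Γ : Type w} [Group Γ] [Finite Γ] {σ : Γ →* GL (Fin n) F} (hF : Fintype.card F = q ^ 2)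
    (hr : σ.range = suGL n F q) (hc : σ.ker ≤ Subgroup.center Γ) (p : ℕ) [Fact p.Prime] [CharP F p]
    (hexp : ∀ z ∈ σ.ker, z ^ p = 1) (hn : 3 ≤ n) (h32 : ¬ (n = 3 ∧ q = 2))
    (hexc : (n, q) ∉ ({(4, 2), (4, 3), (6, 2)} : Set (ℕ × ℕ))) {i j : Fin n} {e f : Fin n → F}
    (hp : HP q i j e f) :
    ∃ Q : Subgroup Γ, Q.map σ = radGroup hF hp ∧ Q ⊓ σ.ker = ⊥ ∧
      ∀ γ : Γ, σ γ ∈ SUS F q ({i, j}ᶜ : Finset (Fin n)) → γ ∈ Subgroup.normalizer (Q : Set Γ) := by
  classical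
  have hq2 := Forms.two_le_of_card_sq hF
  simp only [Set.mem_insert_iff, Set.mem_singleton_iff, Prod.mk.injEq] at hexc
  have hD : ⁅Nt hF hp σ, Nt hF hp σ⁆ ⊓ σ.ker = ⊥ := by
    rcases le_or_gt 4 q with h4 | h4
    · exact bracket_big hF hr hc hp hn h32 p h4
    · exact bracket_small hF hr hc hp hn h32 (by omega) (by omega) p hexp
  have hfix : ∀ {γ : Γ}, σ γ ∈ SUS F q ({i, j}ᶜ : Finset (Fin n)) →
      (σ γ : Matrix (Fin n) (Fin n) F) *ᵥ e = (1 : F) • e ∧ (σ γ : Matrix (Fin n) (Fin n) F) *ᵥ f = (1 : F) • f :=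
    fun {γ} hγ => by rw [one_smul, one_smul]; exact ⟨compl_fix hF hp hγ hp.se, compl_fix hF hp hγ hp.sf⟩
  rcases le_or_gt 3 q with h3 | h3
  · obtain ⟨l, hl0, hlq, hl1, -⟩ := exists_fixed_scalar hF h3
    obtain ⟨τ, hτe, hτf, hτW'⟩ := exists_lift_tor hF hr hp hl0 (fun _ => 1) rfl rfl (fun _ => one_pow _)
      (by rw [hlq, mul_inv_cancel₀ hl0, Finset.prod_const_one, one_mul])
    have hτW : ∀ w ∈ Wsp F i j, (σ τ : Matrix (Fin n) (Fin n) F) *ᵥ w = (1 : F) • w := fun w hw =>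
      funext fun k => by rw [hτW' w hw k, Pi.smul_apply, smul_eq_mul]
    have hμ : (l ^ q)⁻¹ ≠ 0 := inv_ne_zero (pow_ne_zero _ hl0)
    obtain ⟨h1, h2⟩ := Qt_complement hF hr hc hp hn hD hl0 hμ hτe hτf (fun w hw e' => by
      rw [hτW w hw, one_smul, hlq] at e'
      refine (smul_eq_zero.mp (show (l - 1) • w = 0 by rw [sub_smul, one_smul, e', sub_self])).resolve_left
        (sub_ne_zero.mpr hl1))
    refine ⟨_, h1, h2, fun γ hγ => ?_⟩
    exact Qt_conj hF hr hc hp one_ne_zero one_ne_zero (hfix hγ).1 (hfix hγ).2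
      (sigma_commute hF hr hp one_ne_zero one_ne_zero hτe hτf hτW (hfix hγ).1 (hfix hγ).2)
  · obtain rfl : q = 2 := by omega
    obtain ⟨-, -, ω, hω3, hω, hω1, hω0⟩ := four_facts hF
    set C := ({i, j}ᶜ : Finset (Fin n)) with hC
    have hCc : C.card = n - 2 := by
      rw [hC, Finset.card_compl, Finset.card_pair hp.ne, Fintype.card_fin]
    have hω2 : ω ^ 2 ≠ 1 := fun e' => hω1 (by linear_combination hω3 - ω * e')
    -- a fixed point free diagonal element constant on `T`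
    have hdiag : ∀ T ⊆ C, (T = ∅ ∨ T.card = 3) → ∃ (τ : Γ) (D : Fin n → F),
        (∀ k, (σ τ : Matrix (Fin n) (Fin n) F) *ᵥ Pi.single k 1 = D k • (Pi.single k 1 : Fin n → F)) ∧
        (σ τ : Matrix (Fin n) (Fin n) F) *ᵥ e = (1 : F) • e ∧
        (σ τ : Matrix (Fin n) (Fin n) F) *ᵥ f = ((1 : F) ^ 2)⁻¹ • f ∧
        (∀ w ∈ Wsp F i j, (1 : F) ^ 2 • ((σ τ : Matrix (Fin n) (Fin n) F) *ᵥ w) = w → w = 0) ∧
        ∀ k ∈ T, D k = ω := by
      intro T hTC hT
      have hR : (C \ T).card ≠ 1 := by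
        rw [Finset.card_sdiff_of_subset hTC, hCc]
        rcases hT with rfl | hT
        · simp; omega
        · omega
      obtain ⟨D0, hD0, hprod⟩ := exists_fpf hω3 (C \ T) hR
      set D : Fin n → F := fun k => if k ∈ T then ω else if k ∈ C then D0 k else 1 with hDdef
      have hDC : ∀ k ∈ C, D k = ω ∨ D k = ω ^ 2 := fun k hk => by
        simp only [hDdef, if_pos hk]; split_ifs
        · exact Or.inl rfl
        · exact hD0 k
      have hout : ∀ k, k ∉ C → D k = 1 := fun k hk => by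
        simp only [hDdef, if_neg hk, if_neg fun hkT => hk (hTC hkT)]
      have hDi : D i = 1 := hout i (by simp [hC])
      have hDj : D j = 1 := hout j (by simp [hC])
      have hn1 : ∀ k, D k ^ (2 + 1) = 1 := fun k => by
        by_cases hk : k ∈ C
        · rcases hDC k hk with e' | e' <;> rw [e']
          · exact hω3
          · rw [← pow_mul, mul_comm, pow_mul, hω3, one_pow]
        · rw [hout k hk, one_pow]
      have hdet : (1 : F) * ((1 : F) ^ 2)⁻¹ * ∏ k, D k = 1 := by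
        rw [one_pow, inv_one, one_mul, one_mul,
          ← Finset.prod_subset (Finset.subset_univ C) (fun k _ hk => hout k hk), ← Finset.prod_sdiff hTC,
          Finset.prod_congr rfl (fun k hk => show D k = D0 k by
            rw [Finset.mem_sdiff] at hk
            simp only [hDdef, if_neg hk.2, if_pos hk.1]), hprod, one_mul,
          Finset.prod_congr rfl (fun k hk => show D k = ω by simp only [hDdef, if_pos hk]), Finset.prod_const]
        rcases hT with rfl | hT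
        · simp
        · rw [hT, hω3]
      obtain ⟨τ, h1, h2, h3'⟩ := exists_lift_tor hF hr hp one_ne_zero D hDi hDj hn1 hdet
      refine ⟨τ, D, diag_lift hF hp hDi hDj (by simpa using h1) (by simpa using h2) h3', h1, h2,
        fun w hw e' => ?_, fun k hk => by simp only [hDdef, if_pos hk]⟩
      funext k
      have := congrFun e' k
      rw [one_pow, one_smul, h3' w hw k] at this
      by_cases hk : k ∈ C
      · by_contra h0
        rw [mul_left_eq_self₀] at this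
        rcases this with e'' | e''
        · rcases hDC k hk with e3 | e3 <;> rw [e3] at e''
          · exact hω1 e''
          · exact hω2 e''
        · exact h0 e''
      · simp only [hC, Finset.mem_compl, Finset.mem_insert, Finset.mem_singleton, not_not] at hk
        rcases hk with rfl | rfl
        · exact hw.1
        · exact hw.2
    obtain ⟨τ, D, hτd, hτe, hτf, hτW, -⟩ := hdiag ∅ (Finset.empty_subset _) (Or.inl rfl)
    have hμ : ((1 : F) ^ 2)⁻¹ ≠ 0 := inv_ne_zero (pow_ne_zero _ one_ne_zero)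
    obtain ⟨h1, h2⟩ := Qt_complement hF hr hc hp hn hD one_ne_zero hμ hτe hτf hτW
    refine ⟨_, h1, h2, ?_⟩
    set M := Subgroup.normalizer (Qt hF hp σ τ : Set Γ)
    have hT : ∀ T ⊆ C, T.card = 3 → SUS F 2 T ≤ M.map σ := by
      intro T hTC hTc g hg
      obtain ⟨γ, rfl⟩ := (hr.ge hg.1 : g ∈ σ.range)
      obtain ⟨τ', D', hτd', hτe', hτf', hτW', hDT⟩ := hdiag T hTC (Or.inr hTc)
      obtain ⟨h1', h2'⟩ := Qt_complement hF hr hc hp hn hD one_ne_zero hμ hτe' hτf' hτW'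
      have heq : Qt hF hp σ τ' = Qt hF hp σ τ := Qt_eq hF hr hc hp one_ne_zero hμ hτe' hτf'
        (gl_ext_single fun k => by
          rw [Units.val_mul, Units.val_mul, ← mulVec_mulVec, ← mulVec_mulVec, hτd, mulVec_smul, hτd', mulVec_smul,
            hτd, smul_comm]) h1 h2 h1'
      have hγC : σ γ ∈ SUS F 2 C := SUS_mono hTC hg
      refine ⟨γ, ?_, rfl⟩
      show γ ∈ Subgroup.normalizer (Qt hF hp σ τ : Set Γ)
      rw [← heq]
      refine Qt_conj hF hr hc hp one_ne_zero one_ne_zero (hfix hγC).1 (hfix hγC).2 (gl_ext_single fun k => ?_)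
      rw [Units.val_mul, Units.val_mul, ← mulVec_mulVec, ← mulVec_mulVec, hτd', mulVec_smul]
      by_cases hk : k ∈ T
      · conv_rhs => rw [eq_sum_single ((σ γ : Matrix (Fin n) (Fin n) F) *ᵥ Pi.single k 1), mulVec_sum]
        conv_lhs => rw [eq_sum_single ((σ γ : Matrix (Fin n) (Fin n) F) *ᵥ Pi.single k 1), Finset.smul_sum]
        refine Finset.sum_congr rfl fun m _ => ?_
        rw [mulVec_smul, hτd', smul_comm]
        by_cases hm : m ∈ T
        · rw [hDT k hk, hDT m hm]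
        · rw [apply_off hF hg _ hm, Pi.single_eq_of_ne (fun e' : m = k => hm (e' ▸ hk)), zero_smul, zero_smul]
      · rw [hg.2 k hk, hτd']
    intro γ hγ
    obtain ⟨γ', hγ', he'⟩ := SUS_le_of_triples hF (show 3 ≤ C.card by omega) hT hγ
    have hk : γ'⁻¹ * γ ∈ M := Subgroup.center_le_normalizer _ (hc (MonoidHom.mem_ker.mpr (by
      rw [map_mul, map_inv, he', inv_mul_cancel])))
    have := M.mul_mem hγ' hk
    rwa [mul_inv_cancel_left] at this

end Cfsg.Agent.Lib.Schur.UnitMult
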