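import Cfsg.Agent.Lib.Schur.UnitLift
import Cfsg.Agent.Lib.Schur.Sylow
import Cfsg.Agent.Lib.MinDegree.UnitaryBase

/-!
The lifted radicals build a lift of a Sylow `p`-subgroup of `SU_n(q)`, so a stem extension has no kernel of
exponent the characteristic `p`.
-/

set_option autoImplicit false
set_option linter.unusedSectionVars false

namespace Cfsg.Agent.Lib.Schur.UnitMult

open Matrix Cfsg.Agent.Lib.Schur Cfsg.Agent.Lib.Forms Cfsg.Agent.Lib.FormMax Cfsg.Agent.Lib.UnitaryMax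
open scoped Pointwise commutatorElement

universe w

variable {F : Type*} [Field F] [Fintype F] {n q : ℕ}

local notation "Vs" => (Fin n → F)
local notation "h" => Cfsg.hermForm n F q

/-- The part of a lifted radical on the coordinates in `S`. -/
theorem card_radPart {Γ : Type w} [Group Γ] [Finite Γ] {σ : Γ →* GL (Fin n) F} (hF : Fintype.card F = q ^ 2)
    {i j : Fin n} {e f : Fin n → F} (hp : HP q i j e f) {Q : Subgroup Γ} (hQ1 : Q.map σ = radGroup hF hp)
    (hQ2 : Q ⊓ σ.ker = ⊥) {S : Finset (Fin n)} (hi : i ∈ S) (hj : j ∈ S) :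
    Nat.card (Q ⊓ (SUS F q S).comap σ : Subgroup Γ) = q ^ (2 * ((S.erase i).erase j).card + 1) := by
  classical
  set T := (S.erase i).erase j with hT
  obtain ⟨τ, hτ⟩ := exists_trace_one hF
  let ext : (T → F) → Vs := fun a k => if hk : k ∈ T then a ⟨k, hk⟩ else 0
  have hout : ∀ a k, k ∉ T → ext a k = 0 := fun a k hk => dif_neg hk
  have hW : ∀ a, ext a ∈ Wsp F i j := fun a => ⟨hout a i (by simp [hT]), hout a j (by simp [hT])⟩
  have hS0 : ∀ a k, k ∉ S → ext a k = 0 := fun a k hk => hout a k (fun hk' => hk (by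
    rw [hT] at hk'; exact Finset.mem_of_mem_erase (Finset.mem_of_mem_erase hk')))
  let sk := MinDegree.skew (Forms.qPowHom hF)
  have hex : ∀ x : (T → F) × sk, ∃ y : (Q ⊓ (SUS F q S).comap σ : Subgroup Γ),
      IsE q i j e (σ y) (ext x.1) (-(h (ext x.1) (ext x.1)) * τ + x.2.1) := by
    rintro ⟨a, c, hc⟩
    have hc' : c + c ^ q = 0 := by rw [← qPowHom_apply hF]; exact MinDegree.mem_skew.mp hc
    obtain ⟨g, hg⟩ := exists_isE hF hp (hW a) (t := -(h (ext a) (ext a)) * τ + c) (by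
      rw [q_add hF, mul_pow, q_neg hF, herm_conj hF]; linear_combination -(h (ext a) (ext a)) * hτ + hc')
    have hgQ : g ∈ Q.map σ := hQ1 ▸ ⟨_, _, hg⟩
    obtain ⟨y, hy, rfl⟩ := hgQ
    exact ⟨⟨y, hy, (isE_mem_SUS hF hp hi hj hg).mpr (hS0 a)⟩, hg⟩
  choose Φ hΦ using hex
  have hbij : Function.Bijective Φ := by
    refine ⟨fun x x' hx => ?_, fun y => ?_⟩
    · obtain ⟨h1, h2⟩ := (hΦ x).inj hF hp (hx ▸ hΦ x')
      have ha : x.1 = x'.1 := funext fun k => by simpa [ext, k.2] using congrFun h1 k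
      refine Prod.ext ha (Subtype.ext ?_)
      rw [ha] at h2
      exact add_left_cancel h2
    · obtain ⟨y, hyQ, hyS⟩ := y
      obtain ⟨w, t, hw⟩ := (hQ1.le ⟨y, hyQ, rfl⟩ : σ y ∈ radGroup hF hp)
      have hwT : ext (fun k => w k) = w := funext fun k => by
        by_cases hk : k ∈ T
        · simp [ext, hk]
        · show (if hk' : k ∈ T then w k else 0) = w k
          rw [dif_neg hk]
          simp only [hT, Finset.mem_erase, not_and_or, not_not] at hk
          rcases hk with rfl | rfl | hk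
          · exact hw.mem.2.symm
          · exact hw.mem.1.symm
          · exact ((isE_mem_SUS hF hp hi hj hw).mp hyS k hk).symm
      have hc : t + h w w * τ ∈ sk := by
        rw [MinDegree.mem_skew, qPowHom_apply, q_add hF, mul_pow, herm_conj hF]
        linear_combination hw.cond + h w w * hτ
      refine ⟨(fun k => w k, ⟨_, hc⟩), Subtype.ext ?_⟩
      have hmem := hΦ (fun k => w k, ⟨_, hc⟩)
      rw [hwT] at hmem
      simp only [neg_mul, neg_add_cancel_comm_assoc] at hmem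
      have hk : (Φ (fun k => w k, ⟨_, hc⟩) : Γ)⁻¹ * y ∈ Q ⊓ σ.ker :=
        ⟨Subgroup.mul_mem _ (Subgroup.inv_mem _ (Φ _).2.1) hyQ,
          MonoidHom.mem_ker.mpr (by rw [map_mul, map_inv, hmem.congr hw, inv_mul_cancel])⟩
      rw [hQ2, Subgroup.mem_bot, inv_mul_eq_one] at hk
      exact hk
  rw [← Nat.card_eq_of_bijective Φ hbij, Nat.card_prod, Nat.card_fun, MinDegree.card_skew hF,
    Nat.card_eq_fintype_card (α := F), hF, Nat.card_eq_fintype_card, Fintype.card_coe, ← pow_mul, ← pow_succ]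

theorem exists_unipotent_lift {Γ : Type w} [Group Γ] [Finite Γ] {σ : Γ →* GL (Fin n) F}
    (hF : Fintype.card F = q ^ 2) (hr : σ.range = suGL n F q) (hc : σ.ker ≤ Subgroup.center Γ) (p : ℕ)
    [Fact p.Prime] [CharP F p] (hexp : ∀ z ∈ σ.ker, z ^ p = 1) (hn : 3 ≤ n) (h32 : ¬ (n = 3 ∧ q = 2))
    (hexc : (n, q) ∉ ({(4, 2), (4, 3), (6, 2)} : Set (ℕ × ℕ))) (S : Finset (Fin n)) :
    ∃ R : Subgroup Γ, (∀ x ∈ R, σ x ∈ SUS F q S) ∧ R ⊓ σ.ker = ⊥ ∧
      Nat.card R = q ^ (S.card * (S.card - 1) / 2) := by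
  classical
  induction S using Finset.strongInduction with
  | _ S ih =>
    rcases le_or_gt S.card 1 with h1 | h2
    · refine ⟨⊥, fun x hx => by rw [Subgroup.mem_bot.mp hx, map_one]; exact one_mem _, bot_inf_eq _, ?_⟩
      rw [Subgroup.card_bot]
      interval_cases S.card <;> simp
    obtain ⟨i, hi, j, hj, hij⟩ := Finset.one_lt_card.mp h2
    set T := (S.erase i).erase j with hT
    have hjS : j ∈ S.erase i := Finset.mem_erase.mpr ⟨hij.symm, hj⟩
    have hTS : T ⊂ S := (Finset.erase_ssubset hjS).trans (Finset.erase_ssubset hi)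
    have hcard : S.card = T.card + 2 := by
      rw [hT, ← Finset.card_erase_add_one hi, ← Finset.card_erase_add_one hjS]
    have hTC : T ⊆ ({i, j}ᶜ : Finset (Fin n)) := fun k hk => by
      simp only [hT, Finset.mem_erase] at hk; simp [hk.1, hk.2.1]
    obtain ⟨R, hR1, hR2, hR3⟩ := ih T hTS
    obtain ⟨e, f, hp⟩ := exists_HP (F := F) hF hij
    obtain ⟨Q0, hQ1, hQ2, hQ3⟩ := exists_radLift hF hr hc p hexp hn h32 hexc hp
    set U := Q0 ⊓ (SUS F q S).comap σ with hU
    have hUinj : ∀ x ∈ U, σ x = 1 → x = 1 := fun x hx hh => by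
      have : x ∈ Q0 ⊓ σ.ker := ⟨hx.1, MonoidHom.mem_ker.mpr hh⟩
      rwa [hQ2, Subgroup.mem_bot] at this
    have hnorm : R ≤ Subgroup.normalizer (U : Set Γ) := by
      intro r hr'
      refine mem_normalizer_of_conj fun x hx => ⟨?_, ?_⟩
      · exact (Subgroup.mem_normalizer_iff.mp (hQ3 r (SUS_mono hTC (hR1 r hr'))) x).mp hx.1
      · show σ (r * x * r⁻¹) ∈ SUS F q S
        have hrS := SUS_mono hTS.subset (hR1 r hr')
        rw [map_mul, map_mul, map_inv]
        exact Subgroup.mul_mem _ (Subgroup.mul_mem _ hrS hx.2) (Subgroup.inv_mem _ hrS)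
    have hdisj : ∀ r ∈ R, ∀ x ∈ U, σ (r * x) = 1 → r = 1 ∧ x = 1 := by
      intro r hr' x hx hh
      rw [map_mul] at hh
      have hxC : σ x ∈ SUS F q ({i, j}ᶜ : Finset (Fin n)) := by
        rw [eq_inv_of_mul_eq_one_right hh]
        exact Subgroup.inv_mem _ (SUS_mono hTC (hR1 r hr'))
      obtain ⟨w, t, hw⟩ := (hQ1.le ⟨x, hx.1, rfl⟩ : σ x ∈ radGroup hF hp)
      have h3 := hw.apply_f hF hp
      rw [compl_fix hF hp hxC hp.sf] at h3
      have ht : t = 0 := by
        have h4 := congrArg (Cfsg.hermForm n F q · f) h3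
        simpa [herm_add_left hF, h_sub_left hF, herm_smul_left hF, hp.ef, hp.ff,
          (herm_W_left hF hp hw.mem).2] using h4.symm
      rw [ht, zero_smul, add_zero, eq_comm, sub_eq_self] at h3
      subst h3 ht
      have hx1 : σ x = 1 := ker_of_El hF hp hw
      refine ⟨?_, hUinj x hx hx1⟩
      have : r ∈ R ⊓ σ.ker := ⟨hr', MonoidHom.mem_ker.mpr (by rwa [hx1, mul_one] at hh)⟩
      rwa [hR2, Subgroup.mem_bot] at this
    have hdis : R ⊓ U = ⊥ := by
      rw [eq_bot_iff]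
      rintro x ⟨hxR, hxU⟩
      exact Subgroup.mem_bot.mpr (hdisj x⁻¹ (Subgroup.inv_mem _ hxR) x hxU (by rw [inv_mul_cancel, map_one])).2
    refine ⟨U ⊔ R, fun x hx => ?_, ?_, ?_⟩
    · exact (sup_le (c := (SUS F q S).comap σ) inf_le_right
        (fun r hr' => SUS_mono hTS.subset (hR1 r hr'))) hx
    · rw [eq_bot_iff]
      rintro g ⟨hg, hgk⟩
      rw [sup_comm] at hg
      have hg' : g ∈ ((R ⊔ U : Subgroup Γ) : Set Γ) := hg
      rw [Subgroup.coe_mul_of_left_le_normalizer_right R U hnorm] at hg'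
      obtain ⟨r, hr', x, hx, rfl⟩ := hg'
      obtain ⟨rfl, rfl⟩ := hdisj r hr' x hx hgk
      simp
    · rw [natCard_sup hnorm (by rw [inf_comm]; exact hdis), hR3, card_radPart hF hp hQ1 hQ2 hi hj, ← pow_add, ← hT,
        hcard, ← Finset.sum_range_id, ← Finset.sum_range_id, Finset.sum_range_succ, Finset.sum_range_succ]
      congr 1
      omega

/-- The kernel of a stem extension has no part of exponent the characteristic. -/
theorem not_dvd_card_ker_exp {Γ : Type w} [Group Γ] [Finite Γ] {σ : Γ →* GL (Fin n) F}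
    (hF : Fintype.card F = q ^ 2) (hr : σ.range = suGL n F q) (hc : σ.ker ≤ Subgroup.center Γ)
    (hd : σ.ker ≤ commutator Γ) (p : ℕ)
    [hpr : Fact p.Prime] [CharP F p] (hexp : ∀ z ∈ σ.ker, z ^ p = 1) (hn : 3 ≤ n) (h32 : ¬ (n = 3 ∧ q = 2))
    (hexc : (n, q) ∉ ({(4, 2), (4, 3), (6, 2)} : Set (ℕ × ℕ))) : ¬ p ∣ Nat.card σ.ker := by
  classical
  obtain ⟨U, -, hU2, hU3⟩ := exists_unipotent_lift hF hr hc p hexp hn h32 hexc Finset.univ
  set ρ := σ.rangeRestrict with hρd
  have hρ : Cfsg.IsStemExtension ρ := by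
    refine ⟨σ.rangeRestrict_surjective, ?_, ?_⟩ <;> rw [hρd, σ.ker_rangeRestrict] <;> assumption
  rw [← σ.ker_rangeRestrict]
  have hinj : ∀ u ∈ U, ρ u = 1 → u = 1 := fun u hu hh => by
    have : u ∈ U ⊓ σ.ker := ⟨hu, congrArg Subtype.val hh⟩
    rwa [hU2, Subgroup.mem_bot] at this
  have hpart : (Nat.card σ.range).factorization p = (q ^ (n * (n - 1) / 2)).factorization p := by
    obtain ⟨f, hf, hqf⟩ := exists_q_eq (F := F) p hF
    have hq := Forms.two_le_of_card_sq hF
    have hcardG := natCard_suGL (n := n) hF (by omega)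
    rw [Classical.natCard_GU hF, ← hr] at hcardG
    have hpq : p ∣ q := hqf ▸ dvd_pow_self p hf.ne'
    have h1 : ¬ p ∣ q + 1 := fun hh => hpr.out.not_dvd_one ((Nat.dvd_add_right hpq).mp hh)
    have h2 : ¬ p ∣ ∏ k ∈ Finset.range n, (if Even k then q ^ (k + 1) + 1 else q ^ (k + 1) - 1) := by
      rw [Prime.dvd_finsetProd_iff hpr.out.prime]
      push Not
      intro k _ hh
      have hd' : p ∣ q ^ (k + 1) := hpq.trans (dvd_pow_self q (by omega))
      split_ifs at hh
      · exact hpr.out.not_dvd_one ((Nat.dvd_add_right hd').mp hh)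
      · have h3 := Nat.dvd_sub hd' hh
        rw [Nat.sub_sub_self (Nat.one_le_pow _ _ (by omega))] at h3
        exact hpr.out.not_dvd_one h3
    have h20 : ∏ k ∈ Finset.range n, (if Even k then q ^ (k + 1) + 1 else q ^ (k + 1) - 1) ≠ 0 :=
      fun hh => h2 (hh ▸ dvd_zero p)
    have h4 := congrArg (fun x => x.factorization p) hcardG
    simp only [Nat.factorization_mul (Nat.succ_ne_zero q) Nat.card_pos.ne',
      Nat.factorization_mul (pow_ne_zero _ (show q ≠ 0 by omega)) h20, Finsupp.add_apply,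
      Nat.factorization_eq_zero_of_not_dvd h1, Nat.factorization_eq_zero_of_not_dvd h2, zero_add, add_zero] at h4
    exact h4
  have hUcard : Nat.card (U.map ρ) = p ^ (Nat.card σ.range).factorization p := by
    obtain ⟨f, -, hqf⟩ := exists_q_eq (F := F) p hF
    rw [Nat.card_congr (MulEquiv.ofBijective (ρ.subgroupMap U)
      ⟨(injective_iff_map_eq_one _).mpr fun x hx => Subtype.ext
        (hinj x x.2 (congrArg Subtype.val hx)), ρ.subgroupMap_surjective U⟩).toEquiv.symm, hU3, hpart,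
      Finset.card_univ, Fintype.card_fin, hqf, ← pow_mul, Nat.Prime.factorization_pow hpr.out,
      Finsupp.single_eq_same]
  obtain ⟨S⟩ : Nonempty (Sylow p Γ) := inferInstance
  let P : Sylow p σ.range := Sylow.ofCard (U.map ρ) hUcard
  obtain ⟨g, hg'⟩ := MulAction.exists_smul_eq σ.range P (S.mapSurjective hρ.1)
  obtain ⟨g', rfl⟩ := hρ.1 g
  refine not_dvd_card_ker hρ S fun a ha ha1 => ?_
  have hmem : ∀ x ∈ (S : Subgroup Γ), ∃ u ∈ U, ∃ z ∈ ρ.ker, x = g' * u * g'⁻¹ * z := by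
    intro x hx
    have h1 : ρ x ∈ ((S.mapSurjective hρ.1 : Sylow p σ.range) : Subgroup σ.range) := ⟨x, hx, rfl⟩
    rw [← hg', Sylow.coe_subgroup_smul] at h1
    obtain ⟨_, ⟨u, hu, rfl⟩, hu'⟩ := h1
    refine ⟨u, hu, (g' * u * g'⁻¹)⁻¹ * x, ?_, by group⟩
    have hu'' : ρ g' * ρ u * (ρ g')⁻¹ = ρ x := hu'
    rw [MonoidHom.mem_ker, map_mul, map_inv, map_mul, map_mul, map_inv, hu'', inv_mul_cancel]
  have hle : ⁅(S : Subgroup Γ), (S : Subgroup Γ)⁆ ≤ U.map (MulAut.conj g').toMonoidHom := by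
    rw [Subgroup.commutator_le]
    intro x hx y hy
    obtain ⟨u, hu, z, hz, rfl⟩ := hmem x hx
    obtain ⟨v, hv, w', hw, rfl⟩ := hmem y hy
    rw [commutatorElement_mul_central _ _ (hρ.2.1 hz) (hρ.2.1 hw)]
    refine ⟨⁅u, v⁆, ?_, by simp [map_commutatorElement]⟩
    exact mul_mem (mul_mem (mul_mem hu hv) (inv_mem hu)) (inv_mem hv)
  have haS : (a : Γ) ∈ ⁅(S : Subgroup Γ), (S : Subgroup Γ)⁆ := by
    have hh := Subgroup.mem_map_of_mem (S : Subgroup Γ).subtype ha
    rwa [commutator_def, Subgroup.map_commutator, ← MonoidHom.range_eq_map,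
      Subgroup.range_subtype] at hh
  obtain ⟨u, hu, hua⟩ := hle haS
  have hua' : g' * u * g'⁻¹ = (a : Γ) := hua
  have hu1 : u = 1 := hinj u hu (by
    rw [← hua', map_mul, map_mul, map_inv, mul_inv_eq_one, mul_eq_left] at ha1
    exact ha1)
  apply Subtype.ext
  rw [← hua', hu1]; simp

end Cfsg.Agent.Lib.Schur.UnitMult
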