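import Cfsg.Agent.Lib.Schur.UnitPrime
import Cfsg.Agent.Lib.Schur.UnitSylow
import Cfsg.Agent.Lib.Schur.SympMult
import Cfsg.Agent.Lib.Classical.UnitaryCentre

/-! Schur multipliers of `SU_n(q)` and `PSU_n(q)` outside the exceptions. -/

set_option autoImplicit false
set_option linter.unusedSectionVars false

namespace Cfsg.Agent.Lib.Schur.UnitMult

open Matrix Cfsg.Agent.Lib.Forms Cfsg.Agent.Lib.FormMax Cfsg.Agent.Lib.UnitaryMax Cfsg.Agent.Lib.Schur

universe u w

variable {F : Type u} [Field F] [Fintype F] {n q : ℕ}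

/-- `SU_n(q) → GL_n(q²)`. -/
noncomputable def toGLn (n : ℕ) (F : Type*) [Field F] (q : ℕ) : Cfsg.SU n F q →* GL (Fin n) F :=
  (suGL n F q).subtype.comp (suEquiv n F q).toMonoidHom

theorem toGLn_injective : Function.Injective (toGLn n F q) :=
  (Subgroup.subtype_injective _).comp (suEquiv n F q).injective

theorem range_toGLn : (toGLn n F q).range = suGL n F q := by
  rw [toGLn, MonoidHom.range_comp, MonoidHom.range_eq_top.mpr (suEquiv n F q).surjective, ← MonoidHom.range_eq_map,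
    Subgroup.range_subtype]

/-- A stem extension of `SU_n(q)` has trivial kernel outside the exceptions. -/
theorem not_dvd_card_ker_SU (hF : Fintype.card F = q ^ 2) (hn : 3 ≤ n) (h32 : ¬ (n = 3 ∧ q = 2))
    (hexc : (n, q) ∉ ({(4, 2), (4, 3), (6, 2)} : Set (ℕ × ℕ))) {Γ : Type w} [Group Γ] [Finite Γ]
    {σ : Γ →* Cfsg.SU n F q} (hσ : Cfsg.IsStemExtension σ) {r : ℕ} (hr : r.Prime) :
    ¬ r ∣ Nat.card σ.ker := by
  obtain ⟨p, k, hp, hk, hq⟩ := (isPrimePow_nat_iff _).mp (FiniteField.isPrimePow_card F)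
  haveI : Fact p.Prime := ⟨hp⟩
  haveI : CharP F p := charP_of_card_eq_prime_pow hq.symm
  haveI : Fact r.Prime := ⟨hr⟩
  have hcomp : ∀ {Δ : Type w} [Group Δ] (ψ : Δ →* Cfsg.SU n F q), ((toGLn n F q).comp ψ).ker = ψ.ker :=
    fun {Δ} _ ψ => MonoidHom.ker_comp_of_injective ψ _ toGLn_injective
  have hrange : ∀ {Δ : Type w} [Group Δ] (ψ : Δ →* Cfsg.SU n F q), Function.Surjective ψ →
      ((toGLn n F q).comp ψ).range = suGL n F q := fun {Δ} _ ψ hψ => by
    rw [MonoidHom.range_comp, MonoidHom.range_eq_top.mpr hψ, ← MonoidHom.range_eq_map, range_toGLn]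
  intro hrd
  rcases eq_or_ne r p with rfl | hrp
  · obtain ⟨N, _, hN, hexp, hrd'⟩ := Symp.exists_stem_exponent hσ hrd
    have hσ' := Symp.isStemExtension_lift hσ hN
    set σ' := QuotientGroup.lift N σ hN
    refine not_dvd_card_ker_exp (σ := (toGLn n F q).comp σ') hF (hrange σ' hσ'.1)
      ((hcomp σ').le.trans hσ'.2.1) ((hcomp σ').le.trans hσ'.2.2) r
      (fun z hz => hexp z (by rw [hcomp] at hz; exact hz)) hn h32 hexc ?_
    rwa [hcomp]
  · obtain ⟨P⟩ : Nonempty (Sylow p σ.ker) := inferInstance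
    set N : Subgroup Γ := (P : Subgroup σ.ker).map σ.ker.subtype with hN
    have hNk : N ≤ σ.ker := Subgroup.map_subtype_le _
    haveI hNn : N.Normal := Symp.normal_of_le_ker hσ hNk
    have hσ' := Symp.isStemExtension_lift hσ hNk
    set σ' := QuotientGroup.lift N σ hNk with hσ'd
    have hker : σ'.ker = σ.ker.map (QuotientGroup.mk' N) := QuotientGroup.ker_lift N σ hNk
    have hA' : ¬ p ∣ Nat.card σ'.ker := by
      have e : Nat.card σ'.ker = (P : Subgroup σ.ker).index := by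
        have e1 : N.subgroupOf σ.ker = (P : Subgroup σ.ker) :=
          Subgroup.comap_map_eq_self_of_injective σ.ker.subtype_injective _
        rw [hker, ← e1, ← Subgroup.relIndex, ← Subgroup.relIndex_ker σ.ker, QuotientGroup.ker_mk']
      rw [e]; exact P.not_dvd_index
    have hbot := triv (p := p) (n := n) hF Finset.univ (Γ ⧸ N) ((toGLn n F q).comp σ') (by rw [hrange σ' hσ'.1, SUS_univ])
      ((hcomp σ').le.trans hσ'.2.1) ((hcomp σ').le.trans hσ'.2.2)
      (show ¬ p ∣ Nat.card ((toGLn n F q).comp σ').ker by rwa [hcomp])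
    rw [hcomp, hker, Subgroup.map_eq_bot_iff, QuotientGroup.ker_mk'] at hbot
    have hNeq : N = σ.ker := le_antisymm hNk hbot
    obtain ⟨a, ha⟩ := IsPGroup.iff_card.mp (IsPGroup.map P.isPGroup' σ.ker.subtype)
    rw [← hN, hNeq] at ha
    rw [ha] at hrd
    exact hrp ((Nat.prime_dvd_prime_iff_eq hr hp).mp (hr.dvd_of_dvd_pow hrd))

/-- `SU_n(q)` has trivial multiplier outside the exceptions. -/
theorem hasCyclicSchurMultiplier_SU (hF : Fintype.card F = q ^ 2) (hn : 3 ≤ n) (h32 : ¬ (n = 3 ∧ q = 2))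
    (hexc : (n, q) ∉ ({(4, 2), (4, 3), (6, 2)} : Set (ℕ × ℕ))) :
    Cfsg.HasCyclicSchurMultiplier (Cfsg.SU n F q) 1 :=
  hasCyclicSchurMultiplier_one_of_forall_prime _ fun Γ _ _ σ hσ r hr =>
    not_dvd_card_ker_SU hF hn h32 hexc hσ hr

/-- The centre of `SU_n(q)` is cyclic. -/
theorem isCyclic_center_SU (hF : Fintype.card F = q ^ 2) (hn : 1 ≤ n) :
    IsCyclic (Subgroup.center (Cfsg.SU n F q)) := by
  classical
  let i0 : Fin n := ⟨0, hn⟩
  let φ : Subgroup.center (Cfsg.SU n F q) →* F :=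
    { toFun := fun g => g.1.1.1 i0 i0
      map_one' := by simp
      map_mul' := fun a b => by
        show (a.1.1.1 * b.1.1.1) i0 i0 = _
        rw [Classical.center_SU_scalar hF a.1 a.2 i0, Matrix.diagonal_mul, Matrix.diagonal_apply_eq] }
  refine isCyclic_of_subgroup_isDomain φ fun a b hab => ?_
  have hab' : a.1.1.1 i0 i0 = b.1.1.1 i0 i0 := hab
  refine Subtype.ext (Subtype.ext (Subtype.ext ?_))
  rw [Classical.center_SU_scalar hF a.1 a.2 i0, Classical.center_SU_scalar hF b.1 b.2 i0, hab']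

/-- The multiplier of `PSU_n(q)` is cyclic of order `gcd(n, q + 1)` outside the exceptions. -/
theorem hasCyclicSchurMultiplier_PSU (hF : Fintype.card F = q ^ 2) (hn : 3 ≤ n) (h32 : ¬ (n = 3 ∧ q = 2))
    (hexc : (n, q) ∉ ({(4, 2), (4, 3), (6, 2)} : Set (ℕ × ℕ))) :
    Cfsg.HasCyclicSchurMultiplier (Cfsg.PSU n F q) (Nat.gcd n (q + 1)) := by
  set Z := Subgroup.center (Cfsg.SU n F q) with hZ
  let π : Cfsg.SU n F q →* Cfsg.PSU n F q := QuotientGroup.mk' Z
  have hker : π.ker = Z := QuotientGroup.ker_mk' Z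
  have htop : commutator (Cfsg.SU n F q) = ⊤ := by
    obtain ⟨m, rfl⟩ : ∃ m, n = m + 2 := ⟨n - 2, by omega⟩
    exact Classical.commutator_SU hF m (by omega) (by omega)
  have hstem : Cfsg.IsStemExtension π :=
    ⟨QuotientGroup.mk'_surjective Z, hker.le, by rw [htop]; exact le_top⟩
  have hcard : Nat.card Z = Nat.gcd n (q + 1) := Classical.natCard_center_SU hF n (by omega)
  haveI hcyc : IsCyclic Z := isCyclic_center_SU hF (by omega)
  haveI : NeZero (Nat.gcd n (q + 1)) := ⟨Nat.gcd_ne_zero_left (by omega)⟩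
  have hin : π.ker ⊓ commutator _ = Z := by rw [htop, inf_top_eq, hker]
  let e : (π.ker ⊓ commutator _ : Subgroup _) ≃* Multiplicative (ZMod (Nat.gcd n (q + 1))) :=
    (MulEquiv.subgroupCongr hin).trans (hcard ▸ (zmodCyclicMulEquiv hcyc).symm)
  refine hasSchurMultiplier_of_bound π hstem.1 hstem.2.1 e.toMonoidHom e.surjective fun Y _ τ hτ hc => ?_
  obtain ⟨g, hg⟩ := exists_surjection_of_trivial_middle hstem
    (hasCyclicSchurMultiplier_SU hF hn h32 hexc) τ hτ hc
  refine (Nat.card_le_card_of_surjective g hg).trans ?_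
  rw [Nat.card_congr (MulEquiv.subgroupCongr hker).toEquiv, hcard]
  simp

end Cfsg.Agent.Lib.Schur.UnitMult
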