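import Cfsg.Agent.Lib.Schur.UnitTorus
import Cfsg.Agent.Lib.Schur.UnitCyclic
import Cfsg.Agent.Lib.Schur.SL2

/-!
Stem extensions of `SU_n(q)` with kernel of order prime to the characteristic are trivial.
-/

set_option autoImplicit false
set_option linter.unusedSectionVars false

namespace Cfsg.Agent.Lib.Schur.UnitMult

open Matrix Cfsg.Agent.Lib.Forms Cfsg.Agent.Lib.FormMax Cfsg.Agent.Lib.UnitaryMax Cfsg.Agent.Lib.Schur

universe w

variable {F : Type*} [Field F] [Fintype F] {n q : ℕ} {p : ℕ} [Fact p.Prime] [CharP F p]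

/-- Two coordinates: `SU_2(q) ≅ SL_2(q)`. -/
theorem triv_two (hF : Fintype.card F = q ^ 2) {S : Finset (Fin n)} (hS : S.card = 2) : Triv.{w} F q p S := by
  intro Γ _ _ σ hr hc hd hA
  obtain ⟨f, hf, hqf⟩ := exists_q_eq (F := F) p hF
  letI : Fintype (GaloisField p f) := Fintype.ofFinite _
  obtain ⟨e2⟩ := Classical.nonempty_SU_two_mulEquiv hF (K := GaloisField p f)
    (by rw [← Nat.card_eq_fintype_card, GaloisField.card p f hf.ne', hqf])
  set g := (S.orderEmbOfFin hS).toEmbedding
  let e : σ.range ≃* SL2.SLtwo (GaloisField p f) :=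
    (MulEquiv.subgroupCongr (by rw [hr, show Finset.univ.map g = S from Finset.map_orderEmbOfFin_univ _ _] :
      σ.range = SUS F q (Finset.univ.map g))).trans
      ((susEquiv hF g).symm.trans ((suEquiv 2 F q).symm.trans e2))
  set τ := e.toMonoidHom.comp σ.rangeRestrict
  have hk : τ.ker = σ.ker := by
    rw [MonoidHom.ker_comp_of_injective _ _ e.injective, σ.ker_rangeRestrict]
  have hτ : Cfsg.IsStemExtension τ :=
    ⟨e.surjective.comp σ.rangeRestrict_surjective, hk.le.trans hc, hk.le.trans hd⟩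
  rw [← hk] at hA ⊢
  rw [← Subgroup.card_eq_one]
  by_contra hne
  obtain ⟨r, hrp, hrd⟩ := Nat.exists_prime_and_dvd hne
  haveI := Fact.mk hrp
  rcases eq_or_ne r p with rfl | hne'
  · exact hA hrd
  · exact not_dvd_card_ker_SL2_ne_char p hne' hτ hrd

/-- An indexing of `S` by blocks. -/
theorem exists_blocks {S : Finset (Fin n)} {r m : ℕ} (h : S.card = r * m) :
    ∃ e : Fin r × Fin m ↪ Fin n, Finset.univ.map e = S := by
  refine ⟨finProdFinEquiv.toEmbedding.trans ((finCongr h.symm).toEmbedding.trans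
    (S.orderEmbOfFin rfl).toEmbedding), ?_⟩
  rw [← Finset.map_map, Finset.map_univ_equiv, ← Finset.map_map, Finset.map_univ_equiv,
    Finset.map_orderEmbOfFin_univ]

/-- The induction: every coordinate subgroup. -/
theorem triv (hF : Fintype.card F = q ^ 2) (S : Finset (Fin n)) : Triv.{w} F q p S := by
  induction S using Finset.strongInduction with
  | _ S ih =>
  rcases le_or_gt S.card 1 with h1 | h1
  · exact triv_of_card_le_one hF p h1
  rcases (show 2 ≤ S.card from h1).eq_or_lt with h2 | h3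
  · exact triv_two hF h2.symm
  intro Γ _ _ σ hr hc hd hA
  rw [← Subgroup.card_eq_one]
  by_contra hne
  obtain ⟨r, hrpr, hrd⟩ := Nat.exists_prime_and_dvd hne
  haveI := Fact.mk hrpr
  have hrp : r ≠ p := fun e => hA (e ▸ hrd)
  -- reduce to exponent `r`
  set ρ := σ.rangeRestrict
  have hρ : Cfsg.IsStemExtension ρ := by
    refine ⟨σ.rangeRestrict_surjective, ?_, ?_⟩ <;> rw [σ.ker_rangeRestrict] <;> assumption
  obtain ⟨N, _, hN, hexp, hrd'⟩ := Symp.exists_stem_exponent hρ (p := r) (by rwa [σ.ker_rangeRestrict])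
  have hρ' := Symp.isStemExtension_lift hρ hN
  set ρ' := QuotientGroup.lift N ρ hN
  set σ' := σ.range.subtype.comp ρ'
  have hk : σ'.ker = ρ'.ker := MonoidHom.ker_comp_of_injective ρ' _ (Subgroup.subtype_injective _)
  have hr' : σ'.range = SUS F q S := by
    rw [MonoidHom.range_comp, MonoidHom.range_eq_top.mpr hρ'.1, ← MonoidHom.range_eq_map, Subgroup.range_subtype, hr]
  have hc' : σ'.ker ≤ Subgroup.center (Γ ⧸ N) := hk ▸ hρ'.2.1
  have hd' : σ'.ker ≤ commutator (Γ ⧸ N) := hk ▸ hρ'.2.2
  have hexp' : ∀ z ∈ σ'.ker, z ^ r = 1 := fun z hz => hexp z (MonoidHom.mem_ker.mp (hk ▸ hz))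
  have hA' : ¬ p ∣ Nat.card σ'.ker := by
    intro hpd
    obtain ⟨z, hz⟩ := exists_prime_orderOf_dvd_card' p hpd
    rw [← Subgroup.orderOf_coe] at hz
    exact hrp ((Nat.prime_dvd_prime_iff_eq Fact.out hrpr).mp (hz ▸ orderOf_dvd_of_pow_eq_one (hexp' z z.2))).symm
  rw [← hk] at hrd'
  revert hrd'
  -- the cases
  have hrq : ¬ r ∣ q := not_dvd_q (F := F) hrp hF
  have hq := Forms.two_le_of_card_sq hF
  have hd0 := Arith.dd_pos hrq
  rcases le_or_gt S.card (Arith.dd r q) with hle | hlt
  · exact not_dvd_cyclic hF hr' hc' hd' hrp (by omega) hle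
  by_cases hpow : ∃ v, S.card = Arith.dd r q * r ^ v
  · obtain ⟨_ | j, hv⟩ := hpow
    · rw [pow_zero, mul_one] at hv; omega
    set m := Arith.dd r q * r ^ j with hm
    have hSm : S.card = r * m := by rw [hv, hm, pow_succ]; ring
    obtain ⟨e, he⟩ := exists_blocks hSm
    have h2j : r = 2 → 1 ≤ j := by
      intro h2
      by_contra hj
      have hdd : Arith.dd r q = 1 := by have := Arith.dd_lt hrq; omega
      rw [hSm, hm, hdd, h2, show j = 0 by omega, pow_zero] at h3
      omega
    have hV := Arith.V_wreath (j := j) hrq hq h2j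
    rw [← hm] at hV
    have hm0 : 0 < m := Nat.mul_pos hd0 (pow_pos hrpr.pos j)
    rcases (Nat.one_le_iff_ne_zero.mpr hm0.ne').eq_or_lt with hm1 | hm2
    · have hr2 : r ≠ 2 := fun h2 => by rw [hSm, ← hm1, h2] at h3; omega
      revert hV e
      rw [← hm1]
      intro e he hV
      refine not_dvd_wreath_one hF hr' hc' hA' hd' he hrp hr2 hexp' (fun i hi k hk => ih _ ?_) hV
      refine Finset.ssubset_iff_subset_ne.mpr ⟨Finset.insert_subset hi (Finset.singleton_subset_iff.mpr hk),
        fun e' => ?_⟩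
      have := congrArg Finset.card e'
      have h4 : ({i, k} : Finset (Fin n)).card ≤ 2 := Finset.card_le_two
      omega
    · refine not_dvd_wreath_big hF hr' hc' hA' hd' he (fun k => ih _ ?_) hrp ?_ ⟨0, hm0⟩ (ih _ ?_) hV
      · refine Finset.ssubset_iff_subset_ne.mpr ⟨he ▸ B_subset e k, fun e' => ?_⟩
        have := congrArg Finset.card e'
        rw [show (B e k).card = m by simp [B], hSm] at this
        have := Nat.mul_le_mul_right m hrpr.two_le
        omega
      · rcases eq_or_ne r 2 with h2 | h2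
        · rw [h2, hm, h2]
          exact Even.mul_left (Even.mul_left ((Nat.even_pow).mpr ⟨even_two, by have := h2j h2; omega⟩) _) _
        · exact Even.mul_right ((hrpr.odd_of_ne_two h2).elim fun k hk => ⟨k, by omega⟩) _
      · refine Finset.ssubset_iff_subset_ne.mpr ⟨he ▸ T0_subset e _, fun e' => ?_⟩
        have := congrArg Finset.card e'
        rw [show (T0 e (⟨0, hm0⟩ : Fin m)).card = r by simp [T0], hSm] at this
        have := Nat.mul_le_mul_left r (show 2 ≤ m by omega)
        have := hrpr.two_le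
        omega
  · push Not at hpow
    obtain ⟨a, b, ha, hb, hab, hV⟩ := Arith.exists_split hrq hq hlt.le hpow
    obtain ⟨A, hAS, hAc⟩ := Finset.exists_subset_card_eq (s := S) (n := a) (by omega)
    have hBc : (S \ A).card = b := by rw [Finset.card_sdiff_of_subset hAS]; omega
    refine not_dvd_split hF hr' hc' hA' hd' hrp (A := A) (B := S \ A) disjoint_sdiff_self_right
      (Finset.union_sdiff_of_subset hAS) (Finset.card_pos.mp (by omega)) (Finset.card_pos.mp (by omega))
      (ih A ?_) (ih _ ?_) (by rw [hAc, hBc, hV])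
    · exact Finset.ssubset_iff_subset_ne.mpr ⟨hAS, fun e' => by rw [e'] at hAc; omega⟩
    · exact Finset.ssubset_iff_subset_ne.mpr ⟨Finset.sdiff_subset, fun e' => by rw [e'] at hBc; omega⟩

end Cfsg.Agent.Lib.Schur.UnitMult
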