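import Cfsg.Agent.Lib.Schur.UnitCoord

/-!
The unipotent radical of a singular vector in a coordinate plane of the standard hermitian space.
-/

set_option autoImplicit false
set_option linter.unusedSectionVars false

namespace Cfsg.Agent.Lib.Schur.UnitMult

open Matrix Cfsg.Agent.Lib.Forms Cfsg.Agent.Lib.FormMax Cfsg.Agent.Lib.UnitaryMax
open scoped commutatorElement

variable {F : Type*} [Field F] [Fintype F] {n q : ℕ}

local notation "Vs" => (Fin n → F)
local notation "h" => Cfsg.hermForm n F q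

/-- A hyperbolic pair in the plane of the coordinates `i, j`. -/
structure HP (q : ℕ) {n : ℕ} (i j : Fin n) (e f : Fin n → F) : Prop where
  ne : i ≠ j
  ee : Cfsg.hermForm n F q e e = 0
  ff : Cfsg.hermForm n F q f f = 0
  ef : Cfsg.hermForm n F q e f = 1
  se : ∀ k, k ≠ i → k ≠ j → e k = 0
  sf : ∀ k, k ≠ i → k ≠ j → f k = 0

theorem exists_HP (hF : Fintype.card F = q ^ 2) {i j : Fin n} (hij : i ≠ j) :
    ∃ e f : Vs, HP q i j e f := by
  classical
  have hq := Forms.two_le_of_card_sq hF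
  obtain ⟨z, z', hz, hz', hzz⟩ : ∃ z z' : F, z ^ (q + 1) = -1 ∧ z' ^ (q + 1) = -1 ∧ z ≠ z' := by
    have h0 := S0754.result hF (-1 : F) (neg_ne_zero.2 one_ne_zero) (by
      rw [← Forms.qPowHom_apply hF, map_neg, map_one])
    rw [Nat.card_eq_fintype_card] at h0
    obtain ⟨u, v, huv⟩ := Fintype.exists_pair_of_one_lt_card
      (α := {x : F // x ^ (q + 1) = -1}) (by omega)
    exact ⟨u.1, v.1, u.2, v.2, fun e => huv (Subtype.ext e)⟩
  have hh : 1 + z * z' ^ q ≠ 0 := by
    intro h0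
    apply hzz
    rw [pow_succ] at hz'
    have : z' ^ q * (z - z') = 0 := by linear_combination h0 - hz'
    rcases mul_eq_zero.1 this with e | e
    · rw [e, mul_zero, add_zero] at h0; exact absurd h0 one_ne_zero
    · exact sub_eq_zero.1 e
  have hsum : ∀ a b a' b' : F, h (a • Pi.single i 1 + b • Pi.single j 1) (a' • Pi.single i 1 + b' • Pi.single j 1)
      = a * a' ^ q + b * b' ^ q := by
    intro a b a' b'
    simp only [herm_add_left hF, herm_add_right hF, herm_smul_left hF, herm_smul_right hF, herm_single_right hF]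
    simp [hij, hij.symm]
  set c := ((1 + z * z' ^ q)⁻¹) ^ q with hc
  have hcq : c ^ q = (1 + z * z' ^ q)⁻¹ := Forms.pow_q_pow_q hF _
  rw [pow_succ] at hz hz'
  refine ⟨(1 : F) • Pi.single i 1 + z • Pi.single j 1, c • Pi.single i 1 + (c * z') • Pi.single j 1,
    hij, ?_, ?_, ?_, fun k hk hk' => by simp [hk, hk'], fun k hk hk' => by simp [hk, hk']⟩
  · rw [hsum, one_pow]; linear_combination hz
  · rw [hsum, mul_pow]; linear_combination (c * c ^ q) * hz'
  · rw [hsum, mul_pow, hcq]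
    field_simp

/-- The vectors orthogonal to the plane. -/
def Wsp (F : Type*) [Field F] {n : ℕ} (i j : Fin n) : Submodule F (Fin n → F) where
  carrier := {w | w i = 0 ∧ w j = 0}
  zero_mem' := ⟨rfl, rfl⟩
  add_mem' := fun ha hb => ⟨by simp [ha.1, hb.1], by simp [ha.2, hb.2]⟩
  smul_mem' := fun c a ha => ⟨by simp [ha.1], by simp [ha.2]⟩

theorem single_mem_Wsp {i j k : Fin n} (hki : k ≠ i) (hkj : k ≠ j) (a : F) :
    a • (Pi.single k 1 : Vs) ∈ Wsp F i j :=
  ⟨by simp [Pi.single_apply, hki.symm], by simp [Pi.single_apply, hkj.symm]⟩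

section

variable (hF : Fintype.card F = q ^ 2) {i j : Fin n} {e f : Fin n → F} (hp : HP q i j e f)
include hF hp

theorem HP.fe : h f e = 1 := by rw [← herm_conj hF, hp.ef, one_pow]

theorem herm_plane {v : Vs} (hv : ∀ k, k ≠ i → k ≠ j → v k = 0) (x : Vs) :
    h x v = x i * v i ^ q + x j * v j ^ q := by
  show ∑ k, _ = _
  rw [← Finset.sum_subset (Finset.subset_univ {i, j}) (fun k _ hk => by
    simp only [Finset.mem_insert, Finset.mem_singleton, not_or] at hk
    rw [hv k hk.1 hk.2, q_zero hF, mul_zero]), Finset.sum_pair hp.ne]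

theorem herm_W_left {w : Vs} (hw : w ∈ Wsp F i j) : h w e = 0 ∧ h w f = 0 :=
  ⟨by rw [herm_plane hF hp hp.se, hw.1, hw.2]; ring, by rw [herm_plane hF hp hp.sf, hw.1, hw.2]; ring⟩

theorem herm_W_right {w : Vs} (hw : w ∈ Wsp F i j) : h e w = 0 ∧ h f w = 0 :=
  ⟨h_symm hF (herm_W_left hF hp hw).1, h_symm hF (herm_W_left hF hp hw).2⟩

theorem mem_Wsp_of_perp {x : Vs} (he : h x e = 0) (hf : h x f = 0) : x ∈ Wsp F i j := by
  rw [herm_plane hF hp hp.se] at he
  rw [herm_plane hF hp hp.sf] at hf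
  have hD : e i ^ q * f j ^ q - e j ^ q * f i ^ q ≠ 0 := by
    intro h0
    have hee := hp.ee
    have hef := hp.ef
    rw [herm_plane hF hp hp.se] at hee
    rw [herm_plane hF hp hp.sf] at hef
    have h1 : e i ^ q = 0 := by linear_combination (f i ^ q) * hee - (e i ^ q) * hef + e j * h0
    have h2 : e j ^ q = 0 := by linear_combination (f j ^ q) * hee - (e j ^ q) * hef - e i * h0
    rw [pow_eq_zero_iff (q_ne_zero hF)] at h1 h2
    rw [h1, h2] at hef
    simp at hef
  refine ⟨(mul_eq_zero.mp (show x i * (e i ^ q * f j ^ q - e j ^ q * f i ^ q) = 0 by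
      linear_combination (f j ^ q) * he - (e j ^ q) * hf)).resolve_right hD,
    (mul_eq_zero.mp (show x j * (e i ^ q * f j ^ q - e j ^ q * f i ^ q) = 0 by
      linear_combination (e i ^ q) * hf - (f i ^ q) * he)).resolve_right hD⟩

/-- The component orthogonal to the plane. -/
theorem sub_plane_mem (x : Vs) : x - h x f • e - h x e • f ∈ Wsp F i j := by
  refine mem_Wsp_of_perp hF hp ?_ ?_
  · rw [h_sub_left hF, h_sub_left hF, herm_smul_left hF, herm_smul_left hF, hp.ee, hp.fe hF]; ring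
  · rw [h_sub_left hF, h_sub_left hF, herm_smul_left hF, herm_smul_left hF, hp.ff, hp.ef]; ring

end

/-- `g` is the Eichler element of `e` and `(w, t)`. -/
structure IsE (q : ℕ) {n : ℕ} (i j : Fin n) (e : Fin n → F) (g : GL (Fin n) F) (w : Fin n → F) (t : F) : Prop where
  mem : w ∈ Wsp F i j
  cond : t ^ q + t + Cfsg.hermForm n F q w w = 0
  eq : (g : Matrix (Fin n) (Fin n) F) = eichlerMatrix q e w t

section

variable {i j : Fin n} {e f : Fin n → F}

theorem IsE.apply {g : GL (Fin n) F} {w : Vs} {t : F} (hg : IsE q i j e g w t) (x : Vs) :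
    (g : Matrix (Fin n) (Fin n) F) *ᵥ x = x - h x e • w + (h x w + t * h x e) • e := by
  rw [hg.eq, eichlerMatrix_mulVec]

theorem IsE.congr {g g' : GL (Fin n) F} {w : Vs} {t : F} (hg : IsE q i j e g w t) (hg' : IsE q i j e g' w t) :
    g = g' := Units.ext (hg.eq.trans hg'.eq.symm)

variable (hF : Fintype.card F = q ^ 2) (hp : HP q i j e f)
include hF hp

theorem isE_one : IsE q i j e (1 : GL (Fin n) F) 0 0 := by
  refine ⟨Submodule.zero_mem _, ?_, ?_⟩
  · rw [h_zero_left hF, q_zero hF]; ring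
  · refine Matrix.ext_iff_mulVec.mpr fun x => ?_
    rw [Units.val_one, one_mulVec, eichlerMatrix_mulVec, smul_zero, sub_zero, h_zero_right hF, zero_mul, zero_add,
      zero_smul, add_zero]

theorem IsE.apply_e {g : GL (Fin n) F} {w : Vs} {t : F} (hg : IsE q i j e g w t) :
    (g : Matrix (Fin n) (Fin n) F) *ᵥ e = e := by
  rw [hg.apply, hp.ee, (herm_W_right hF hp hg.mem).1, mul_zero, add_zero, zero_smul, zero_smul, sub_zero, add_zero]

theorem IsE.apply_f {g : GL (Fin n) F} {w : Vs} {t : F} (hg : IsE q i j e g w t) :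
    (g : Matrix (Fin n) (Fin n) F) *ᵥ f = f - w + t • e := by
  rw [hg.apply, hp.fe hF, (herm_W_right hF hp hg.mem).2, one_smul, zero_add, mul_one]

theorem IsE.inj {g : GL (Fin n) F} {w w' : Vs} {t t' : F} (hg : IsE q i j e g w t) (hg' : IsE q i j e g w' t') :
    w = w' ∧ t = t' := by
  have h1 := (hg.apply_f hF hp).symm.trans (hg'.apply_f hF hp)
  have ht : t = t' := by
    have h2 := congrArg (h · f) h1
    simpa [herm_add_left hF, h_sub_left hF, herm_smul_left hF, hp.ef, hp.ff, (herm_W_left hF hp hg.mem).2,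
      (herm_W_left hF hp hg'.mem).2] using h2
  subst ht
  rw [add_left_inj, sub_right_inj] at h1
  exact ⟨h1, rfl⟩

theorem IsE.mem_suGL {g : GL (Fin n) F} {w : Vs} {t : F} (hg : IsE q i j e g w t) : g ∈ suGL n F q :=
  mem_suGL_iff.mpr ⟨fun x y => by
      rw [hg.eq]
      exact eichlerMatrix_preserves hF hp.ee (herm_W_left hF hp hg.mem).1 hg.cond x y,
    by rw [hg.eq]; exact det_eichlerMatrix hF t hp.ee (herm_W_left hF hp hg.mem).1⟩

theorem exists_isE {w : Vs} (hw : w ∈ Wsp F i j) {t : F} (ht : t ^ q + t + h w w = 0) :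
    ∃ g : GL (Fin n) F, IsE q i j e g w t :=
  ⟨glMk _ (det_eichlerMatrix hF t hp.ee (herm_W_left hF hp hw).1), hw, ht, glMk_val _ _⟩

theorem IsE.mul {g g' : GL (Fin n) F} {w w' : Vs} {t t' : F} (hg : IsE q i j e g w t)
    (hg' : IsE q i j e g' w' t') : IsE q i j e (g * g') (w + w') (t + t' - h w' w) := by
  refine ⟨Submodule.add_mem _ hg.mem hg'.mem, ?_, Matrix.ext_iff_mulVec.mpr fun x => ?_⟩
  · rw [q_sub hF, q_add hF, herm_conj hF, herm_add_left hF, herm_add_right hF, herm_add_right hF]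
    linear_combination hg.cond + hg'.cond
  · rw [Units.val_mul, ← mulVec_mulVec, hg'.apply, hg.apply, eichlerMatrix_mulVec]
    simp only [herm_add_left hF, h_sub_left hF, herm_smul_left hF, herm_add_right hF, hp.ee,
      (herm_W_left hF hp hg'.mem).1, (herm_W_right hF hp hg.mem).1]
    module

theorem IsE.inv {g : GL (Fin n) F} {w : Vs} {t : F} (hg : IsE q i j e g w t) :
    IsE q i j e g⁻¹ (-w) (-t - h w w) := by
  have hnn : ∀ u v : Vs, h (-u) v = -h u v := fun u v => by
    rw [← zero_sub, h_sub_left hF, h_zero_left hF, zero_sub]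
  have hnn' : ∀ u v : Vs, h u (-v) = -h u v := fun u v => by
    rw [← zero_sub, h_sub_right hF, h_zero_right hF, zero_sub]
  obtain ⟨g', hg'⟩ := exists_isE hF hp (Submodule.neg_mem _ hg.mem) (t := -t - h w w) (by
    rw [q_sub hF, q_neg hF, herm_conj hF, hnn, hnn']
    linear_combination -hg.cond)
  have h1 := hg.mul hF hp hg'
  rw [add_neg_cancel, hnn, show t + (-t - h w w) - -h w w = 0 by ring] at h1
  rwa [inv_eq_of_mul_eq_one_right (h1.congr (isE_one hF hp))]

theorem IsE.commutator {g g' : GL (Fin n) F} {w w' : Vs} {t t' : F} (hg : IsE q i j e g w t)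
    (hg' : IsE q i j e g' w' t') : IsE q i j e ⁅g, g'⁆ 0 (h w w' - h w' w) := by
  have h1 := hg.mul hF hp hg'
  have h2 := hg'.mul hF hp hg
  have hnn : ∀ u v : Vs, h (-u) v = -h u v := fun u v => by
    rw [← zero_sub, h_sub_left hF, h_zero_left hF, zero_sub]
  have hnn' : ∀ u v : Vs, h u (-v) = -h u v := fun u v => by
    rw [← zero_sub, h_sub_right hF, h_zero_right hF, zero_sub]
  have h3 := h1.mul hF hp (h2.inv hF hp)
  rw [show ⁅g, g'⁆ = g * g' * (g' * g)⁻¹ by rw [commutatorElement_def]; group]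
  rw [add_comm w' w, add_neg_cancel, hnn] at h3
  convert h3 using 1
  ring

/-- Conjugation by an element scaling `e` and `f`. -/
theorem IsE.conj {g γ : GL (Fin n) F} {w : Vs} {t : F} (hg : IsE q i j e g w t) (hγ : γ ∈ suGL n F q) {l μ : F}
    (hl : l ≠ 0) (hμ : μ ≠ 0) (he : (γ : Matrix (Fin n) (Fin n) F) *ᵥ e = l • e)
    (hf : (γ : Matrix (Fin n) (Fin n) F) *ᵥ f = μ • f) :
    IsE q i j e (γ * g * γ⁻¹) (l ^ q • ((γ : Matrix (Fin n) (Fin n) F) *ᵥ w)) (l ^ (q + 1) * t) := by
  set G := (γ : Matrix (Fin n) (Fin n) F)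
  have hW : G *ᵥ w ∈ Wsp F i j := by
    refine mem_Wsp_of_perp hF hp ?_ ?_
    · have h1 := apply_K hγ w e
      rw [he, herm_smul_right hF, (herm_W_left hF hp hg.mem).1] at h1
      exact (mul_eq_zero.mp h1).resolve_left (pow_ne_zero _ hl)
    · have h1 := apply_K hγ w f
      rw [hf, herm_smul_right hF, (herm_W_left hF hp hg.mem).2] at h1
      exact (mul_eq_zero.mp h1).resolve_left (pow_ne_zero _ hμ)
  refine ⟨Submodule.smul_mem _ _ hW, ?_, Matrix.ext_iff_mulVec.mpr fun x => ?_⟩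
  · rw [herm_smul_left hF, herm_smul_right hF, apply_K hγ, mul_pow, pow_succ l q, mul_pow, Forms.pow_q_pow_q hF]
    linear_combination (l * l ^ q) * hg.cond
  · have hyx : ∀ v, h (((γ⁻¹ : GL (Fin n) F) : Matrix (Fin n) (Fin n) F) *ᵥ x) v = h x (G *ᵥ v) := fun v => by
      rw [← apply_K hγ, mulVec_inv_mulVec]
    rw [Units.val_mul, Units.val_mul, ← mulVec_mulVec, ← mulVec_mulVec, hg.apply, eichlerMatrix_mulVec,
      mulVec_add, mulVec_sub, mulVec_inv_mulVec, mulVec_smul, mulVec_smul, he, hyx, hyx, he,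
      herm_smul_right hF, herm_smul_right hF, Forms.pow_q_pow_q hF, smul_smul, smul_smul]
    congr 2
    · rw [mul_comm]
    · ring

/-- The radical. -/
def radGroup : Subgroup (GL (Fin n) F) where
  carrier := {g | ∃ w t, IsE q i j e g w t}
  one_mem' := ⟨0, 0, isE_one hF hp⟩
  mul_mem' := by
    rintro _ _ ⟨w, t, hg⟩ ⟨w', t', hg'⟩
    exact ⟨_, _, hg.mul hF hp hg'⟩
  inv_mem' := by
    rintro _ ⟨w, t, hg⟩
    exact ⟨_, _, hg.inv hF hp⟩

theorem isE_mem_SUS {S : Finset (Fin n)} (hi : i ∈ S) (hj : j ∈ S) {g : GL (Fin n) F} {w : Vs} {t : F}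
    (hg : IsE q i j e g w t) : g ∈ SUS F q S ↔ ∀ k ∉ S, w k = 0 := by
  constructor
  · intro hS k hk
    have hki : k ≠ i := fun e' => hk (by rwa [e'])
    have hkj : k ≠ j := fun e' => hk (by rwa [e'])
    have h1 := apply_off hF hS f hk
    rw [hg.apply_f hF hp] at h1
    simpa [hp.se k hki hkj, hp.sf k hki hkj] using h1
  · intro hw
    refine ⟨hg.mem_suGL hF hp, fun k hk => ?_⟩
    have hki : k ≠ i := fun e' => hk (by rwa [e'])
    have hkj : k ≠ j := fun e' => hk (by rwa [e'])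
    rw [hg.apply, herm_single_left hF, herm_single_left hF, hp.se k hki hkj, hw k hk, q_zero hF]
    simp

end

/-! ### Diagonal elements scaling the pair -/

section

variable (hF : Fintype.card F = q ^ 2) {i j : Fin n} {e f : Fin n → F} (hp : HP q i j e f)
include hF hp

/-- An element scaling `e`, `f` and the coordinate vectors outside the plane. -/
theorem exists_tor {l : F} (hl : l ≠ 0) (D : Fin n → F) (hDi : D i = 1) (hDj : D j = 1)
    (hD : ∀ k, D k ^ (q + 1) = 1) (hdet : l * (l ^ q)⁻¹ * ∏ k, D k = 1) :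
    ∃ γ ∈ suGL n F q, (γ : Matrix (Fin n) (Fin n) F) *ᵥ e = l • e ∧
      (γ : Matrix (Fin n) (Fin n) F) *ᵥ f = (l ^ q)⁻¹ • f ∧
      ∀ w ∈ Wsp F i j, ∀ k, ((γ : Matrix (Fin n) (Fin n) F) *ᵥ w) k = D k * w k := by
  set l' := (l ^ q)⁻¹ with hl'
  set P : Matrix (Fin n) (Fin n) F :=
    1 + vecMulVec e ((l - 1) • conjVec q f) + vecMulVec f ((l' - 1) • conjVec q e) with hP
  have hPx : ∀ x, P *ᵥ x = x + ((l - 1) * h x f) • e + ((l' - 1) * h x e) • f := fun x => by
    rw [hP, add_mulVec, add_mulVec, one_mulVec, vecMulVec_mulVec, vecMulVec_mulVec, smul_dotProduct,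
      smul_dotProduct, conjVec_dotProduct, conjVec_dotProduct]
    funext k; simp [mul_comm]
  set M := P * diagonal D with hM
  have hMx : ∀ x, M *ᵥ x = P *ᵥ (diagonal D *ᵥ x) := fun x => by rw [hM, ← mulVec_mulVec]
  have hMd : M.det = 1 := by
    rw [hM, det_mul, det_diagonal, hP, det_one_add_two, smul_dotProduct, smul_dotProduct, smul_dotProduct,
      smul_dotProduct, conjVec_dotProduct, conjVec_dotProduct, conjVec_dotProduct, conjVec_dotProduct,
      hp.ee, hp.ff, hp.ef, hp.fe hF]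
    simp only [smul_eq_mul, mul_one, mul_zero, sub_zero, add_sub_cancel]
    exact hdet
  have hll : l' * l ^ q = 1 := inv_mul_cancel₀ (pow_ne_zero _ hl)
  have hll' : l * l' ^ q = 1 := by
    rw [hl', inv_pow, Forms.pow_q_pow_q hF, mul_inv_cancel₀ hl]
  have hpres : ∀ x y, h (M *ᵥ x) (M *ᵥ y) = h x y := by
    intro x y
    rw [hMx, hMx]
    conv_rhs => rw [← Classical.diagonal_mem_GU hF D hD x y]
    simp only [hPx, herm_add_left hF, herm_add_right hF, herm_smul_left hF, herm_smul_right hF, hp.ee, hp.ff,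
      hp.ef, hp.fe hF, mul_pow, q_sub hF, one_pow, herm_conj hF]
    rw [← herm_conj hF (diagonal D *ᵥ y) e, ← herm_conj hF (diagonal D *ᵥ y) f]
    linear_combination (h (diagonal D *ᵥ x) f * h (diagonal D *ᵥ y) e ^ q) * hll' +
      (h (diagonal D *ᵥ x) e * h (diagonal D *ᵥ y) f ^ q) * hll
  have hDe : ∀ v : Vs, (∀ k, k ≠ i → k ≠ j → v k = 0) → diagonal D *ᵥ v = v := fun v hv => funext fun k => by
    rw [mulVec_diagonal]
    by_cases hki : k = i
    · rw [hki, hDi, one_mul]
    by_cases hkj : k = j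
    · rw [hkj, hDj, one_mul]
    rw [hv k hki hkj, mul_zero]
  refine ⟨glMk M hMd, glMk_mem M hMd hpres, ?_, ?_, fun w hw k => ?_⟩
  · rw [glMk_val, hMx, hDe e hp.se, hPx, hp.ef, hp.ee]
    module
  · rw [glMk_val, hMx, hDe f hp.sf, hPx, hp.fe hF, hp.ff]
    module
  · have hDw : diagonal D *ᵥ w ∈ Wsp F i j := ⟨by rw [mulVec_diagonal, hw.1, mul_zero], by
      rw [mulVec_diagonal, hw.2, mul_zero]⟩
    rw [glMk_val, hMx, hPx, (herm_W_left hF hp hDw).1, (herm_W_left hF hp hDw).2]
    simp [mulVec_diagonal]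

end

end Cfsg.Agent.Lib.Schur.UnitMult
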