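import Cfsg.Agent.Lib.Schur.UnitGen
import Cfsg.Agent.Lib.Schur.UnitArith
import Cfsg.Agent.Lib.Schur.Sylow
import Cfsg.Agent.Lib.Schur.Perfect
import Cfsg.Agent.Lib.Schur.SympMult

/-!
Central extensions of coordinate subgroups with kernel of order prime to `p`: lifts of coordinate subgroups and
subgroups containing a Sylow subgroup whose derived subgroup misses the kernel.
-/

set_option autoImplicit false
set_option linter.unusedSectionVars false

namespace Cfsg.Agent.Lib.Schur.UnitMult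

open Matrix Cfsg.Agent.Lib.Forms Cfsg.Agent.Lib.FormMax Cfsg.Agent.Lib.UnitaryMax Cfsg.Agent.Lib.Schur
open scoped commutatorElement

universe w

section general

variable {Γ : Type*} [Group Γ] {G : Type*} [Group G] {σ : Γ →* G}

/-- A product of two subgroups meeting the kernel trivially, with disjoint images. -/
theorem sup_inf_ker {M L : Subgroup Γ} (hn : L ≤ Subgroup.normalizer (M : Set Γ)) (hM : M ⊓ σ.ker = ⊥)
    (hL : L ⊓ σ.ker = ⊥) (hd : M.map σ ⊓ L.map σ = ⊥) : (M ⊔ L) ⊓ σ.ker = ⊥ := by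
  rw [eq_bot_iff]
  rintro x ⟨hx, hxk⟩
  have hx' : x ∈ ((M ⊔ L : Subgroup Γ) : Set Γ) := hx
  rw [Subgroup.coe_mul_of_right_le_normalizer_left M L hn] at hx'
  obtain ⟨a, ha, b, hb, rfl⟩ := hx'
  have hab : σ a * σ b = 1 := by rw [← map_mul]; exact hxk
  have ha1 : σ a = 1 := by
    have h1 : σ a ∈ M.map σ ⊓ L.map σ :=
      ⟨⟨a, ha, rfl⟩, ⟨b⁻¹, inv_mem hb, by rw [map_inv]; exact (eq_inv_of_mul_eq_one_left hab).symm⟩⟩
    rwa [hd, Subgroup.mem_bot] at h1
  rw [ha1, one_mul] at hab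
  have h2 : a = 1 := by
    have : a ∈ M ⊓ σ.ker := ⟨ha, ha1⟩
    rwa [hM, Subgroup.mem_bot] at this
  have h3 : b = 1 := by
    have : b ∈ L ⊓ σ.ker := ⟨hb, hab⟩
    rwa [hL, Subgroup.mem_bot] at this
  simp [h2, h3]

/-- Adding an abelian normalising subgroup does not enlarge the derived subgroup beyond `D`. -/
theorem commutator_sup_le {D A : Subgroup Γ} (hn : A ≤ Subgroup.normalizer (D : Set Γ))
    (hA : ∀ a ∈ A, ∀ b ∈ A, Commute a b) : ⁅D ⊔ A, D ⊔ A⁆ ≤ D := by
  have hconj : ∀ a ∈ A, ∀ d ∈ D, a * d * a⁻¹ ∈ D := fun a ha d hd =>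
    ((Subgroup.mem_normalizer_iff.mp (hn ha)) d).mp hd
  rw [Subgroup.commutator_le]
  intro x hx y hy
  have hx' : x ∈ ((D ⊔ A : Subgroup Γ) : Set Γ) := hx
  have hy' : y ∈ ((D ⊔ A : Subgroup Γ) : Set Γ) := hy
  rw [Subgroup.coe_mul_of_right_le_normalizer_left D A hn] at hx' hy'
  obtain ⟨d, hd, a, ha, rfl⟩ := hx'
  obtain ⟨e, he, b, hb, rfl⟩ := hy'
  show ⁅d * a, e * b⁆ ∈ D
  have key : ⁅d * a, e * b⁆ = d * (a * e * a⁻¹) * (b * d⁻¹ * b⁻¹) * e⁻¹ := by
    have hab : a * b * a⁻¹ * b⁻¹ = 1 := by rw [(hA a ha b hb).eq]; group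
    calc ⁅d * a, e * b⁆ = d * (a * e * a⁻¹) * ((a * b * a⁻¹ * b⁻¹) * (b * d⁻¹ * b⁻¹)) * e⁻¹ := by
          rw [commutatorElement_def]; group
      _ = _ := by rw [hab, one_mul]
  rw [key]
  exact mul_mem (mul_mem (mul_mem hd (hconj a ha e he)) (hconj b hb _ (inv_mem hd))) (inv_mem he)

/-- The kernel is prime to `r` if some subgroup covers a Sylow `r`-subgroup and its derived subgroup
misses the kernel. -/
theorem not_dvd_of_subgroup [Finite Γ] {r : ℕ} [hr : Fact r.Prime] (hc : σ.ker ≤ Subgroup.center Γ)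
    (hd : σ.ker ≤ commutator Γ) (H : Subgroup Γ)
    (hH : padicValNat r (Nat.card σ.range) ≤ padicValNat r (Nat.card (H.map σ)))
    (hcomm : ⁅H, H⁆ ⊓ σ.ker = ⊥) : ¬ r ∣ Nat.card σ.ker := by
  haveI : σ.ker.Normal := inferInstance
  set H' := H ⊔ σ.ker with hH'
  have hle : σ.ker ≤ H' := le_sup_right
  have hmap : H'.map σ = H.map σ := by
    rw [hH', Subgroup.map_sup, (Subgroup.map_eq_bot_iff σ.ker).mpr le_rfl, sup_bot_eq]
  haveI : Finite (H.map σ) := Finite.of_surjective _ (σ.subgroupMap_surjective H)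
  haveI : Finite σ.range := Finite.of_surjective _ σ.rangeRestrict_surjective
  have hcard' : Nat.card H' = Nat.card (H.map σ) * Nat.card σ.ker := by
    have hk : (σ.subgroupMap H').ker = σ.ker.subgroupOf H' := by
      ext z
      rw [MonoidHom.mem_ker, Subgroup.mem_subgroupOf, MonoidHom.mem_ker]
      exact Subtype.ext_iff
    rw [← (σ.subgroupMap H').ker.index_mul_card, Subgroup.index_ker,
      MonoidHom.range_eq_top.mpr (σ.subgroupMap_surjective H'), Subgroup.card_top, hk,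
      Nat.card_congr (Subgroup.subgroupOfEquivOfLe hle).toEquiv, hmap]
  have hcard : Nat.card Γ = Nat.card σ.range * Nat.card σ.ker := by
    rw [← σ.ker.index_mul_card, Subgroup.index_ker]
  have hv : (Nat.card H').factorization r = (Nat.card Γ).factorization r := by
    refine le_antisymm ((Nat.factorization_le_iff_dvd Nat.card_pos.ne' Nat.card_pos.ne').mpr
      (Subgroup.card_subgroup_dvd_card H') r) ?_
    rw [Nat.factorization_def _ hr.out, Nat.factorization_def _ hr.out, hcard, hcard',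
      padicValNat.mul Nat.card_pos.ne' Nat.card_pos.ne', padicValNat.mul Nat.card_pos.ne' Nat.card_pos.ne']
    exact Nat.add_le_add_right hH _
  obtain ⟨P0⟩ : Nonempty (Sylow r H') := inferInstance
  let P : Sylow r Γ := Sylow.ofCard ((P0 : Subgroup H').map H'.subtype)
    (by rw [Subgroup.card_map_of_injective (Subgroup.subtype_injective _), P0.card_eq_multiplicity, hv])
  have hρ : Cfsg.IsStemExtension σ.rangeRestrict := by
    refine ⟨σ.rangeRestrict_surjective, ?_, ?_⟩ <;> rw [σ.ker_rangeRestrict] <;> assumption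
  rw [← σ.ker_rangeRestrict]
  refine not_dvd_card_ker hρ P fun a ha ha1 => ?_
  have ha2 : (a : Γ) ∈ ⁅H, H⁆ := by
    have h := Subgroup.mem_map_of_mem (P : Subgroup Γ).subtype ha
    rw [commutator_def, Subgroup.map_commutator, ← MonoidHom.range_eq_map, Subgroup.range_subtype] at h
    have hPH : (P : Subgroup Γ) ≤ H' := Subgroup.map_subtype_le _
    refine (Subgroup.commutator_le.mpr fun x hx y hy => ?_) h
    obtain ⟨u, hu, z, hz, rfl⟩ := Subgroup.mem_sup_of_normal_right.mp (hPH hx)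
    obtain ⟨v, hv, z', hz', rfl⟩ := Subgroup.mem_sup_of_normal_right.mp (hPH hy)
    rw [commutatorElement_mul_central u v (hc hz) (hc hz')]
    exact Subgroup.commutator_mem_commutator hu hv
  have : (a : Γ) ∈ ⁅H, H⁆ ⊓ σ.ker := ⟨ha2, congrArg Subtype.val ha1⟩
  rw [hcomm, Subgroup.mem_bot] at this
  exact Subtype.ext this

/-- The same with a trivial derived subgroup: cyclic subgroups. -/
theorem not_dvd_of_zpowers [Finite Γ] {r : ℕ} [Fact r.Prime] (hc : σ.ker ≤ Subgroup.center Γ)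
    (hd : σ.ker ≤ commutator Γ) (c : Γ)
    (hH : padicValNat r (Nat.card σ.range) ≤ padicValNat r (orderOf (σ c))) : ¬ r ∣ Nat.card σ.ker := by
  refine not_dvd_of_subgroup hc hd (Subgroup.zpowers c) ?_ ?_
  · rwa [MonoidHom.map_zpowers, Nat.card_zpowers]
  · have : ⁅Subgroup.zpowers c, Subgroup.zpowers c⁆ = ⊥ := by
      rw [eq_bot_iff, Subgroup.commutator_le]
      intro x hx y hy
      obtain ⟨i, rfl⟩ := Subgroup.mem_zpowers_iff.mp hx
      obtain ⟨j, rfl⟩ := Subgroup.mem_zpowers_iff.mp hy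
      rw [Subgroup.mem_bot, commutatorElement_eq_one_iff_commute]
      exact (Commute.refl c).zpow_zpow i j
    rw [this, bot_inf_eq]

end general

variable {F : Type*} [Field F] [Fintype F] {n q : ℕ}

/-- Stem extensions of the coordinate subgroup with kernel prime to `p` are trivial. -/
def Triv (F : Type*) [Field F] [Fintype F] (q p : ℕ) (S : Finset (Fin n)) : Prop :=
  ∀ (Γ : Type w) [Group Γ] [Finite Γ] (σ : Γ →* GL (Fin n) F), σ.range = SUS F q S →
    σ.ker ≤ Subgroup.center Γ → σ.ker ≤ commutator Γ → ¬ p ∣ Nat.card σ.ker → σ.ker = ⊥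

/-- The lifted coordinate subgroup: generated by the `p`-element lifts. -/
abbrev X {Γ : Type*} [Group Γ] (σ : Γ →* GL (Fin n) F) (q p : ℕ) (T : Finset (Fin n)) : Subgroup Γ :=
  pGen σ p (SUS F q T : Set (GL (Fin n) F))

section

variable {Γ : Type w} [Group Γ] [Finite Γ] {σ : Γ →* GL (Fin n) F} {p : ℕ} [Fact p.Prime] [CharP F p]
  (hF : Fintype.card F = q ^ 2) {S : Finset (Fin n)} (hr : σ.range = SUS F q S)
  (hc : σ.ker ≤ Subgroup.center Γ) (hA : ¬ p ∣ Nat.card σ.ker)

include hF hr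

theorem exists_X {T : Finset (Fin n)} (hT : T ⊆ S) {g : GL (Fin n) F} (hg : g ∈ SUS F q T) :
    ∃ γ ∈ X σ q p T, σ γ = g := by
  have hle : SUS F q T ≤ (X σ q p T).map σ := by
    refine (SUS_le_closure p hF T).trans ((Subgroup.closure_le _).mpr ?_)
    rintro x ⟨hx, hxp⟩
    obtain ⟨x0, hx0⟩ := (hr.ge (SUS_mono hT hx) : x ∈ σ.range)
    obtain ⟨y, -, hy, hy'⟩ := exists_isPElt_preimage (σ := σ) (p := p) ⊤ (Subgroup.mem_top x0) (hx0 ▸ hxp)
    exact ⟨y, mem_pGen hy (by rw [hy', hx0]; exact hx), hy'.trans hx0⟩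
  exact hle hg

theorem map_X {T : Finset (Fin n)} (hT : T ⊆ S) : (X σ q p T).map σ = SUS F q T :=
  le_antisymm map_pGen_le fun _ hg => exists_X hF hr hT hg

include hc hA in
theorem X_inf_ker {T : Finset (Fin n)} (hT : T ⊆ S) (htriv : Triv.{w} F q p T) :
    X σ q p T ⊓ σ.ker = ⊥ := by
  set K := X σ q p T with hK
  set τ := σ.comp K.subtype with hτ
  have hrange : τ.range = SUS F q T := by
    rw [hτ, MonoidHom.range_comp, Subgroup.range_subtype, hK, map_X hF hr hT]
  have hkc : τ.ker ≤ Subgroup.center K := fun z hz => by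
    rw [Subgroup.mem_center_iff]
    exact fun y => Subtype.ext (Subgroup.mem_center_iff.mp (hc (show (z : Γ) ∈ σ.ker from hz)) y)
  have hord : ∀ z : K, τ z = 1 → ¬ p ∣ orderOf z := by
    intro z hz hd
    apply hA
    rw [← Subgroup.orderOf_coe z] at hd
    exact hd.trans (Subgroup.orderOf_coe (⟨(z : Γ), hz⟩ : σ.ker) ▸ orderOf_dvd_natCard _)
  have hgen : Subgroup.closure ((↑) ⁻¹' {x : Γ | IsPElt p x ∧ σ x ∈ (SUS F q T : Set (GL (Fin n) F))} : Set K) = ⊤ :=
    Subgroup.closure_closure_coe_preimage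
  have hkd : τ.ker ≤ commutator K := fun z hz => by
    refine mem_commutator_of_coprime _ hgen ?_ (hord z hz)
    rintro s ⟨⟨k, hk⟩, -⟩
    exact ⟨k, Subtype.ext (by rw [Subgroup.coe_pow, hk]; rfl)⟩
  have hkA : ¬ p ∣ Nat.card τ.ker := by
    intro hd
    obtain ⟨z, hz⟩ := exists_prime_orderOf_dvd_card' p hd
    rw [← Subgroup.orderOf_coe] at hz
    exact hord z.1 z.2 (by rw [hz])
  have hbot := htriv K τ hrange hkc hkd hkA
  rw [eq_bot_iff]
  rintro x ⟨hx, hxk⟩
  have : (⟨x, hx⟩ : K) ∈ τ.ker := hxk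
  rw [hbot, Subgroup.mem_bot] at this
  exact congrArg Subtype.val this

include hc hA in
theorem X_commute {T U : Finset (Fin n)} (hTU : Disjoint T U) {x y : Γ} (hx : x ∈ X σ q p T)
    (hy : y ∈ X σ q p U) : Commute x y := by
  have hgen : ∀ a : Γ, IsPElt p a → σ a ∈ SUS F q T → ∀ b ∈ X σ q p U, Commute a b := by
    intro a ha haT b hb
    induction hb using Subgroup.closure_induction with
    | mem b hb =>
      refine (mul_inv_eq_iff_eq_mul.mp (eq_of_isPElt hc hA (ha.conj b) ha ?_)).symm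
      rw [map_mul, map_mul, map_inv, mul_inv_eq_iff_eq_mul]
      exact ((commute_of_disjoint hF hTU haT hb.2).symm).eq
    | one => exact Commute.one_right a
    | mul b c _ _ h1 h2 => exact h1.mul_right h2
    | inv b _ h1 => exact h1.inv_right
  induction hx using Subgroup.closure_induction with
  | mem a ha => exact hgen a ha.1 ha.2 y hy
  | one => exact Commute.one_left y
  | mul a b _ _ h1 h2 => exact h1.mul_left h2
  | inv a _ h1 => exact h1.inv_left

theorem conj_X {γ : Γ} {π : Equiv.Perm (Fin n)}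
    (hm : ∀ k, ∃ c : F, c ≠ 0 ∧
      (σ γ : Matrix (Fin n) (Fin n) F) *ᵥ Pi.single k 1 = c • (Pi.single (π k) 1 : Fin n → F))
    {T : Finset (Fin n)} {x : Γ} (hx : x ∈ X σ q p T) : γ * x * γ⁻¹ ∈ X σ q p (T.map π.toEmbedding) :=
  conj_mem_pGen γ (fun _ ha => conj_SUS (hr.le ⟨γ, rfl⟩).1 hm ha) hx

end

/-- The valuation of the order of a coordinate subgroup. -/
theorem val_SUS {p r : ℕ} [Fact p.Prime] [CharP F p] [hr : Fact r.Prime] (hrp : r ≠ p)
    (hF : Fintype.card F = q ^ 2) {S : Finset (Fin n)} (hS : S.Nonempty) :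
    padicValNat r (Nat.card (SUS F q S)) + padicValNat r (q + 1) = Arith.V r q S.card := by
  have hq := Forms.two_le_of_card_sq hF
  obtain ⟨f, -, hqf⟩ := exists_q_eq (F := F) p hF
  have hrq : ¬ r ∣ q := fun hd =>
    hrp ((Nat.prime_dvd_prime_iff_eq hr.out Fact.out).mp (hr.out.dvd_of_dvd_pow (hqf ▸ hd)))
  have h := Classical.succ_mul_natCard_SU hF S.card (Finset.card_pos.mpr hS)
  rw [← natCard_SUS hF S, Classical.natCard_GU hF] at h
  have hprod : ∀ i ∈ Finset.range S.card,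
      (if Even i then q ^ (i + 1) + 1 else q ^ (i + 1) - 1) = Arith.N q (i + 1) := fun i _ => by
    rw [Arith.N_eq (by omega)]
    by_cases he : Even i <;> simp [he, Nat.even_add_one]
  rw [Finset.prod_congr rfl hprod] at h
  have h2 := congrArg (padicValNat r) h
  have hne : ∀ i ∈ Finset.range S.card, Arith.N q (i + 1) ≠ 0 := fun i _ => Arith.N_ne_zero hq (Nat.succ_pos i)
  rw [padicValNat.mul (by omega) Nat.card_pos.ne', padicValNat.mul (pow_ne_zero _ (by omega))
    (Finset.prod_ne_zero_iff.mpr hne), padicValNat.pow, padicValNat.eq_zero_of_not_dvd hrq, mul_zero, zero_add,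
    show padicValNat r (∏ i ∈ Finset.range S.card, Arith.N q (i + 1)) = Arith.V r q S.card by
      rw [← Nat.factorization_def _ hr.out, Nat.factorization_prod_apply hne]
      exact Finset.sum_congr rfl fun i _ => Nat.factorization_def _ hr.out,
    add_comm] at h2
  exact h2

theorem not_dvd_q {p r : ℕ} [Fact p.Prime] [CharP F p] [hr : Fact r.Prime] (hrp : r ≠ p)
    (hF : Fintype.card F = q ^ 2) : ¬ r ∣ q := fun hd => by
  obtain ⟨f, -, hqf⟩ := exists_q_eq (F := F) p hF
  exact hrp ((Nat.prime_dvd_prime_iff_eq hr.out Fact.out).mp (hr.out.dvd_of_dvd_pow (hqf ▸ hd)))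

end Cfsg.Agent.Lib.Schur.UnitMult
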