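import Cfsg.Agent.Lib.Schur.UnitSetup

/-!
A Sylow subgroup inside the stabiliser of a decomposition into two coordinate blocks.
-/

set_option autoImplicit false
set_option linter.unusedSectionVars false

namespace Cfsg.Agent.Lib.Schur.UnitMult

open Matrix Cfsg.Agent.Lib.Forms Cfsg.Agent.Lib.FormMax Cfsg.Agent.Lib.UnitaryMax Cfsg.Agent.Lib.Schur
open scoped commutatorElement

universe w

theorem le_normalizer_of_conj {G : Type*} [Group G] {A D : Subgroup G}
    (h : ∀ a ∈ A, ∀ x ∈ D, a * x * a⁻¹ ∈ D) : A ≤ Subgroup.normalizer (D : Set G) := by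
  intro a ha
  rw [Subgroup.mem_normalizer_iff]
  refine fun x => ⟨h a ha x, fun hx => ?_⟩
  have := h a⁻¹ (inv_mem ha) _ hx
  simpa [mul_assoc] using this

variable {F : Type*} [Field F] [Fintype F] {n q : ℕ}

/-- Elements with diagonal image act on the coordinate lines trivially. -/
theorem diag_mono {d : Fin n → Fˣ} {g : GL (Fin n) F} (hg : g = diagGL F n d) (k : Fin n) :
    ∃ c : F, c ≠ 0 ∧ (g : Matrix (Fin n) (Fin n) F) *ᵥ Pi.single k 1 =
      c • (Pi.single ((1 : Equiv.Perm (Fin n)) k) 1 : Fin n → F) :=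
  ⟨d k, (d k).ne_zero, by rw [hg, diagGL_single]; rfl⟩

theorem prod_orderEmb {M : Type*} [CommMonoid M] (A : Finset (Fin n)) (d : Fin n → M) :
    ∏ a, d ((A.orderEmbOfFin rfl).toEmbedding a) = ∏ k ∈ A, d k := by
  conv_rhs => rw [← Finset.map_orderEmbOfFin_univ A rfl]
  rw [Finset.prod_map]

theorem delta_pow (i j : Fin n) (t : Fˣ) (k : ℕ) : delta i j t ^ k = delta i j (t ^ k) := by
  simp only [delta, mul_pow, inv_pow, Pi.mulSingle_pow]

theorem delta_apply {i j : Fin n} (hij : i ≠ j) (t : Fˣ) :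
    delta i j t i = t ∧ delta i j t j = t⁻¹ ∧ ∀ k, k ≠ i → k ≠ j → delta i j t k = 1 := by
  refine ⟨?_, ?_, fun k hki hkj => ?_⟩ <;> simp [delta, *, hij.symm]

theorem orderOf_delta {i j : Fin n} (hij : i ≠ j) (t : Fˣ) :
    orderOf (diagGL F n (delta i j t)) = orderOf t := by
  rw [orderOf_injective _ diagGL_injective, orderOf_eq_orderOf_iff]
  intro k
  rw [delta_pow]
  refine ⟨fun e => ?_, fun e => ?_⟩
  · have := congrFun e i
    rwa [(delta_apply hij _).1] at this
  · rw [e]; simp [delta]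

section

variable {Γ : Type w} [Group Γ] [Finite Γ] {σ : Γ →* GL (Fin n) F} {p r : ℕ} [Fact p.Prime] [CharP F p]
  [Fact r.Prime] (hF : Fintype.card F = q ^ 2) {S : Finset (Fin n)} (hr : σ.range = SUS F q S)
  (hc : σ.ker ≤ Subgroup.center Γ) (hA : ¬ p ∣ Nat.card σ.ker) (hd : σ.ker ≤ commutator Γ) (hrp : r ≠ p)

include hF hr hc hA hd hrp

theorem not_dvd_split {A B : Finset (Fin n)} (hAB : Disjoint A B) (hS : A ∪ B = S) (hA0 : A.Nonempty)
    (hB0 : B.Nonempty) (tA : Triv.{w} F q p A) (tB : Triv.{w} F q p B)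
    (hV : Arith.V r q S.card = Arith.V r q A.card + Arith.V r q B.card) : ¬ r ∣ Nat.card σ.ker := by
  classical
  obtain ⟨i0, hi0⟩ := id hA0
  obtain ⟨j0, hj0⟩ := id hB0
  have hij : i0 ≠ j0 := fun e => Finset.disjoint_left.mp hAB hi0 (e ▸ hj0)
  have hAS : A ⊆ S := hS ▸ Finset.subset_union_left
  have hBS : B ⊆ S := hS ▸ Finset.subset_union_right
  obtain ⟨t, ht⟩ := IsCyclic.exists_generator (α := normOne F q)
  have hto : orderOf (t : Fˣ) = q + 1 := by
    rw [Subgroup.orderOf_coe, orderOf_eq_card_of_forall_mem_zpowers ht, natCard_normOne hF]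
  set δ := diagGL F n (delta i0 j0 (t : Fˣ)) with hδ
  have hδS : δ ∈ SUS F q S := SUS_mono (Finset.insert_subset (hAS hi0) (Finset.singleton_subset_iff.mpr (hBS hj0)))
    (dg_le_SUS hF _ ⟨_, delta_mem _ _ t.2, rfl⟩)
  obtain ⟨c, hcδ⟩ := (hr.ge hδS : δ ∈ σ.range)
  set XA := X σ q p A with hXA
  set XB := X σ q p B with hXB
  have hn1 : XB ≤ Subgroup.normalizer (XA : Set Γ) := le_normalizer_of_conj fun b hb x hx => by
    rw [(X_commute hF hr hc hA hAB.symm hb hx).eq, mul_inv_cancel_right]; exact hx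
  have hAB0 : SUS F q A ⊓ SUS F q B = ⊥ := by
    rw [SUS_inter hF, Finset.disjoint_iff_inter_eq_empty.mp hAB, SUS_empty hF]
  have hD : (XA ⊔ XB) ⊓ σ.ker = ⊥ :=
    sup_inf_ker hn1 (X_inf_ker hF hr hc hA hAS tA) (X_inf_ker hF hr hc hA hBS tB)
      (by rw [map_X hF hr hAS, map_X hF hr hBS, hAB0])
  have hn2 : Subgroup.zpowers c ≤ Subgroup.normalizer ((XA ⊔ XB : Subgroup Γ) : Set Γ) := by
    refine le_normalizer_of_conj fun a ha x hx => ?_
    obtain ⟨k, rfl⟩ := Subgroup.mem_zpowers_iff.mp ha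
    have hm : ∀ i, ∃ e : F, e ≠ 0 ∧ (σ (c ^ k) : Matrix (Fin n) (Fin n) F) *ᵥ Pi.single i 1 =
        e • (Pi.single ((1 : Equiv.Perm (Fin n)) i) 1 : Fin n → F) :=
      diag_mono (d := delta i0 j0 (t : Fˣ) ^ k) (by rw [map_zpow, hcδ, hδ, map_zpow])
    have hle : (XA ⊔ XB).map (MulAut.conj (c ^ k)).toMonoidHom ≤ XA ⊔ XB := by
      rw [Subgroup.map_sup]
      refine sup_le_sup ?_ ?_ <;>
      · rintro _ ⟨y, hy, rfl⟩
        have := conj_X hF hr hm hy
        show c ^ k * y * (c ^ k)⁻¹ ∈ _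
        simpa [Finset.map_refl, Equiv.Perm.one_def] using this
    exact hle ⟨x, hx, rfl⟩
  set H := (XA ⊔ XB) ⊔ Subgroup.zpowers c with hH
  refine not_dvd_of_subgroup hc hd H ?_ ?_
  · have hmap : H.map σ = (SUS F q A ⊔ SUS F q B) ⊔ Subgroup.zpowers δ := by
      rw [hH, Subgroup.map_sup, Subgroup.map_sup, map_X hF hr hAS, map_X hF hr hBS, MonoidHom.map_zpowers, hcδ]
    have hnB : SUS F q B ≤ Subgroup.normalizer (SUS F q A : Set (GL (Fin n) F)) :=
      le_normalizer_of_conj fun b hb x hx => by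
        rw [(commute_of_disjoint hF hAB.symm hb hx).eq, mul_inv_cancel_right]; exact hx
    have hnδ : Subgroup.zpowers δ ≤
        Subgroup.normalizer ((SUS F q A ⊔ SUS F q B : Subgroup (GL (Fin n) F)) : Set (GL (Fin n) F)) := by
      have h1 : ((XA ⊔ XB).map σ) = SUS F q A ⊔ SUS F q B := by
        rw [Subgroup.map_sup, map_X hF hr hAS, map_X hF hr hBS]
      rw [← h1, ← hcδ, ← MonoidHom.map_zpowers]
      refine le_normalizer_of_conj ?_
      rintro _ ⟨a, ha, rfl⟩ _ ⟨x, hx, rfl⟩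
      exact ⟨a * x * a⁻¹, ((Subgroup.mem_normalizer_iff.mp (hn2 ha)) x).mp hx, by simp⟩
    have hdisj : (SUS F q A ⊔ SUS F q B) ⊓ Subgroup.zpowers δ = ⊥ := by
      rw [eq_bot_iff]
      rintro g ⟨hg, hgd⟩
      obtain ⟨k, rfl⟩ := Subgroup.mem_zpowers_iff.mp hgd
      set f := (A.orderEmbOfFin rfl).toEmbedding
      have hfA : Finset.univ.map f = A := Finset.map_orderEmbOfFin_univ _ _
      have hle : SUS F q A ⊔ SUS F q B ≤ blockOne F f := by
        refine sup_le ?_ (SUS_le_blockOne_of_disjoint f (by rw [hfA]; exact hAB))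
        conv_lhs => rw [← hfA]
        exact SUS_le_blockOne hF f
      have h1 := hle hg
      rw [hδ, ← map_zpow] at h1
      have h2 := diagGL_blockOne h1
      rw [prod_orderEmb A (delta i0 j0 (t : Fˣ) ^ k), Finset.prod_eq_single i0 (fun b hb hbi => by
        rw [Pi.pow_apply, (delta_apply hij _).2.2 b hbi fun e : b = j0 =>
          Finset.disjoint_left.mp hAB hb (e ▸ hj0), _root_.one_zpow]) (fun h' => absurd hi0 h'),
        Pi.pow_apply, (delta_apply hij _).1] at h2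
      rw [Subgroup.mem_bot, hδ, ← map_zpow]
      rw [show delta i0 j0 (t : Fˣ) ^ k = 1 from funext fun i => by
        rw [Pi.pow_apply]
        rcases eq_or_ne i i0 with rfl | hi
        · rw [(delta_apply hij _).1, h2]; rfl
        rcases eq_or_ne i j0 with rfl | hj
        · rw [(delta_apply hij _).2.1, _root_.inv_zpow, h2, inv_one]; rfl
        rw [(delta_apply hij _).2.2 i hi hj, _root_.one_zpow]; rfl, map_one]
    haveI : Finite (SUS F q A) := inferInstance
    have h0 := congrArg (fun M : Subgroup (GL (Fin n) F) => padicValNat r (Nat.card M)) hmap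
    rw [natCard_sup hnδ hdisj, natCard_sup hnB hAB0, Nat.card_zpowers, hδ, orderOf_delta hij, hto,
      padicValNat.mul (mul_ne_zero Nat.card_pos.ne' Nat.card_pos.ne') (show q + 1 ≠ 0 by omega),
      padicValNat.mul Nat.card_pos.ne' Nat.card_pos.ne'] at h0
    rw [hr, h0]
    have h1 := val_SUS (r := r) hrp hF hA0
    have h2 := val_SUS (r := r) hrp hF hB0
    have h3 := val_SUS (r := r) hrp hF (hA0.mono hAS)
    omega
  · refine le_bot_iff.mp (le_trans (inf_le_inf_right _ (commutator_sup_le hn2 ?_)) hD.le)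
    intro a ha b hb
    obtain ⟨i, rfl⟩ := Subgroup.mem_zpowers_iff.mp ha
    obtain ⟨j, rfl⟩ := Subgroup.mem_zpowers_iff.mp hb
    exact (Commute.refl c).zpow_zpow i j

end

end Cfsg.Agent.Lib.Schur.UnitMult
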