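import Cfsg.Agent.Lib.Schur.UnitWreath

/-!
The case `n = r ∣ q + 1`: the diagonal torus lifts through the lifted two-coordinate subgroups.
-/

set_option autoImplicit false
set_option linter.unusedSectionVars false

namespace Cfsg.Agent.Lib.Schur.UnitMult

open Matrix Cfsg.Agent.Lib.Forms Cfsg.Agent.Lib.FormMax Cfsg.Agent.Lib.UnitaryMax Cfsg.Agent.Lib.Schur
open scoped commutatorElement

universe w

variable {F : Type*} [Field F] [Fintype F] {n q : ℕ}

theorem triv_of_card_le_one (hF : Fintype.card F = q ^ 2) (p : ℕ) {T : Finset (Fin n)} (hT : T.card ≤ 1) :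
    Triv.{w} F q p T := by
  intro Γ _ _ σ hr _ hd _
  have hbot : SUS F q T = ⊥ := by
    rcases Nat.le_one_iff_eq_zero_or_eq_one.mp hT with h | h
    · rw [Finset.card_eq_zero.mp h, SUS_empty hF]
    · obtain ⟨i, rfl⟩ := Finset.card_eq_one.mp h
      exact SUS_singleton hF i
  have htop : σ.ker = ⊤ := by
    rw [eq_top_iff]
    intro x _
    have : σ x ∈ σ.range := ⟨x, rfl⟩
    rwa [hr, hbot, Subgroup.mem_bot] at this
  rename_i _ hc _
  have : commutator Γ = ⊥ := by
    rw [commutator_def, Subgroup.commutator_eq_bot_iff_le_centralizer]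
    intro x _ y _
    exact (Subgroup.mem_center_iff.mp (hc (htop.ge (Subgroup.mem_top x))) y)
  exact le_bot_iff.mp (hd.trans this.le)

theorem delta_self (i : Fin n) (t : Fˣ) : delta i i t = 1 := mul_inv_cancel _

theorem delta_swap (i j : Fin n) (t : Fˣ) : delta j i t = (delta i j t)⁻¹ := by
  simp [delta, mul_comm]

theorem delta_mul (i j : Fin n) (s t : Fˣ) : delta i j (s * t) = delta i j s * delta i j t := by
  simp only [delta, Pi.mulSingle_mul, _root_.mul_inv]
  exact mul_mul_mul_comm _ _ _ _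

theorem delta_comp (π : Equiv.Perm (Fin n)) (i j : Fin n) (t : Fˣ) :
    delta i j t ∘ π.symm = delta (π i) (π j) t := by
  funext k
  simp [delta, Pi.mulSingle_apply, Equiv.symm_apply_eq]

theorem DS_mono {S T : Finset (Fin n)} (h : S ⊆ T) : DS F q S ≤ DS F q T :=
  fun _ hd => ⟨hd.1, fun i hi => hd.2.1 i fun hS => hi (h hS), hd.2.2⟩

section

variable {Γ : Type w} [Group Γ] [Finite Γ] {σ : Γ →* GL (Fin n) F} {p r : ℕ} [Fact p.Prime] [CharP F p]
  [Fact r.Prime] (hF : Fintype.card F = q ^ 2) {S : Finset (Fin n)} (hr : σ.range = SUS F q S)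
  (hc : σ.ker ≤ Subgroup.center Γ) (hA : ¬ p ∣ Nat.card σ.ker) (hd : σ.ker ≤ commutator Γ)

include hF hr hc hA

theorem exists_torus (hr2 : r ≠ 2) (hexp : ∀ z ∈ σ.ker, z ^ r = 1)
    (hpair : ∀ i ∈ S, ∀ j ∈ S, Triv.{w} F q p ({i, j} : Finset (Fin n))) (hS : S.Nonempty) :
    ∃ H : Subgroup Γ, H.map σ = dg F q S ∧ H ⊓ σ.ker = ⊥ ∧
      ∀ (γ : Γ) (π : Equiv.Perm (Fin n)), S.map π.toEmbedding = S →
        (∀ k, ∃ c : F, c ≠ 0 ∧ (σ γ : Matrix (Fin n) (Fin n) F) *ᵥ Pi.single k 1 =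
          c • (Pi.single (π k) 1 : Fin n → F)) → ∀ x ∈ H, γ * x * γ⁻¹ ∈ H := by
  classical
  set U := normOne F q
  have hpairS : ∀ {i j}, i ∈ S → j ∈ S → ({i, j} : Finset (Fin n)) ⊆ S := fun hi hj =>
    Finset.insert_subset hi (Finset.singleton_subset_iff.mpr hj)
  have hex : ∀ i j (t : Fˣ), ∃ y : Γ, i ∈ S → j ∈ S → t ∈ U →
      y ∈ X σ q p {i, j} ∧ σ y = diagGL F n (delta i j t) := by
    intro i j t
    by_cases h : i ∈ S ∧ j ∈ S ∧ t ∈ U
    · obtain ⟨y, hy, hy'⟩ := exists_X (p := p) hF hr (hpairS h.1 h.2.1)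
        (dg_le_SUS hF _ ⟨_, delta_mem i j h.2.2, rfl⟩)
      exact ⟨y, fun _ _ _ => ⟨hy, hy'⟩⟩
    · exact ⟨1, fun a b c => absurd ⟨a, b, c⟩ h⟩
  choose hh hhs using hex
  have uniq : ∀ {i j} {t : Fˣ} {y : Γ}, i ∈ S → j ∈ S → t ∈ U → y ∈ X σ q p {i, j} →
      σ y = diagGL F n (delta i j t) → y = hh i j t := by
    intro i j t y hi hj ht hy hy'
    obtain ⟨h1, h2⟩ := hhs i j t hi hj ht
    have : (hh i j t)⁻¹ * y ∈ X σ q p {i, j} ⊓ σ.ker :=
      ⟨Subgroup.mul_mem _ (Subgroup.inv_mem _ h1) hy, by show σ _ = 1; rw [map_mul, map_inv, h2, hy', inv_mul_cancel]⟩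
    rw [X_inf_ker hF hr hc hA (hpairS hi hj) (hpair i hi j hj), Subgroup.mem_bot, inv_mul_eq_one] at this
    exact this.symm
  have hmul : ∀ {i j} {s t : Fˣ}, i ∈ S → j ∈ S → s ∈ U → t ∈ U → hh i j (s * t) = hh i j s * hh i j t := by
    intro i j s t hi hj hs ht
    refine (uniq hi hj (mul_mem hs ht) (mul_mem (hhs i j s hi hj hs).1 (hhs i j t hi hj ht).1) ?_).symm
    rw [map_mul, (hhs i j s hi hj hs).2, (hhs i j t hi hj ht).2, ← map_mul, delta_mul]
  have hswap : ∀ {i j} {t : Fˣ}, i ∈ S → j ∈ S → t ∈ U → hh j i t = (hh i j t)⁻¹ := by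
    intro i j t hi hj ht
    obtain ⟨h1, h2⟩ := hhs i j t hi hj ht
    refine (uniq hj hi ht (by rw [Finset.pair_comm]; exact inv_mem h1) ?_).symm
    rw [map_inv, h2, ← map_inv, ← delta_swap]
  have hself : ∀ {i} {t : Fˣ}, i ∈ S → t ∈ U → hh i i t = 1 := fun {i t} hi ht =>
    (uniq hi hi ht (one_mem _) (by rw [map_one, delta_self, map_one])).symm
  have hconj : ∀ (γ : Γ) (π : Equiv.Perm (Fin n)),
      (∀ k, ∃ c : F, c ≠ 0 ∧ (σ γ : Matrix (Fin n) (Fin n) F) *ᵥ Pi.single k 1 =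
          c • (Pi.single (π k) 1 : Fin n → F)) →
      ∀ {i j} {t : Fˣ}, i ∈ S → j ∈ S → π i ∈ S → π j ∈ S → t ∈ U →
        γ * hh i j t * γ⁻¹ = hh (π i) (π j) t := by
    intro γ π hm i j t hi hj hi' hj' ht
    obtain ⟨h1, h2⟩ := hhs i j t hi hj ht
    refine uniq hi' hj' ht ?_ ?_
    · have := conj_X hF hr hm h1
      rwa [Finset.map_insert, Finset.map_singleton] at this
    · rw [map_mul, map_mul, map_inv, h2, conj_diag hm, delta_comp]
  -- transpositions
  have hw : ∀ a b, a ∈ S → b ∈ S → a ≠ b → ∃ γ : Γ, ∀ k, ∃ c : F, c ≠ 0 ∧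
      (σ γ : Matrix (Fin n) (Fin n) F) *ᵥ Pi.single k 1 = c • (Pi.single (Equiv.swap a b k) 1 : Fin n → F) := by
    intro a b ha hb hab
    have hn1 : (-1 : F) ^ (q + 1) = 1 := by rw [pow_succ, q_neg hF, one_pow]; ring
    have hcn : ∀ k, (Function.update (fun _ => (1 : F)) b (-1) : Fin n → F) k ^ (q + 1) = 1 := by
      intro k
      rcases eq_or_ne k b with rfl | hk
      · rw [Function.update_self, hn1]
      · rw [Function.update_of_ne hk, one_pow]
    have hdet : ((Equiv.Perm.sign (Equiv.swap a b) : ℤ) : F) *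
        ∏ k, (Function.update (fun _ => (1 : F)) b (-1) : Fin n → F) k = 1 := by
      rw [Equiv.Perm.sign_swap hab, Finset.prod_update_of_mem (Finset.mem_univ b)]
      simp
    have hmem := monoGL_mem (S := S) hF hdet hcn
      (fun k hk => Equiv.swap_apply_of_ne_of_ne (fun e => hk (by rwa [e])) (fun e => hk (by rwa [e])))
      (fun k hk => Function.update_of_ne (fun e => hk (by rwa [e])) _ _)
    obtain ⟨γ, hγ⟩ := (hr.ge hmem : _ ∈ σ.range)
    refine ⟨γ, fun k => ⟨_, fun h0 => ?_, by rw [hγ, monoGL_single]⟩⟩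
    have := hcn k
    rw [h0, zero_pow (by omega)] at this
    exact zero_ne_one this
  have hz1 : ∀ c : Γ, c ∈ σ.ker → c * c = 1 → c = 1 := fun c hc' h2 => by
    obtain ⟨u, hu⟩ := (Fact.out : r.Prime).odd_of_ne_two hr2
    have := hexp c hc'
    rwa [hu, pow_succ, pow_mul, pow_two, h2, one_pow, one_mul] at this
  have hcomm : ∀ {i k b} {s t : Fˣ}, i ∈ S → k ∈ S → b ∈ S → s ∈ U → t ∈ U →
      Commute (hh i b s) (hh k b t) := by
    intro i k b s t hi hk hb hs ht
    rcases eq_or_ne i b with rfl | hib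
    · rw [hself hi hs]; exact Commute.one_left _
    rcases eq_or_ne k b with rfl | hkb
    · rw [hself hk ht]; exact Commute.one_right _
    rcases eq_or_ne i k with rfl | hik
    · show _ = _
      rw [← hmul hi hb hs ht, ← hmul hi hb ht hs, mul_comm]
    set x := hh i b s
    set y := hh k b t
    set c := ⁅x, y⁆ with hcdef
    have hck : c ∈ σ.ker := by
      show σ c = 1
      rw [hcdef, map_commutatorElement, (hhs i b s hi hb hs).2, (hhs k b t hk hb ht).2,
        commutatorElement_eq_one_iff_commute]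
      exact (Commute.all _ _).map (diagGL F n)
    have hcc : ∀ g : Γ, g * c = c * g := fun g => Subgroup.mem_center_iff.mp (hc hck) g
    obtain ⟨γ, hγ⟩ := hw i b hi hb hib
    have e1 : γ * x * γ⁻¹ = x⁻¹ := by
      rw [hconj γ _ hγ hi hb (by simpa) (by simpa) hs, Equiv.swap_apply_left, Equiv.swap_apply_right, hswap hi hb hs]
    have e2 : γ * y * γ⁻¹ = hh k i t := by
      rw [hconj γ _ hγ hk hb (by rw [Equiv.swap_apply_of_ne_of_ne hik.symm hkb]; exact hk) (by simpa) ht,
        Equiv.swap_apply_right, Equiv.swap_apply_of_ne_of_ne hik.symm hkb]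
    set z := (y * (hh i b t)⁻¹)⁻¹ * hh k i t with hzdef
    have hzk : z ∈ σ.ker := by
      show σ z = 1
      rw [hzdef, map_mul, map_inv, inv_mul_eq_one, map_mul, map_inv, (hhs k b t hk hb ht).2, (hhs i b t hi hb ht).2,
        (hhs k i t hk hi ht).2, ← map_inv, ← map_mul]
      refine congrArg _ (funext fun l => ?_)
      simp only [delta, Pi.mul_apply, Pi.inv_apply]
      group
    have e3 : hh k i t = y * ((hh i b t)⁻¹ * z) := by rw [hzdef]; group
    have hxx : Commute x⁻¹ ((hh i b t)⁻¹ * z) := by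
      refine Commute.mul_right ?_ ((Subgroup.mem_center_iff.mp (hc hzk) x⁻¹))
      refine Commute.inv_inv ?_
      show _ = _
      rw [← hmul hi hb hs ht, ← hmul hi hb ht hs, mul_comm]
    have e4 : ⁅x⁻¹, y⁆ = c⁻¹ := by
      have h1 : c * y * x = x * y := by rw [hcdef, commutatorElement_def]; group
      calc ⁅x⁻¹, y⁆ = x⁻¹ * (c⁻¹ * (c * y * x)) * y⁻¹ := by rw [commutatorElement_def]; group
        _ = x⁻¹ * (c⁻¹ * x) * (y * y⁻¹) := by rw [h1]; group
        _ = c⁻¹ := by
          have : c⁻¹ * x = x * c⁻¹ := (Commute.inv_right (hcc x)).eq.symm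
          rw [this, mul_inv_cancel, mul_one, inv_mul_cancel_left]
    have e5 : γ * c * γ⁻¹ = c⁻¹ := by
      rw [hcdef, show γ * ⁅x, y⁆ * γ⁻¹ = ⁅γ * x * γ⁻¹, γ * y * γ⁻¹⁆ by
        simp only [commutatorElement_def]; group, e1, e2, e3]
      rw [← hcdef, ← e4]
      simp only [commutatorElement_def]
      calc x⁻¹ * (y * ((hh i b t)⁻¹ * z)) * x⁻¹⁻¹ * (y * ((hh i b t)⁻¹ * z))⁻¹
          = x⁻¹ * y * (((hh i b t)⁻¹ * z) * x⁻¹⁻¹ * ((hh i b t)⁻¹ * z)⁻¹) * y⁻¹ := by group
        _ = x⁻¹ * y * x⁻¹⁻¹ * y⁻¹ := by rw [(hxx.inv_left.symm).eq, mul_inv_cancel_right]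
    rw [hcc γ, mul_inv_cancel_right] at e5
    have hc1 := hz1 c hck (by rw [← eq_inv_iff_mul_eq_one]; exact e5)
    rwa [hcdef, commutatorElement_eq_one_iff_commute] at hc1
  have hrel : ∀ {a b c} {t : Fˣ}, a ∈ S → b ∈ S → c ∈ S → t ∈ U →
      hh a c t = hh a b t * (hh c b t)⁻¹ := by
    intro a b c t ha hb hc' ht
    rcases eq_or_ne a c with rfl | hac
    · rw [hself ha ht, mul_inv_cancel]
    rcases eq_or_ne a b with rfl | hab
    · rw [hself ha ht, one_mul, hswap hc' ha ht]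
    rcases eq_or_ne c b with rfl | hcb
    · rw [hself hb ht, inv_one, mul_one]
    set A := hh a b t
    set B' := hh c b t
    set C := hh a c t
    set y := A * B'⁻¹ * C⁻¹ with hy
    have hyk : y ∈ σ.ker := by
      show σ y = 1
      rw [hy, map_mul, map_mul, map_inv, map_inv, (hhs a b t ha hb ht).2, (hhs c b t hc' hb ht).2,
        (hhs a c t ha hc' ht).2, ← map_inv, ← map_inv, ← map_mul, ← map_mul, ← map_one (diagGL F n)]
      refine congrArg _ (funext fun l => ?_)
      simp only [delta, Pi.mul_apply, Pi.inv_apply, Pi.one_apply]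
      group
    obtain ⟨γ, hγ⟩ := hw a b ha hb hab
    have hsa : Equiv.swap a b c = c := Equiv.swap_apply_of_ne_of_ne hac.symm hcb
    have e1 : γ * A * γ⁻¹ = A⁻¹ := by
      rw [hconj γ _ hγ ha hb (by simpa) (by simpa) ht, Equiv.swap_apply_left, Equiv.swap_apply_right, hswap ha hb ht]
    have e2 : γ * B' * γ⁻¹ = C⁻¹ := by
      rw [hconj γ _ hγ hc' hb (by rw [hsa]; exact hc') (by simpa) ht, hsa, Equiv.swap_apply_right, hswap ha hc' ht]
    have e3 : γ * C * γ⁻¹ = B'⁻¹ := by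
      rw [hconj γ _ hγ ha hc' (by simpa) (by rw [hsa]; exact hc') ht, hsa, Equiv.swap_apply_left, hswap hc' hb ht]
    have e4 : γ * y * γ⁻¹ = A⁻¹ * C * B' := by
      rw [hy, show γ * (A * B'⁻¹ * C⁻¹) * γ⁻¹ = (γ * A * γ⁻¹) * (γ * B' * γ⁻¹)⁻¹ * (γ * C * γ⁻¹)⁻¹ by group,
        e1, e2, e3, inv_inv, inv_inv]
    rw [Subgroup.mem_center_iff.mp (hc hyk) γ, mul_inv_cancel_right] at e4
    have hAC : Commute A⁻¹ C := by
      have h1 : Commute (hh b a t) (hh c a t) := hcomm hb hc' ha ht ht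
      rw [hswap ha hb ht, hswap ha hc' ht] at h1
      simpa using h1.inv_right
    have hAB : Commute A⁻¹ B' := (hcomm ha hc' hb ht ht).inv_left
    have e5 : y * y = 1 := by
      nth_rewrite 2 [e4]
      rw [hy, show A⁻¹ * C * B' = C * (B' * A⁻¹) by rw [hAC.eq, mul_assoc, hAB.eq]]
      group
    have := hz1 y hyk e5
    rw [hy, mul_inv_eq_one] at this
    exact this.symm
  obtain ⟨b, hb⟩ := id hS
  set H := Subgroup.closure {x : Γ | ∃ i ∈ S, ∃ t ∈ U, hh i b t = x} with hH
  have hgen : ∀ {i} {t : Fˣ}, i ∈ S → t ∈ U → hh i b t ∈ H := fun hi ht =>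
    Subgroup.subset_closure ⟨_, hi, _, ht, rfl⟩
  have hmap : H.map σ = dg F q S := by
    refine le_antisymm ?_ ?_
    · rw [hH, MonoidHom.map_closure, Subgroup.closure_le]
      rintro _ ⟨_, ⟨i, hi, t, ht, rfl⟩, rfl⟩
      exact ⟨delta i b t, DS_mono (hpairS hi hb) (delta_mem i b ht), (hhs i b t hi hb ht).2.symm⟩
    · have key : ∀ J : Finset (Fin n), J ⊆ S → ∀ d ∈ DS F q (insert b J), diagGL F n d ∈ H.map σ := by
        intro J
        induction J using Finset.induction with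
        | empty =>
          intro _ d hd
          have hd1 : d = 1 := funext fun i => by
            by_cases hi : i = b
            · subst hi
              have h := hd.2.2
              rwa [Finset.prod_eq_single i (fun j _ hj => hd.2.1 j (by simpa using hj))
                (fun h' => absurd (Finset.mem_univ i) h')] at h
            · exact hd.2.1 i (by simpa using hi)
          rw [hd1, map_one]; exact one_mem _
        | @insert a J haJ ih =>
          intro hJ d hd
          rw [Finset.insert_subset_iff] at hJ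
          rcases eq_or_ne a b with rfl | hab
          · exact ih hJ.2 d (by rwa [Finset.insert_idem] at hd)
          have hd2 : d * (delta a b (d a))⁻¹ ∈ DS F q (insert b J) := by
            have h1 : delta a b (d a) ∈ DS F q (insert b (insert a J)) :=
              DS_mono (by intro x; simp; tauto) (delta_mem a b (hd.1 a))
            obtain ⟨k1, k2, k3⟩ := mul_mem hd (inv_mem h1)
            refine ⟨k1, fun i hi => ?_, k3⟩
            rcases eq_or_ne i a with rfl | hia
            · rw [Pi.mul_apply, Pi.inv_apply, (delta_apply hab _).1, mul_inv_cancel]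
            · exact k2 i (by simp only [Finset.mem_insert] at hi ⊢; tauto)
          have h3 := mul_mem (ih hJ.2 _ hd2) (show diagGL F n (delta a b (d a)) ∈ H.map σ from
            ⟨hh a b (d a), hgen hJ.1 (hd.1 a), (hhs a b _ hJ.1 hb (hd.1 a)).2⟩)
          rwa [← map_mul, inv_mul_cancel_right] at h3
      rintro _ ⟨d, hd, rfl⟩
      exact key S subset_rfl d (by rwa [Finset.insert_eq_of_mem hb])
  have hcard : Nat.card H ≤ (q + 1) ^ (S.card - 1) := by
    let φ : ↥(S.erase b) → (U →* Γ) := fun i => MonoidHom.mk' (fun t => hh i.1 b t)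
      (fun s t => hmul (Finset.mem_of_mem_erase i.2) hb s.2 t.2)
    have hφ : Pairwise fun i j => ∀ x y, Commute (φ i x) (φ j y) := fun i j _ x y =>
      hcomm (Finset.mem_of_mem_erase i.2) (Finset.mem_of_mem_erase j.2) hb x.2 y.2
    have hle : H ≤ (MonoidHom.noncommPiCoprod φ hφ).range := by
      rw [hH, Subgroup.closure_le, MonoidHom.noncommPiCoprod_range]
      rintro _ ⟨i, hi, t, ht, rfl⟩
      rcases eq_or_ne i b with rfl | hib
      · rw [hself hi ht]; exact one_mem _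
      exact Subgroup.mem_iSup_of_mem (⟨i, Finset.mem_erase.mpr ⟨hib, hi⟩⟩ : ↥(S.erase b)) ⟨⟨t, ht⟩, rfl⟩
    refine (Nat.le_of_dvd Nat.card_pos (Subgroup.card_dvd_of_le hle)).trans ?_
    refine (Nat.card_le_card_of_surjective _ (MonoidHom.noncommPiCoprod φ hφ).rangeRestrict_surjective).trans ?_
    rw [Nat.card_fun, natCard_normOne hF, Nat.card_eq_fintype_card, Fintype.card_coe, Finset.card_erase_of_mem hb]
  refine ⟨H, hmap, ?_, fun γ π hπ hm x hx => ?_⟩
  · rw [eq_bot_iff]
    rintro x ⟨hx, hxk⟩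
    have hinj : Function.Injective (σ.subgroupMap H) := by
      refine ((Function.Surjective.bijective_of_nat_card_le (σ.subgroupMap_surjective H)) ?_).1
      rw [hmap, natCard_dg hF hS]
      exact hcard
    have : (⟨x, hx⟩ : H) = 1 := hinj (by rw [map_one]; exact Subtype.ext hxk)
    rw [Subgroup.mem_bot]
    exact congrArg Subtype.val this
  · have hmem : ∀ {i}, i ∈ S → π i ∈ S := fun {i} hi => hπ ▸ Finset.mem_map.mpr ⟨i, hi, rfl⟩
    have hle : H.map (MulAut.conj γ).toMonoidHom ≤ H := by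
      rw [hH, MonoidHom.map_closure, Subgroup.closure_le]
      rintro _ ⟨_, ⟨i, hi, t, ht, rfl⟩, rfl⟩
      show γ * hh i b t * γ⁻¹ ∈ H
      rw [hconj γ π hm hi hb (hmem hi) (hmem hb) ht, hrel (hmem hi) hb (hmem hb) ht]
      exact mul_mem (hgen (hmem hi) ht) (inv_mem (hgen (hmem hb) ht))
    exact hle ⟨x, hx, rfl⟩

include hd in
/-- The case of `r` blocks of size one. -/
theorem not_dvd_wreath_one {e : Fin r × Fin 1 ↪ Fin n} (he : Finset.univ.map e = S) (hrp : r ≠ p) (hr2 : r ≠ 2)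
    (hexp : ∀ z ∈ σ.ker, z ^ r = 1) (hpair : ∀ i ∈ S, ∀ j ∈ S, Triv.{w} F q p ({i, j} : Finset (Fin n)))
    (hV : Arith.V r q (r * 1) = r * Arith.V r q 1 + 1) : ¬ r ∣ Nat.card σ.ker := by
  have hT : T0 e 0 = S := by
    rw [← he]
    ext x
    simp only [T0, Finset.mem_map, Finset.mem_univ, true_and, Function.Embedding.coeFn_mk, Prod.exists,
      Fin.exists_fin_one]
    exact Iff.rfl
  have hS : S.Nonempty := by
    rw [← he, Finset.map_nonempty]; exact ⟨(⟨0, (Fact.out : r.Prime).pos⟩, 0), Finset.mem_univ _⟩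
  obtain ⟨H, h1, h2, h3⟩ := exists_torus hF hr hc hA hr2 hexp hpair hS
  refine not_dvd_wreath hF hr hc hA hd he (fun j => triv_of_card_le_one hF p (by simp [B])) hrp
    (by rw [mul_one]; exact ((Fact.out : r.Prime).odd_of_ne_two hr2).elim fun k hk => ⟨k, by omega⟩) 0 H
    (hT.symm ▸ h1) h2 (fun γ hm => h3 γ (bperm e) (by rw [← hT]; exact map_T0 e 0) hm) hV

end

end Cfsg.Agent.Lib.Schur.UnitMult
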